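import Cfsg.Agent.Mrg.Omega.IId.ThmJFull_m3
import Cfsg.Agent.Mrg.Omega.ThmC.TwoData_m3
import Cfsg.Agent.Omega.NoFF.Basic
import Cfsg.Agent.ZN.Facts
import Cfsg.Agent.Mrg.Omega.NOThreeL.RTwo_m3
import Cfsg.Agent.Mrg.Omega.VP
import Cfsg.Agent.Mrg.Omega.Sec.Faithful
import Cfsg.Agent.Mrg.ParSys.Main
import Cfsg.Agent.Mrg.ParSys.FreeTrans
import Cfsg.Agent.Mrg.Omega.NO3b.BasePt.Def_m3
import Cfsg.Agent.Mrg.Omega.SQ1.Choice
import Cfsg.Agent.Mrg.Omega.NO3S.EThree.ExactB_m3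
import Cfsg.Agent.Mrg.Omega.NO3b.Closed.Base_m3
import Cfsg.Agent.ZN.ChoiceBase
import Cfsg.Agent.Mrg.Omega.HTwo.AlphaOne_m3
import Cfsg.Agent.Omega.NOThreeL.ATwo.Fam_m3
import Cfsg.Agent.Mrg.Omega.BTwo.RadQ_m3
import Cfsg.Agent.Mrg.Omega.HTwo.TComp_m3
import Cfsg.Agent.Mrg.Omega.HOne.PairP
import Cfsg.Agent.Mrg.Omega.HOne.QuadAbs
import Cfsg.Agent.FastGrp
import Cfsg.Agent.Prune
set_option linter.all false

section
prune_inst 0x7ff0eef98bbcaddfffff7e7fa7fccffdf9b8bffff6dff9cbffe0ebffdbbf4b8ecbe5aba90fe890fc4ed6623410f87b53f9feca3fab6bdc7ffffd5ff45ffbfd9f8d67bd0951f68c340fbc2ffee3f0778e7f3fffffffffffffffffffffffffffbeffbfffbfffff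

-- part: Mrg/Omega/IId/OneJ
section
prune_inst 0xc11022440122000000000580310020444400009200630001d10002440206134185006f0074a03b120908aa2000080060025c0049000000000000020040040120802842001300a10424001180a886000000000000000000000000000000041004000000000
set_option linter.all false
open scoped Cfsg.Agent.FastGrp

-- merged: Cfsg.Agent.Mrg.Omega.IId.OrthB
section

/-!
# (B1) of II.d, case 1, `q = 2`: `N_p` is the orthogonal module

helper304 (helper478 #12430 (B1), helper895 #13722 USE), on THEOREM J and THEOREM TV.  If `[N_p, N_q] ≠ 1`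
(`p ∈ V₁#`, `q ∈ V₂#` centralised by a Sylow 2-subgroup `T` of `C(p)` with `C_{N_p}(T) ≤ {1, p, q, pq}`),
then `Qg (C(p)) q` is a quadratic form on `N_p` with radical `{1, p}` of the polar form and `C(p)`
induces all reflections in nonsingular vectors; every element of `N_q` acts on `N_p` trivially or as the
reflection in `pq`.
-/

set_option autoImplicit false

namespace Cfsg.Agent.Omega.IId.ThmJ

open Subgroup Cfsg Cfsg.Agent.ZN Cfsg.Agent.ZN.ChoiceBase Cfsg.Agent.Omega.TV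

universe u

variable {G : Type u} [Group G]

/-- `[n, y] ∈ {1, p, q, pq}` for `n ∈ N_p`, `y ∈ N_q`. -/
theorem Ctx.comm_cases [Finite G] {V₁ V₂ : Subgroup G} (h : Ctx V₁ V₂)
    (htr₁ : ∀ p ∈ V₁, p ≠ 1 → ∀ p' ∈ V₁, p' ≠ 1 →
      ∃ l ∈ centralizer (V₂ : Set G) ⊓ normalizer (V₁ : Set G), l * p' * l⁻¹ = p)
    (htr₂ : ∀ q ∈ V₂, q ≠ 1 → ∀ q' ∈ V₂, q' ≠ 1 →
      ∃ l ∈ centralizer (V₁ : Set G) ⊓ normalizer (V₂ : Set G), l * q' * l⁻¹ = q)
    {p q : G} (hp : p ∈ V₁) (hp1 : p ≠ 1) (hq : q ∈ V₂) (hq1 : q ≠ 1)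
    {T : Subgroup G} (hTp : T ≤ CC p) (hT : IsPGroup 2 T) (hi : ¬ 2 ∣ T.relIndex (CC p))
    (hTq : T ≤ CC q) {n y : G} (hn : n ∈ NN V₂ p) (hy : y ∈ NN V₁ q) :
    y * n * y⁻¹ = n ∨ y * n * y⁻¹ = n * p ∨ y * n * y⁻¹ = n * q ∨ y * n * y⁻¹ = n * (q * p) := by
  have hyp : y ∈ CC p := centralizer_le_CC hp (h.s2.NN_le_cent_two hq hq1 hy)
  have hnq : n ∈ CC q := centralizer_le_CC hq (h.s1.NN_le_cent_two hp hp1 hn)
  have e1 : y * n * y⁻¹ ∈ NN V₂ p := (mem_normalizer_iff.1 (CC_le_normalizer_NN V₂ p hyp) n).1 hn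
  have e2 : n⁻¹ * y * n⁻¹⁻¹ ∈ NN V₁ q :=
    (mem_normalizer_iff.1 (CC_le_normalizer_NN V₁ q (inv_mem hnq)) y).1 hy
  rw [inv_inv] at e2
  have h1 : n⁻¹ * (y * n * y⁻¹) ∈ NN V₂ p := mul_mem (inv_mem hn) e1
  have h2 : n⁻¹ * (y * n * y⁻¹) ∈ NN V₁ q := by
    have e : n⁻¹ * (y * n * y⁻¹) = (n⁻¹ * y * n) * y⁻¹ := by group
    rw [e]
    exact mul_mem e2 (inv_mem hy)
  have hpq : p * q = q * p :=
    EA.comm_of (h.s1.NN_sq h.s2 hp hp1) (h.s1.mem p hp hp1) (le_NN V₂ p hq)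
  have key : ∀ x, n⁻¹ * (y * n * y⁻¹) = x → y * n * y⁻¹ = n * x := fun x hx => by
    rw [← hx]; group
  rcases h.inter htr₁ htr₂ hp hp1 hq hq1 hTp hT hi hTq h1 h2 with e | e | e | e
  · left; rw [key _ e, mul_one]
  · exact Or.inr (Or.inl (key _ e))
  · exact Or.inr (Or.inr (Or.inl (key _ e)))
  · exact Or.inr (Or.inr (Or.inr (by rw [← hpq]; exact key _ e)))

/-- An element of `N_q` acting nontrivially on `N_p` gives the orthogonal structure, and acts as the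
reflection in `q p`. -/
theorem Ctx.orth_of [Finite G] {V₁ V₂ : Subgroup G} (h : Ctx V₁ V₂)
    (htr₁ : ∀ p ∈ V₁, p ≠ 1 → ∀ p' ∈ V₁, p' ≠ 1 →
      ∃ l ∈ centralizer (V₂ : Set G) ⊓ normalizer (V₁ : Set G), l * p' * l⁻¹ = p)
    (htr₂ : ∀ q ∈ V₂, q ≠ 1 → ∀ q' ∈ V₂, q' ≠ 1 →
      ∃ l ∈ centralizer (V₁ : Set G) ⊓ normalizer (V₂ : Set G), l * q' * l⁻¹ = q)
    {p q : G} (hp : p ∈ V₁) (hp1 : p ≠ 1) (hq : q ∈ V₂) (hq1 : q ≠ 1)
    {T : Subgroup G} (hTp : T ≤ CC p) (hT : IsPGroup 2 T) (hi : ¬ 2 ∣ T.relIndex (CC p))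
    (hTq : T ≤ CC q)
    (hfix : ∀ n ∈ NN V₂ p, (∀ t ∈ T, t * n = n * t) → n = 1 ∨ n = p ∨ n = q ∨ n = p * q)
    {y n : G} (hy : y ∈ NN V₁ q) (hn : n ∈ NN V₂ p) (hne : y * n * y⁻¹ ≠ n) :
    GOrth (CC p) (NN V₂ p) q p ∧ (∀ q' ∈ V₂, Bg (CC p) q q q' = 0) ∧ ∀ n ∈ NN V₂ p,
      (Bg (CC p) q q n = 0 ∧ y * n * y⁻¹ = n) ∨
        (Bg (CC p) q q n = 1 ∧ y * n * y⁻¹ = n * (q * p)) := by
  have hg := h.gsys hp hp1 hq hq1 htr₂ hTp hT hi hTq
  have hyp : y ∈ CC p := centralizer_le_CC hp (h.s2.NN_le_cent_two hq hq1 hy)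
  have hyV : y ∈ centralizer (V₂ : Set G) := h.s2.NN_le_cent_one hq hq1 hy
  have hyq : ∀ q' ∈ V₂, y * q' * y⁻¹ = q' := fun q' hq' => by
    rw [← mem_centralizer_iff.1 hyV q' hq']
    group
  have hpN : p ∈ NN V₂ p := h.s1.mem p hp hp1
  have hpq : p * q = q * p := EA.comm_of hg.sq hpN (le_NN V₂ p hq)
  have conj : ∀ q' ∈ V₂, q' ≠ 1 → ∃ g ∈ CC p, q' = g * q * g⁻¹ := by
    intro q' hq' hq1'
    obtain ⟨l, ⟨hl, -⟩, e⟩ := htr₂ q' hq' hq1' q hq hq1
    exact ⟨l, centralizer_le_CC hp hl, e.symm⟩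
  obtain ⟨q₁, hq₁, hq₁1, hqq₁⟩ := four_exists h.s2.card q
  have main := hg.gorth (T := T) (c := p) (p := q₁) (t := y) hTp hT hi hpN hp1
    (fun g hg' => by rw [← mem_CC.1 hg']; group)
    (fun t ht => by rw [← mem_CC.1 (hTq ht)]; group)
    (fun n hn hc => by
      rcases hfix n hn (fun t ht => by
        have := hc t ht
        rwa [mul_inv_eq_iff_eq_mul] at this) with e | e | e | e
      · exact Or.inl e
      · exact Or.inr (Or.inl e)
      · exact Or.inr (Or.inr (Or.inl e))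
      · exact Or.inr (Or.inr (Or.inr (by rw [← hpq]; exact e))))
    (conj q₁ hq₁ hq₁1) (conj (q * q₁) (mul_mem hq hq₁) (h.s2.third hq hqq₁)) hyp
    (fun n hn => h.comm_cases htr₁ htr₂ hp hp1 hq hq1 hTp hT hi hTq hn hy) ⟨n, hn, hne⟩ (hyq q₁ hq₁)
  obtain ⟨h1, -, h3⟩ := main
  refine ⟨h1, fun q' hq' => ?_, h3⟩
  rcases h3 q' (le_NN V₂ p hq') with ⟨e, -⟩ | ⟨-, e⟩
  · exact e
  · exfalso
    rw [hyq q' hq'] at e
    have e1 : q * p = 1 := by
      have := e.symm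
      rwa [mul_eq_left] at this
    have e2 := h1.Qmulc hg.mem
    rw [e1, Qg_one, Qg_self, zero_add] at e2
    exact zero_ne_one e2

/-- **(B1)**: if `[N_p, N_q] ≠ 1`, then `N_p` is the orthogonal module of `C(p)`, and every element of `N_q`
acts on it trivially or as the reflection in `q p`. -/
theorem Ctx.orth [Finite G] {V₁ V₂ : Subgroup G} (h : Ctx V₁ V₂)
    (htr₁ : ∀ p ∈ V₁, p ≠ 1 → ∀ p' ∈ V₁, p' ≠ 1 →
      ∃ l ∈ centralizer (V₂ : Set G) ⊓ normalizer (V₁ : Set G), l * p' * l⁻¹ = p)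
    (htr₂ : ∀ q ∈ V₂, q ≠ 1 → ∀ q' ∈ V₂, q' ≠ 1 →
      ∃ l ∈ centralizer (V₁ : Set G) ⊓ normalizer (V₂ : Set G), l * q' * l⁻¹ = q)
    {p q : G} (hp : p ∈ V₁) (hp1 : p ≠ 1) (hq : q ∈ V₂) (hq1 : q ≠ 1)
    {T : Subgroup G} (hTp : T ≤ CC p) (hT : IsPGroup 2 T) (hi : ¬ 2 ∣ T.relIndex (CC p))
    (hTq : T ≤ CC q)
    (hfix : ∀ n ∈ NN V₂ p, (∀ t ∈ T, t * n = n * t) → n = 1 ∨ n = p ∨ n = q ∨ n = p * q)
    (hne : ∃ n ∈ NN V₂ p, ∃ y ∈ NN V₁ q, n * y ≠ y * n) :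
    GOrth (CC p) (NN V₂ p) q p ∧ (∀ q' ∈ V₂, Bg (CC p) q q q' = 0) ∧
      (∀ y ∈ NN V₁ q, (∀ n ∈ NN V₂ p, y * n * y⁻¹ = n) ∨ ∀ n ∈ NN V₂ p,
        (Bg (CC p) q q n = 0 ∧ y * n * y⁻¹ = n) ∨
          (Bg (CC p) q q n = 1 ∧ y * n * y⁻¹ = n * (q * p))) := by
  obtain ⟨n₀, hn₀, y₀, hy₀, hne⟩ := hne
  have hne' : y₀ * n₀ * y₀⁻¹ ≠ n₀ := fun e => hne (by
    rw [mul_inv_eq_iff_eq_mul] at e
    exact e.symm)
  obtain ⟨h1, h2, -⟩ := h.orth_of htr₁ htr₂ hp hp1 hq hq1 hTp hT hi hTq hfix hy₀ hn₀ hne'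
  refine ⟨h1, h2, fun y hy => ?_⟩
  by_cases hc : ∀ n ∈ NN V₂ p, y * n * y⁻¹ = n
  · exact Or.inl hc
  · push Not at hc
    obtain ⟨n, hn, e⟩ := hc
    exact Or.inr (h.orth_of htr₁ htr₂ hp hp1 hq hq1 hTp hT hi hTq hfix hy hn e).2.2

end Cfsg.Agent.Omega.IId.ThmJ

end

-- merged: Cfsg.Agent.Mrg.Omega.IId.PlaneSy
section

section


/-!
# II.d, CASE 1, `q = 2`: symplectic systems (bb OMEGA #15930)

helper310.  `Sy M P Y B`: `P` elementary abelian, `B` an `M`-invariant alternating form with radical `Y`, `M`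
induces all transvections of `P / Y`.  `St M Y p` : the stabiliser of the point `pY`.

* `norm_trans` : a normal subgroup of `M` moving the point `pY` is transitive on the points;
* `perp_gen` : if `H ≥ St` moves `pY` to a perpendicular point then `M ≤ H`;
* `dc_np`, `dc_p` : `St` is transitive on the points perpendicular (not perpendicular) to `pY`;
* `pigeon` : three elements of `M ∖ St` lie in at most two double cosets of `St`.
-/

set_option autoImplicit false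

namespace Cfsg.Agent.Omega.IId.PlaneSy

open Subgroup

variable {G : Type*} [Group G]

/-- A symplectic system. -/
structure Sy (M P Y : Subgroup G) (B : G → G → ZMod 2) : Prop where
  sq : ∀ x ∈ P, x * x = 1
  nor : ∀ g ∈ M, ∀ x ∈ P, g * x * g⁻¹ ∈ P
  YP : Y ≤ P
  add : ∀ x ∈ P, ∀ y ∈ P, ∀ z ∈ P, B x (y * z) = B x y + B x z
  comm : ∀ x ∈ P, ∀ y ∈ P, B x y = B y x
  self : ∀ x ∈ P, B x x = 0
  inv : ∀ g ∈ M, ∀ x ∈ P, ∀ y ∈ P, B (g * x * g⁻¹) (g * y * g⁻¹) = B x y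
  zero : ∀ x ∈ Y, ∀ y ∈ P, B x y = 0
  rad : ∀ x ∈ P, (∀ y ∈ P, B x y = 0) → x ∈ Y
  tv : ∀ z ∈ P, z ∉ Y → ∃ z' ∈ P, z * z' ∈ Y ∧ ∃ g ∈ M, ∀ n ∈ P,
    (B z n = 0 ∧ g * n * g⁻¹ = n) ∨ (B z n = 1 ∧ g * n * g⁻¹ = n * z')

/-- An elementary abelian 2-group is commutative. -/
theorem comm_of_sq {P : Subgroup G} (h : ∀ x ∈ P, x * x = 1) {x y : G} (hx : x ∈ P) (hy : y ∈ P) : x * y = y * x := by
  have h1 : x * y = (x * y)⁻¹ := eq_inv_of_mul_eq_one_left (h _ (mul_mem hx hy))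
  have h2 : x⁻¹ = x := inv_eq_of_mul_eq_one_left (h x hx)
  have h3 : y⁻¹ = y := inv_eq_of_mul_eq_one_left (h y hy)
  rw [h1, mul_inv_rev, h2, h3]

theorem z2 (a : ZMod 2) : a = 0 ∨ a = 1 := by
  revert a; decide

theorem z2_self (a : ZMod 2) : a + a = 0 := by
  revert a; decide

namespace Sy

variable {M P Y : Subgroup G} {B : G → G → ZMod 2} (h : Sy M P Y B)
include h

theorem mc {x y : G} (hx : x ∈ P) (hy : y ∈ P) : x * y = y * x := comm_of_sq h.sq hx hy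

theorem iv {x : G} (hx : x ∈ P) : x⁻¹ = x := inv_eq_of_mul_eq_one_left (h.sq x hx)

theorem add_left {x y z : G} (hx : x ∈ P) (hy : y ∈ P) (hz : z ∈ P) : B (x * y) z = B x z + B y z := by
  rw [h.comm _ (mul_mem hx hy) _ hz, h.add z hz x hx y hy, h.comm z hz x hx, h.comm z hz y hy]

theorem one_right {x : G} (hx : x ∈ P) : B x 1 = 0 := by
  have := h.add x hx 1 P.one_mem 1 P.one_mem
  rw [one_mul, z2_self] at this
  exact this

theorem nor' {g x : G} (hg : g ∈ M) (hx : x ∈ P) : g⁻¹ * x * g ∈ P := by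
  have := h.nor _ (inv_mem hg) x hx
  rwa [inv_inv] at this

theorem inv_left {g x y : G} (hg : g ∈ M) (hx : x ∈ P) (hy : y ∈ P) : B (g * x * g⁻¹) y = B x (g⁻¹ * y * g) := by
  have e : y = g * (g⁻¹ * y * g) * g⁻¹ := by group
  conv_lhs => rw [e]
  rw [h.inv g hg x hx _ (h.nor' hg hy)]

theorem inv_right {g x y : G} (hg : g ∈ M) (hx : x ∈ P) (hy : y ∈ P) : B x (g * y * g⁻¹) = B (g⁻¹ * x * g) y := by
  rw [h.comm _ hx _ (h.nor g hg y hy), h.inv_left hg hy hx, h.comm _ hy _ (h.nor' hg hx)]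

/-- `M` normalises `Y`. -/
theorem norY {g y : G} (hg : g ∈ M) (hy : y ∈ Y) : g * y * g⁻¹ ∈ Y := by
  refine h.rad _ (h.nor g hg y (h.YP hy)) fun x hx => ?_
  rw [h.inv_left hg (h.YP hy) hx]
  exact h.zero y hy _ (h.nor' hg hx)

theorem norY' {g y : G} (hg : g ∈ M) (hy : y ∈ Y) : g⁻¹ * y * g ∈ Y := by
  have := h.norY (inv_mem hg) hy
  rwa [inv_inv] at this

/-- `x ≡ x'`: the forms agree. -/
theorem congr {x x' y : G} (hx : x ∈ P) (hx' : x' ∈ P) (hy : y ∈ P) (e : x * x' ∈ Y) : B x y = B x' y := by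
  have h1 := h.zero _ e y hy
  rw [h.add_left hx hx' hy] at h1
  rcases z2 (B x y) with h2 | h2 <;> rcases z2 (B x' y) with h3 | h3
  · rw [h2, h3]
  · rw [h2, h3] at h1; exact absurd h1 (by decide)
  · rw [h2, h3] at h1; exact absurd h1 (by decide)
  · rw [h2, h3]

theorem eqv_symm {x y : G} (hx : x ∈ P) (hy : y ∈ P) (e : x * y ∈ Y) : y * x ∈ Y := by
  rwa [← h.mc hx hy]

theorem eqv_trans {x y z : G} (hy : y ∈ P) (e : x * y ∈ Y) (e' : y * z ∈ Y) : x * z ∈ Y := by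
  have := mul_mem e e'
  have h1 : x * y * (y * z) = x * (y * y) * z := by group
  rwa [h1, h.sq y hy, mul_one] at this

theorem eqv_conj {g x y : G} (hg : g ∈ M) (e : x * y ∈ Y) : g * x * g⁻¹ * (g * y * g⁻¹) ∈ Y := by
  have := h.norY hg e
  have h1 : g * (x * y) * g⁻¹ = g * x * g⁻¹ * (g * y * g⁻¹) := by group
  rwa [h1] at this

/-- The step of the duality. -/
theorem radstep {Z : Subgroup G} (hZ : Z ≤ P) {b x : G} (hb : b ∈ P) (hx : x ∈ P)
    (hz : ∀ z ∈ Z, B b z = 0 → B x z = 0) : (∀ z ∈ Z, B x z = 0) ∨ (∀ z ∈ Z, B (x * b) z = 0) := by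
  by_cases hb0 : ∀ z ∈ Z, B b z = 0
  · exact Or.inl fun z hz' => hz z hz' (hb0 z hz')
  push Not at hb0
  obtain ⟨z₁, hz₁, hb₁⟩ := hb0
  have hb₁ : B b z₁ = 1 := (z2 _).resolve_left hb₁
  have key : ∀ z ∈ Z, B b z = 1 → B x z = B x z₁ := by
    intro z hz' hbz
    have h1 := hz (z * z₁) (mul_mem hz' hz₁) (by
      rw [h.add b hb z (hZ hz') z₁ (hZ hz₁), hbz, hb₁]; decide)
    rw [h.add x hx z (hZ hz') z₁ (hZ hz₁)] at h1
    rcases z2 (B x z) with h2 | h2 <;> rcases z2 (B x z₁) with h3 | h3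
    · rw [h2, h3]
    · rw [h2, h3] at h1; exact absurd h1 (by decide)
    · rw [h2, h3] at h1; exact absurd h1 (by decide)
    · rw [h2, h3]
  rcases z2 (B x z₁) with h2 | h2
  · left
    intro z hz'
    rcases z2 (B b z) with h3 | h3
    · exact hz z hz' h3
    · rw [key z hz' h3, h2]
  · right
    intro z hz'
    rw [h.add_left hx hb (hZ hz')]
    rcases z2 (B b z) with h3 | h3
    · rw [hz z hz' h3, h3, add_zero]
    · rw [key z hz' h3, h2, h3]; decide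

theorem sep1 {a : G} (ha : a ∈ P) (ha' : a ∉ Y) : ∃ z ∈ P, B a z = 1 := by
  by_contra hcon
  push Not at hcon
  exact ha' (h.rad a ha fun z hz => (z2 _).resolve_right (hcon z hz))

theorem sep2 {a b : G} (ha : a ∈ P) (hb : b ∈ P) (h1 : a ∉ Y) (h2 : a * b ∉ Y) :
    ∃ z ∈ P, B a z = 1 ∧ B b z = 0 := by
  by_contra hcon
  push Not at hcon
  rcases h.radstep le_rfl hb ha (fun z hz hbz => (z2 _).resolve_right fun e => hcon z hz e hbz) with h3 | h3
  · exact h1 (h.rad a ha h3)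
  · exact h2 (h.rad _ (mul_mem ha hb) h3)

/-- `b^⊥` -/
def pp {b : G} (hb : b ∈ P) : Subgroup G where
  carrier := {z | z ∈ P ∧ B b z = 0}
  one_mem' := ⟨P.one_mem, h.one_right hb⟩
  mul_mem' := by
    rintro x y ⟨hx, hx'⟩ ⟨hy, hy'⟩
    exact ⟨mul_mem hx hy, by rw [h.add b hb x hx y hy, hx', hy', add_zero]⟩
  inv_mem' := by
    rintro x ⟨hx, hx'⟩
    exact ⟨inv_mem hx, by rw [h.iv hx, hx']⟩

theorem sep3 {a b c : G} (ha : a ∈ P) (hb : b ∈ P) (hc : c ∈ P) (h1 : a ∉ Y) (h2 : a * b ∉ Y) (h3 : a * c ∉ Y)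
    (h4 : a * b * c ∉ Y) : ∃ z ∈ P, B a z = 1 ∧ B b z = 0 ∧ B c z = 0 := by
  by_contra hcon
  push Not at hcon
  rcases h.radstep (Z := h.pp hc) (fun z hz => hz.1) hb ha
    (fun z hz hbz => (z2 _).resolve_right fun e => hcon z hz.1 e hbz hz.2) with h5 | h5
  · rcases h.radstep le_rfl hc ha (fun z hz hcz => h5 z ⟨hz, hcz⟩) with h6 | h6
    · exact h1 (h.rad a ha h6)
    · exact h3 (h.rad _ (mul_mem ha hc) h6)
  · rcases h.radstep le_rfl hc (mul_mem ha hb) (fun z hz hcz => h5 z ⟨hz, hcz⟩) with h6 | h6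
    · exact h2 (h.rad _ (mul_mem ha hb) h6)
    · exact h4 (h.rad _ (mul_mem (mul_mem ha hb) hc) h6)

/-- two prescribed values -/
theorem val2 {a b : G} (ha : a ∈ P) (hb : b ∈ P) (h1 : a ∉ Y) (h2 : b ∉ Y) (h3 : a * b ∉ Y) (α β : ZMod 2) :
    ∃ z ∈ P, B a z = α ∧ B b z = β := by
  obtain ⟨u, hu, ua, ub⟩ := h.sep2 ha hb h1 h3
  obtain ⟨w, hw, wb, wa⟩ := h.sep2 hb ha h2 (by rwa [h.mc hb ha])
  rcases z2 α with rfl | rfl <;> rcases z2 β with rfl | rfl
  · exact ⟨1, P.one_mem, h.one_right ha, h.one_right hb⟩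
  · exact ⟨w, hw, wa, wb⟩
  · exact ⟨u, hu, ua, ub⟩
  · exact ⟨u * w, mul_mem hu hw, by rw [h.add a ha u hu w hw, ua, wa, add_zero],
      by rw [h.add b hb u hu w hw, ub, wb, zero_add]⟩

/-- three prescribed values -/
theorem val3 {a b c : G} (ha : a ∈ P) (hb : b ∈ P) (hc : c ∈ P) (h1 : a ∉ Y) (h2 : b ∉ Y) (h3 : c ∉ Y)
    (h4 : a * b ∉ Y) (h5 : a * c ∉ Y) (h6 : b * c ∉ Y) (h7 : a * b * c ∉ Y) (α β γ : ZMod 2) :
    ∃ z ∈ P, B a z = α ∧ B b z = β ∧ B c z = γ := by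
  obtain ⟨u, hu, ua, ub, uc⟩ := h.sep3 ha hb hc h1 h4 h5 h7
  have e1 : b * a * c = a * b * c := by rw [h.mc hb ha]
  have e2 : b * c * a = a * b * c := by rw [h.mc (mul_mem hb hc) ha, mul_assoc]
  obtain ⟨w, hw, wb, wc, wa⟩ := h.sep3 hb hc ha h2 h6 (by rwa [h.mc hb ha]) (by rwa [e2])
  have e3 : c * a * b = a * b * c := by rw [mul_assoc, h.mc hc (mul_mem ha hb)]
  obtain ⟨x, hx, xc, xa, xb⟩ := h.sep3 hc ha hb h3 (by rwa [h.mc hc ha]) (by rwa [h.mc hc hb]) (by rwa [e3])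
  have step : ∀ (ε : ZMod 2) (t : G), t ∈ P → ∃ t' ∈ P, ∀ y ∈ P, B y t' = ε * B y t := by
    intro ε t ht
    rcases z2 ε with rfl | rfl
    · exact ⟨1, P.one_mem, fun y hy => by rw [h.one_right hy, zero_mul]⟩
    · exact ⟨t, ht, fun y hy => by rw [one_mul]⟩
  obtain ⟨u', hu', e4⟩ := step α u hu
  obtain ⟨w', hw', e5⟩ := step β w hw
  obtain ⟨x', hx', e6⟩ := step γ x hx
  have add3 : ∀ y ∈ P, B y (u' * w' * x') = α * B y u + β * B y w + γ * B y x := by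
    intro y hy
    rw [h.add y hy _ (mul_mem hu' hw') _ hx', h.add y hy _ hu' _ hw', e4 y hy, e5 y hy, e6 y hy]
  refine ⟨u' * w' * x', mul_mem (mul_mem hu' hw') hx', ?_, ?_, ?_⟩
  · rw [add3 a ha, ua, wa, xa]; ring
  · rw [add3 b hb, ub, wb, xb]; ring
  · rw [add3 c hc, uc, wc, xc]; ring

theorem not_mem_of {a z : G} (hz : z ∈ P) (e : B a z = 1) : a ∉ Y := fun ha => by
  have := h.zero a ha z hz
  rw [e] at this
  exact one_ne_zero this

/-- one transvection: `q₁ → q₂` fixing `p` -/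
theorem tr {q₁ q₂ : G} (h1 : q₁ ∈ P) (h2 : q₂ ∈ P) (h12 : B q₁ q₂ = 1) :
    ∃ g ∈ M, (∀ p ∈ P, B p q₁ = B p q₂ → g * p * g⁻¹ = p) ∧ g * q₁ * g⁻¹ * q₂ ∈ Y := by
  have hz : q₁ * q₂ ∈ P := mul_mem h1 h2
  have hzB : B (q₁ * q₂) q₁ = 1 := by
    rw [h.add_left h1 h2 h1, h.self _ h1, h.comm _ h2 _ h1, h12, zero_add]
  obtain ⟨z', hz', hzz, g, hg, hgn⟩ := h.tv _ hz (h.not_mem_of h1 hzB)
  refine ⟨g, hg, fun p hp e => ?_, ?_⟩
  · rcases hgn p hp with ⟨-, h3⟩ | ⟨h3, -⟩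
    · exact h3
    · rw [h.add_left h1 h2 hp, h.comm _ h1 _ hp, h.comm _ h2 _ hp, e, z2_self] at h3
      exact absurd h3 (by decide)
  · rcases hgn q₁ h1 with ⟨h3, -⟩ | ⟨-, h3⟩
    · rw [hzB] at h3; exact absurd h3 (by decide)
    · rw [h3]
      have e : q₁ * z' * q₂ = q₁ * q₂ * z' := by rw [mul_assoc, h.mc hz' h2, mul_assoc]
      rwa [e]

/-- two transvections -/
theorem tr2 {q₁ q₂ q₃ : G} (h1 : q₁ ∈ P) (h2 : q₂ ∈ P) (h3 : q₃ ∈ P) (h13 : B q₁ q₃ = 1) (h23 : B q₂ q₃ = 1) :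
    ∃ g ∈ M, (∀ p ∈ P, B p q₁ = B p q₃ → B p q₂ = B p q₃ → g * p * g⁻¹ = p) ∧ g * q₁ * g⁻¹ * q₂ ∈ Y := by
  obtain ⟨g, hg, g1, g2⟩ := h.tr h1 h3 h13
  obtain ⟨k, hk, k1, k2⟩ := h.tr h3 h2 (by rw [h.comm _ h3 _ h2]; exact h23)
  refine ⟨k * g, mul_mem hk hg, fun p hp e1 e2 => ?_, ?_⟩
  · have e : k * g * p * (k * g)⁻¹ = k * (g * p * g⁻¹) * k⁻¹ := by group
    rw [e, g1 p hp e1]
    exact k1 p hp e2.symm
  · have e : k * g * q₁ * (k * g)⁻¹ = k * (g * q₁ * g⁻¹) * k⁻¹ := by group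
    rw [e]
    exact h.eqv_trans (h.nor k hk q₃ h3) (h.eqv_conj hk g2) k2

/-- `M_p` is transitive on the points not perpendicular to `p`. -/
theorem trans_np {p q₁ q₂ : G} (hp : p ∈ P) (h1 : q₁ ∈ P) (h2 : q₂ ∈ P) (hp1 : B p q₁ = 1) (hp2 : B p q₂ = 1) :
    ∃ g ∈ M, g * p * g⁻¹ = p ∧ g * q₁ * g⁻¹ * q₂ ∈ Y := by
  rcases z2 (B q₁ q₂) with h12 | h12
  · by_cases hY : q₁ * q₂ ∈ Y
    · exact ⟨1, M.one_mem, by group, by simpa using hY⟩
    have n1 : p ∉ Y := h.not_mem_of h1 hp1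
    have n2 : q₁ ∉ Y := h.not_mem_of hp (by rw [h.comm _ h1 _ hp]; exact hp1)
    have n3 : q₂ ∉ Y := h.not_mem_of hp (by rw [h.comm _ h2 _ hp]; exact hp2)
    have n4 : p * q₁ ∉ Y := h.not_mem_of h1 (by rw [h.add_left hp h1 h1, hp1, h.self _ h1, add_zero])
    have n5 : p * q₂ ∉ Y := h.not_mem_of h2 (by rw [h.add_left hp h2 h2, hp2, h.self _ h2, add_zero])
    have n6 : p * q₁ * q₂ ∉ Y := h.not_mem_of h1 (by
      rw [h.add_left (mul_mem hp h1) h2 h1, h.add_left hp h1 h1, hp1, h.self _ h1, h.comm _ h2 _ h1, h12]; decide)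
    obtain ⟨q₃, h3, e1, e2, e3⟩ := h.val3 hp h1 h2 n1 n2 n3 n4 n5 hY n6 1 1 1
    obtain ⟨g, hg, g1, g2⟩ := h.tr2 h1 h2 h3 e2 e3
    exact ⟨g, hg, g1 p hp (by rw [hp1, e1]) (by rw [hp2, e1]), g2⟩
  · obtain ⟨g, hg, g1, g2⟩ := h.tr h1 h2 h12
    exact ⟨g, hg, g1 p hp (by rw [hp1, hp2]), g2⟩

/-- `M_p` is transitive on the points perpendicular to `p`. -/
theorem trans_p {p q₁ q₂ : G} (hp : p ∈ P) (h1 : q₁ ∈ P) (h2 : q₂ ∈ P) (hp1 : B p q₁ = 0) (hp2 : B p q₂ = 0)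
    (np : p ∉ Y) (n1 : q₁ ∉ Y) (n2 : q₂ ∉ Y) (m1 : p * q₁ ∉ Y) (m2 : p * q₂ ∉ Y) :
    ∃ g ∈ M, g * p * g⁻¹ = p ∧ g * q₁ * g⁻¹ * q₂ ∈ Y := by
  rcases z2 (B q₁ q₂) with h12 | h12
  · by_cases hY : q₁ * q₂ ∈ Y
    · exact ⟨1, M.one_mem, by group, by simpa using hY⟩
    obtain ⟨q₃, h3, e1, e2, e3⟩ : ∃ q₃ ∈ P, B p q₃ = 0 ∧ B q₁ q₃ = 1 ∧ B q₂ q₃ = 1 := by
      by_cases n6 : p * q₁ * q₂ ∈ Y
      · obtain ⟨q₃, h3, e1, e2⟩ := h.val2 hp h1 np n1 m1 0 1
        refine ⟨q₃, h3, e1, e2, ?_⟩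
        have e4 := h.zero _ n6 q₃ h3
        rw [h.add_left (mul_mem hp h1) h2 h3, h.add_left hp h1 h3, e1, e2] at e4
        rcases z2 (B q₂ q₃) with h5 | h5
        · rw [h5] at e4; exact absurd e4 (by decide)
        · exact h5
      · exact h.val3 hp h1 h2 np n1 n2 m1 m2 hY n6 0 1 1
    obtain ⟨g, hg, g1, g2⟩ := h.tr2 h1 h2 h3 e2 e3
    exact ⟨g, hg, g1 p hp (by rw [hp1, e1]) (by rw [hp2, e1]), g2⟩
  · obtain ⟨g, hg, g1, g2⟩ := h.tr h1 h2 h12
    exact ⟨g, hg, g1 p hp (by rw [hp1, hp2]), g2⟩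

/-- A normal subgroup moving `pY` contains `k` with `p`, `kp` not perpendicular. -/
theorem norm_np {K : Subgroup G} (hK : K ≤ M) (hn : ∀ m ∈ M, ∀ k ∈ K, m * k * m⁻¹ ∈ K) {p k : G} (hp : p ∈ P)
    (np : p ∉ Y) (hk : k ∈ K) (hkp : k * p * k⁻¹ * p ∉ Y) : ∃ g ∈ K, B p (g * p * g⁻¹) = 1 := by
  have hkM := hK hk
  have hp2 : k⁻¹ * p * k ∈ P := h.nor' hkM hp
  have n2 : k⁻¹ * p * k ∉ Y := fun e => np (by
    have := h.norY hkM e
    have e2 : k * (k⁻¹ * p * k) * k⁻¹ = p := by group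
    rwa [e2] at this)
  have n3 : p * (k⁻¹ * p * k) ∉ Y := fun e => hkp (by
    have := h.norY hkM e
    have e2 : k * (p * (k⁻¹ * p * k)) * k⁻¹ = k * p * k⁻¹ * p := by group
    rwa [e2] at this)
  obtain ⟨a, ha, e1, e2⟩ := h.val2 hp hp2 np n2 n3 1 0
  rw [h.comm _ hp _ ha] at e1
  rw [h.comm _ hp2 _ ha] at e2
  obtain ⟨a', ha', haa, g, hg, hgn⟩ := h.tv a ha (h.not_mem_of hp e1)
  have hB : ∀ y ∈ P, B a' y = B a y := fun y hy => (h.congr ha ha' hy haa).symm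
  -- `g` fixes `a'`, `p₂`
  have ga : g * a' * g⁻¹ = a' := by
    rcases hgn a' ha' with ⟨-, h3⟩ | ⟨h3, -⟩
    · exact h3
    · rw [h.comm _ ha _ ha', hB a ha, h.self a ha] at h3; exact absurd h3 (by decide)
  have gp : g * p * g⁻¹ = p * a' := by
    rcases hgn p hp with ⟨h3, -⟩ | ⟨-, h3⟩
    · rw [e1] at h3; exact absurd h3 (by decide)
    · exact h3
  have gp' : g⁻¹ * p * g = p * a' := by
    have e3 : g * (p * a') * g⁻¹ = p := by
      have e4 : g * (p * a') * g⁻¹ = g * p * g⁻¹ * (g * a' * g⁻¹) := by group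
      rw [e4, gp, ga, mul_assoc, h.sq a' ha', mul_one]
    calc g⁻¹ * p * g = g⁻¹ * (g * (p * a') * g⁻¹) * g := by rw [e3]
      _ = p * a' := by group
  have gp2 : g * (k⁻¹ * p * k) * g⁻¹ = k⁻¹ * p * k := by
    rcases hgn _ hp2 with ⟨-, h3⟩ | ⟨h3, -⟩
    · exact h3
    · rw [e2] at h3; exact absurd h3 (by decide)
  have ha2 : k⁻¹ * a' * k ∈ P := h.nor' hkM ha'
  -- the commutator
  refine ⟨k * (g * k⁻¹ * g⁻¹), mul_mem hk (hn g hg _ (inv_mem hk)), ?_⟩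
  have e5 : k * (g * k⁻¹ * g⁻¹) * p * (k * (g * k⁻¹ * g⁻¹))⁻¹ =
      k * (g * (k⁻¹ * (g⁻¹ * p * g) * k) * g⁻¹) * k⁻¹ := by group
  have e6 : k⁻¹ * (p * a') * k = (k⁻¹ * p * k) * (k⁻¹ * a' * k) := by group
  have e7 : g * ((k⁻¹ * p * k) * (k⁻¹ * a' * k)) * g⁻¹ =
      g * (k⁻¹ * p * k) * g⁻¹ * (g * (k⁻¹ * a' * k) * g⁻¹) := by group
  rw [e5, gp', e6, e7, gp2]
  rcases hgn _ ha2 with ⟨-, h3⟩ | ⟨-, h3⟩
  · rw [h3]
    have e8 : k * (k⁻¹ * p * k * (k⁻¹ * a' * k)) * k⁻¹ = p * a' := by group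
    rw [e8, h.add p hp p hp a' ha', h.self p hp, h.comm _ hp _ ha', hB p hp, e1, zero_add]
  · rw [h3]
    have e8 : k * (k⁻¹ * p * k * (k⁻¹ * a' * k * a')) * k⁻¹ = p * (a' * (k * a' * k⁻¹)) := by group
    rw [e8, h.add p hp p hp _ (mul_mem ha' (h.nor k hkM a' ha')), h.self p hp,
      h.add p hp a' ha' _ (h.nor k hkM a' ha'), h.comm _ hp _ ha', hB p hp, e1, h.inv_right hkM hp ha',
      h.comm _ hp2 _ ha', hB _ hp2, e2]
    decide

/-- A normal subgroup moving the point `pY` is transitive on the points. -/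
theorem norm_trans {K : Subgroup G} (hK : K ≤ M) (hn : ∀ m ∈ M, ∀ k ∈ K, m * k * m⁻¹ ∈ K) {p k : G} (hp : p ∈ P)
    (np : p ∉ Y) (hk : k ∈ K) (hkp : k * p * k⁻¹ * p ∉ Y) {q : G} (hq : q ∈ P) (nq : q ∉ Y) :
    ∃ g ∈ K, g * p * g⁻¹ * q ∈ Y := by
  obtain ⟨k₁, hk₁, e1⟩ := h.norm_np hK hn hp np hk hkp
  -- the step
  have step : ∀ k₂ ∈ K, ∀ o ∈ P, ∀ q ∈ P, k₂ * p * k₂⁻¹ * o ∈ Y → B o q = 1 → ∃ g ∈ K, g * p * g⁻¹ * q ∈ Y := by
    intro k₂ hk₂ o ho q hq eo eq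
    have hkp2 : k₂ * p * k₂⁻¹ ∈ P := h.nor k₂ (hK hk₂) p hp
    have e2 : B p (k₂⁻¹ * q * k₂) = 1 := by
      rw [← h.inv_left (hK hk₂) hp hq, h.congr hkp2 ho hq eo, eq]
    obtain ⟨g, hg, g1, g2⟩ := h.trans_np hp (h.nor k₁ (hK hk₁) p hp) (h.nor' (hK hk₂) hq) e1 e2
    refine ⟨k₂ * (g * k₁ * g⁻¹), mul_mem hk₂ (hn g hg k₁ hk₁), ?_⟩
    have e3 : k₂ * (g * k₁ * g⁻¹) * p * (k₂ * (g * k₁ * g⁻¹))⁻¹ * q =
        k₂ * ((g * (k₁ * (g⁻¹ * p * g) * k₁⁻¹) * g⁻¹) * (k₂⁻¹ * q * k₂)) * k₂⁻¹ := by group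
    have e4 : g⁻¹ * p * g = p := by
      calc g⁻¹ * p * g = g⁻¹ * (g * p * g⁻¹) * g := by rw [g1]
        _ = p := by group
    rw [e3, e4]
    exact h.norY (hK hk₂) g2
  have pY : p * p ∈ Y := by rw [h.sq p hp]; exact one_mem _
  rcases z2 (B p q) with e2 | e2
  · by_cases hpq : p * q ∈ Y
    · exact ⟨1, one_mem _, by simpa using hpq⟩
    · obtain ⟨r, hr, r1, r2⟩ := h.val2 hp hq np nq hpq 1 1
      obtain ⟨g, hg, hgr⟩ := step 1 (one_mem _) p hp r hr (by simpa using pY) r1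
      exact step g hg r hr q hq hgr (by rw [h.comm _ hr _ hq]; exact r2)
  · exact step 1 (one_mem _) p hp q hq (by simpa using pY) e2

/-- A subgroup containing the stabiliser of `pY` and moving `pY` to a perpendicular point contains `M`. -/
theorem perp_gen {H : Subgroup G} {p k : G} (hp : p ∈ P) (np : p ∉ Y)
    (hst : ∀ g ∈ M, g * p * g⁻¹ * p ∈ Y → g ∈ H) (hk : k ∈ H) (hkM : k ∈ M) (hB : B p (k * p * k⁻¹) = 0)
    (hne : p * (k * p * k⁻¹) ∉ Y) : M ≤ H := by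
  set u := k * p * k⁻¹ with hu
  have huP : u ∈ P := h.nor k hkM p hp
  have nu : u ∉ Y := fun e => np (by
    have := h.norY' hkM e
    have e2 : k⁻¹ * u * k = p := by rw [hu]; group
    rwa [e2] at this)
  have step : ∀ g₂ ∈ H, g₂ ∈ M → ∀ o ∈ P, ∀ q ∈ P, q ∉ Y → g₂ * p * g₂⁻¹ * o ∈ Y → B o q = 0 → o * q ∉ Y →
      ∃ g ∈ H, g ∈ M ∧ g * p * g⁻¹ * q ∈ Y := by
    intro g₂ hg₂ hg₂M o ho q hq nq eo eq noq
    have hgp : g₂ * p * g₂⁻¹ ∈ P := h.nor g₂ hg₂M p hp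
    have e2 : B p (g₂⁻¹ * q * g₂) = 0 := by
      rw [← h.inv_left hg₂M hp hq, h.congr hgp ho hq eo, eq]
    have n1 : g₂⁻¹ * q * g₂ ∉ Y := fun e => nq (by
      have := h.norY hg₂M e
      have e3 : g₂ * (g₂⁻¹ * q * g₂) * g₂⁻¹ = q := by group
      rwa [e3] at this)
    have n2 : p * (g₂⁻¹ * q * g₂) ∉ Y := fun e => noq (by
      have := h.norY hg₂M e
      have e3 : g₂ * (p * (g₂⁻¹ * q * g₂)) * g₂⁻¹ = g₂ * p * g₂⁻¹ * q := by group
      rw [e3] at this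
      exact h.eqv_trans hgp (h.eqv_symm hgp ho eo) this)
    obtain ⟨g, hg, g1, g2⟩ := h.trans_p hp huP (h.nor' hg₂M hq) hB e2 np nu n1 hne n2
    have hgH : g ∈ H := hst g hg (by rw [g1, h.sq p hp]; exact one_mem _)
    refine ⟨g₂ * g * k, mul_mem (mul_mem hg₂ hgH) hk, mul_mem (mul_mem hg₂M hg) hkM, ?_⟩
    have e3 : g₂ * g * k * p * (g₂ * g * k)⁻¹ * q =
        g₂ * ((g * (k * p * k⁻¹) * g⁻¹) * (g₂⁻¹ * q * g₂)) * g₂⁻¹ := by group
    rw [e3]
    exact h.norY hg₂M g2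
  have pY : p * p ∈ Y := by rw [h.sq p hp]; exact one_mem _
  have key : ∀ q ∈ P, q ∉ Y → ∃ g ∈ H, g ∈ M ∧ g * p * g⁻¹ * q ∈ Y := by
    intro q hq nq
    by_cases hpq : p * q ∈ Y
    · exact ⟨1, one_mem _, one_mem _, by simpa using hpq⟩
    rcases z2 (B p q) with e2 | e2
    · exact step 1 (one_mem _) (one_mem _) p hp q hq nq (by simpa using pY) e2 hpq
    · -- the common neighbour
      obtain ⟨r, hr, nr, r1, r2, r3⟩ : ∃ r ∈ P, r ∉ Y ∧ B p r = 0 ∧ B r q = 0 ∧ p * r ∉ Y := by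
        rcases z2 (B u q) with e3 | e3
        · exact ⟨u, huP, nu, hB, e3, hne⟩
        · refine ⟨u * p, mul_mem huP hp, ?_, ?_, ?_, ?_⟩
          · rwa [h.mc huP hp]
          · rw [h.add p hp u huP p hp, hB, h.self p hp, add_zero]
          · rw [h.add_left huP hp hq, e3, e2]; decide
          · have e4 : p * (u * p) = u * (p * p) := by rw [← mul_assoc, h.mc hp huP, mul_assoc]
            rw [e4, h.sq p hp, mul_one]
            exact nu
      obtain ⟨g, hg, hgM, hgr⟩ := step 1 (one_mem _) (one_mem _) p hp r hr nr (by simpa using pY) r1 r3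
      refine step g hg hgM r hr q hq nq hgr r2 fun e => ?_
      have e4 := h.zero _ e p hp
      rw [h.add_left hr hq hp, h.comm _ hr _ hp, r1, h.comm _ hq _ hp, e2] at e4
      exact absurd e4 (by decide)
  intro c hc
  have hcp : c * p * c⁻¹ ∈ P := h.nor c hc p hp
  have nc : c * p * c⁻¹ ∉ Y := fun e => np (by
    have := h.norY' hc e
    have e2 : c⁻¹ * (c * p * c⁻¹) * c = p := by group
    rwa [e2] at this)
  obtain ⟨g, hg, hgM, e⟩ := key _ hcp nc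
  have h1 : g⁻¹ * c ∈ H := by
    refine hst _ (mul_mem (inv_mem hgM) hc) ?_
    have h2 := h.norY' hgM (h.eqv_symm (h.nor g hgM p hp) hcp e)
    have e2 : g⁻¹ * (c * p * c⁻¹ * (g * p * g⁻¹)) * g = g⁻¹ * c * p * (g⁻¹ * c)⁻¹ * p := by group
    rwa [e2] at h2
  have e2 : c = g * (g⁻¹ * c) := by group
  rw [e2]
  exact mul_mem hg h1

/-! ### double cosets -/

/-- `m' = a m b` -/
def DC (M Y : Subgroup G) (p m m' : G) : Prop :=
  ∃ a ∈ M, ∃ b ∈ M, a * p * a⁻¹ * p ∈ Y ∧ b * p * b⁻¹ * p ∈ Y ∧ m' = a * m * b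

theorem dc_of {p m m' g : G} (hp : p ∈ P) (hm : m ∈ M) (hm' : m' ∈ M) (hg : g ∈ M) (g1 : g * p * g⁻¹ = p)
    (g2 : g * (m * p * m⁻¹) * g⁻¹ * (m' * p * m'⁻¹) ∈ Y) : DC M Y p m m' := by
  refine ⟨g, hg, m⁻¹ * g⁻¹ * m', mul_mem (mul_mem (inv_mem hm) (inv_mem hg)) hm', ?_, ?_, by group⟩
  · rw [g1, h.sq p hp]; exact one_mem _
  · have h1 := h.norY' (mul_mem hg hm) g2
    have hgm : g * (m * p * m⁻¹) * g⁻¹ ∈ P := h.nor g hg _ (h.nor m hm p hp)
    have e1 : (g * m)⁻¹ * (g * (m * p * m⁻¹) * g⁻¹ * (m' * p * m'⁻¹)) * (g * m) =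
        p * (m⁻¹ * g⁻¹ * m' * p * (m⁻¹ * g⁻¹ * m')⁻¹) := by group
    rw [e1] at h1
    exact h.eqv_symm hp (h.nor _ (mul_mem (mul_mem (inv_mem hm) (inv_mem hg)) hm') p hp) h1

theorem dc_np {p m m' : G} (hp : p ∈ P) (hm : m ∈ M) (hm' : m' ∈ M) (h1 : B p (m * p * m⁻¹) = 1)
    (h2 : B p (m' * p * m'⁻¹) = 1) : DC M Y p m m' := by
  obtain ⟨g, hg, g1, g2⟩ := h.trans_np hp (h.nor m hm p hp) (h.nor m' hm' p hp) h1 h2
  exact h.dc_of hp hm hm' hg g1 g2

theorem dc_p {p m m' : G} (hp : p ∈ P) (np : p ∉ Y) (hm : m ∈ M) (hm' : m' ∈ M) (h1 : B p (m * p * m⁻¹) = 0)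
    (h2 : B p (m' * p * m'⁻¹) = 0) (n1 : p * (m * p * m⁻¹) ∉ Y) (n2 : p * (m' * p * m'⁻¹) ∉ Y) : DC M Y p m m' := by
  have nn : ∀ c ∈ M, c * p * c⁻¹ ∉ Y := fun c hc e => np (by
    have := h.norY' hc e
    have e2 : c⁻¹ * (c * p * c⁻¹) * c = p := by group
    rwa [e2] at this)
  obtain ⟨g, hg, g1, g2⟩ := h.trans_p hp (h.nor m hm p hp) (h.nor m' hm' p hp) h1 h2 np (nn m hm) (nn m' hm') n1 n2
  exact h.dc_of hp hm hm' hg g1 g2

/-- Three elements outside the stabiliser of `pY`: two of them lie in the same double coset. -/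
theorem pigeon {p m₁ m₂ m₃ : G} (hp : p ∈ P) (np : p ∉ Y) (h1 : m₁ ∈ M) (h2 : m₂ ∈ M) (h3 : m₃ ∈ M)
    (n1 : m₁ * p * m₁⁻¹ * p ∉ Y) (n2 : m₂ * p * m₂⁻¹ * p ∉ Y) (n3 : m₃ * p * m₃⁻¹ * p ∉ Y) :
    DC M Y p m₁ m₂ ∨ DC M Y p m₁ m₃ ∨ DC M Y p m₂ m₃ := by
  have sw : ∀ m ∈ M, m * p * m⁻¹ * p ∉ Y → p * (m * p * m⁻¹) ∉ Y := fun m hm hn e =>
    hn (h.eqv_symm hp (h.nor m hm p hp) e)
  rcases z2 (B p (m₁ * p * m₁⁻¹)) with e1 | e1 <;> rcases z2 (B p (m₂ * p * m₂⁻¹)) with e2 | e2 <;>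
    rcases z2 (B p (m₃ * p * m₃⁻¹)) with e3 | e3
  · exact Or.inl (h.dc_p hp np h1 h2 e1 e2 (sw _ h1 n1) (sw _ h2 n2))
  · exact Or.inl (h.dc_p hp np h1 h2 e1 e2 (sw _ h1 n1) (sw _ h2 n2))
  · exact Or.inr (Or.inl (h.dc_p hp np h1 h3 e1 e3 (sw _ h1 n1) (sw _ h3 n3)))
  · exact Or.inr (Or.inr (h.dc_np hp h2 h3 e2 e3))
  · exact Or.inr (Or.inr (h.dc_p hp np h2 h3 e2 e3 (sw _ h2 n2) (sw _ h3 n3)))
  · exact Or.inr (Or.inl (h.dc_np hp h1 h3 e1 e3))
  · exact Or.inl (h.dc_np hp h1 h2 e1 e2)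
  · exact Or.inl (h.dc_np hp h1 h2 e1 e2)

end Sy

end Cfsg.Agent.Omega.IId.PlaneSy

end

section


/-!
# II.d, CASE 1, `q = 2`: the groups `N_p`, `p ∈ V₁#` (#13722 (0), (1); #14451 (a), (b), (c))

`Side V W N v v' w l`: `V = {1, v, v', vv'}` (`V₁`), `W` (`V₂`), `N` (`N₁ = ⟨W^{C(v)}⟩`) an elementary abelian
normal subgroup of `C_G(v)` containing `W` and `v`, centralising `V`; `l` (in `L₁`) normalises `V`, centralises
`W` and maps `v` to `v'`; `w ∈ O₂(C_G(v))` centralises `N` and maps `v'` to `vv'`, `[O₂(C_G(v)), w] ≤ ⟨v⟩`.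
-/

set_option autoImplicit false

namespace Cfsg.Agent.Omega.IId.SpSide

open Subgroup Cfsg.Agent.Omega.NoFF.Basic Cfsg Cfsg.Agent.ZN
open scoped Pointwise

variable {G : Type*} [Group G]

/-- `K ≤ H` of index at most 2. -/
theorem card_le_two_mul [Finite G] {K H : Subgroup G}
    (h : ∀ x ∈ H, ∀ y ∈ H, x ∉ K → y ∉ K → x⁻¹ * y ∈ K) : Nat.card H ≤ 2 * Nat.card (K ⊓ H : Subgroup G) := by
  have e1 : Nat.card H = (H : Set G).ncard := Nat.card_coe_set_eq _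
  have e2 : Nat.card (K ⊓ H : Subgroup G) = ((K ⊓ H : Subgroup G) : Set G).ncard := Nat.card_coe_set_eq _
  rw [e1, e2]
  by_cases hH : ∀ x ∈ H, x ∈ K
  · have : K ⊓ H = H := inf_eq_right.2 hH
    rw [this]
    omega
  · push Not at hH
    obtain ⟨a, ha, haK⟩ := hH
    have h1 : (H : Set G) ⊆ ((K ⊓ H : Subgroup G) : Set G) ∪ (fun x => a * x) '' ((K ⊓ H : Subgroup G) : Set G) := by
      intro x hx
      by_cases hxK : x ∈ K
      · exact Or.inl ⟨hxK, hx⟩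
      · exact Or.inr ⟨a⁻¹ * x, ⟨h a ha x hx haK hxK, H.mul_mem (H.inv_mem ha) hx⟩, by simp⟩
    refine (Set.ncard_le_ncard h1 (Set.toFinite _)).trans ((Set.ncard_union_le _ _).trans ?_)
    have := Set.ncard_image_le (f := fun x => a * x) (Set.toFinite ((K ⊓ H : Subgroup G) : Set G))
    omega

theorem mem_centralizer_singleton {v g : G} : g ∈ centralizer ({v} : Set G) ↔ g * v = v * g := by
  rw [mem_centralizer_iff]
  simp only [Set.mem_singleton_iff, forall_eq]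
  exact eq_comm

theorem conj_eq {B : Subgroup G} {g : G} (hg : g ∈ normalizer (B : Set G)) : MulAut.conj g • B = B := by
  ext x
  rw [mem_conj]
  have := (mem_normalizer_iff.1 ((normalizer (B : Set G)).inv_mem hg)) x
  rw [inv_inv] at this
  exact this.symm

theorem mem_normalizer_of_conj {B : Subgroup G} {x : G} (h : MulAut.conj x • B = B) : x ∈ normalizer (B : Set G) := by
  rw [mem_normalizer_iff]
  intro y
  constructor
  · intro hy
    rw [← h, mem_conj]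
    simpa [mul_assoc] using hy
  · intro hy
    rw [← h, mem_conj] at hy
    simpa [mul_assoc] using hy

theorem conj_eq_of_centralizer {B : Subgroup G} {g : G} (hg : g ∈ centralizer (B : Set G)) : MulAut.conj g • B = B :=
  conj_eq (centralizer_le_normalizer _ hg)

theorem conj_mem {g x : G} {H : Subgroup G} (hx : x ∈ H) : g * x * g⁻¹ ∈ MulAut.conj g • H := by
  rw [mem_conj]
  simpa [mul_assoc] using hx

/-- the elements fixed by an element of the centraliser -/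
theorem fix {B : Subgroup G} {g x : G} (hg : g ∈ centralizer (B : Set G)) (hx : x ∈ B) : g * x * g⁻¹ = x := by
  rw [← mem_centralizer_iff.1 hg x hx, mul_inv_cancel_right]

structure Side (V W N : Subgroup G) (v v' w l : G) : Prop where
  memV : ∀ x, x ∈ V ↔ x = 1 ∨ x = v ∨ x = v' ∨ x = v * v'
  v1 : v ≠ 1
  v'1 : v' ≠ 1
  ne : v ≠ v'
  vv : v * v = 1
  v'v' : v' * v' = 1
  comm : v * v' = v' * v
  nor : centralizer ({v} : Set G) ≤ normalizer (N : Set G)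
  ab : N ≤ centralizer (N : Set G)
  sq : ∀ x ∈ N, x * x = 1
  WN : W ≤ N
  vN : v ∈ N
  NV : N ≤ centralizer (V : Set G)
  l_v : l * v * l⁻¹ = v'
  l_V : l ∈ normalizer (V : Set G)
  l_W : l ∈ centralizer (W : Set G)
  w_v' : w * v' * w⁻¹ = v * v'
  w_N : w ∈ centralizer (N : Set G)
  w_Q : ∀ x ∈ o2 (centralizer ({v} : Set G)), x⁻¹ * (w * x * w⁻¹) = 1 ∨ x⁻¹ * (w * x * w⁻¹) = v

namespace Side

variable {V W N : Subgroup G} {v v' w l : G} (h : Side V W N v v' w l)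
include h

theorem vV : v ∈ V := (h.memV v).2 (Or.inr (Or.inl rfl))

theorem v'V : v' ∈ V := (h.memV v').2 (Or.inr (Or.inr (Or.inl rfl)))

theorem w_v : w * v * w⁻¹ = v := fix h.w_N h.vN

theorem w_vv' : w * (v * v') * w⁻¹ = v' := by
  have h1 : w * (v * v') * w⁻¹ = (w * v * w⁻¹) * (w * v' * w⁻¹) := by group
  rw [h1, h.w_v, h.w_v', ← mul_assoc, h.vv, one_mul]

/-- `l⁻¹vl ∈ {v', vv'}` -/
theorem l_inv : l⁻¹ * v * l = v' ∨ l⁻¹ * v * l = v * v' := by
  have h1 : l⁻¹ * v * l ∈ V := by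
    have := (mem_normalizer_iff.1 (inv_mem h.l_V) v).1 h.vV
    rwa [inv_inv] at this
  rcases (h.memV _).1 h1 with h2 | h2 | h2 | h2
  · exfalso
    apply h.v1
    have : v = l * (l⁻¹ * v * l) * l⁻¹ := by group
    rw [this, h2]; group
  · exfalso
    apply h.ne
    have h3 : v = l * (l⁻¹ * v * l) * l⁻¹ := by group
    rw [h2, h.l_v] at h3
    exact h3
  · exact Or.inl h2
  · exact Or.inr h2

/-- `w' = l w l⁻¹` fixes `v'` and maps `v` to `vv'`. -/
theorem w'_v : (l * w * l⁻¹) * v * (l * w * l⁻¹)⁻¹ = v * v' := by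
  have h1 : (l * w * l⁻¹) * v * (l * w * l⁻¹)⁻¹ = l * (w * (l⁻¹ * v * l) * w⁻¹) * l⁻¹ := by group
  rw [h1]
  rcases h.l_inv with h2 | h2
  · rw [h2, h.w_v']
    have h3 : l * (v * v') * l⁻¹ = (l * v * l⁻¹) * (l * v' * l⁻¹) := by group
    have h4 : l * v' * l⁻¹ = v := by rw [← h2]; group
    rw [h3, h.l_v, h4, h.comm]
  · rw [h2, h.w_vv']
    have h4 : l * v' * l⁻¹ = v * v' := by
      have h5 : v' = v * (l⁻¹ * v * l) := by rw [h2, ← mul_assoc, h.vv, one_mul]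
      have h6 : l * v' * l⁻¹ = (l * v * l⁻¹) * v := by
        conv_lhs => rw [h5]
        group
      rw [h6, h.l_v, h.comm]
    rw [h4]

/-- any element mapping `v` to `v'` maps `N` to `N'` -/
theorem conj_N_eq {g g' : G} (hg : g * v * g⁻¹ = g' * v * g'⁻¹) : MulAut.conj g • N = MulAut.conj g' • N := by
  have h1 : g'⁻¹ * g ∈ centralizer ({v} : Set G) := by
    rw [mem_centralizer_singleton]
    have h2 := congrArg (fun t => g'⁻¹ * t * g) hg
    simpa only [mul_assoc, _root_.inv_mul_cancel, _root_.mul_one, _root_.inv_mul_cancel_left] using h2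
  have h2 := conj_eq (h.nor h1)
  have h3 : g = g' * (g'⁻¹ * g) := by group
  conv_lhs => rw [h3, ← conj_conj, h2]

/-- `N' = N^l`, `F = N ∩ N'` -/
theorem w'_N' : l * w * l⁻¹ ∈ centralizer ((MulAut.conj l • N : Subgroup G) : Set G) := by
  rw [mem_centralizer_iff]
  intro x hx
  have hx' : x ∈ MulAut.conj l • N := hx
  rw [mem_conj] at hx'
  have h1 := mem_centralizer_iff.1 h.w_N _ hx'
  have h2 := congrArg (fun t => l * t * l⁻¹) h1
  simpa only [mul_assoc, _root_.mul_inv_cancel_left, _root_.mul_inv_cancel, _root_.mul_one] using h2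

/-- `v ∉ F` -/
theorem v_not_mem : v ∉ MulAut.conj l • N := by
  intro hv
  have h1 := fix h.w'_N' hv
  rw [h.w'_v] at h1
  exact h.v'1 (mul_eq_left.1 h1)

theorem W_le_N' : W ≤ MulAut.conj l • N := by
  intro x hx
  have h1 := fix h.l_W hx
  rw [← h1]
  exact conj_mem (h.WN hx)

theorem W_le_F : W ≤ N ⊓ MulAut.conj l • N := le_inf h.WN h.W_le_N'

/-- `N' ≤ C_G(V)` -/
theorem N'_V : MulAut.conj l • N ≤ centralizer (V : Set G) := by
  have h1 := conj_le_centralizer (g := l) h.NV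
  rwa [conj_eq h.l_V] at h1

theorem centralizer_V_le : centralizer (V : Set G) ≤ centralizer ({v} : Set G) := by
  refine centralizer_le ?_
  rintro _ rfl
  exact h.vV

theorem centralizer_V_le' : centralizer (V : Set G) ≤ centralizer ({v'} : Set G) := by
  refine centralizer_le ?_
  rintro _ rfl
  exact h.v'V

/-- `C_G(v') ≤ N_G(N')` -/
theorem nor' : centralizer ({v'} : Set G) ≤ normalizer ((MulAut.conj l • N : Subgroup G) : Set G) := by
  intro g hg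
  apply mem_normalizer_of_conj
  rw [conj_conj]
  apply h.conj_N_eq
  have h1 : g * l * v * (g * l)⁻¹ = g * (l * v * l⁻¹) * g⁻¹ := by group
  rw [h1, h.l_v]
  rw [mem_centralizer_singleton] at hg
  rw [hg, mul_inv_cancel_right]

theorem N'_le_normalizer : MulAut.conj l • N ≤ normalizer (N : Set G) :=
  h.N'_V.trans (h.centralizer_V_le.trans h.nor)

theorem N_le_normalizer : N ≤ normalizer ((MulAut.conj l • N : Subgroup G) : Set G) :=
  h.NV.trans (h.centralizer_V_le'.trans h.nor')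

/-- `[N, N'] ≤ F` -/
theorem comm_mem {x y : G} (hx : x ∈ N) (hy : y ∈ MulAut.conj l • N) :
    x⁻¹ * (y * x * y⁻¹) ∈ N ⊓ MulAut.conj l • N := by
  refine ⟨N.mul_mem (N.inv_mem hx) ((mem_normalizer_iff.1 (h.N'_le_normalizer hy) x).1 hx), ?_⟩
  have h1 := (mem_normalizer_iff.1 (inv_mem (h.N_le_normalizer hx)) y).1 hy
  rw [inv_inv] at h1
  have h2 := (MulAut.conj l • N : Subgroup G).mul_mem h1 ((MulAut.conj l • N : Subgroup G).inv_mem hy)
  have h3 : x⁻¹ * (y * x * y⁻¹) = x⁻¹ * y * x * y⁻¹ := by group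
  rw [h3]
  exact h2

/-- an element swapping `v` and `v'` maps `N` to `N'` and `N'` to `N` -/
theorem swap : ∃ g : G, MulAut.conj g • N = MulAut.conj l • N ∧ MulAut.conj g • (MulAut.conj l • N) = N := by
  have hw1 : w⁻¹ * v * w⁻¹⁻¹ = v := by
    have := congrArg (fun t => w⁻¹ * t * w) h.w_v
    simp only [mul_assoc, inv_mul_cancel_left, inv_mul_cancel, mul_one] at this
    rw [inv_inv, mul_assoc]
    exact this.symm
  have hw2 : w⁻¹ * v' * w⁻¹⁻¹ = v * v' := by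
    have := congrArg (fun t => w⁻¹ * t * w) h.w_vv'
    simp only [mul_assoc, inv_mul_cancel_left, inv_mul_cancel, mul_one] at this
    rw [inv_inv, mul_assoc]
    exact this.symm
  have hw3 : (l * w * l⁻¹) * v' * (l * w * l⁻¹)⁻¹ = v' := by
    have h1 : (l * w * l⁻¹) * v' * (l * w * l⁻¹)⁻¹ = l * (w * (l⁻¹ * v' * l) * w⁻¹) * l⁻¹ := by group
    have h2 : l⁻¹ * v' * l = v := by rw [← h.l_v]; group
    rw [h1, h2, h.w_v, h.l_v]
  have hw4 : (l * w * l⁻¹) * (v * v') * (l * w * l⁻¹)⁻¹ = v := by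
    have h1 : (l * w * l⁻¹) * (v * v') * (l * w * l⁻¹)⁻¹ =
        ((l * w * l⁻¹) * v * (l * w * l⁻¹)⁻¹) * ((l * w * l⁻¹) * v' * (l * w * l⁻¹)⁻¹) := by group
    rw [h1, h.w'_v, hw3, mul_assoc, h.v'v', mul_one]
  refine ⟨w * (l * w * l⁻¹) * w⁻¹, ?_, ?_⟩
  · apply h.conj_N_eq
    have h1 : w * (l * w * l⁻¹) * w⁻¹ * v * (w * (l * w * l⁻¹) * w⁻¹)⁻¹ =
        w * ((l * w * l⁻¹) * (w⁻¹ * v * w⁻¹⁻¹) * (l * w * l⁻¹)⁻¹) * w⁻¹ := by group
    rw [h1, hw1, h.w'_v, h.w_vv', h.l_v]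
  · rw [conj_conj]
    have e : N = MulAut.conj (1 : G) • N := by rw [map_one, one_smul]
    conv_rhs => rw [e]
    apply h.conj_N_eq
    have h1 : w * (l * w * l⁻¹) * w⁻¹ * l * v * (w * (l * w * l⁻¹) * w⁻¹ * l)⁻¹ =
        w * ((l * w * l⁻¹) * (w⁻¹ * (l * v * l⁻¹) * w⁻¹⁻¹) * (l * w * l⁻¹)⁻¹) * w⁻¹ := by group
    rw [h1, h.l_v, hw2, hw4, h.w_v]
    group

omit h in
theorem conj_inf (g : G) (A B : Subgroup G) : MulAut.conj g • (A ⊓ B) = MulAut.conj g • A ⊓ MulAut.conj g • B :=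
  Subgroup.smul_inf _ _ _

omit h in
theorem conj_centralizer (g : G) (A : Subgroup G) :
    MulAut.conj g • centralizer (A : Set G) = centralizer ((MulAut.conj g • A : Subgroup G) : Set G) := by
  ext x
  rw [mem_conj, mem_centralizer_iff, mem_centralizer_iff]
  constructor
  · intro H y hy
    have hy' : y ∈ MulAut.conj g • A := hy
    rw [mem_conj] at hy'
    have h2 := congrArg (fun t => g * t * g⁻¹) (H _ hy')
    simpa only [mul_assoc, _root_.mul_inv_cancel_left, _root_.mul_inv_cancel, _root_.mul_one] using h2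
  · intro H y hy
    have h2 := congrArg (fun t => g⁻¹ * t * g) (H _ (conj_mem (g := g) hy))
    simpa only [mul_assoc, _root_.inv_mul_cancel_left, _root_.inv_mul_cancel, _root_.mul_one] using h2

omit h in
theorem card_conj (g : G) (A : Subgroup G) : Nat.card (MulAut.conj g • A : Subgroup G) = Nat.card A :=
  Nat.card_congr (Subgroup.equivSMul (MulAut.conj g) A).symm.toEquiv

/-- (c) `|C_N(N')| = |C_{N'}(N)|` -/
theorem card_cent : Nat.card (N ⊓ centralizer ((MulAut.conj l • N : Subgroup G) : Set G) : Subgroup G) =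
    Nat.card ((MulAut.conj l • N) ⊓ centralizer (N : Set G) : Subgroup G) := by
  obtain ⟨g, h1, h2⟩ := h.swap
  have h3 : MulAut.conj g • (N ⊓ centralizer ((MulAut.conj l • N : Subgroup G) : Set G)) =
      (MulAut.conj l • N) ⊓ centralizer (N : Set G) := by
    rw [conj_inf, conj_centralizer, h1, h2]
  rw [← h3, card_conj]

/-- `N'' = N'^w` -/
theorem conj_w' : MulAut.conj (l * w * l⁻¹) • N = MulAut.conj w • (MulAut.conj l • N) := by
  rw [conj_conj]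
  apply h.conj_N_eq
  have h1 : w * l * v * (w * l)⁻¹ = w * (l * v * l⁻¹) * w⁻¹ := by group
  rw [h.w'_v, h1, h.l_v, h.w_v']

/-- `N' ∩ N'' = F` -/
theorem inf_eq : (MulAut.conj l • N) ⊓ (MulAut.conj w • (MulAut.conj l • N)) = N ⊓ MulAut.conj l • N := by
  have h1 : MulAut.conj (l * w * l⁻¹) • (N ⊓ MulAut.conj l • N) = N ⊓ MulAut.conj l • N :=
    conj_eq_of_centralizer (centralizer_le (fun x hx => hx.2) h.w'_N')
  rw [conj_inf, h.conj_w', conj_eq_of_centralizer h.w'_N'] at h1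
  rw [inf_comm, h1]

/-- `N ∩ N'' = F` -/
theorem inf_eq' : N ⊓ (MulAut.conj w • (MulAut.conj l • N)) = N ⊓ MulAut.conj l • N := by
  have h1 : MulAut.conj w • (N ⊓ MulAut.conj l • N) = N ⊓ MulAut.conj l • N :=
    conj_eq_of_centralizer (centralizer_le (fun x hx => hx.1) h.w_N)
  rw [conj_inf, conj_eq_of_centralizer h.w_N] at h1
  exact h1

/-- (b) If `[N, N'] = 1` and `C_G(N)` normalises `V` then `|N : F| ≤ 2`. -/
theorem card_le [Finite G] (hc : MulAut.conj l • N ≤ centralizer (N : Set G))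
    (hV : centralizer (N : Set G) ≤ normalizer (V : Set G)) :
    Nat.card N ≤ 2 * Nat.card (N ⊓ MulAut.conj l • N : Subgroup G) := by
  -- `N' ≤ O₂(C_G(v))`
  have hCN : centralizer (N : Set G) ≤ centralizer ({v} : Set G) := by
    refine centralizer_le ?_
    rintro _ rfl
    exact h.vN
  have h2' : IsPGroup 2 (MulAut.conj l • N : Subgroup G) := by
    intro x
    refine ⟨1, Subtype.ext ?_⟩
    have h1 := x.2
    rw [mem_conj] at h1
    have h3 := h.sq _ h1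
    have h4 : (x : G) * x = l * ((l⁻¹ * x * l) * (l⁻¹ * x * l)) * l⁻¹ := by group
    rw [h3] at h4
    change (x : G) ^ 2 ^ 1 = 1
    rw [pow_one, pow_two, h4]
    group
  -- `R = C_G(N) ∩ C_G(V)` is normal in `C_G(N)`
  set R : Subgroup G := centralizer (N : Set G) ⊓ centralizer (V : Set G) with hR
  have hRn : centralizer (N : Set G) ≤ normalizer (R : Set G) := by
    intro g hg
    apply mem_normalizer_of_conj
    rw [hR, conj_inf, conj_centralizer, conj_centralizer, conj_eq_of_centralizer hg, conj_eq (hV hg)]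
  have hN'R : MulAut.conj l • N ≤ R := le_inf hc h.N'_V
  have hle1 : MulAut.conj l • N ≤ o2 R :=
    le_o2 hN'R h2' (inf_le_right.trans (h.centralizer_V_le'.trans h.nor'))
  have hle2 : o2 R ≤ o2 (centralizer (N : Set G)) :=
    le_o2 ((o2_le R).trans inf_le_left) (isPGroup_o2 R) (hRn.trans (normalizer_le_normalizer_o2 R))
  have hle3 : o2 (centralizer (N : Set G)) ≤ o2 (centralizer ({v} : Set G)) := by
    refine le_o2 ((o2_le _).trans hCN) (isPGroup_o2 _) ?_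
    refine le_trans ?_ (normalizer_le_normalizer_o2 _)
    intro g hg
    apply mem_normalizer_of_conj
    rw [conj_centralizer, conj_eq (h.nor hg)]
  have hQ := hle1.trans (hle2.trans hle3)
  rw [← h.inf_eq, ← card_conj l N, ← card_conj w (MulAut.conj l • N)]
  refine card_le_two_mul fun x hx y hy hxK hyK => ?_
  -- every element of `N''` is `n` or `n v`
  have key : ∀ x ∈ MulAut.conj w • (MulAut.conj l • N), x ∉ MulAut.conj l • N → ∃ n ∈ MulAut.conj l • N, x = n * v := by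
    intro x hx hxK
    rw [mem_conj] at hx
    have h1 := h.w_Q _ (hQ hx)
    have h3 : w * (w⁻¹ * x * w) * w⁻¹ = x := by group
    rw [h3] at h1
    rcases h1 with h1 | h1
    · exfalso
      apply hxK
      have : x = w⁻¹ * x * w := (inv_mul_eq_one.1 h1).symm
      rw [this]
      exact hx
    · exact ⟨_, hx, by rw [← h1]; group⟩
  obtain ⟨n, hn, rfl⟩ := key x hx hxK
  obtain ⟨m, hm, rfl⟩ := key y hy hyK
  have h5 : ∀ t ∈ MulAut.conj l • N, v * t = t * v := fun t ht => mem_centralizer_iff.1 (h.N'_V ht) v h.vV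
  have h6 : (n * v)⁻¹ * (m * v) = n⁻¹ * m := by
    have h7 := h5 _ (mul_mem (inv_mem hn) hm)
    calc (n * v)⁻¹ * (m * v) = v⁻¹ * ((n⁻¹ * m) * v) := by group
      _ = n⁻¹ * m := by rw [← h7, inv_mul_cancel_left]
  rw [h6]
  exact mul_mem (inv_mem hn) hm

/-- `C_G(V) ≤ N_G(F)` -/
theorem centralizer_le_normalizer_F : centralizer (V : Set G) ≤ normalizer ((N ⊓ MulAut.conj l • N : Subgroup G) : Set G) := by
  intro g hg
  apply mem_normalizer_of_conj
  rw [conj_inf, conj_eq (h.nor (h.centralizer_V_le hg)), conj_eq (h.nor' (h.centralizer_V_le' hg))]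

/-- An element of `C_G(v)` normalising `V` normalises `F`. -/
theorem conj_F {t : G} (ht : t ∈ centralizer ({v} : Set G)) (htV : t * v' * t⁻¹ ∈ V) :
    MulAut.conj t • (N ⊓ MulAut.conj l • N) = N ⊓ MulAut.conj l • N := by
  have h0 : t * v = v * t := mem_centralizer_singleton.1 ht
  have h1 : MulAut.conj t • (MulAut.conj l • N) = MulAut.conj l • N ∨
      MulAut.conj t • (MulAut.conj l • N) = MulAut.conj w • (MulAut.conj l • N) := by
    rw [conj_conj]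
    have e : t * l * v * (t * l)⁻¹ = t * v' * t⁻¹ := by rw [← h.l_v]; group
    rcases (h.memV _).1 htV with h2 | h2 | h2 | h2
    · exfalso
      apply h.v'1
      calc v' = t⁻¹ * (t * v' * t⁻¹) * t := by group
        _ = 1 := by rw [h2]; group
    · exfalso
      apply h.ne
      calc v = t⁻¹ * (v * t) := by rw [← h0]; group
        _ = t⁻¹ * (t * v' * t⁻¹) * t := by rw [h2]; group
        _ = v' := by group
    · left
      apply h.conj_N_eq
      rw [e, h2, h.l_v]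
    · right
      rw [conj_conj]
      apply h.conj_N_eq
      have e2 : w * l * v * (w * l)⁻¹ = w * (l * v * l⁻¹) * w⁻¹ := by group
      rw [e, h2, e2, h.l_v, h.w_v']
  rw [conj_inf, conj_eq (h.nor ht)]
  rcases h1 with h1 | h1
  · rw [h1]
  · rw [h1, h.inf_eq']

end Side

end Cfsg.Agent.Omega.IId.SpSide

end

section


/-!
# II.d, CASE 1, `q = 2`: the quadratic form of the `O₅(2)`-module `N₁` (#14451 (d))

`QF N C v Q` : `Q : G → ZMod 2` restricted to the elementary abelian group `N` is a quadratic form with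
biadditive polar form `pol Q`, invariant under the subgroup `C`, `Q v = 1` and `rad = {1, v}`.
-/

set_option autoImplicit false

namespace Cfsg.Agent.Omega.IId.SpForm

open Subgroup Cfsg.Agent.Omega.NoFF.Basic Cfsg Cfsg.Agent.ZN Cfsg.Agent.Omega.IId.SpSide
open scoped Pointwise

variable {G : Type*} [Group G]

/-- polar form -/
def pol (Q : G → ZMod 2) (x y : G) : ZMod 2 := Q (x * y) + Q x + Q y

/-- a quadratic form on `N` with radical `⟨v⟩` -/
structure QF (N C : Subgroup G) (v : G) (Q : G → ZMod 2) : Prop where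
  add : ∀ x ∈ N, ∀ y ∈ N, ∀ z ∈ N, pol Q (x * y) z = pol Q x z + pol Q y z
  inv : ∀ c ∈ C, ∀ x ∈ N, Q (c * x * c⁻¹) = Q x
  Qv : Q v = 1
  vrad : ∀ y ∈ N, pol Q v y = 0
  rad : ∀ x ∈ N, (∀ y ∈ N, pol Q x y = 0) → x = 1 ∨ x = v

theorem z2 (a : ZMod 2) : a = 0 ∨ a = 1 := by
  revert a; decide

theorem z2_add (a : ZMod 2) : a + a = 0 := by
  revert a; decide

namespace QF

variable {N C : Subgroup G} {v : G} {Q : G → ZMod 2} (q : QF N C v Q)
include q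

theorem one_left {z : G} (hz : z ∈ N) : pol Q 1 z = 0 := by
  have := q.add 1 N.one_mem 1 N.one_mem z hz
  rw [one_mul, z2_add] at this
  exact this

theorem Q_one : Q 1 = 0 := by
  have := q.one_left N.one_mem
  unfold pol at this
  rw [one_mul, z2_add, zero_add] at this
  exact this

theorem pol_inv {c : G} (hc : c ∈ C) {x y : G} (hx : x ∈ N) (hy : y ∈ N) :
    pol Q (c * x * c⁻¹) (c * y * c⁻¹) = pol Q x y := by
  unfold pol
  have h1 : c * x * c⁻¹ * (c * y * c⁻¹) = c * (x * y) * c⁻¹ := by group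
  rw [h1, q.inv c hc _ (N.mul_mem hx hy), q.inv c hc x hx, q.inv c hc y hy]

end QF

/-- The data of (d): `N = N₁`, `N' = N₁'`, `W = V₂`, `F = N ∩ N' = W`. -/
structure Alt (N N' W : Subgroup G) (v : G) (Q : G → ZMod 2) : Prop where
  ab : ∀ x ∈ N, ∀ y ∈ N, x * y = y * x
  ab' : ∀ x ∈ N', ∀ y ∈ N', x * y = y * x
  sq : ∀ x ∈ N, x * x = 1
  WN : W ≤ N
  WN' : W ≤ N'
  vN : v ∈ N
  v1 : v ≠ 1
  vN' : ∀ b ∈ N', b * v = v * b
  cm : ∀ x ∈ N, ∀ b ∈ N', x⁻¹ * (b * x * b⁻¹) ∈ W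
  add : ∀ x ∈ N, ∀ y ∈ N, ∀ z ∈ N, pol Q (x * y) z = pol Q x z + pol Q y z
  inv : ∀ b ∈ N', ∀ x ∈ N, Q (b * x * b⁻¹) = Q x
  Qv : Q v = 1
  rad : ∀ x ∈ N, (∀ y ∈ N, pol Q x y = 0) → x = 1 ∨ x = v
  QW : ∀ x ∈ W, Q x = 0
  perp : ∀ x ∈ N, (∀ y ∈ W, pol Q x y = 0) → x ∈ W ∨ x * v ∈ W
  W4 : ∀ a ∈ W, ∀ b ∈ W, a ≠ 1 → b ≠ 1 → a ≠ b → ∀ x ∈ W, x = 1 ∨ x = a ∨ x = b ∨ x = a * b

namespace Alt

variable {N N' W : Subgroup G} {v : G} {Q : G → ZMod 2} (h : Alt N N' W v Q)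
include h

/-- `β_b(x) = [x, b]` -/
theorem pol_beta {x b : G} (hx : x ∈ N) (hb : b ∈ N') : pol Q x (x⁻¹ * (b * x * b⁻¹)) = 0 := by
  unfold pol
  have h1 : x * (x⁻¹ * (b * x * b⁻¹)) = b * x * b⁻¹ := by group
  rw [h1, h.inv b hb x hx, h.QW _ (h.cm x hx b hb), add_zero, z2_add]

theorem comm {x y : G} (hx : x ∈ N) (hy : y ∈ N) : pol Q x y = pol Q y x := by
  unfold pol
  rw [h.ab x hx y hy]; ring

theorem add' {x y z : G} (hx : x ∈ N) (hy : y ∈ N) (hz : z ∈ N) : pol Q z (x * y) = pol Q z x + pol Q z y := by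
  rw [h.comm hz (N.mul_mem hx hy), h.add x hx y hy z hz, h.comm hx hz, h.comm hy hz]

theorem beta_mul {x y b : G} (hx : x ∈ N) (hy : y ∈ N) (hb : b ∈ N') :
    (x * y)⁻¹ * (b * (x * y) * b⁻¹) = (x⁻¹ * (b * x * b⁻¹)) * (y⁻¹ * (b * y * b⁻¹)) := by
  have h1 := h.WN (h.cm x hx b hb)
  have h2 : (x * y)⁻¹ * (b * (x * y) * b⁻¹) = y⁻¹ * (x⁻¹ * (b * x * b⁻¹)) * (b * y * b⁻¹) := by group
  rw [h2, h.ab _ (N.inv_mem hy) _ h1, mul_assoc]

/-- `f(x, β_b(y)) = f(y, β_b(x))` -/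
theorem pol_symm {x y b : G} (hx : x ∈ N) (hy : y ∈ N) (hb : b ∈ N') :
    pol Q x (y⁻¹ * (b * y * b⁻¹)) = pol Q y (x⁻¹ * (b * x * b⁻¹)) := by
  have h1 := h.pol_beta (N.mul_mem hx hy) hb
  have hbx := h.WN (h.cm x hx b hb)
  have hby := h.WN (h.cm y hy b hb)
  rw [h.beta_mul hx hy hb, h.add x hx y hy _ (N.mul_mem hbx hby), h.add' hbx hby hx, h.add' hbx hby hy,
    h.pol_beta hx hb, h.pol_beta hy hb, zero_add, add_zero] at h1
  rcases z2 (pol Q x (y⁻¹ * (b * y * b⁻¹))) with h2 | h2 <;> rcases z2 (pol Q y (x⁻¹ * (b * x * b⁻¹))) with h3 | h3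
  · rw [h2, h3]
  · rw [h2, h3] at h1; exact absurd h1 (by decide)
  · rw [h2, h3] at h1; exact absurd h1 (by decide)
  · rw [h2, h3]

theorem one_right {x : G} (hx : x ∈ N) : pol Q x 1 = 0 := by
  have h1 := h.add 1 N.one_mem 1 N.one_mem x hx
  rw [one_mul, z2_add] at h1
  rw [h.comm hx N.one_mem]
  exact h1

theorem ne_rad {m : G} (hm : m ∈ W) (hm1 : m ≠ 1) : ∃ y ∈ N, pol Q m y = 1 := by
  by_contra hcon
  push Not at hcon
  rcases h.rad m (h.WN hm) fun y hy => (z2 _).resolve_right (hcon y hy) with h1 | h1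
  · exact hm1 h1
  · have := h.QW m hm
    rw [h1, h.Qv] at this
    exact absurd this (by decide)

/-- Claim A: if `β_b ≠ 1`, the kernel of `β_b` is `W⟨v⟩`. -/
theorem claimA {b x y : G} (hb : b ∈ N') (hx : x ∈ N) (hbx : x⁻¹ * (b * x * b⁻¹) ≠ 1) (hy : y ∈ N)
    (hby : y⁻¹ * (b * y * b⁻¹) = 1) : y ∈ W ∨ y * v ∈ W := by
  have hm := h.cm x hx b hb
  obtain ⟨y0, hy0, h0⟩ := h.ne_rad hm hbx
  have h1 : pol Q x (y0⁻¹ * (b * y0 * b⁻¹)) = 1 := by
    rw [h.pol_symm hx hy0 hb, h.comm hy0 (h.WN hm), h0]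
  have hm' := h.cm y0 hy0 b hb
  set m := x⁻¹ * (b * x * b⁻¹) with hmdef
  set m' := y0⁻¹ * (b * y0 * b⁻¹) with hm'def
  have hm'1 : m' ≠ 1 := by
    intro e
    rw [e, h.one_right hx] at h1
    exact absurd h1 (by decide)
  have hmm' : m ≠ m' := by
    intro e
    have h2 := h.pol_beta hx hb
    rw [← hmdef, e, h1] at h2
    exact absurd h2 (by decide)
  -- `y` is orthogonal to the image of `β_b`
  have key : ∀ z ∈ N, pol Q y (z⁻¹ * (b * z * b⁻¹)) = 0 := by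
    intro z hz
    rw [h.pol_symm hy hz hb, hby, h.one_right hz]
  have k1 : pol Q y m = 0 := key x hx
  have k2 : pol Q y m' = 0 := key y0 hy0
  refine h.perp y hy fun w hw => ?_
  rcases h.W4 m hm m' hm' hbx hm'1 hmm' w hw with h3 | h3 | h3 | h3
  · rw [h3, h.one_right hy]
  · rw [h3, k1]
  · rw [h3, k2]
  · rw [h3, h.add' (h.WN hm) (h.WN hm') hy, k1, k2, zero_add]

/-- `β_b` vanishes on `W⟨v⟩`. -/
theorem beta_one {b y : G} (hb : b ∈ N') (hy : y ∈ W ∨ y * v ∈ W) : b * y = y * b := by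
  have h1 : ∀ y ∈ W, b * y = y * b := fun y hy => h.ab' b hb y (h.WN' hy)
  rcases hy with h2 | h2
  · exact h1 y h2
  · have h3 := h1 _ h2
    have h4 := h.vN' b hb
    have h5 : b * y * v = y * b * v := by rw [mul_assoc, h3, mul_assoc, mul_assoc, ← h4]
    exact mul_right_cancel h5

/-- Claim B: two nontrivial `β_b` are equal. -/
theorem claimB {b b' x x' : G} (hb : b ∈ N') (hb' : b' ∈ N') (hx : x ∈ N) (hbx : x⁻¹ * (b * x * b⁻¹) ≠ 1)
    (hx' : x' ∈ N) (hbx' : x'⁻¹ * (b' * x' * b'⁻¹) ≠ 1) (y : G) (hy : y ∈ N) :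
    b * y * b⁻¹ = b' * y * b'⁻¹ := by
  by_cases hyW : y ∈ W ∨ y * v ∈ W
  · rw [h.beta_one hb hyW, h.beta_one hb' hyW]; group
  · have n1 : y⁻¹ * (b * y * b⁻¹) ≠ 1 := fun e => hyW (h.claimA hb hx hbx hy e)
    have n2 : y⁻¹ * (b' * y * b'⁻¹) ≠ 1 := fun e => hyW (h.claimA hb' hx' hbx' hy e)
    have o1 := h.pol_beta hy hb
    have o2 := h.pol_beta hy hb'
    have m1 := h.cm y hy b hb
    have m2 := h.cm y hy b' hb'
    by_contra hne
    have hne' : y⁻¹ * (b * y * b⁻¹) ≠ y⁻¹ * (b' * y * b'⁻¹) := fun e => hne (mul_left_cancel e)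
    apply hyW
    refine h.perp y hy fun w hw => ?_
    rcases h.W4 _ m1 _ m2 n1 n2 hne' w hw with h3 | h3 | h3 | h3
    · rw [h3, h.one_right hy]
    · rw [h3, o1]
    · rw [h3, o2]
    · rw [h3, h.add' (h.WN m1) (h.WN m2) hy, o1, o2, zero_add]

/-- `|N'| ≤ 2 |C_{N'}(N)|` -/
theorem card_le [Finite G] : Nat.card N' ≤ 2 * Nat.card (N' ⊓ centralizer (N : Set G) : Subgroup G) := by
  rw [inf_comm]
  refine card_le_two_mul fun b hb b' hb' hbC hbC' => ?_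
  have key : ∀ b ∈ N', b ∉ centralizer (N : Set G) → ∃ x ∈ N, x⁻¹ * (b * x * b⁻¹) ≠ 1 := by
    intro b _ hbC
    by_contra hcon
    push Not at hcon
    apply hbC
    rw [mem_centralizer_iff]
    intro x hx
    have h1 := inv_mul_eq_one.1 (hcon x hx)
    rw [eq_mul_inv_iff_mul_eq] at h1
    exact h1
  obtain ⟨x, hx, h1⟩ := key b hb hbC
  obtain ⟨x', hx', h1'⟩ := key b' hb' hbC'
  rw [mem_centralizer_iff]
  intro y hy
  have h2 := h.claimB hb hb' hx h1 hx' h1' y hy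
  have h3 : b⁻¹ * (b * y * b⁻¹) * b' = b⁻¹ * (b' * y * b'⁻¹) * b' := by rw [h2]
  calc y * (b⁻¹ * b') = b⁻¹ * (b * y * b⁻¹) * b' := by group
    _ = b⁻¹ * (b' * y * b'⁻¹) * b' := h3
    _ = b⁻¹ * b' * y := by group

/-- If `[N, N'] ≠ 1` then `|C_N(N')| ≤ 2|W|`. -/
theorem card_cent_le [Finite G] (hne : ¬ N' ≤ centralizer (N : Set G)) :
    Nat.card (N ⊓ centralizer (N' : Set G) : Subgroup G) ≤ 2 * Nat.card W := by
  have h1 : ∃ b ∈ N', ∃ x ∈ N, x⁻¹ * (b * x * b⁻¹) ≠ 1 := by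
    by_contra hcon
    push Not at hcon
    apply hne
    intro b hb
    rw [mem_centralizer_iff]
    intro x hx
    have h1 := inv_mul_eq_one.1 (hcon b hb x hx)
    rw [eq_mul_inv_iff_mul_eq] at h1
    exact h1
  obtain ⟨b, hb, x, hx, hbx⟩ := h1
  have key : ∀ y ∈ N ⊓ centralizer (N' : Set G), y ∈ W ∨ y * v ∈ W := by
    rintro y ⟨hy, hyc⟩
    refine h.claimA hb hx hbx hy ?_
    have := mem_centralizer_iff.1 hyc b hb
    rw [this]; group
  refine (card_le_two_mul (K := W) fun x hx y hy hxW hyW => ?_).trans ?_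
  · have h2 := (key x hx).resolve_left hxW
    have h3 := (key y hy).resolve_left hyW
    have h4 := W.mul_mem (W.inv_mem h2) h3
    have h5 : (x * v)⁻¹ * (y * v) = x⁻¹ * y := by
      have e : v⁻¹ * (x⁻¹ * y) = (x⁻¹ * y) * v⁻¹ :=
        h.ab _ (N.inv_mem h.vN) _ (N.mul_mem (N.inv_mem hx.1) hy.1)
      calc (x * v)⁻¹ * (y * v) = v⁻¹ * (x⁻¹ * y) * v := by group
        _ = x⁻¹ * y := by rw [e, inv_mul_cancel_right]
    rwa [h5] at h4
  · exact Nat.mul_le_mul_left 2 (Subgroup.card_le_of_le inf_le_left)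

end Alt

/-! ### Four-groups -/

/-- A group of order 4 and exponent 2 is `{1, a, b, ab}`. -/
theorem four_mem [Finite G] {W : Subgroup G} (hc : Nat.card W = 4) (hsq : ∀ x ∈ W, x * x = 1) {a b : G} (ha : a ∈ W)
    (hb : b ∈ W) (ha1 : a ≠ 1) (hb1 : b ≠ 1) (hab : a ≠ b) {x : G} (hx : x ∈ W) :
    x = 1 ∨ x = a ∨ x = b ∨ x = a * b := by
  classical
  by_contra hcon
  push Not at hcon
  have c1 : a * b ≠ 1 := fun e => hab (by
    calc a = a * (b * b) := by rw [hsq b hb, mul_one]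
      _ = b := by rw [← mul_assoc, e, one_mul])
  have h5 : ({1, a, b, a * b, x} : Finset G).card ≤ 4 := by
    have e1 : Nat.card W = (W : Set G).ncard := rfl
    rw [← hc, e1, ← Set.ncard_coe_finset]
    apply Set.ncard_le_ncard _ (Set.toFinite _)
    intro y hy
    simp only [Finset.coe_insert, Finset.coe_singleton, Set.mem_insert_iff, Set.mem_singleton_iff] at hy
    rcases hy with rfl | rfl | rfl | rfl | rfl
    · exact one_mem _
    · exact ha
    · exact hb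
    · exact mul_mem ha hb
    · exact hx
  have c3 : a ≠ a * b := fun e => hb1 (mul_eq_left.1 e.symm)
  have c4 : b ≠ a * b := fun e => ha1 (mul_eq_right.1 e.symm)
  have : ({1, a, b, a * b, x} : Finset G).card = 5 := by
    rw [Finset.card_insert_of_notMem, Finset.card_insert_of_notMem, Finset.card_insert_of_notMem,
      Finset.card_insert_of_notMem, Finset.card_singleton]
    · simpa using Ne.symm hcon.2.2.2
    · simp only [Finset.mem_insert, Finset.mem_singleton, not_or]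
      exact ⟨c4, Ne.symm hcon.2.2.1⟩
    · simp only [Finset.mem_insert, Finset.mem_singleton, not_or]
      exact ⟨hab, c3, Ne.symm hcon.2.1⟩
    · simp only [Finset.mem_insert, Finset.mem_singleton, not_or]
      exact ⟨Ne.symm ha1, Ne.symm hb1, Ne.symm c1, Ne.symm hcon.1⟩
  omega

/-- A proper subgroup has at most half the order. -/
theorem two_mul_card_le [Finite G] {K H : Subgroup G} (hKH : K ≤ H) (hne : ∃ x ∈ H, x ∉ K) :
    2 * Nat.card K ≤ Nat.card H := by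
  obtain ⟨x, hx, hxK⟩ := hne
  obtain ⟨c, hc⟩ := Subgroup.card_dvd_of_le hKH
  have hK : 0 < Nat.card K := Nat.card_pos
  have hH : 0 < Nat.card H := Nat.card_pos
  rcases Nat.lt_or_ge c 2 with h2 | h2
  · exfalso
    have h1 : c = 1 := by
      rcases Nat.lt_or_ge c 1 with h0 | h0
      · have : c = 0 := by omega
        rw [this, mul_zero] at hc
        omega
      · omega
    rw [h1, mul_one] at hc
    have h3 : K = H := Subgroup.eq_of_le_of_card_ge hKH hc.le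
    exact hxK (h3 ▸ hx)
  · rw [hc, mul_comm]
    exact Nat.mul_le_mul_left _ h2

/-- The form data of `N₁`, `V₂`: `|N| = 32`, `|W| = 4`, `Q = 0` on `W`. -/
structure Frm (N W C : Subgroup G) (v : G) (Q : G → ZMod 2) : Prop extends QF N C v Q where
  ab : ∀ x ∈ N, ∀ y ∈ N, x * y = y * x
  sq : ∀ x ∈ N, x * x = 1
  WN : W ≤ N
  vN : v ∈ N
  cN : Nat.card N = 32
  cW : Nat.card W = 4
  QW : ∀ x ∈ W, Q x = 0

namespace Frm

variable {N W C : Subgroup G} {v : G} {Q : G → ZMod 2} (h : Frm N W C v Q)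
include h

theorem v_not_mem : v ∉ W := fun hv => by
  have := h.QW v hv
  rw [h.Qv] at this
  exact absurd this (by decide)

theorem comm {x y : G} (hx : x ∈ N) (hy : y ∈ N) : pol Q x y = pol Q y x := by
  unfold pol
  rw [h.ab x hx y hy]; ring

theorem add' {x y z : G} (hx : x ∈ N) (hy : y ∈ N) (hz : z ∈ N) : pol Q z (x * y) = pol Q z x + pol Q z y := by
  rw [h.comm hz (N.mul_mem hx hy), h.add x hx y hy z hz, h.comm hx hz, h.comm hy hz]

theorem one_right {x : G} (hx : x ∈ N) : pol Q x 1 = 0 := by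
  rw [h.comm hx N.one_mem, h.toQF.one_left hx]

theorem polW {x y : G} (hx : x ∈ W) (hy : y ∈ W) : pol Q x y = 0 := by
  unfold pol
  rw [h.QW _ (W.mul_mem hx hy), h.QW x hx, h.QW y hy]; decide

theorem ne_rad {m : G} (hm : m ∈ W) (hm1 : m ≠ 1) : ∃ y ∈ N, pol Q y m = 1 := by
  by_contra hcon
  push Not at hcon
  rcases h.rad m (h.WN hm) fun y hy => by
    rw [h.comm (h.WN hm) hy]
    exact (z2 _).resolve_right (hcon y hy) with h1 | h1
  · exact hm1 h1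
  · exact h.v_not_mem (h1 ▸ hm)

/-- the orthogonal of `a` -/
def orth (N : Subgroup G) (Q : G → ZMod 2) (h : ∀ x ∈ N, ∀ y ∈ N, ∀ z ∈ N, pol Q (x * y) z = pol Q x z + pol Q y z)
    (h2 : ∀ x ∈ N, x * x = 1) {a : G} (ha : a ∈ N) : Subgroup G where
  carrier := {x | x ∈ N ∧ pol Q x a = 0}
  one_mem' := by
    refine ⟨N.one_mem, ?_⟩
    have := h 1 N.one_mem 1 N.one_mem a ha
    rw [one_mul, z2_add] at this
    exact this
  mul_mem' := by
    rintro x y ⟨hx, hx'⟩ ⟨hy, hy'⟩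
    exact ⟨N.mul_mem hx hy, by rw [h x hx y hy a ha, hx', hy', add_zero]⟩
  inv_mem' := by
    rintro x ⟨hx, hx'⟩
    have : x⁻¹ = x := inv_eq_of_mul_eq_one_left (h2 x hx)
    rw [this]
    exact ⟨hx, hx'⟩

/-- `W^⊥ = W⟨v⟩` -/
theorem perp [Finite G] : ∀ x ∈ N, (∀ y ∈ W, pol Q x y = 0) → x ∈ W ∨ x * v ∈ W := by
  classical
  -- a basis of `W`
  obtain ⟨a, ha, ha1⟩ : ∃ a ∈ W, a ≠ 1 := by
    by_contra hcon
    push Not at hcon
    have : W = ⊥ := (eq_bot_iff_forall _).2 hcon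
    have h4 := h.cW
    rw [this, Subgroup.card_bot] at h4
    omega
  obtain ⟨b, hb, hb1, hab⟩ : ∃ b ∈ W, b ≠ 1 ∧ b ≠ a := by
    by_contra hcon
    push Not at hcon
    have h5 : (W : Set G).ncard ≤ ({1, a} : Finset G).card := by
      rw [← Set.ncard_coe_finset]
      apply Set.ncard_le_ncard _ (Set.toFinite _)
      intro y hy
      by_cases h1 : y = 1
      · simp [h1]
      · simp [hcon y hy h1]
    have h6 : Nat.card W = (W : Set G).ncard := rfl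
    have h7 := Finset.card_le_two (a := (1 : G)) (b := a)
    have h8 := h.cW
    omega
  have haN := h.WN ha
  have hbN := h.WN hb
  set A := orth N Q h.add h.sq haN with hA
  set B := orth N Q h.add h.sq hbN with hB
  have hcA : 2 * Nat.card A ≤ 32 := by
    rw [← h.cN]
    refine two_mul_card_le (fun x hx => hx.1) ?_
    obtain ⟨y, hy, h1⟩ := h.ne_rad ha ha1
    exact ⟨y, hy, fun h2 => by rw [h2.2] at h1; exact absurd h1 (by decide)⟩
  have hcB : 2 * Nat.card (A ⊓ B : Subgroup G) ≤ Nat.card A := by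
    refine two_mul_card_le inf_le_left ?_
    by_contra hcon
    push Not at hcon
    -- `f(·, a) = f(·, b)`
    obtain ⟨y, hy, h1⟩ := h.ne_rad hb hb1
    have h2 : pol Q y a = 1 := (z2 _).resolve_left fun h2 => by
      have := (hcon y ⟨hy, h2⟩).2.2
      rw [this] at h1; exact absurd h1 (by decide)
    have hab1 : a * b ≠ 1 := fun e => hab (by
      calc b = (a * a) * b := by rw [h.sq a haN, one_mul]
        _ = a := by rw [mul_assoc, e, mul_one])
    obtain ⟨x, hx, h3⟩ := h.ne_rad (W.mul_mem ha hb) hab1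
    rw [h.add' haN hbN hx] at h3
    rcases z2 (pol Q x a) with h4 | h4
    · have h5 := (hcon x ⟨hx, h4⟩).2.2
      rw [h4, h5] at h3; exact absurd h3 (by decide)
    · have h6 : pol Q (x * y) a = 0 := by rw [h.add x hx y hy a haN, h4, h2]; decide
      have h5 := (hcon (x * y) ⟨N.mul_mem hx hy, h6⟩).2.2
      rw [h.add x hx y hy b hbN, h1] at h5
      rcases z2 (pol Q x b) with h7 | h7
      · rw [h7] at h5; exact absurd h5 (by decide)
      · rw [h4, h7] at h3; exact absurd h3 (by decide)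
  -- the set `W ∪ Wv`
  set X : Set G := (W : Set G) ∪ (fun x => x * v) '' (W : Set G) with hX
  have hX8 : X.ncard = 8 := by
    rw [hX, Set.ncard_union_eq ?_ (Set.toFinite _) (Set.toFinite _), Set.ncard_image_of_injective _ (mul_left_injective v)]
    · have h6 : Nat.card W = (W : Set G).ncard := rfl
      have h8 := h.cW
      omega
    · rw [Set.disjoint_left]
      rintro x hx ⟨y, hy, rfl⟩
      apply h.v_not_mem
      have := W.mul_mem (W.inv_mem hy) hx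
      simpa using this
  have hXs : X ⊆ ((A ⊓ B : Subgroup G) : Set G) := by
    have hv : ∀ c ∈ W, pol Q v c = 0 := fun c hc => h.vrad c (h.WN hc)
    rintro x (hx | ⟨y, hy, rfl⟩)
    · exact ⟨⟨h.WN hx, h.polW hx ha⟩, ⟨h.WN hx, h.polW hx hb⟩⟩
    · have e : ∀ c ∈ W, pol Q (y * v) c = 0 := fun c hc => by
        rw [h.add y (h.WN hy) v h.vN c (h.WN hc), h.polW hy hc, hv c hc, add_zero]
      exact ⟨⟨N.mul_mem (h.WN hy) h.vN, e a ha⟩, ⟨N.mul_mem (h.WN hy) h.vN, e b hb⟩⟩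
  have hXe : X = ((A ⊓ B : Subgroup G) : Set G) := by
    apply Set.eq_of_subset_of_ncard_le hXs _ (Set.toFinite _)
    have h6 : Nat.card (A ⊓ B : Subgroup G) = ((A ⊓ B : Subgroup G) : Set G).ncard := rfl
    omega
  intro x hx hxW
  have h9 : x ∈ ((A ⊓ B : Subgroup G) : Set G) := ⟨⟨hx, hxW a ha⟩, ⟨hx, hxW b hb⟩⟩
  rw [← hXe] at h9
  rcases h9 with h9 | ⟨y, hy, rfl⟩
  · exact Or.inl h9
  · right
    rw [mul_assoc, h.sq v h.vN, mul_one]
    exact hy

/-- A functional on `W`: zero, or with kernel `{1, k}`. -/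
theorem ker [Finite G] {x : G} (hx : x ∈ N) (hne : ∃ c ∈ W, pol Q x c = 1) :
    ∃ k ∈ W, k ≠ 1 ∧ pol Q x k = 0 ∧ ∀ w ∈ W, w ≠ 1 → w ≠ k → pol Q x w = 1 := by
  classical
  obtain ⟨c, hc, hxc⟩ := hne
  have hc1 : c ≠ 1 := by
    rintro rfl
    rw [h.one_right hx] at hxc
    exact absurd hxc (by decide)
  obtain ⟨b, hb, hb1, hbc⟩ : ∃ b ∈ W, b ≠ 1 ∧ b ≠ c := by
    by_contra hcon
    push Not at hcon
    have h5 : (W : Set G).ncard ≤ ({1, c} : Finset G).card := by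
      rw [← Set.ncard_coe_finset]
      apply Set.ncard_le_ncard _ (Set.toFinite _)
      intro y hy
      by_cases h1 : y = 1
      · simp [h1]
      · simp [hcon y hy h1]
    have h6 : Nat.card W = (W : Set G).ncard := rfl
    have h7 := Finset.card_le_two (a := (1 : G)) (b := c)
    have h8 := h.cW
    omega
  have hsq : ∀ x ∈ W, x * x = 1 := fun x hx => h.sq x (h.WN hx)
  obtain ⟨k, hk, hk1, hxk⟩ : ∃ k ∈ W, k ≠ 1 ∧ pol Q x k = 0 := by
    rcases z2 (pol Q x b) with h1 | h1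
    · exact ⟨b, hb, hb1, h1⟩
    · refine ⟨b * c, W.mul_mem hb hc, fun e => hbc ?_, ?_⟩
      · calc b = b * (c * c) := by rw [hsq c hc, mul_one]
          _ = c := by rw [← mul_assoc, e, one_mul]
      · rw [h.add' (h.WN hb) (h.WN hc) hx, h1, hxc]; decide
  refine ⟨k, hk, hk1, hxk, fun w hw hw1 hwk => ?_⟩
  by_contra h2
  have h3 := (z2 _).resolve_right h2
  rcases four_mem h.cW hsq hk hw hk1 hw1 (Ne.symm hwk) hc with h4 | h4 | h4 | h4
  · exact hc1 h4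
  · rw [h4, hxk] at hxc; exact absurd hxc (by decide)
  · rw [h4, h3] at hxc; exact absurd hxc (by decide)
  · rw [h4, h.add' (h.WN hk) (h.WN hw) hx, hxk, h3] at hxc; exact absurd hxc (by decide)

/-- An invariant subgroup `F ≥ W` without `v` is `W` or has index 2. -/
theorem dich [Finite G] {F L : Subgroup G} (hFN : F ≤ N) (hWF : W ≤ F) (hvF : v ∉ F) (hLC : L ≤ C)
    (hLF : L ≤ normalizer (F : Set G)) (hLW : ∀ l ∈ L, ∀ w ∈ W, l * w * l⁻¹ ∈ W)
    (htr : ∀ a ∈ W, a ≠ 1 → ∀ b ∈ W, b ≠ 1 → ∃ l ∈ L, l * a * l⁻¹ = b) :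
    F = W ∨ ∀ y ∈ N, y ∈ F ∨ y * v ∈ F := by
  by_cases hF : ∀ x ∈ F, ∀ y ∈ W, pol Q x y = 0
  · left
    refine le_antisymm (fun x hx => ?_) hWF
    rcases h.perp x (hFN hx) (hF x hx) with h1 | h1
    · exact h1
    · exfalso
      apply hvF
      have := F.mul_mem (F.inv_mem hx) (hWF h1)
      rwa [inv_mul_cancel_left] at this
  · right
    push Not at hF
    obtain ⟨x, hx, c, hc, hxc⟩ := hF
    have hxc' := (z2 _).resolve_left hxc
    obtain ⟨k, hk, hk1, hxk, hxk'⟩ := h.ker (hFN hx) ⟨c, hc, hxc'⟩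
    intro y hy
    by_cases hyW : ∀ w ∈ W, pol Q y w = 0
    · rcases h.perp y hy hyW with h1 | h1
      · exact Or.inl (hWF h1)
      · exact Or.inr (hWF h1)
    · push Not at hyW
      obtain ⟨d, hd, hyd⟩ := hyW
      obtain ⟨m, hm, hm1, hym, hym'⟩ := h.ker hy ⟨d, hd, (z2 _).resolve_left hyd⟩
      obtain ⟨l, hl, hlk⟩ := htr k hk hk1 m hm hm1
      set x' := l * x * l⁻¹ with hx'
      have hx'F : x' ∈ F := (mem_normalizer_iff.1 (hLF hl) x).1 hx
      -- `f(x', w) = f(x, l⁻¹ w l)`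
      have h1 : ∀ w ∈ W, pol Q x' w = pol Q x (l⁻¹ * w * l) := by
        intro w hw
        have h2 : l⁻¹ * w * l ∈ W := by
          have := hLW l⁻¹ (L.inv_mem hl) w hw
          rwa [inv_inv] at this
        have h3 := h.pol_inv (hLC hl) (hFN hx) (h.WN h2)
        have h4 : l * (l⁻¹ * w * l) * l⁻¹ = w := by group
        rw [h4] at h3
        exact h3
      have h2 : ∀ w ∈ W, pol Q (x' * y) w = 0 := by
        intro w hw
        rw [h.add x' (hFN hx'F) y hy w (h.WN hw)]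
        by_cases hw1 : w = 1
        · rw [hw1, h.one_right (hFN hx'F), h.one_right hy, add_zero]
        by_cases hwm : w = m
        · rw [hwm, hym, h1 m hm, ← hlk]
          have e : l⁻¹ * (l * k * l⁻¹) * l = k := by group
          rw [e, hxk, add_zero]
        · have h3 : l⁻¹ * w * l ∈ W := by
            have := hLW l⁻¹ (L.inv_mem hl) w hw
            rwa [inv_inv] at this
          rw [hym' w hw hw1 hwm, h1 w hw, hxk' _ h3 (fun e => hw1 ?_) (fun e => hwm ?_)]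
          · decide
          · calc w = l * (l⁻¹ * w * l) * l⁻¹ := by group
              _ = 1 := by rw [e]; group
          · calc w = l * (l⁻¹ * w * l) * l⁻¹ := by group
              _ = m := by rw [e, hlk]
      have h3 : ∀ t, x' * y * t ∈ F → y * t ∈ F := fun t ht => by
        have := F.mul_mem (F.inv_mem hx'F) ht
        have e : x'⁻¹ * (x' * y * t) = y * t := by group
        rwa [e] at this
      rcases h.perp _ (N.mul_mem (hFN hx'F) hy) h2 with h4 | h4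
      · left
        have := h3 1 (by rw [mul_one]; exact hWF h4)
        rwa [mul_one] at this
      · exact Or.inr (h3 v (hWF h4))

end Frm

end Cfsg.Agent.Omega.IId.SpForm

end

section


/-!
# II.d, CASE 1, `q = 2`: the rank argument (bb OMEGA #15930 (C))

helper310.  `GOrth C N r c`; `R ≤ N` totally isotropic, `r ∈ R`, `c ∉ R`; `M = C_C(r)`.  If among any three elements
of `M` not normalising `R` two lie in the same double coset of `N_M(R)`, and `|R| > 4`, then `|R| = 8` and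
`R` is the set of singular vectors of `R^⊥`; `|N| = 128`.
-/

set_option autoImplicit false
set_option linter.unusedSectionVars false
set_option linter.unusedVariables false

namespace Cfsg.Agent.Omega.IId.PlaneRk

open Cfsg.Agent.Omega.TV hiding z2
open Subgroup Cfsg.Agent.Omega.IId.PlaneSy
open Cfsg.Agent.Omega.IId.SpForm (two_mul_card_le)
open Cfsg.Agent.Omega.IId.SpSide (card_le_two_mul)

variable {G : Type*} [Group G]

theorem mem_zp2 {c x : G} (hc : c * c = 1) : x ∈ zpowers c ↔ x = 1 ∨ x = c := by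
  constructor
  · intro hx
    obtain ⟨k, rfl⟩ := mem_zpowers_iff.1 hx
    have h2 : c ^ (2 : ℤ) = 1 := by rw [zpow_two, hc]
    rcases Int.even_or_odd' k with ⟨m, hm | hm⟩
    · left
      rw [hm, zpow_mul, h2, one_zpow]
    · right
      rw [hm, zpow_add, zpow_mul, h2, one_zpow, one_mul, zpow_one]
  · rintro (rfl | rfl)
    · exact one_mem _
    · exact mem_zpowers _

/-- kernel of a nonzero functional -/
theorem card_ker [Finite G] {A K : Subgroup G} {f : G → ZMod 2} (hadd : ∀ x ∈ A, ∀ y ∈ A, f (x * y) = f x + f y)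
    (hK : ∀ x, x ∈ K ↔ x ∈ A ∧ f x = 0) (hne : ∃ x ∈ A, f x = 1) : Nat.card A = 2 * Nat.card K := by
  have hKA : K ≤ A := fun x hx => ((hK x).1 hx).1
  have f1 : f 1 = 0 := by
    have := hadd 1 A.one_mem 1 A.one_mem
    rw [one_mul, z2_self] at this
    exact this
  apply le_antisymm
  · have h1 := card_le_two_mul (K := K) (H := A) (fun x hx y hy hxK hyK => by
      have hx1 : f x = 1 := (z2 _).resolve_left fun e => hxK ((hK x).2 ⟨hx, e⟩)
      have hy1 : f y = 1 := (z2 _).resolve_left fun e => hyK ((hK y).2 ⟨hy, e⟩)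
      refine (hK _).2 ⟨mul_mem (inv_mem hx) hy, ?_⟩
      have h2 := hadd x⁻¹ (inv_mem hx) x hx
      rw [inv_mul_cancel, f1, hx1] at h2
      rw [hadd _ (inv_mem hx) _ hy, hy1, ← h2])
    rwa [inf_eq_left.2 hKA] at h1
  · obtain ⟨x, hx, hx1⟩ := hne
    exact two_mul_card_le hKA ⟨x, hx, fun e => by
      rw [((hK x).1 e).2] at hx1
      exact absurd hx1 (by decide)⟩

/-! ### symplectic systems from an orthogonal module -/

/-- The symplectic system of an orthogonal module. -/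
theorem sy_of {C N : Subgroup G} {r c : G} (h : GOrth C N r c) : Sy C N (zpowers c) (Bg C r) where
  sq := h.sq
  nor := h.nor
  YP := zpowers_le.2 h.c_mem
  add := h.add
  comm := h.comm
  self := h.self
  inv := fun g hg x hx y hy => h.B_inv hg hx hy
  zero := fun x hx y hy => by
    rcases (mem_zp2 (h.sq c h.c_mem)).1 hx with rfl | rfl
    · rw [h.comm _ N.one_mem _ hy]; exact GOrth.Bone
    · exact h.Bc y hy
  rad := fun x hx hx0 => (mem_zp2 (h.sq c h.c_mem)).2 (h.rad x hx hx0)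
  tv := fun z hz hzY => by
    have hcc := h.sq c h.c_mem
    have hz1 : z ≠ 1 := fun e => hzY (e ▸ one_mem _)
    have hzc : z ≠ c := fun e => hzY (e ▸ mem_zpowers c)
    rcases z2 (Qg C r z) with hQ | hQ
    · obtain ⟨g, hg, hgn⟩ := h.refl z hz hz1 hQ
      exact ⟨z * c, mul_mem hz h.c_mem, by
        rw [← mul_assoc, h.sq z hz, one_mul]; exact mem_zpowers c, g, hg, hgn⟩
    · have hzc1 : z * c ≠ 1 := fun e => hzc (by
        calc z = z * (c * c) := by rw [hcc, mul_one]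
          _ = c := by rw [← mul_assoc, e, one_mul])
      obtain ⟨g, hg, hgn⟩ := h.refl (z * c) (mul_mem hz h.c_mem) hzc1 (by rw [h.Qmulc hz, hQ]; decide)
      refine ⟨z, hz, by rw [h.sq z hz]; exact one_mem _, g, hg, fun n hn => ?_⟩
      have e1 : Bg C r (z * c) n = Bg C r z n := by
        rw [h.add_left hz h.c_mem hn, h.Bc n hn, add_zero]
      have e2 : z * c * c = z := by rw [mul_assoc, hcc, mul_one]
      rw [← e1, ← e2]
      simpa only [mul_assoc, hcc, _root_.mul_one] using hgn n hn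

section perp

variable {M P Y : Subgroup G} {B : G → G → ZMod 2} (h : Sy M P Y B)
include h

/-- `⟨Y, r⟩` -/
def yr {r : G} (hr : r ∈ P) : Subgroup G where
  carrier := {x | x ∈ Y ∨ (x ∈ P ∧ x * r ∈ Y)}
  one_mem' := Or.inl (one_mem _)
  mul_mem' := by
    rintro x y (hx | ⟨hx, hx'⟩) (hy | ⟨hy, hy'⟩)
    · exact Or.inl (mul_mem hx hy)
    · exact Or.inr ⟨mul_mem (h.YP hx) hy, by rw [mul_assoc]; exact mul_mem hx hy'⟩
    · refine Or.inr ⟨mul_mem hx (h.YP hy), ?_⟩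
      rw [mul_assoc, h.mc (h.YP hy) hr, ← mul_assoc]
      exact mul_mem hx' hy
    · left
      have e : x * y = x * r * (y * r) := by
        have h1 : x * r * (y * r) = x * (r * (y * r)) := by group
        rw [h1, ← mul_assoc r, h.mc hr hy, mul_assoc y, h.sq r hr, mul_one]
      rw [e]
      exact mul_mem hx' hy'
  inv_mem' := by
    rintro x (hx | ⟨hx, hx'⟩)
    · exact Or.inl (inv_mem hx)
    · exact Or.inr ⟨inv_mem hx, by rw [h.iv hx]; exact hx'⟩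

/-- The symplectic system on `r^⊥`. -/
theorem sy_perp {r : G} (hr : r ∈ P) : Sy (M ⊓ centralizer {r}) (h.pp hr) (yr h hr) B where
  sq := fun x hx => h.sq x hx.1
  nor := fun g hg x hx => by
    refine ⟨h.nor g hg.1 x hx.1, ?_⟩
    have e : r = g * r * g⁻¹ := by
      rw [mem_centralizer_singleton_iff.1 hg.2, mul_inv_cancel_right]
    rw [e, h.inv g hg.1 r hr x hx.1]
    exact hx.2
  YP := by
    rintro x (hx | ⟨hx, hx'⟩)
    · exact ⟨h.YP hx, by rw [h.comm _ hr _ (h.YP hx)]; exact h.zero x hx r hr⟩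
    · refine ⟨hx, ?_⟩
      have h1 := h.zero _ hx' r hr
      rw [h.add_left hx hr hr, h.self r hr, add_zero] at h1
      rw [h.comm _ hr _ hx, h1]
  add := fun x hx y hy z hz => h.add x hx.1 y hy.1 z hz.1
  comm := fun x hx y hy => h.comm x hx.1 y hy.1
  self := fun x hx => h.self x hx.1
  inv := fun g hg x hx y hy => h.inv g hg.1 x hx.1 y hy.1
  zero := by
    rintro x (hx | ⟨hx, hx'⟩) y hy
    · exact h.zero x hx y hy.1
    · have h1 := h.zero _ hx' y hy.1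
      rw [h.add_left hx hr hy.1, hy.2, add_zero] at h1
      exact h1
  rad := fun x hx hx0 => by
    rcases h.radstep le_rfl hr hx.1 (fun z hz hz0 => hx0 z ⟨hz, hz0⟩) with h1 | h1
    · exact Or.inl (h.rad x hx.1 h1)
    · exact Or.inr ⟨hx.1, h.rad _ (mul_mem hx.1 hr) h1⟩
  tv := fun z hz hzY => by
    obtain ⟨z', hz', hzz, g, hg, hgn⟩ := h.tv z hz.1 fun e => hzY (Or.inl e)
    refine ⟨z', ⟨hz', ?_⟩, Or.inl hzz, g, ⟨hg, ?_⟩, fun n hn => hgn n hn.1⟩
    · have h1 := hz.2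
      rw [h.comm _ hr _ hz.1, h.congr hz.1 hz' hr hzz] at h1
      rw [h.comm _ hr _ hz', h1]
    · rcases hgn r hr with ⟨-, h1⟩ | ⟨h1, -⟩
      · exact mem_centralizer_singleton_iff.2 (mul_inv_eq_iff_eq_mul.1 h1)
      · rw [h.comm _ hz.1 _ hr, hz.2] at h1
        exact absurd h1 (by decide)

end perp

/-! ### The rank argument -/

/-- `{t ∈ R | m t m⁻¹ ∈ R}` -/
def II (R : Subgroup G) (m : G) : Subgroup G where
  carrier := {t | t ∈ R ∧ m * t * m⁻¹ ∈ R}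
  one_mem' := ⟨one_mem _, by simp⟩
  mul_mem' := by
    rintro x y ⟨hx, hx'⟩ ⟨hy, hy'⟩
    refine ⟨mul_mem hx hy, ?_⟩
    have e : m * (x * y) * m⁻¹ = m * x * m⁻¹ * (m * y * m⁻¹) := by group
    rw [e]
    exact mul_mem hx' hy'
  inv_mem' := by
    rintro x ⟨hx, hx'⟩
    refine ⟨inv_mem hx, ?_⟩
    have e : m * x⁻¹ * m⁻¹ = (m * x * m⁻¹)⁻¹ := by group
    rw [e]
    exact inv_mem hx'

/-- `m' = a m b` with `a`, `b` in `C`, normalising `R` -/
def DN (C R : Subgroup G) (m m' : G) : Prop :=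
  ∃ a ∈ C ⊓ normalizer (R : Set G), ∃ b ∈ C ⊓ normalizer (R : Set G), m' = a * m * b

theorem DN.card {C R : Subgroup G} {m m' : G} (h : DN C R m m') : Nat.card (II R m') = Nat.card (II R m) := by
  obtain ⟨a, ha, b, hb, rfl⟩ := h
  refine Nat.card_congr
    { toFun := fun t => ⟨b * t * b⁻¹, (mem_normalizer_iff.1 hb.2 _).1 t.2.1, ?_⟩
      invFun := fun t => ⟨b⁻¹ * t * b, ?_, ?_⟩
      left_inv := fun t => Subtype.ext (by show b⁻¹ * (b * t * b⁻¹) * b = t; group)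
      right_inv := fun t => Subtype.ext (by show b * (b⁻¹ * t * b) * b⁻¹ = t; group) }
  · have h1 := (mem_normalizer_iff.1 (inv_mem ha.2) _).1 t.2.2
    have e : a⁻¹ * (a * m * b * t * (a * m * b)⁻¹) * a⁻¹⁻¹ = m * (b * t * b⁻¹) * m⁻¹ := by group
    rwa [e] at h1
  · have h1 := (mem_normalizer_iff.1 (inv_mem hb.2) _).1 t.2.1
    rwa [inv_inv] at h1
  · have h1 := (mem_normalizer_iff.1 ha.2 _).1 t.2.2
    have e : a * (m * t * m⁻¹) * a⁻¹ = a * m * b * (b⁻¹ * t * b) * (a * m * b)⁻¹ := by group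
    rwa [e] at h1

structure Rk (C N R : Subgroup G) (r c : G) : Prop where
  o : GOrth C N r c
  RN : R ≤ N
  rR : r ∈ R
  r1 : r ≠ 1
  cR : c ∉ R
  iso : ∀ x ∈ R, ∀ y ∈ R, Bg C r x y = 0
  pig : ∀ m₁ ∈ C ⊓ centralizer {r}, ∀ m₂ ∈ C ⊓ centralizer {r}, ∀ m₃ ∈ C ⊓ centralizer {r},
    m₁ ∉ normalizer (R : Set G) → m₂ ∉ normalizer (R : Set G) → m₃ ∉ normalizer (R : Set G) →
    DN C R m₁ m₂ ∨ DN C R m₁ m₃ ∨ DN C R m₂ m₃

namespace Rk

variable {C N R : Subgroup G} {r c : G} (h : Rk C N R r c)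
include h

theorem cc : c * c = 1 := h.o.sq c h.o.c_mem

/-- elements of `R` are outside the radical -/
theorem not_zp {t : G} (ht : t ∈ R) (ht1 : t ≠ 1) : t ∉ zpowers c := fun e => by
  rcases (mem_zp2 h.cc).1 e with h1 | h1
  · exact ht1 h1
  · exact h.cR (h1 ▸ ht)

/-- a functional vanishing on `r`, not on `t` -/
theorem exists_dual {t : G} (ht : t ∈ R) (ht1 : t ≠ 1) (htr : t ≠ r) : ∃ d ∈ N, Bg C r d r = 0 ∧ Bg C r d t = 1 := by
  have hs := sy_of h.o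
  have hrr := h.o.sq r h.o.r_mem
  have h1 : t * r ≠ 1 := fun e => htr (by
    calc t = t * (r * r) := by rw [hrr, mul_one]
      _ = r := by rw [← mul_assoc, e, one_mul])
  obtain ⟨z, hz, z1, z0⟩ := hs.sep2 (h.RN ht) (h.RN h.rR) (h.not_zp ht ht1) (h.not_zp (mul_mem ht h.rR) h1)
  exact ⟨z, hz, by rw [h.o.comm _ hz _ h.o.r_mem]; exact z0, by rw [h.o.comm _ hz _ (h.RN ht)]; exact z1⟩

/-- the transvection `τ_d` -/
theorem exists_tau {d t : G} (hd : d ∈ N) (hdr : Bg C r d r = 0) (ht : t ∈ N) (hdt : Bg C r d t = 1) :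
    ∃ d' ∈ N, d * d' ∈ zpowers c ∧ (∀ n ∈ N, Bg C r d' n = Bg C r d n) ∧ ∃ g ∈ C ⊓ centralizer {r}, ∀ n ∈ N,
      (Bg C r d n = 0 ∧ g * n * g⁻¹ = n) ∨ (Bg C r d n = 1 ∧ g * n * g⁻¹ = n * d') := by
  have hs := sy_of h.o
  obtain ⟨d', hd', hdd, g, hg, hgn⟩ := hs.tv d hd (hs.not_mem_of ht hdt)
  refine ⟨d', hd', hdd, fun n hn => (hs.congr hd hd' hn hdd).symm, g, ⟨hg, ?_⟩, hgn⟩
  rcases hgn r h.o.r_mem with ⟨-, h1⟩ | ⟨h1, -⟩
  · exact mem_centralizer_singleton_iff.2 (mul_inv_eq_iff_eq_mul.1 h1)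
  · rw [hdr] at h1; exact absurd h1 (by decide)

/-- One more transvection. -/
theorem next [Finite G] {m : G} {S : Subgroup G} (hm : m ∈ C ⊓ centralizer {r}) (hS : S ≤ R) (hrS : r ∈ S)
    (hmS : ∀ t ∈ R, m * t * m⁻¹ ∈ R ↔ t ∈ S) (hmf : ∀ t ∈ S, m * t * m⁻¹ = t) (hc : 2 < Nat.card S) :
    ∃ m' ∈ C ⊓ centralizer {r}, ∃ S' ≤ R, r ∈ S' ∧ (∀ t ∈ R, m' * t * m'⁻¹ ∈ R ↔ t ∈ S') ∧
      (∀ t ∈ S', m' * t * m'⁻¹ = t) ∧ Nat.card S = 2 * Nat.card S' ∧
      ∃ t ∈ R, Bg C r t (m' * t * m'⁻¹) = 1 := by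
  have hs := sy_of h.o
  -- an element of `S` outside `{1, r}`
  obtain ⟨t₀, ht₀, ht1, htr⟩ : ∃ t ∈ S, t ≠ 1 ∧ t ≠ r := by
    by_contra hcon
    push Not at hcon
    have h1 : S ≤ zpowers r := by
      intro x hx
      by_cases hx1 : x = 1
      · rw [hx1]; exact one_mem _
      · rw [hcon x hx hx1]; exact mem_zpowers _
    have h2 := Subgroup.card_le_of_le h1
    rw [Nat.card_zpowers] at h2
    have h3 : orderOf r ≤ 2 := orderOf_le_of_pow_eq_one (by norm_num) (by rw [pow_two, h.o.sq r h.o.r_mem])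
    omega
  have ht₀N := h.RN (hS ht₀)
  obtain ⟨d, hd, dr, dt⟩ := h.exists_dual (hS ht₀) ht1 htr
  obtain ⟨d', hd', -, hdB, g, hg, hgn⟩ := h.exists_tau hd dr ht₀N dt
  -- `S' = S ∩ d^⊥`
  refine ⟨g * m, mul_mem hg hm, S ⊓ hs.pp hd, inf_le_left.trans hS, ⟨hrS, h.o.r_mem, dr⟩, ?_, ?_, ?_, ?_⟩
  · intro t ht
    have e : g * m * t * (g * m)⁻¹ = g * (m * t * m⁻¹) * g⁻¹ := by group
    rw [e]
    have hx := h.o.nor m hm.1 t (h.RN ht)
    -- `m t m⁻¹ ⊥ S`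
    have hxS : Bg C r (m * t * m⁻¹) t₀ = 0 := by
      rw [← hmf t₀ ht₀, h.o.B_inv hm.1 (h.RN ht) ht₀N]
      exact h.iso t ht t₀ (hS ht₀)
    rcases hgn _ hx with ⟨h1, h2⟩ | ⟨h1, h2⟩
    · rw [h2, hmS t ht]
      constructor
      · intro h3
        rw [hmf t h3] at h1
        exact ⟨h3, h.RN ht, h1⟩
      · exact fun h3 => h3.1
    · rw [h2]
      constructor
      · intro h3
        exfalso
        have h4 := h.iso _ h3 t₀ (hS ht₀)
        rw [h.o.add_left hx hd' ht₀N, hxS, hdB t₀ ht₀N, dt] at h4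
        exact absurd h4 (by decide)
      · intro h3
        rw [hmf t h3.1, h3.2.2] at h1
        exact absurd h1 (by decide)
  · intro t ht
    have e : g * m * t * (g * m)⁻¹ = g * (m * t * m⁻¹) * g⁻¹ := by group
    rw [e, hmf t ht.1]
    rcases hgn _ (h.RN (hS ht.1)) with ⟨-, h2⟩ | ⟨h1, -⟩
    · exact h2
    · rw [ht.2.2] at h1; exact absurd h1 (by decide)
  · refine card_ker (f := Bg C r d) (fun x hx y hy => h.o.add d hd x (h.RN (hS hx)) y (h.RN (hS hy))) (fun x => ?_)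
      ⟨t₀, ht₀, dt⟩
    exact ⟨fun hx => ⟨hx.1, hx.2.2⟩, fun hx => ⟨hx.1, h.RN (hS hx.1), hx.2⟩⟩
  · refine ⟨t₀, hS ht₀, ?_⟩
    have e : g * m * t₀ * (g * m)⁻¹ = g * (m * t₀ * m⁻¹) * g⁻¹ := by group
    rw [e, hmf t₀ ht₀]
    rcases hgn _ ht₀N with ⟨h1, -⟩ | ⟨-, h2⟩
    · rw [dt] at h1; exact absurd h1 (by decide)
    · rw [h2, h.o.add _ ht₀N _ ht₀N _ hd', h.o.self _ ht₀N, h.o.comm _ ht₀N _ hd', hdB _ ht₀N, dt]; decide

theorem card_II {m : G} {S : Subgroup G} (hS : S ≤ R) (hmS : ∀ t ∈ R, m * t * m⁻¹ ∈ R ↔ t ∈ S) : II R m = S := by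
  ext t
  exact ⟨fun ht => (hmS t ht.1).1 ht.2, fun ht => ⟨hS ht, (hmS t (hS ht)).2 ht⟩⟩

/-- `m` normalises `R` iff `II R m = R` -/
theorem not_norm {m : G} {S : Subgroup G} [Finite G] (hS : S ≤ R) (hmS : ∀ t ∈ R, m * t * m⁻¹ ∈ R ↔ t ∈ S)
    (hc : Nat.card S < Nat.card R) : m ∉ normalizer (R : Set G) := fun hm => by
  have h1 : R ≤ S := fun t ht => (hmS t ht).1 ((mem_normalizer_iff.1 hm t).1 ht)
  have h2 := Subgroup.card_le_of_le h1
  omega

/-- The first two elements. -/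
theorem two_steps [Finite G] (h4 : 4 < Nat.card R) : ∃ m₁ ∈ C ⊓ centralizer {r}, ∃ m₂ ∈ C ⊓ centralizer {r},
    ∃ S₁ ≤ R, ∃ S₂ ≤ R, r ∈ S₂ ∧ (∀ t ∈ R, m₁ * t * m₁⁻¹ ∈ R ↔ t ∈ S₁) ∧ (∀ t ∈ R, m₂ * t * m₂⁻¹ ∈ R ↔ t ∈ S₂) ∧
      (∀ t ∈ S₂, m₂ * t * m₂⁻¹ = t) ∧ Nat.card R = 2 * Nat.card S₁ ∧ Nat.card S₁ = 2 * Nat.card S₂ ∧
      ∃ t ∈ R, Bg C r t (m₁ * t * m₁⁻¹) = 1 := by
  obtain ⟨m₁, hm₁, S₁, hS₁, hr₁, hmS₁, hmf₁, hc₁, hn⟩ := h.next (m := 1) (S := R) (one_mem _) le_rfl h.rR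
    (fun t ht => by simp [ht]) (fun t _ => by group) (by omega)
  obtain ⟨m₂, hm₂, S₂, hS₂, hr₂, hmS₂, hmf₂, hc₂, -⟩ := h.next hm₁ hS₁ hr₁ hmS₁ hmf₁ (by omega)
  exact ⟨m₁, hm₁, m₂, hm₂, S₁, hS₁, S₂, hS₂, hr₂, hmS₁, hmS₂, hmf₂, hc₁, hc₂, hn⟩

/-- `|R| = 8` -/
theorem card_eq [Finite G] (h4 : 4 < Nat.card R) : Nat.card R = 8 := by
  obtain ⟨m₁, hm₁, m₂, hm₂, S₁, hS₁, S₂, hS₂, hr₂, hmS₁, hmS₂, hmf₂, hc₁, hc₂, -⟩ := h.two_steps h4
  have h2 : 1 < Nat.card S₂ := by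
    have : Nontrivial S₂ := ⟨⟨1, ⟨r, hr₂⟩, fun e => h.r1 (congrArg Subtype.val e).symm⟩⟩
    exact Finite.one_lt_card
  rcases Nat.lt_or_ge 2 (Nat.card S₂) with h3 | h3
  · exfalso
    obtain ⟨m₃, hm₃, S₃, hS₃, hr₃, hmS₃, hmf₃, hc₃, -⟩ := h.next hm₂ hS₂ hr₂ hmS₂ hmf₂ h3
    have p3 : 0 < Nat.card S₃ := Nat.card_pos
    have e1 := h.card_II hS₁ hmS₁
    have e2 := h.card_II hS₂ hmS₂
    have e3 := h.card_II hS₃ hmS₃
    rcases h.pig m₁ hm₁ m₂ hm₂ m₃ hm₃ (h.not_norm hS₁ hmS₁ (by omega)) (h.not_norm hS₂ hmS₂ (by omega))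
      (h.not_norm hS₃ hmS₃ (by omega)) with h5 | h5 | h5
    · have := h5.card
      rw [e1, e2] at this; omega
    · have := h5.card
      rw [e1, e3] at this; omega
    · have := h5.card
      rw [e2, e3] at this; omega
  · omega

/-- `R` is the set of singular vectors of `R^⊥`. -/
theorem sing [Finite G] (h4 : 4 < Nat.card R) {y : G} (hy : y ∈ N) (hyR : ∀ t ∈ R, Bg C r y t = 0)
    (hQ : Qg C r y = 0) : y ∈ R := by
  by_contra hyn
  have hs := sy_of h.o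
  obtain ⟨m₁, hm₁, m₂, hm₂, S₁, hS₁, S₂, hS₂, hr₂, hmS₁, hmS₂, hmf₂, hc₁, hc₂, t₁, ht₁, hn⟩ := h.two_steps h4
  have h8 := h.card_eq h4
  -- the vector `a`
  obtain ⟨a, ha, ar, ay, t₀, ht₀, at₀⟩ : ∃ a ∈ N, Bg C r a r = 0 ∧ Bg C r a y = 0 ∧ ∃ t ∈ R, Bg C r a t = 1 := by
    by_contra hcon
    push Not at hcon
    have key : ∀ t ∈ R, t = 1 ∨ t = r ∨ t = y * c ∨ t = y * c * r := by
      intro t ht
      have htN := h.RN ht
      have h0 : ∀ z ∈ hs.pp h.o.r_mem, Bg C r y z = 0 → Bg C r t z = 0 := by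
        intro z hz hyz
        have h1 := hcon z hz.1 (by rw [h.o.comm _ hz.1 _ h.o.r_mem]; exact hz.2)
          (by rw [h.o.comm _ hz.1 _ hy]; exact hyz) t ht
        rw [h.o.comm _ htN _ hz.1]
        exact (z2 _).resolve_right h1
      have fin : ∀ x ∈ N, (∀ z ∈ hs.pp h.o.r_mem, Bg C r x z = 0) → x = 1 ∨ x = c ∨ x * r = 1 ∨ x * r = c := by
        intro x hx hx0
        rcases hs.radstep le_rfl h.o.r_mem hx (fun z hz hz0 => hx0 z ⟨hz, hz0⟩) with h1 | h1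
        · rcases (mem_zp2 h.cc).1 (hs.rad x hx h1) with h2 | h2
          · exact Or.inl h2
          · exact Or.inr (Or.inl h2)
        · rcases (mem_zp2 h.cc).1 (hs.rad _ (mul_mem hx h.o.r_mem) h1) with h2 | h2
          · exact Or.inr (Or.inr (Or.inl h2))
          · exact Or.inr (Or.inr (Or.inr h2))
      have hrr := h.o.sq r h.o.r_mem
      have hyy := h.o.sq y hy
      have tr_of : t * r = 1 → t = r := fun e => by
        calc t = t * r * r := by rw [mul_assoc, hrr, mul_one]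
          _ = r := by rw [e, one_mul]
      rcases hs.radstep (Z := hs.pp h.o.r_mem) (fun z hz => hz.1) hy htN h0 with h1 | h1
      · rcases fin t htN h1 with h2 | h2 | h2 | h2
        · exact Or.inl h2
        · exact absurd (h2 ▸ ht) h.cR
        · exact Or.inr (Or.inl (tr_of h2))
        · exact absurd (h2 ▸ mul_mem ht h.rR) h.cR
      · have ty : ∀ x, t * y = x → t = x * y := fun x e => by
          rw [← e, mul_assoc, hyy, mul_one]
        have hcy : c * y = y * c := hs.mc h.o.c_mem hy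
        rcases fin _ (mul_mem htN hy) h1 with h2 | h2 | h2 | h2
        · exfalso
          apply hyn
          have := ty 1 h2
          rw [one_mul] at this
          exact this ▸ ht
        · right; right; left
          rw [ty c h2, hcy]
        · exfalso
          apply hyn
          have e1 : t * y = r := by
            calc t * y = t * y * r * r := by rw [mul_assoc _ r r, hrr, mul_one]
              _ = r := by rw [h2, one_mul]
          have e2 : y = t * r := by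
            rw [← e1, ← mul_assoc, h.o.sq t htN, one_mul]
          rw [e2]
          exact mul_mem ht h.rR
        · right; right; right
          have e1 : t * y = c * r := by
            calc t * y = t * y * r * r := by rw [mul_assoc _ r r, hrr, mul_one]
              _ = c * r := by rw [h2]
          rw [ty _ e1, mul_assoc, hs.mc h.o.r_mem hy, ← mul_assoc, hcy]
    -- `|R| ≤ 4`
    classical
    have h5 : (R : Set G) ⊆ (({1, r, y * c, y * c * r} : Finset G) : Set G) := by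
      intro t ht
      simpa only [_root_.Finset.coe_insert, _root_.Finset.coe_singleton, _root_.Set.mem_insert_iff, _root_.Set.mem_singleton_iff] using key t ht
    have h6 := Set.ncard_le_ncard h5 (Finset.finite_toSet _)
    rw [Set.ncard_coe_finset] at h6
    have h7 : Nat.card R = (R : Set G).ncard := Nat.card_coe_set_eq _
    have h9 : ({1, r, y * c, y * c * r} : Finset G).card ≤ 4 := Finset.card_le_four
    omega
  have ht₀N := h.RN ht₀
  have hay : a * y ∈ N := mul_mem ha hy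
  -- the two transvections
  obtain ⟨a', ha', haa, haB, g, hg, hgn⟩ := h.exists_tau ha ar ht₀N at₀
  obtain ⟨b', hb', hbb, hbB, k, hk, hkn⟩ := h.exists_tau hay
    (by rw [h.o.add_left ha hy h.o.r_mem, ar, hyR r h.rR, add_zero]) ht₀N
    (by rw [h.o.add_left ha hy ht₀N, at₀, hyR t₀ ht₀, add_zero])
  have hyr : ∀ x ∈ R, Bg C r (a * y) x = Bg C r a x := fun x hx => by
    rw [h.o.add_left ha hy (h.RN hx), hyR x hx, add_zero]
  -- action on `R`
  have act : ∀ x ∈ R, (Bg C r a x = 0 ∧ k * g * x * (k * g)⁻¹ = x) ∨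
      (Bg C r a x = 1 ∧ k * g * x * (k * g)⁻¹ = x * (a' * b')) := by
    intro x hx
    have hxN := h.RN hx
    have e : k * g * x * (k * g)⁻¹ = k * (g * x * g⁻¹) * k⁻¹ := by group
    rw [e]
    rcases hgn x hxN with ⟨h1, h2⟩ | ⟨h1, h2⟩
    · left
      refine ⟨h1, ?_⟩
      rw [h2]
      rcases hkn x hxN with ⟨-, h3⟩ | ⟨h3, -⟩
      · exact h3
      · rw [hyr x hx, h1] at h3; exact absurd h3 (by decide)
    · right
      refine ⟨h1, ?_⟩
      rw [h2]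
      rcases hkn _ (mul_mem hxN ha') with ⟨h3, -⟩ | ⟨-, h3⟩
      · exfalso
        rw [h.o.add _ hay _ hxN _ ha', hyr x hx, h1, h.o.add_left ha hy ha', h.o.comm _ ha _ ha', haB a ha,
          h.o.self a ha, h.o.comm _ hy _ ha', haB y hy, ay] at h3
        exact absurd h3 (by decide)
      · rw [h3, mul_assoc]
  -- `a'b' = y`
  have hcN := h.o.c_mem
  have hab : a' * b' = y := by
    have hyy : a' * b' = y ∨ a' * b' = y * c := by
      have e1 : a = a' ∨ a = c * a' := by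
        have haa' := h.o.sq a' ha'
        rcases (mem_zp2 h.cc).1 haa with e | e
        · left
          calc a = a * a' * a' := by rw [mul_assoc, haa', mul_one]
            _ = a' := by rw [e, one_mul]
        · right
          calc a = a * a' * a' := by rw [mul_assoc, haa', mul_one]
            _ = c * a' := by rw [e]
      have e2 : b' = a * y ∨ b' = a * y * c := by
        have hay2 := h.o.sq _ hay
        rcases (mem_zp2 h.cc).1 hbb with e | e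
        · left
          calc b' = a * y * (a * y * b') := by rw [← mul_assoc, hay2, one_mul]
            _ = a * y := by rw [e, mul_one]
        · right
          calc b' = a * y * (a * y * b') := by rw [← mul_assoc, hay2, one_mul]
            _ = a * y * c := by rw [e]
      have haa' := h.o.sq a' ha'
      have hca : c * a' = a' * c := hs.mc hcN ha'
      have hcy : c * y = y * c := hs.mc hcN hy
      rcases e1 with e1 | e1 <;> rcases e2 with e2 | e2 <;> rw [e2]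
      · left
        calc a' * (a * y) = a' * a * y := by group
          _ = y := by rw [e1, haa', one_mul]
      · right
        calc a' * (a * y * c) = a' * a * y * c := by group
          _ = y * c := by rw [e1, haa', one_mul]
      · right
        calc a' * (a * y) = a' * a * y := by group
          _ = a' * (a' * c) * y := by rw [e1, hca]
          _ = (a' * a') * (c * y) := by group
          _ = y * c := by rw [haa', one_mul, hcy]
      · left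
        calc a' * (a * y * c) = a' * a * y * c := by group
          _ = a' * (a' * c) * y * c := by rw [e1, hca]
          _ = (a' * a') * (c * y) * c := by group
          _ = y * (c * c) := by rw [haa', one_mul, hcy]; group
          _ = y := by rw [h.cc, mul_one]
    rcases hyy with e | e
    · exact e
    · exfalso
      rcases act t₀ ht₀ with ⟨h1, -⟩ | ⟨-, h2⟩
      · rw [at₀] at h1; exact absurd h1 (by decide)
      · have hyc : y * c ∈ N := mul_mem hy hcN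
        have h3 := h.o.inv _ (mul_mem hk hg).1 t₀ ht₀N
        rw [h2, e, GOrth.Q_mul, h.o.Qmulc hy, hQ, h.o.add _ ht₀N _ hy _ hcN, h.o.comm _ ht₀N _ hy, hyR t₀ ht₀,
          h.o.comm _ ht₀N _ hcN, h.o.Bc t₀ ht₀N] at h3
        have h4 : ∀ u : ZMod 2, u + (0 + 1) + (0 + 0) ≠ u := by decide
        exact h4 _ h3
  rw [hab] at act
  -- `S₃ = R ∩ a^⊥`
  have hS₃ : ∀ t ∈ R, k * g * t * (k * g)⁻¹ ∈ R ↔ t ∈ R ⊓ hs.pp ha := by
    intro t ht
    rcases act t ht with ⟨h1, h2⟩ | ⟨h1, h2⟩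
    · rw [h2]
      exact ⟨fun _ => ⟨ht, h.RN ht, h1⟩, fun _ => ht⟩
    · rw [h2]
      constructor
      · intro h3
        exfalso
        apply hyn
        have h4 := mul_mem (inv_mem ht) h3
        rwa [inv_mul_cancel_left] at h4
      · intro h3
        rw [h3.2.2] at h1
        exact absurd h1 (by decide)
  have hc₃ : Nat.card R = 2 * Nat.card (R ⊓ hs.pp ha : Subgroup G) := by
    refine card_ker (f := Bg C r a) (fun x hx y hy => h.o.add a ha x (h.RN hx) y (h.RN hy)) (fun x => ?_)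
      ⟨t₀, ht₀, at₀⟩
    exact ⟨fun hx => ⟨hx.1, hx.2.2⟩, fun hx => ⟨hx.1, h.RN hx.1, hx.2⟩⟩
  have hperp : ∀ t ∈ R, ∀ t' ∈ R, Bg C r t (k * g * t' * (k * g)⁻¹) = 0 := by
    intro t ht t' ht'
    rcases act t' ht' with ⟨-, h2⟩ | ⟨-, h2⟩
    · rw [h2]; exact h.iso t ht t' ht'
    · rw [h2, h.o.add _ (h.RN ht) _ (h.RN ht') _ hy, h.iso t ht t' ht', h.o.comm _ (h.RN ht) _ hy, hyR t ht, add_zero]
  have e1 := h.card_II hS₁ hmS₁
  have e2 := h.card_II hS₂ hmS₂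
  have e3 := h.card_II inf_le_left hS₃
  rcases h.pig m₁ hm₁ m₂ hm₂ (k * g) (mul_mem hk hg) (h.not_norm hS₁ hmS₁ (by omega))
    (h.not_norm hS₂ hmS₂ (by omega)) (h.not_norm inf_le_left hS₃ (by omega)) with h5 | h5 | h5
  · have := h5.card
    rw [e1, e2] at this; omega
  · -- both of index 2
    obtain ⟨u, hu, v, hv, e⟩ := h5
    have h6 := hperp (u * t₁ * u⁻¹) ((mem_normalizer_iff.1 hu.2 _).1 ht₁) (v⁻¹ * t₁ * v) (by
      have := (mem_normalizer_iff.1 (inv_mem hv.2) _).1 ht₁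
      rwa [inv_inv] at this)
    have e7 : k * g * (v⁻¹ * t₁ * v) * (k * g)⁻¹ = u * (m₁ * t₁ * m₁⁻¹) * u⁻¹ := by
      rw [e]; group
    rw [e7, h.o.B_inv hu.1 (h.RN ht₁) (h.o.nor _ hm₁.1 _ (h.RN ht₁)), hn] at h6
    exact absurd h6 (by decide)
  · have := h5.card
    rw [e2, e3] at this; omega

/-- `|N| = 128` -/
theorem card_N [Finite G] (h4 : 4 < Nat.card R) : Nat.card N = 128 := by
  have hs := sy_of h.o
  have h8 := h.card_eq h4
  have hcN := h.o.c_mem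
  -- `|r^⊥| = |N| / 2`, ...
  obtain ⟨m₁, hm₁, m₂, hm₂, S₁, hS₁, S₂, hS₂, hr₂, hmS₁, hmS₂, hmf₂, hc₁, hc₂, -⟩ := h.two_steps h4
  have hr₁ : r ∈ S₁ := (hmS₁ r h.rR).1 (by
    have : m₁ * r * m₁⁻¹ = r := by rw [mem_centralizer_singleton_iff.1 hm₁.2, mul_inv_cancel_right]
    rw [this]; exact h.rR)
  obtain ⟨t, ht, htr⟩ : ∃ t ∈ S₁, t ≠ 1 ∧ t ≠ r := by
    by_contra hcon
    push Not at hcon
    have h1 : S₁ ≤ zpowers r := by
      intro x hx
      by_cases hx1 : x = 1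
      · rw [hx1]; exact one_mem _
      · rw [hcon x hx hx1]; exact mem_zpowers _
    have h2 := Subgroup.card_le_of_le h1
    rw [Nat.card_zpowers] at h2
    have h3 : orderOf r ≤ 2 := orderOf_le_of_pow_eq_one (by norm_num) (by rw [pow_two, h.o.sq r h.o.r_mem])
    omega
  obtain ⟨u, hu, hu1⟩ : ∃ u ∈ R, u ∉ S₁ := by
    by_contra hcon
    push Not at hcon
    have := Subgroup.card_le_of_le (show R ≤ S₁ from hcon)
    omega
  have htR := hS₁ ht
  have htN := h.RN htR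
  have huN := h.RN hu
  have hrN := h.o.r_mem
  have hrr := h.o.sq r hrN
  have eqr : ∀ x y : G, y ∈ N → x * y = 1 → x = y := fun x y hy e => by
    calc x = x * (y * y) := by rw [h.o.sq y hy, mul_one]
      _ = y := by rw [← mul_assoc, e, one_mul]
  have n1 : t * r ∉ zpowers c := h.not_zp (mul_mem htR h.rR) fun e => htr.2 (eqr _ _ hrN e)
  have n2 : ∀ x ∈ S₁, u * x ∉ zpowers c := fun x hx => h.not_zp (mul_mem hu (hS₁ hx)) fun e =>
    hu1 (by rw [eqr u x (h.RN (hS₁ hx)) e]; exact hx)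
  obtain ⟨z₁, hz₁, z₁r⟩ := hs.sep1 hrN (h.not_zp h.rR h.r1)
  obtain ⟨z₂, hz₂, z₂t, z₂r⟩ := hs.sep2 htN hrN (h.not_zp htR htr.1) n1
  obtain ⟨z₃, hz₃, z₃u, z₃t, z₃r⟩ := hs.sep3 huN htN hrN (by simpa using n2 1 (one_mem _)) (n2 t ht) (n2 r hr₁)
    (by rw [mul_assoc]; exact n2 _ (mul_mem ht hr₁))
  have a1 : Nat.card N = 2 * Nat.card (hs.pp hrN) :=
    card_ker (f := Bg C r r) (fun x hx y hy => h.o.add r hrN x hx y hy) (fun x => Iff.rfl) ⟨z₁, hz₁, z₁r⟩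
  have a2 : Nat.card (hs.pp hrN) = 2 * Nat.card (hs.pp hrN ⊓ hs.pp htN : Subgroup G) :=
    card_ker (f := Bg C r t) (fun x hx y hy => h.o.add t htN x hx.1 y hy.1)
      (fun x => ⟨fun hx => ⟨hx.1, hx.2.2⟩, fun hx => ⟨hx.1, hx.1.1, hx.2⟩⟩) ⟨z₂, ⟨hz₂, z₂r⟩, z₂t⟩
  have a3 : Nat.card (hs.pp hrN ⊓ hs.pp htN : Subgroup G) =
      2 * Nat.card (hs.pp hrN ⊓ hs.pp htN ⊓ hs.pp huN : Subgroup G) :=
    card_ker (f := Bg C r u) (fun x hx y hy => h.o.add u huN x hx.1.1 y hy.1.1)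
      (fun x => ⟨fun hx => ⟨hx.1, hx.2.2⟩, fun hx => ⟨hx.1, hx.1.1.1, hx.2⟩⟩) ⟨z₃, ⟨⟨hz₃, z₃r⟩, ⟨hz₃, z₃t⟩⟩, z₃u⟩
  -- `R = ⟨r, t, u⟩`
  have hgen : ∀ x ∈ hs.pp hrN ⊓ hs.pp htN ⊓ hs.pp huN, ∀ y ∈ R, Bg C r x y = 0 := by
    intro x hx
    have hxN : x ∈ N := hx.1.1.1
    have hp : R ≤ hs.pp hxN := by
      have hle : R ⊓ hs.pp hxN ≤ R := inf_le_left
      -- a subgroup of `R` containing `r`, `t`, `u` is `R`
      have c1 : S₁ ≤ hs.pp hxN := by
        have h4 : 2 * Nat.card (zpowers r) ≤ Nat.card (S₁ ⊓ hs.pp hxN : Subgroup G) := by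
          refine two_mul_card_le (zpowers_le.2 ⟨hr₁, hrN, ?_⟩) ⟨t, ⟨ht, htN, ?_⟩, fun e => ?_⟩
          · rw [h.o.comm _ hxN _ hrN]; exact hx.1.1.2
          · rw [h.o.comm _ hxN _ htN]; exact hx.1.2.2
          · rcases (mem_zp2 hrr).1 e with e1 | e1
            · exact htr.1 e1
            · exact htr.2 e1
        have h5 : Nat.card (zpowers r) = 2 := by
          rw [Nat.card_zpowers]
          exact orderOf_eq_prime (by rw [pow_two, hrr]) h.r1
        have h6 : S₁ ⊓ hs.pp hxN = S₁ := Subgroup.eq_of_le_of_card_ge inf_le_left (by omega)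
        exact inf_eq_left.1 h6
      have h4 : 2 * Nat.card S₁ ≤ Nat.card (R ⊓ hs.pp hxN : Subgroup G) := by
        refine two_mul_card_le (le_inf hS₁ c1) ⟨u, ⟨hu, huN, ?_⟩, hu1⟩
        rw [h.o.comm _ hxN _ huN]; exact hx.2.2
      have h6 : R ⊓ hs.pp hxN = R := Subgroup.eq_of_le_of_card_ge inf_le_left (by omega)
      exact inf_eq_left.1 h6
    exact fun y hy => (hp hy).2
  -- `R^⊥ = R ∪ Rc`
  have a4 : Nat.card (hs.pp hrN ⊓ hs.pp htN ⊓ hs.pp huN : Subgroup G) = 2 * Nat.card R := by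
    have hRle : R ≤ hs.pp hrN ⊓ hs.pp htN ⊓ hs.pp huN := fun x hx =>
      ⟨⟨⟨h.RN hx, h.iso r h.rR x hx⟩, ⟨h.RN hx, h.iso t htR x hx⟩⟩, ⟨h.RN hx, h.iso u hu x hx⟩⟩
    apply le_antisymm
    · have h5 := card_le_two_mul (K := R) (H := hs.pp hrN ⊓ hs.pp htN ⊓ hs.pp huN) (fun x hx y hy hxR hyR => by
        have key : ∀ x ∈ hs.pp hrN ⊓ hs.pp htN ⊓ hs.pp huN, x ∉ R → x * c ∈ R := by
          intro x hx hxR
          have hxN : x ∈ N := hx.1.1.1
          rcases z2 (Qg C r x) with h6 | h6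
          · exact absurd (h.sing h4 hxN (hgen x hx) h6) hxR
          · refine h.sing h4 (mul_mem hxN hcN) (fun y hy => ?_) (by rw [h.o.Qmulc hxN, h6]; decide)
            rw [h.o.add_left hxN hcN (h.RN hy), hgen x hx y hy, h.o.Bc _ (h.RN hy), add_zero]
        have h6 := mul_mem (inv_mem (key x hx hxR)) (key y hy hyR)
        have hxN : x ∈ N := hx.1.1.1
        have hyN : y ∈ N := hy.1.1.1
        have e : (x * c)⁻¹ * (y * c) = x⁻¹ * y := by
          rw [hs.mc hxN hcN, mul_inv_rev, mul_assoc, hs.mc hyN hcN, ← mul_assoc c⁻¹, inv_mul_cancel, one_mul]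
        rwa [e] at h6)
      rwa [inf_eq_left.2 hRle] at h5
    · refine two_mul_card_le hRle ⟨c, ⟨⟨⟨hcN, ?_⟩, ⟨hcN, ?_⟩⟩, ⟨hcN, ?_⟩⟩, h.cR⟩
      · rw [h.o.comm _ hrN _ hcN]; exact h.o.Bc _ hrN
      · rw [h.o.comm _ htN _ hcN]; exact h.o.Bc _ htN
      · rw [h.o.comm _ huN _ hcN]; exact h.o.Bc _ huN
  omega

end Rk

end Cfsg.Agent.Omega.IId.PlaneRk

end

section


/-!
# II.d, CASE 1, `q = 2`, case B: counting with a pairing

helper310.  `dual_card` : a bi-additive pairing `f : A × H → F₂` with left kernel in `Y`, `K ≤ H` in the right kernel: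
`|A| |K| ≤ |Y| |H|`.
-/

set_option autoImplicit false
set_option linter.unusedVariables false

namespace Cfsg.Agent.Omega.IId.Pf.Dual

open Cfsg.Agent.Omega.TV hiding z2
open Subgroup Cfsg.Agent.Omega.IId.PlaneSy Cfsg.Agent.Omega.IId.PlaneRk
open Cfsg.Agent.Omega.IId.SpForm (two_mul_card_le)
open Cfsg.Agent.Omega.IId.SpSide (card_le_two_mul)

variable {G : Type*} [Group G]

/-- kernel of an additive function -/
def ker (A : Subgroup G) (f : G → ZMod 2) (hadd : ∀ x ∈ A, ∀ y ∈ A, f (x * y) = f x + f y) : Subgroup G where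
  carrier := {x | x ∈ A ∧ f x = 0}
  one_mem' := ⟨A.one_mem, by
    have := hadd 1 A.one_mem 1 A.one_mem
    rw [one_mul, z2_self] at this
    exact this⟩
  mul_mem' := by
    rintro x y ⟨hx, hx'⟩ ⟨hy, hy'⟩
    exact ⟨mul_mem hx hy, by rw [hadd x hx y hy, hx', hy', add_zero]⟩
  inv_mem' := by
    rintro x ⟨hx, hx'⟩
    refine ⟨inv_mem hx, ?_⟩
    have h1 := hadd 1 A.one_mem 1 A.one_mem
    rw [one_mul, z2_self] at h1
    have h2 := hadd x⁻¹ (inv_mem hx) x hx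
    rw [inv_mul_cancel, h1, hx', add_zero] at h2
    exact h2.symm

theorem mem_ker {A : Subgroup G} {f : G → ZMod 2} {hadd : ∀ x ∈ A, ∀ y ∈ A, f (x * y) = f x + f y} {x : G} :
    x ∈ ker A f hadd ↔ x ∈ A ∧ f x = 0 := Iff.rfl

theorem card_ker' [Finite G] {A : Subgroup G} {f : G → ZMod 2} (hadd : ∀ x ∈ A, ∀ y ∈ A, f (x * y) = f x + f y)
    (hne : ∃ x ∈ A, f x = 1) : Nat.card A = 2 * Nat.card (ker A f hadd) :=
  card_ker hadd (fun _ => Iff.rfl) hne

/-- the annihilator -/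
def ann (A H : Subgroup G) (f : G → G → ZMod 2) (hh : ∀ x ∈ A, ∀ y ∈ H, ∀ z ∈ H, f x (y * z) = f x y + f x z) :
    Subgroup G where
  carrier := {z | z ∈ H ∧ ∀ x ∈ A, f x z = 0}
  one_mem' := ⟨H.one_mem, fun x hx => by
    have := hh x hx 1 H.one_mem 1 H.one_mem
    rw [one_mul, z2_self] at this
    exact this⟩
  mul_mem' := by
    rintro y z ⟨hy, hy'⟩ ⟨hz, hz'⟩
    exact ⟨mul_mem hy hz, fun x hx => by rw [hh x hx y hy z hz, hy' x hx, hz' x hx, add_zero]⟩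
  inv_mem' := by
    rintro y ⟨hy, hy'⟩
    refine ⟨inv_mem hy, fun x hx => ?_⟩
    have h1 := hh x hx 1 H.one_mem 1 H.one_mem
    rw [one_mul, z2_self] at h1
    have h2 := hh x hx y⁻¹ (inv_mem hy) y hy
    rw [inv_mul_cancel, h1, hy' x hx, add_zero] at h2
    exact h2.symm

theorem dual_card [Finite G] {H Y : Subgroup G} {f : G → G → ZMod 2} (n : ℕ) : ∀ {A : Subgroup G}, Nat.card A = n →
    (∀ x ∈ A, ∀ y ∈ A, ∀ z ∈ H, f (x * y) z = f x z + f y z) →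
    (∀ x ∈ A, ∀ y ∈ H, ∀ z ∈ H, f x (y * z) = f x y + f x z) →
    (∀ x ∈ A, (∀ z ∈ H, f x z = 0) → x ∈ Y) → ∀ {K : Subgroup G}, K ≤ H → (∀ z ∈ K, ∀ x ∈ A, f x z = 0) →
    Nat.card A * Nat.card K ≤ Nat.card Y * Nat.card H := by
  induction n using Nat.strong_induction_on with
  | _ n ih =>
    intro A hn ha hh hY K hKH hK
    by_cases hAY : A ≤ Y
    · exact Nat.mul_le_mul (Subgroup.card_le_of_le hAY) (Subgroup.card_le_of_le hKH)
    obtain ⟨x, hx, hxY⟩ := SetLike.not_le_iff_exists.1 hAY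
    obtain ⟨z, hz, hxz⟩ : ∃ z ∈ H, f x z = 1 := by
      by_contra hcon
      push Not at hcon
      exact hxY (hY x hx fun z hz => (z2 _).resolve_right (hcon z hz))
    have hadd : ∀ x ∈ A, ∀ y ∈ A, f (x * y) z = f x z + f y z := fun x hx y hy => ha x hx y hy z hz
    have hc := card_ker' (f := fun x => f x z) hadd ⟨x, hx, hxz⟩
    set A' := ker A (fun x => f x z) hadd with hA'
    have hA'A : A' ≤ A := fun y hy => hy.1
    have hpos : 0 < Nat.card A' := Nat.card_pos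
    have hh' : ∀ x ∈ A', ∀ y ∈ H, ∀ z ∈ H, f x (y * z) = f x y + f x z := fun x hx => hh x (hA'A hx)
    have h1 := ih (Nat.card A') (by omega) (A := A') rfl (fun x hx y hy => ha x (hA'A hx) y (hA'A hy)) hh'
      (fun x hx => hY x (hA'A hx)) (K := ann A' H f hh') (fun y hy => hy.1) (fun y hy => hy.2)
    have h2 : 2 * Nat.card K ≤ Nat.card (ann A' H f hh') :=
      two_mul_card_le (fun y hy => ⟨hKH hy, fun x hx => hK y hy x (hA'A hx)⟩)
        ⟨z, ⟨hz, fun y hy => hy.2⟩, fun hzK => by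
          have := hK z hzK x hx
          rw [hxz] at this
          exact absurd this (by decide)⟩
    calc Nat.card A * Nat.card K = Nat.card A' * (2 * Nat.card K) := by rw [hc]; ring
      _ ≤ Nat.card A' * Nat.card (ann A' H f hh') := Nat.mul_le_mul_left _ h2
      _ ≤ _ := h1

/-- A totally isotropic subgroup meeting the radical trivially: `|A|² ≤ |N|`. -/
theorem card_iso [Finite G] {C N A : Subgroup G} {r c : G} (o : GOrth C N r c) (hA : A ≤ N) (hc : c ∉ A)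
    (hi : ∀ x ∈ A, ∀ y ∈ A, Bg C r x y = 0) : Nat.card A * (2 * Nat.card A) ≤ Nat.card N := by
  have hs := sy_of o
  have hm : ∀ x ∈ A, (∀ z ∈ N, Bg C r x z = 0) → x ∈ (⊥ : Subgroup G) := by
    intro x hx hx0
    rw [mem_bot]
    rcases o.rad x (hA hx) hx0 with h1 | h1
    · exact h1
    · exact absurd (h1 ▸ hx) hc
  have hh : ∀ x ∈ A, ∀ y ∈ N, ∀ z ∈ N, Bg C r x (y * z) = Bg C r x y + Bg C r x z := fun x hx => o.add x (hA hx)
  have h1 := dual_card (H := N) (Y := ⊥) (f := Bg C r) _ (A := A) rfl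
    (fun x hx y hy z hz => o.add_left (hA hx) (hA hy) hz) hh hm
    (K := ann A N (Bg C r) hh) (fun y hy => hy.1) (fun z hz x hx => hz.2 x hx)
  have h2 : 2 * Nat.card A ≤ Nat.card (ann A N (Bg C r) hh) :=
    two_mul_card_le (fun y hy => ⟨hA hy, fun x hx => hi x hx y hy⟩)
      ⟨c, ⟨o.c_mem, fun x hx => by rw [o.comm x (hA hx) c o.c_mem]; exact o.Bc x (hA hx)⟩, hc⟩
  rw [Subgroup.card_bot, one_mul] at h1
  exact (Nat.mul_le_mul_left _ h2).trans h1

end Cfsg.Agent.Omega.IId.Pf.Dual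

end

end

-- merged: Cfsg.Agent.Mrg.Omega.IId.OneJ
section

section


/-!
# II.d, `q = 2`, CASE 1, case B: THEOREM J for the configuration `One`

helper895, OMEGA / II.d (#12430, #13722).  `N₁ = nc v₁ {v₂}`, `N₂ = nc v₂ {v₁}`.

* `Base.z_mem` : `v₁v₂` lies in every nontrivial elementary abelian subgroup of `T` normalised by `T` and `s`;
* `Base.v1_mem` : `[N₁, N₂] ≠ 1` implies `v₁ ∈ N₁`;
* `One.side`, `One.ctx` : the hypotheses of THEOREM J;
* `One.inter` : `N₁ ∩ N₂ = {1, v₁, v₂, v₁v₂}`;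
* `Base.gsys` : the data of THEOREM TV for `C(v₁)` acting on `N₁`, base point `v₂` (no case distinction).
-/

set_option autoImplicit false
set_option linter.dupNamespace false
set_option linter.unusedSectionVars false

namespace Cfsg.Agent.Omega.IId.One

open Subgroup Cfsg Cfsg.Agent.ZN Cfsg.Agent.ZN.ChoiceBase Cfsg.Agent.Omega.IId.ThmJ
open Cfsg.Agent.Omega.TV

universe u

variable {G : Type u} [Group G]

theorem nc_eq_NN (v : G) (A : Subgroup G) : nc v (A : Set G) = NN A v :=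
  le_antisymm (nc_le (le_NN A v) (CC_le_normalizer_NN A v))
    (NN_le (subset_nc v _) (le_normalizer_nc v _))

/-- A nontrivial subgroup normalised by the 2-group `T ≥ X` contains a nontrivial fixed point. -/
theorem exists_fixed [Finite G] {T X : Subgroup G} (hT : IsPGroup 2 T) (hXT : X ≤ T)
    (hn : ∀ t ∈ T, ∀ x ∈ X, t * x * t⁻¹ ∈ X) (hne : X ≠ ⊥) :
    ∃ z ∈ X, z ≠ 1 ∧ ∀ t ∈ T, t * z = z * t := by
  have hf : Fact (Nat.Prime 2) := ⟨Nat.prime_two⟩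
  let _ : MulAction T X :=
    { smul := fun s x => ⟨s * x * (s : G)⁻¹, hn s s.2 x x.2⟩
      one_smul := fun x => Subtype.ext (by
        show ((1 : T) : G) * x * ((1 : T) : G)⁻¹ = x
        simp)
      mul_smul := fun s t x => Subtype.ext (by
        show ((s * t : T) : G) * x * ((s * t : T) : G)⁻¹ = s * (t * x * (t : G)⁻¹) * (s : G)⁻¹
        rw [coe_mul]; group) }
  have hval : ∀ (s : T) (x : X), ((s • x : X) : G) = s * x * (s : G)⁻¹ := fun s x => rfl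
  have hcard : 2 ∣ Nat.card X := by
    have hX : IsPGroup 2 X := hT.to_le hXT
    obtain ⟨n, hn'⟩ := IsPGroup.iff_card.1 hX
    rw [hn']
    have : n ≠ 0 := by
      rintro rfl
      rw [pow_zero] at hn'
      exact hne (Subgroup.card_eq_one.1 hn')
    exact dvd_pow_self 2 this
  have h1 : (1 : X) ∈ MulAction.fixedPoints T X := fun s => Subtype.ext (by rw [hval]; simp)
  obtain ⟨z, hz, hz1⟩ := hT.exists_fixed_point_of_prime_dvd_card_of_fixed_point X hcard h1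
  refine ⟨z, z.2, fun h => hz1 (Subtype.ext h.symm), fun s hs => ?_⟩
  have h3 := congrArg Subtype.val (hz ⟨s, hs⟩)
  rw [hval] at h3
  calc s * (z : G) = s * z * s⁻¹ * s := by group
    _ = z * s := by rw [h3]

namespace Base

variable [Finite G] {T V₁ V₂ L₁ L₂ : Subgroup G} {v₁ v₂ s : G}

section

variable (h : Base T V₁ V₂ L₁ L₂ v₁ v₂ s)
include h

/-- `v₁v₂` lies in every nontrivial elementary abelian subgroup of `T` normalised by `T`, `s`. -/
theorem z_mem {X : Subgroup G} (hXT : X ≤ T) (hn : ∀ t ∈ T, ∀ x ∈ X, t * x * t⁻¹ ∈ X)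
    (hs : ∀ x ∈ X, s * x * s⁻¹ ∈ X) (h2 : ∀ x ∈ X, x * x = 1) (hne : X ≠ ⊥) : v₁ * v₂ ∈ X := by
  obtain ⟨z, hz, hz1, hzT⟩ := exists_fixed h.pT hXT hn hne
  rcases h.fix z (hXT hz) (h2 z hz) hzT with e | e | e | e
  · exact absurd e hz1
  · have h3 := hs z hz
    rw [e] at hz h3
    rw [h.sv1] at h3
    exact mul_mem hz h3
  · have h3 := hs z hz
    rw [e] at hz h3
    rw [h.sv2] at h3
    exact mul_mem h3 hz
  · rwa [e] at hz

theorem cj_s_V1 : cj s V₁ = V₂ := by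
  apply Subgroup.eq_of_le_of_card_ge
  · rintro _ ⟨v, hv, rfl⟩
    exact h.s1 v hv
  · rw [card_cj, h.card1, h.card2]

theorem cj_s_V2 : cj s V₂ = V₁ := h.symm.cj_s_V1

theorem s_N1 {x : G} (hx : x ∈ nc v₁ {v₂}) : s * x * s⁻¹ ∈ nc v₂ {v₁} :=
  conj_nc h.sv1 (fun a ha => by rw [Set.mem_singleton_iff.1 ha]; exact h.sv2) hx

theorem s_N2 {x : G} (hx : x ∈ nc v₂ {v₁}) : s * x * s⁻¹ ∈ nc v₁ {v₂} :=
  conj_nc h.sv2 (fun a ha => by rw [Set.mem_singleton_iff.1 ha]; exact h.sv1) hx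

theorem T_N1 {t x : G} (ht : t ∈ T) (hx : x ∈ nc v₁ {v₂}) : t * x * t⁻¹ ∈ nc v₁ {v₂} :=
  (mem_normalizer_iff.1 (le_normalizer_nc v₁ _ (h.T_le ht)) x).1 hx

theorem T_N2 {t x : G} (ht : t ∈ T) (hx : x ∈ nc v₂ {v₁}) : t * x * t⁻¹ ∈ nc v₂ {v₁} :=
  h.symm.T_N1 ht hx

theorem comm_mem_inf {x y : G} (hx : x ∈ nc v₁ {v₂}) (hy : y ∈ nc v₂ {v₁}) :
    x * y * x⁻¹ * y⁻¹ ∈ nc v₁ {v₂} ⊓ nc v₂ {v₁} := by
  refine Subgroup.mem_inf.2 ⟨?_, ?_⟩
  · have e : x * y * x⁻¹ * y⁻¹ = x * (y * x⁻¹ * y⁻¹) := by group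
    rw [e]
    exact mul_mem hx (h.T_N1 (h.symm.N1_le_T hy) (inv_mem hx))
  · exact mul_mem (h.T_N2 (h.N1_le_T hx) hy) (inv_mem hy)

/-- `[N₁, N₂] ≠ 1` implies `v₁v₂ ∈ N₁ ∩ N₂`. -/
theorem z_mem_inf (hI : ∃ x ∈ nc v₁ {v₂}, ∃ y ∈ nc v₂ {v₁}, x * y ≠ y * x) :
    v₁ * v₂ ∈ nc v₁ {v₂} ⊓ nc v₂ {v₁} := by
  apply h.z_mem (X := nc v₁ {v₂} ⊓ nc v₂ {v₁})
  · exact inf_le_left.trans h.N1_le_T
  · exact fun t ht x hx => Subgroup.mem_inf.2 ⟨h.T_N1 ht hx.1, h.T_N2 ht hx.2⟩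
  · exact fun x hx => Subgroup.mem_inf.2 ⟨h.s_N2 hx.2, h.s_N1 hx.1⟩
  · exact fun x hx => h.N1_sq hx.1
  · intro h0
    obtain ⟨x, hx, y, hy, hxy⟩ := hI
    apply hxy
    have h1 := h.comm_mem_inf hx hy
    rw [h0, mem_bot] at h1
    calc x * y = x * y * x⁻¹ * y⁻¹ * (y * x) := by group
      _ = y * x := by rw [h1, one_mul]

/-- Case B: `v₁ ∈ N₁`. -/
theorem v1_mem (hI : ∃ x ∈ nc v₁ {v₂}, ∃ y ∈ nc v₂ {v₁}, x * y ≠ y * x) : v₁ ∈ nc v₁ {v₂} := by
  have h2 := mul_mem (h.z_mem_inf hI).1 h.v2_mem_N1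
  rwa [mul_assoc, h.vq2, mul_one] at h2

theorem tr1 : ∀ p ∈ V₁, p ≠ 1 → ∀ p' ∈ V₁, p' ≠ 1 →
    ∃ l ∈ centralizer (V₂ : Set G) ⊓ normalizer (V₁ : Set G), l * p' * l⁻¹ = p := by
  intro p hp hp1 p' hp' hp1'
  obtain ⟨l, hl, e⟩ := h.t1 p' hp' hp1' p hp hp1
  exact ⟨l, ⟨mem_centralizer_iff.2 fun v hv => (h.L12 l hl v hv).symm, h.L_norm1 hl⟩, e⟩

theorem tr2 : ∀ q ∈ V₂, q ≠ 1 → ∀ q' ∈ V₂, q' ≠ 1 →
    ∃ l ∈ centralizer (V₁ : Set G) ⊓ normalizer (V₂ : Set G), l * q' * l⁻¹ = q := h.symm.tr1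

/-- `[w, O₂(C(v₁))] ≤ ⟨v₁⟩` for `w ∈ Kk v₁`. -/
theorem Kk_comm {w x : G} (hw : w ∈ Kk v₁) (hx : x ∈ ZN.o2 (cz v₁)) :
    w * x * w⁻¹ * x⁻¹ = 1 ∨ w * x * w⁻¹ * x⁻¹ = v₁ := mem_zp h.vq1 (hw.2 x hx)

end

end Base

/-- The data of THEOREM TV for `C` acting on `N`: the chain condition from a Sylow 2-subgroup of `C`
fixing `q`. -/
theorem gsys_of [Finite G] {C N T : Subgroup G} {q : G} (hsqN : ∀ x ∈ N, x * x = 1)
    (hnor : ∀ c ∈ C, ∀ n ∈ N, c * n * c⁻¹ ∈ N) (hq : q ∈ N) (hq1 : q ≠ 1)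
    (hgen : N ≤ _root_.Subgroup.closure {x | ∃ c ∈ C, x = c * q * c⁻¹}) (hTp : T ≤ C) (hT : IsPGroup 2 T)
    (hi : ¬ 2 ∣ T.relIndex C) (hTq : ∀ t ∈ T, t * q = q * t) : GSys C N q where
  sq := hsqN
  nor := hnor
  mem := hq
  ne := hq1
  gen := hgen
  chain := by
    have : Fact (Nat.Prime 2) := ⟨Nat.prime_two⟩
    intro U hUN hU c hc hcU hcN n hn
    -- the kernel of the action and the stabilizer of the chain, inside `C`
    let F : Subgroup C :=
      { carrier := {c | ∀ n ∈ N, (c : G) * n * (c : G)⁻¹ = n}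
        one_mem' := fun n _ => by simp
        mul_mem' := by
          intro a b ha hb n hn
          have e : ((a * b : C) : G) * n * ((a * b : C) : G)⁻¹
              = (a : G) * ((b : G) * n * (b : G)⁻¹) * (a : G)⁻¹ := by
            rw [Subgroup.coe_mul]; group
          rw [e, hb n hn, ha n hn]
        inv_mem' := by
          intro a ha n hn
          have e : ((a⁻¹ : C) : G) * n * ((a⁻¹ : C) : G)⁻¹
              = (a : G)⁻¹ * n * (a : G) := by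
            rw [Subgroup.coe_inv]; group
          rw [e]
          nth_rewrite 1 [← ha n hn]
          group }
    let K : Subgroup C :=
      { carrier := {c | (∀ u ∈ U, (c : G) * u * (c : G)⁻¹ = u) ∧
          ∀ n ∈ N, (c : G) * n * (c : G)⁻¹ * n⁻¹ ∈ U}
        one_mem' := ⟨fun u _ => by simp, fun n _ => by simp⟩
        mul_mem' := by
          rintro a b ⟨ha, ha'⟩ ⟨hb, hb'⟩
          refine ⟨fun u hu => ?_, fun n hn => ?_⟩
          · have e : ((a * b : C) : G) * u * ((a * b : C) : G)⁻¹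
                = (a : G) * ((b : G) * u * (b : G)⁻¹) * (a : G)⁻¹ := by
              rw [Subgroup.coe_mul]; group
            rw [e, hb u hu, ha u hu]
          · have h1 := hb' n hn
            have h2 := ha' n hn
            have e : ((a * b : C) : G) * n * ((a * b : C) : G)⁻¹ * n⁻¹
                = (a : G) * ((b : G) * n * (b : G)⁻¹ * n⁻¹) * (a : G)⁻¹ *
                  ((a : G) * n * (a : G)⁻¹ * n⁻¹) := by
              rw [Subgroup.coe_mul]; group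
            rw [e]
            exact mul_mem (hU a a.2 _ h1) h2
        inv_mem' := by
          rintro a ⟨ha, ha'⟩
          have hinv : ∀ u ∈ U, (a : G)⁻¹ * u * (a : G) = u := by
            intro u hu
            nth_rewrite 1 [← ha u hu]
            group
          refine ⟨fun u hu => ?_, fun n hn => ?_⟩
          · have e : ((a⁻¹ : C) : G) * u * ((a⁻¹ : C) : G)⁻¹
                = (a : G)⁻¹ * u * (a : G) := by
              rw [Subgroup.coe_inv]; group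
            rw [e, hinv u hu]
          · have h1 := ha' n hn
            have e : ((a⁻¹ : C) : G) * n * ((a⁻¹ : C) : G)⁻¹ * n⁻¹
                = (a : G)⁻¹ * ((a : G) * n * (a : G)⁻¹ * n⁻¹)⁻¹ * (a : G) := by
              rw [Subgroup.coe_inv]; group
            rw [e, hinv _ (inv_mem h1)]
            exact inv_mem h1 }
    have hFn : F.Normal := by
      constructor
      intro a ha g n hn
      have hn' : (g : G)⁻¹ * n * (g : G) ∈ N := by
        have := hnor _ (inv_mem g.2) n hn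
        simpa using this
      have e : ((g * a * g⁻¹ : C) : G) * n * ((g * a * g⁻¹ : C) : G)⁻¹
          = (g : G) * ((a : G) * ((g : G)⁻¹ * n * (g : G)) * (a : G)⁻¹) * (g : G)⁻¹ := by
        simp only [Subgroup.coe_mul, Subgroup.coe_inv]; group
      rw [e, ha _ hn']
      group
    have hKn : K.Normal := by
      constructor
      rintro a ⟨ha, ha'⟩ g
      refine ⟨fun u hu => ?_, fun n hn => ?_⟩
      · have hu' : (g : G)⁻¹ * u * (g : G) ∈ U := by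
          have := hU _ (inv_mem g.2) u hu
          simpa using this
        have e : ((g * a * g⁻¹ : C) : G) * u * ((g * a * g⁻¹ : C) : G)⁻¹
            = (g : G) * ((a : G) * ((g : G)⁻¹ * u * (g : G)) * (a : G)⁻¹) * (g : G)⁻¹ := by
          simp only [Subgroup.coe_mul, Subgroup.coe_inv]; group
        rw [e, ha _ hu']
        group
      · have hn' : (g : G)⁻¹ * n * (g : G) ∈ N := by
          have := hnor _ (inv_mem g.2) n hn
          simpa using this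
        have h1 := hU g g.2 _ (ha' _ hn')
        have e : ((g * a * g⁻¹ : C) : G) * n * ((g * a * g⁻¹ : C) : G)⁻¹ * n⁻¹
            = (g : G) * ((a : G) * ((g : G)⁻¹ * n * (g : G)) * (a : G)⁻¹ *
              ((g : G)⁻¹ * n * (g : G))⁻¹) * (g : G)⁻¹ := by
          simp only [Subgroup.coe_mul, Subgroup.coe_inv]; group
        rw [e]
        exact h1
    have hsqK : ∀ k ∈ K, k * k ∈ F := by
      rintro k ⟨hk, hk'⟩ n hn
      have h1 := hk' n hn
      have h2 := hsqN _ (hUN h1)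
      have e1 : (k : G) * n * (k : G)⁻¹ = (k : G) * n * (k : G)⁻¹ * n⁻¹ * n := by group
      have e2 : ((k * k : C) : G) * n * ((k * k : C) : G)⁻¹
          = (k : G) * ((k : G) * n * (k : G)⁻¹) * (k : G)⁻¹ := by
        rw [Subgroup.coe_mul]; group
      rw [e2, e1]
      have e3 : (k : G) * ((k : G) * n * (k : G)⁻¹ * n⁻¹ * n) * (k : G)⁻¹
          = (k : G) * ((k : G) * n * (k : G)⁻¹ * n⁻¹) * (k : G)⁻¹ *
            ((k : G) * n * (k : G)⁻¹ * n⁻¹) * n := by group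
      rw [e3, hk _ h1, h2, one_mul]
    have hTS : IsPGroup 2 (T.subgroupOf C) := hT.of_equiv (subgroupOfEquivOfLe hTp).symm
    -- `K` centralizes `q`
    have hKq : ∀ k ∈ K, (k : G) * q * (k : G)⁻¹ = q := by
      intro k hk
      obtain ⟨t, ht, hf⟩ := exists_mem_sylow_of_sq (hTS.toSylow hi) hKn hFn hsqK hk
      have ht' : (t : G) ∈ T := ht
      have htq : (t : G) * q * (t : G)⁻¹ = q := by
        rw [hTq _ ht']
        group
      have h1 := hf q hq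
      have e : (k : G) * q * (k : G)⁻¹
          = (t : G) * (((t⁻¹ * k : C) : G) * q * ((t⁻¹ * k : C) : G)⁻¹) * (t : G)⁻¹ := by
        simp only [Subgroup.coe_mul, Subgroup.coe_inv]; group
      rw [e, h1, htq]
    -- hence all conjugates of `q`, hence `N`
    have hKall : ∀ x ∈ _root_.Subgroup.closure {x | ∃ c ∈ C, x = c * q * c⁻¹}, ∀ k ∈ K,
        (k : G) * x * (k : G)⁻¹ = x := by
      intro x hx
      induction hx using closure_induction with
      | mem x hx =>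
        obtain ⟨d, hd, rfl⟩ := hx
        intro k hk
        have h1 := hKq _ (hKn.conj_mem k hk (⟨d, hd⟩⁻¹ : C))
        have e : (k : G) * (d * q * d⁻¹) * (k : G)⁻¹
            = d * ((((⟨d, hd⟩⁻¹ * k * ((⟨d, hd⟩ : C)⁻¹)⁻¹ : C)) : G) * q *
              (((⟨d, hd⟩⁻¹ * k * ((⟨d, hd⟩ : C)⁻¹)⁻¹ : C)) : G)⁻¹) * d⁻¹ := by
          simp only [Subgroup.coe_mul, Subgroup.coe_inv]; group
        rw [e, h1]
      | one => intro k _; simp
      | mul x y _ _ hx hy =>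
        intro k hk
        have e : (k : G) * (x * y) * (k : G)⁻¹
            = (k : G) * x * (k : G)⁻¹ * ((k : G) * y * (k : G)⁻¹) := by group
        rw [e, hx k hk, hy k hk]
      | inv x _ hx =>
        intro k hk
        have e : (k : G) * x⁻¹ * (k : G)⁻¹ = ((k : G) * x * (k : G)⁻¹)⁻¹ := by group
        rw [e, hx k hk]
    exact hKall n (hgen hn) ⟨c, hc⟩ ⟨hcU, hcN⟩

/-- **The data of THEOREM TV** for `C(v₁)` acting on `N₁`, base point `v₂`. -/
theorem Base.gsys [Finite G] {T V₁ V₂ L₁ L₂ : Subgroup G} {v₁ v₂ s : G}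
    (h : Base T V₁ V₂ L₁ L₂ v₁ v₂ s) : GSys (cz v₁) (nc v₁ {v₂}) v₂ := by
  refine gsys_of (T := T) (fun x hx => h.N1_sq hx)
    (fun c hc n hn => (mem_normalizer_iff.1 (le_normalizer_nc v₁ _ hc) n).1 hn) h.v2_mem_N1 h.v2 ?_
    h.T_le h.pT (h.syl h.T_le le_rfl) h.Tv2
  rw [nc, closure_le]
  rintro _ ⟨g, hg, a, ha, rfl⟩
  rw [Set.mem_singleton_iff.1 ha]
  exact subset_closure ⟨g, hg, rfl⟩

namespace One

variable {T V₁ V₂ L₁ L₂ : Subgroup G} {v₁ v₂ s : G}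

section

variable [Finite G] (h : One T V₁ V₂ L₁ L₂ v₁ v₂ s)
include h

theorem side (hI : ∃ x ∈ nc v₁ {v₂}, ∃ y ∈ nc v₂ {v₁}, x * y ≠ y * x) :
    Side V₁ V₂ := by
  refine Side.of_point (v₁ := v₁) h.q1 h.card1 (fun p hp hp1 => h.tr1 p hp hp1 v₁ h.vV1 h.v1)
    h.half1 ?_ h.V1_le_Q (h.Q_le.trans h.T_norm1) ?_ ?_
  · exact fun x hx => mem_centralizer_iff.2 fun v hv => (h.halfc1 x hx v hv).symm
  · obtain ⟨w, hw, v, hv, hne⟩ := h.k1
    exact ⟨w, h.Kk_le_Q hw, fun hc => hne (mem_centralizer_iff.1 hc v hv).symm, fun x hx =>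
      h.Kk_comm hw hx⟩
  · rw [← nc_eq_NN, ← h.N1_eq]
    exact h.v1_mem hI

omit [Finite G] h in
theorem hI_symm (hI : ∃ x ∈ nc v₁ {v₂}, ∃ y ∈ nc v₂ {v₁}, x * y ≠ y * x) :
    ∃ x ∈ nc v₂ {v₁}, ∃ y ∈ nc v₁ {v₂}, x * y ≠ y * x := by
  obtain ⟨x, hx, y, hy, e⟩ := hI
  exact ⟨y, hy, x, hx, fun h => e h.symm⟩

/-- The hypotheses of THEOREM J. -/
theorem ctx (hI : ∃ x ∈ nc v₁ {v₂}, ∃ y ∈ nc v₂ {v₁}, x * y ≠ y * x) :
    _root_.Cfsg.Agent.Omega.IId.ThmJ.Ctx V₁ V₂ := by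
  have s1 := h.side hI
  have s2 := h.symm.side (hI_symm hI)
  refine ⟨s1, s2, ?_⟩
  by_contra hne
  have hle1 : ThmJ.FF V₁ V₂ ≤ nc v₁ {v₂} := fun x hx => by
    rw [h.N1_eq, nc_eq_NN]
    exact mem_FF.1 hx v₁ h.vV1 h.v1
  have hzm : v₁ * v₂ ∈ (ThmJ.FF V₁ V₂ ⊓ ThmJ.FF V₂ V₁ : Subgroup G) := by
    apply h.z_mem (X := ThmJ.FF V₁ V₂ ⊓ ThmJ.FF V₂ V₁) (inf_le_left.trans (hle1.trans h.N1_le_T)) _ _ _ hne
    · intro t ht x hx
      have e1 := cj_eq_of_mem_normalizer (h.T_norm1 ht)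
      have e2 := cj_eq_of_mem_normalizer (h.T_norm2 ht)
      have h1 : t * x * t⁻¹ ∈ cj t (ThmJ.FF V₁ V₂ ⊓ ThmJ.FF V₂ V₁) := mem_map_of_mem _ hx
      rwa [cj_inf, cj_FF, cj_FF, e1, e2] at h1
    · intro x hx
      have h1 : s * x * s⁻¹ ∈ cj s (ThmJ.FF V₁ V₂ ⊓ ThmJ.FF V₂ V₁) := mem_map_of_mem _ hx
      rwa [cj_inf, cj_FF, cj_FF, h.cj_s_V1, h.cj_s_V2, inf_comm] at h1
    · exact fun x hx => h.N1_sq (hle1 hx.1)
  obtain ⟨q, hq, hq1, hne2⟩ := four_exists s2.card v₂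
  obtain ⟨w, hw, hw', -⟩ := s2.tv q hq hq1
  have hwz : w * (v₁ * v₂) * w⁻¹ = v₁ * v₂ := by
    rw [← mem_centralizer_iff.1 (s2.o2_le_cent_NN hq hq1 hw) _ (mem_FF.1 hzm.2 q hq hq1)]
    group
  have hwv : w * v₁ * w⁻¹ = v₁ := by
    rw [← mem_centralizer_iff.1 (s2.cent q hq hq1 hw) _ h.vV1]
    group
  have hws := s2.swap hq hq1 h.vV2 h.v2 hne2.symm hw hw'
  have e : w * (v₁ * v₂) * w⁻¹ = w * v₁ * w⁻¹ * (w * v₂ * w⁻¹) := by group
  rw [e, hwv, hws] at hwz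
  exact hq1 (mul_eq_right.1 (mul_left_cancel hwz))

/-- **THEOREM J for CASE 1, case B**: `N₁ ∩ N₂ = {1, v₁, v₂, v₁v₂}`. -/
theorem inter (hI : ∃ x ∈ nc v₁ {v₂}, ∃ y ∈ nc v₂ {v₁}, x * y ≠ y * x) {j : G}
    (hj : j ∈ nc v₁ {v₂}) (hj' : j ∈ nc v₂ {v₁}) :
    j = 1 ∨ j = v₁ ∨ j = v₂ ∨ j = v₁ * v₂ := by
  rw [h.N1_eq, nc_eq_NN] at hj
  rw [h.symm.N1_eq, nc_eq_NN] at hj'
  exact (h.ctx hI).inter h.tr1 h.tr2 h.vV1 h.v1 h.vV2 h.v2 h.T_le h.pT (h.syl h.T_le le_rfl)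
    h.T_le2 hj hj'

/-- The commutators `[x, y]`, `x ∈ N₁`, `y ∈ N₂`, lie in `{1, v₁, v₂, v₁v₂}`. -/
theorem comm_mem (hI : ∃ x ∈ nc v₁ {v₂}, ∃ y ∈ nc v₂ {v₁}, x * y ≠ y * x) {x y : G}
    (hx : x ∈ nc v₁ {v₂}) (hy : y ∈ nc v₂ {v₁}) :
    x * y * x⁻¹ * y⁻¹ = 1 ∨ x * y * x⁻¹ * y⁻¹ = v₁ ∨ x * y * x⁻¹ * y⁻¹ = v₂ ∨
      x * y * x⁻¹ * y⁻¹ = v₁ * v₂ := by
  have h1 := h.comm_mem_inf hx hy
  exact h.inter hI h1.1 h1.2

end

end One

end Cfsg.Agent.Omega.IId.One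

end

section


/-!
# II.d, `q = 2`, CASE 1, case B: (B1) for the configuration `One`

helper304 (helper478 #12430 (B1), helper895 #13722).  `[N₁, N₂] ≠ 1` implies that `N₁ = nc v₁ {v₂}` is the
orthogonal module of `C(v₁)`: `GOrth (cz v₁) (nc v₁ {v₂}) v₂ v₁`.
-/

set_option autoImplicit false
set_option linter.dupNamespace false

namespace Cfsg.Agent.Omega.IId.One

open Subgroup Cfsg Cfsg.Agent.ZN Cfsg.Agent.ZN.ChoiceBase Cfsg.Agent.Omega.IId.ThmJ
open Cfsg.Agent.Omega.TV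

universe u

variable {G : Type u} [Group G]

namespace One

variable [Finite G] {T V₁ V₂ L₁ L₂ : Subgroup G} {v₁ v₂ s : G} (h : One T V₁ V₂ L₁ L₂ v₁ v₂ s)

include h

/-- **(B1) for `One`.** -/
theorem orth_all (hI : ∃ x ∈ nc v₁ {v₂}, ∃ y ∈ nc v₂ {v₁}, x * y ≠ y * x) :
    GOrth (cz v₁) (nc v₁ {v₂}) v₂ v₁ ∧ (∀ v ∈ V₂, Bg (cz v₁) v₂ v₂ v = 0) ∧
      (∀ y ∈ nc v₂ {v₁}, (∀ n ∈ nc v₁ {v₂}, y * n * y⁻¹ = n) ∨ ∀ n ∈ nc v₁ {v₂},
        (Bg (cz v₁) v₂ v₂ n = 0 ∧ y * n * y⁻¹ = n) ∨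
          (Bg (cz v₁) v₂ v₂ n = 1 ∧ y * n * y⁻¹ = n * (v₂ * v₁))) := by
  have e1 : NN V₂ v₁ = nc v₁ {v₂} := by rw [← nc_eq_NN, ← h.N1_eq]
  have e2 : NN V₁ v₂ = nc v₂ {v₁} := by rw [← nc_eq_NN, ← h.symm.N1_eq]
  have main := (h.ctx hI).orth h.tr1 h.tr2 h.vV1 h.v1 h.vV2 h.v2 h.T_le h.pT (h.syl h.T_le le_rfl)
    h.T_le2 (fun n hn hc => h.N1_fix (by rw [← e1]; exact hn) hc)
    (by
      obtain ⟨x, hx, y, hy, hne⟩ := hI
      exact ⟨x, by rw [e1]; exact hx, y, by rw [e2]; exact hy, hne⟩)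
  rwa [e1, e2] at main

theorem orth (hI : ∃ x ∈ nc v₁ {v₂}, ∃ y ∈ nc v₂ {v₁}, x * y ≠ y * x) :
    GOrth (cz v₁) (nc v₁ {v₂}) v₂ v₁ := (h.orth_all hI).1

omit [Finite G] in
theorem Q_V2 {x : G} (hx : x ∈ V₂) : Qg (cz v₁) v₂ x = 0 := by
  by_cases hx1 : x = 1
  · rw [hx1]; exact Qg_one
  · obtain ⟨l, hl, e⟩ := h.t2 v₂ h.vV2 h.v2 x hx hx1
    rw [← e]
    exact Qg_conj (h.L2_le hl)

end One

end Cfsg.Agent.Omega.IId.One

end

section


/-!
# II.d, CASE 1, `q = 2`: `F₁ = C(N₁)` normalises `V₁` (bb OMEGA #15930 (A))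

helper310.  `One`, `[N₁, N₂] ≠ 1` : every element of `C_G(v₁)` centralising `N₁` normalises `V₁`.  [Otherwise
`A = ⟨V₁^{F₁}⟩ ≤ N₂` is normal in `C₁`, `D = C_{C₁}(A) ≥ N₂` is transitive on `v₂^{C₁}` and normalises `N₁^l`, `l ∈ L₁`:
`N₁ ≤ N₁^l`, against `v₁ ∉ N₁^l`.]
-/

set_option autoImplicit false
set_option linter.unusedSectionVars false
set_option linter.unusedVariables false

namespace Cfsg.Agent.Omega.IId.PlaneF

open Cfsg.Agent.Omega.TV hiding z2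
open Subgroup Cfsg Cfsg.Agent.ZN Cfsg.Agent.Omega.IId.PlaneSy Cfsg.Agent.Omega.IId.PlaneRk
open Cfsg.Agent.Omega.IId.One
open Cfsg.Agent.Omega.IId.Two (le_normalizer_of)
open scoped Pointwise

universe u

variable {G : Type u} [Group G]

section

variable [Finite G] {T V₁ V₂ L₁ L₂ : Subgroup G} {v₁ v₂ s : G} (h : _root_.Cfsg.Agent.Omega.IId.One.One T V₁ V₂ L₁ L₂ v₁ v₂ s)

include h

/-- an element of `V₁ ∖ ⟨v₁⟩` -/
theorem exists_x : ∃ x ∈ V₁, x ≠ 1 ∧ x ≠ v₁ := by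
  obtain ⟨w, hw, x, hx, hne⟩ := h.k1
  exact ⟨x, hx, fun e => hne (by rw [e]; group), fun e => hne (by rw [e]; exact mem_cz.1 hw.1)⟩

omit [Finite G] in
/-- `Q₁` is zero on `V₂`, for every pair with the same `T`, `v₁`, `v₂` -/
theorem Q_zero {T' V₁' V₂' L₁' L₂' : Subgroup G} (h' : Base T' V₁' V₂' L₁' L₂' v₁ v₂ s) {x : G} (hx : x ∈ V₂') :
    Qg (cz v₁) v₂ x = 0 := by
  by_cases hx1 : x = 1
  · rw [hx1]; exact Qg_one
  · obtain ⟨l, hl, e⟩ := h'.t2 v₂ h'.vV2 h'.v2 x hx hx1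
    rw [← e]
    exact Qg_conj (h'.L2_le hl)

omit [Finite G] in
theorem B_zero {T' V₁' V₂' L₁' L₂' : Subgroup G} (h' : Base T' V₁' V₂' L₁' L₂' v₁ v₂ s) {x y : G} (hx : x ∈ V₂')
    (hy : y ∈ V₂') : Bg (cz v₁) v₂ x y = 0 := by
  unfold Bg
  rw [Q_zero h h' hx, Q_zero h h' hy, Q_zero h h' (mul_mem hx hy), add_zero, add_zero]

/-- `C₁ = ⟨M, L₂⟩` -/
theorem gen (o : GOrth (cz v₁) (nc v₁ {v₂}) v₂ v₁) : cz v₁ ≤ (cz v₁ ⊓ cz v₂) ⊔ L₂ := by
  have hs := sy_of o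
  obtain ⟨u, hu, hu1, huv⟩ := exists_x h.symm
  obtain ⟨l, hl, e⟩ := h.t2 v₂ h.vV2 h.v2 u hu hu1
  refine hs.perp_gen (p := v₂) (k := l) o.r_mem ?_ ?_ (mem_sup_right hl) (h.L2_le hl) ?_ ?_
  · intro e
    rcases (mem_zp2 h.vq1).1 e with e | e
    · exact h.v2 e
    · exact h.ne e.symm
  · intro g hg e
    apply mem_sup_left
    refine ⟨hg, ?_⟩
    have hgN := o.nor g hg v₂ o.r_mem
    rcases (mem_zp2 h.vq1).1 e with e | e
    · have e1 : g * v₂ * g⁻¹ = v₂ := by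
        calc g * v₂ * g⁻¹ = g * v₂ * g⁻¹ * v₂ * v₂ := by rw [mul_assoc _ v₂ v₂, h.vq2, mul_one]
          _ = v₂ := by rw [e, one_mul]
      exact mem_cz.2 (mul_inv_eq_iff_eq_mul.1 e1)
    · exfalso
      have e1 : g * v₂ * g⁻¹ = v₂ * v₁ := by
        calc g * v₂ * g⁻¹ = g * v₂ * g⁻¹ * v₂ * v₂ := by rw [mul_assoc _ v₂ v₂, h.vq2, mul_one]
          _ = v₂ * v₁ := by rw [e, h.vc]
      have h1 : Qg (cz v₁) v₂ (g * v₂ * g⁻¹) = 0 := Qg_conj hg
      rw [e1, o.Qmulc o.r_mem, Qg_self] at h1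
      exact absurd h1 (by decide)
  · rw [e]; exact B_zero h h.toBase h.vV2 hu
  · rw [e]
    intro e2
    rcases (mem_zp2 h.vq1).1 e2 with e3 | e3
    · apply huv
      calc u = v₂ * (v₂ * u) := by rw [← mul_assoc, h.vq2, one_mul]
        _ = v₂ := by rw [e3, mul_one]
    · exact h.v1 (h.inf _ h.vV1 (e3 ▸ mul_mem h.vV2 hu))

section point

variable (o : GOrth (cz v₂) (nc v₂ {v₁}) v₁ v₂)
include o

theorem mem_yr' {y : G} (hy : y ∈ yr (sy_of o) o.r_mem) : y = 1 ∨ y = v₂ ∨ y = v₁ ∨ y = v₁ * v₂ := by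
  rcases hy with hy | ⟨hy, hy'⟩
  · rcases (mem_zp2 h.vq2).1 hy with e | e
    · exact Or.inl e
    · exact Or.inr (Or.inl e)
  · rcases (mem_zp2 h.vq2).1 hy' with e | e
    · right; right; left
      calc y = y * v₁ * v₁ := by rw [mul_assoc, h.vq1, mul_one]
        _ = v₁ := by rw [e, one_mul]
    · right; right; right
      calc y = y * v₁ * v₁ := by rw [mul_assoc, h.vq1, mul_one]
        _ = v₁ * v₂ := by rw [e, h.vc]

theorem v1_yr : v₁ ∈ yr (sy_of o) o.r_mem :=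
  Or.inr ⟨o.r_mem, by rw [h.vq1]; exact one_mem _⟩

/-- the point of a `T`-invariant line -/
theorem pt_mem {V₁' V₂' L₁' L₂' : Subgroup G} (h' : Base T V₁' V₂' L₁' L₂' v₁ v₂ s) {x : G} (hx : x ∈ V₁')
    (hx1 : x ≠ 1) (hxv : x ≠ v₁) : x ∈ (sy_of o).pp o.r_mem ∧ x ∉ yr (sy_of o) o.r_mem := by
  refine ⟨⟨h'.V1_le_N2 hx, B_zero h.symm h'.symm h'.vV1 hx⟩, fun e => ?_⟩
  rcases mem_yr' h o e with e | e | e | e
  · exact hx1 e
  · exact h'.v2 (h'.inf _ (e ▸ hx) h'.vV2)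
  · exact hxv e
  · apply h'.v2
    refine h'.inf _ ?_ h'.vV2
    have e2 : v₂ = v₁⁻¹ * x := by rw [e]; group
    rw [e2]
    exact mul_mem (inv_mem h'.vV1) hx

/-- the points over `yr` have two singular vectors: `y`, `v₁y` -/
theorem sing_of {x y : G} (hx : x ∈ nc v₂ {v₁}) (hxv : Bg (cz v₂) v₁ v₁ x = 0) (hy : y ∈ nc v₂ {v₁})
    (hQx : Qg (cz v₂) v₁ x = 0) (hQy : Qg (cz v₂) v₁ y = 0) (e : y * x ∈ yr (sy_of o) o.r_mem) :
    y = x ∨ y = v₁ * x := by
  have hxx := o.sq x hx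
  have hyx : ∀ t, y * x = t → y = t * x := fun t e => by
    rw [← e, mul_assoc, hxx, mul_one]
  have hQv : Qg (cz v₂) v₁ (v₁ * x) = 0 := by
    rw [GOrth.Q_mul, Qg_self, hQx, hxv]; decide
  have hv1x : v₁ * x ∈ nc v₂ {v₁} := mul_mem o.r_mem hx
  rcases mem_yr' h o e with e | e | e | e
  · left; rw [hyx _ e, one_mul]
  · exfalso
    rw [hyx _ e, (sy_of o).mc o.c_mem hx, o.Qmulc hx, hQx] at hQy
    exact absurd hQy (by decide)
  · exact Or.inr (hyx _ e)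
  · exfalso
    have e2 : v₁ * v₂ * x = v₁ * x * v₂ := by
      rw [mul_assoc, (sy_of o).mc o.c_mem hx, mul_assoc]
    rw [hyx _ e, e2, o.Qmulc hv1x, hQv] at hQy
    exact absurd hQy (by decide)

/-- The stabiliser of the point `x` in `M` is `N_M(V₁)`. -/
theorem stab_iff {x g : G} (hx : x ∈ V₁) (hx1 : x ≠ 1) (hxv : x ≠ v₁) (hg : g ∈ cz v₂ ⊓ cz v₁) :
    g * x * g⁻¹ * x ∈ yr (sy_of o) o.r_mem ↔ g ∈ normalizer (V₁ : Set G) := by
  have hxN := h.V1_le_N2 hx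
  have hB := B_zero h.symm h.toBase.symm h.vV1 hx
  have hQ := Q_zero h.symm h.toBase.symm hx
  have hgv : g * v₁ * g⁻¹ = v₁ := by rw [mem_cz.1 hg.2, mul_inv_cancel_right]
  constructor
  · intro e
    have h1 := sing_of h o hxN hB (o.nor g hg.1 x hxN) hQ (by rw [o.inv g hg.1 x hxN, hQ]) e
    have h2 : g * x * g⁻¹ ∈ V₁ := by
      rcases h1 with h1 | h1
      · rw [h1]; exact hx
      · rw [h1]; exact mul_mem h.vV1 hx
    apply SpSide.mem_normalizer_of_conj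
    apply Subgroup.eq_of_le_of_card_ge
    · rintro _ ⟨y, hy, rfl⟩
      show g * y * g⁻¹ ∈ V₁
      rcases h.toBase.mem_V1 hy hx hx1 hxv with rfl | rfl | rfl | rfl
      · simp
      · rw [hgv]; exact h.vV1
      · exact h2
      · have e3 : g * (v₁ * x) * g⁻¹ = g * v₁ * g⁻¹ * (g * x * g⁻¹) := by group
        rw [e3, hgv]
        exact mul_mem h.vV1 h2
    · exact (SpSide.Side.card_conj g V₁).symm.le
  · intro hn
    have h1 := (mem_normalizer_iff.1 hn x).1 hx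
    rcases h.toBase.conj1 hg.2 h1 hx with e | e
    · rw [e, h.q1 x hx]; exact one_mem _
    · rw [e, mul_assoc, h.q1 x hx, mul_one]; exact v1_yr h o

/-- `F₁` transitive on `V₁^M`: `⟨V₁^{F₁}⟩` is normal in `C₁`. -/
theorem norm_of (o₁ : GOrth (cz v₁) (nc v₁ {v₂}) v₂ v₁)
    (ht : ∀ m ∈ cz v₁ ⊓ cz v₂, ∃ f ∈ cz v₁ ⊓ centralizer (nc v₁ {v₂} : Set G), f⁻¹ * m ∈ normalizer (V₁ : Set G)) :
    ∃ A : Subgroup G, V₁ ≤ A ∧ A ≤ nc v₂ {v₁} ∧ cz v₁ ≤ normalizer (A : Set G) := by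
  set F := cz v₁ ⊓ centralizer (nc v₁ {v₂} : Set G) with hF
  set N : Subgroup G := _root_.Subgroup.closure {y : G | ∃ f ∈ F, ∃ a ∈ V₁, y = f * a * f⁻¹} with hN
  have hsub : ∀ f ∈ F, ∀ a ∈ V₁, f * a * f⁻¹ ∈ N := fun f hf a ha => subset_closure ⟨f, hf, a, ha, rfl⟩
  have hV : V₁ ≤ N := fun a ha => by simpa using hsub 1 (one_mem _) a ha
  have hFM : F ≤ cz v₁ ⊓ cz v₂ := h.F1_le
  have hnorm : ∀ g ∈ cz v₁, (∀ f ∈ F, ∀ a ∈ V₁, g * (f * a * f⁻¹) * g⁻¹ ∈ N) → g ∈ normalizer (N : Set G) := by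
    intro g hg hga
    apply Cfsg.Agent.MinSimple.VModule.mem_normalizer_of_map_le
    rw [hN, MonoidHom.map_closure, closure_le]
    rintro _ ⟨y, ⟨f, hf, a, ha, rfl⟩, rfl⟩
    exact hga f hf a ha
  have hM : cz v₁ ⊓ cz v₂ ≤ normalizer (N : Set G) := by
    intro m hm
    refine hnorm m hm.1 fun f hf a ha => ?_
    obtain ⟨f', hf', h1⟩ := ht (m * f) (mul_mem hm (hFM hf))
    have e : m * (f * a * f⁻¹) * m⁻¹ = f' * ((f'⁻¹ * (m * f)) * a * (f'⁻¹ * (m * f))⁻¹) * f'⁻¹ := by group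
    rw [e]
    exact hsub f' hf' _ ((mem_normalizer_iff.1 h1 a).1 ha)
  have hL : L₂ ≤ normalizer (N : Set G) := by
    intro l hl
    refine hnorm l (h.L2_le hl) fun f hf a ha => ?_
    have h1 : l * f * l⁻¹ ∈ F := (mem_normalizer_iff.1 (h.F1_norm (h.L2_le hl)) f).1 hf
    have e : l * (f * a * f⁻¹) * l⁻¹ = (l * f * l⁻¹) * (l * a * l⁻¹) * (l * f * l⁻¹)⁻¹ := by group
    have e2 : l * a * l⁻¹ = a := by rw [h.L21 l hl a ha, mul_inv_cancel_right]
    rw [e, e2]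
    exact hsub _ h1 a ha
  refine ⟨N, hV, ?_, (gen h o₁).trans (sup_le hM hL)⟩
  rw [hN, closure_le]
  rintro _ ⟨f, hf, a, ha, rfl⟩
  exact (mem_normalizer_iff.1 (le_normalizer_nc v₂ {v₁} (hFM hf).2) a).1 (h.V1_le_N2 ha)

/-- **(A)** `F₁ ≤ N_G(V₁)`. -/
theorem F_le (o₁ : GOrth (cz v₁) (nc v₁ {v₂}) v₂ v₁)
    (hI : ∃ x ∈ nc v₁ {v₂}, ∃ y ∈ nc v₂ {v₁}, x * y ≠ y * x) {v' w l : G}
    (S : SpSide.Side V₁ V₂ (nc v₁ {v₂}) v₁ v' w l) :
    cz v₁ ⊓ centralizer (nc v₁ {v₂} : Set G) ≤ normalizer (V₁ : Set G) := by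
  intro f hf
  by_contra hfn
  obtain ⟨x, hx, hx1, hxv⟩ := exists_x h
  have hs := sy_perp (sy_of o) o.r_mem
  set F := cz v₁ ⊓ centralizer (nc v₁ {v₂} : Set G) with hF
  have hFM : F ≤ cz v₂ ⊓ cz v₁ := fun g hg => ⟨(h.F1_le hg).2, (h.F1_le hg).1⟩
  have hFn : ∀ m ∈ cz v₂ ⊓ cz v₁, ∀ k ∈ F, m * k * m⁻¹ ∈ F := fun m hm k hk =>
    (mem_normalizer_iff.1 (h.F1_norm hm.2) k).1 hk
  obtain ⟨hxp, hxy⟩ := pt_mem h o h.toBase hx hx1 hxv
  have htr : ∀ q ∈ (sy_of o).pp o.r_mem, q ∉ yr (sy_of o) o.r_mem → ∃ g ∈ F, g * x * g⁻¹ * q ∈ yr (sy_of o) o.r_mem :=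
    fun q hq hqy => hs.norm_trans hFM hFn hxp hxy hf (fun e => hfn ((stab_iff h o hx hx1 hxv (hFM hf)).1 e)) hq hqy
  have ht : ∀ m ∈ cz v₁ ⊓ cz v₂, ∃ f ∈ F, f⁻¹ * m ∈ normalizer (V₁ : Set G) := by
    intro m hm
    have hm' : m ∈ cz v₂ ⊓ cz v₁ := ⟨hm.2, hm.1⟩
    have h1 : m * x * m⁻¹ ∉ yr (sy_of o) o.r_mem := fun e => hxy (by
      have := hs.norY' hm' e
      have e2 : m⁻¹ * (m * x * m⁻¹) * m = x := by group
      rwa [e2] at this)
    obtain ⟨g, hg, e⟩ := htr _ (hs.nor m hm' x hxp) h1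
    refine ⟨g, hg, (stab_iff h o hx hx1 hxv (mul_mem (inv_mem (hFM hg)) hm')).1 ?_⟩
    have h2 := hs.norY' (hFM hg) (hs.eqv_symm (hs.nor g (hFM hg) x hxp) (hs.nor m hm' x hxp) e)
    have e2 : g⁻¹ * (m * x * m⁻¹ * (g * x * g⁻¹)) * g = g⁻¹ * m * x * (g⁻¹ * m)⁻¹ * x := by group
    rwa [e2] at h2
  obtain ⟨A, hVA, hAN, hnA⟩ := norm_of h o o₁ ht
  -- `D = C_{C₁}(A)`
  set D : Subgroup G := cz v₁ ⊓ centralizer (A : Set G) with hD
  have hDn : ∀ m ∈ cz v₁, ∀ k ∈ D, m * k * m⁻¹ ∈ D := by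
    intro m hm k hk
    refine mem_inf.2 ⟨mul_mem (mul_mem hm hk.1) (inv_mem hm), mem_centralizer_iff.2 fun a ha => ?_⟩
    have h1 := (mem_normalizer_iff.1 (inv_mem (hnA hm)) a).1 ha
    rw [inv_inv] at h1
    have h2 := mem_centralizer_iff.1 hk.2 _ h1
    calc a * (m * k * m⁻¹) = m * (m⁻¹ * a * m * k) * m⁻¹ := by group
      _ = m * (k * (m⁻¹ * a * m)) * m⁻¹ := by rw [h2]
      _ = m * k * m⁻¹ * a := by group
  have hN2D : nc v₂ {v₁} ≤ D := fun y hy => ⟨h.T_le (h.symm.N1_le_T hy), mem_centralizer_iff.2 fun a ha =>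
    h.symm.N1_comm (hAN ha) hy⟩
  -- `D` moves a point
  have hs1 := sy_of o₁
  have v2Y : v₂ ∉ zpowers v₁ := fun e => by
    rcases (mem_zp2 h.vq1).1 e with e | e
    · exact h.v2 e
    · exact h.ne e.symm
  obtain ⟨d, hd, hdv⟩ : ∃ d ∈ D, d * v₂ * d⁻¹ * v₂ ∉ zpowers v₁ := by
    obtain ⟨n, hn, y, hy, hne⟩ := hI
    have hyD := hN2D hy
    -- `y` moves `n`
    obtain ⟨q, hq, hqB⟩ := hs1.sep1 hn fun e => by
      rcases (mem_zp2 h.vq1).1 e with e | e
      · exact hne (by rw [e]; group)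
      · exact hne (by rw [e]; exact (mem_cz.1 hyD.1).symm)
    by_contra hcon
    push Not at hcon
    -- `D` fixes all points
    have hfix : ∀ c ∈ cz v₁, ∀ d ∈ D, d * (c * v₂ * c⁻¹) * d⁻¹ = c * v₂ * c⁻¹ := by
      intro c hc d hd
      have h1 : c⁻¹ * d * c ∈ D := by
        have := hDn c⁻¹ (inv_mem hc) d hd
        rwa [inv_inv] at this
      have h2 := hcon _ h1
      have h3 : c⁻¹ * d * c * v₂ * (c⁻¹ * d * c)⁻¹ = v₂ := by
        rcases (mem_zp2 h.vq1).1 h2 with e | e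
        · calc c⁻¹ * d * c * v₂ * (c⁻¹ * d * c)⁻¹ = c⁻¹ * d * c * v₂ * (c⁻¹ * d * c)⁻¹ * v₂ * v₂ := by
                rw [mul_assoc _ v₂ v₂, h.vq2, mul_one]
            _ = v₂ := by rw [e, one_mul]
        · exfalso
          have e1 : c⁻¹ * d * c * v₂ * (c⁻¹ * d * c)⁻¹ = v₂ * v₁ := by
            calc c⁻¹ * d * c * v₂ * (c⁻¹ * d * c)⁻¹ = c⁻¹ * d * c * v₂ * (c⁻¹ * d * c)⁻¹ * v₂ * v₂ := by
                  rw [mul_assoc _ v₂ v₂, h.vq2, mul_one]
              _ = v₂ * v₁ := by rw [e, h.vc]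
          have h1 : Qg (cz v₁) v₂ (c⁻¹ * d * c * v₂ * (c⁻¹ * d * c)⁻¹) = 0 := Qg_conj h1.1
          rw [e1, o₁.Qmulc o₁.r_mem, Qg_self] at h1
          exact absurd h1 (by decide)
      calc d * (c * v₂ * c⁻¹) * d⁻¹ = c * (c⁻¹ * d * c * v₂ * (c⁻¹ * d * c)⁻¹) * c⁻¹ := by group
        _ = c * v₂ * c⁻¹ := by rw [h3]
    apply hne
    have h4 : nc v₁ {v₂} ≤ cz y := by
      rw [nc, closure_le]
      rintro _ ⟨c, hc, a, ha, rfl⟩
      rw [Set.mem_singleton_iff.1 ha]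
      exact mem_cz.2 (mul_inv_eq_iff_eq_mul.1 (hfix c hc y hyD)).symm
    exact mem_cz.1 (h4 hn)
  -- `D` is transitive on `v₂^{C₁}`
  have hDtr : ∀ c ∈ cz v₁, ∃ d ∈ D, d * v₂ * d⁻¹ = c * v₂ * c⁻¹ := by
    intro c hc
    have hcv := o₁.nor c hc v₂ o₁.r_mem
    obtain ⟨g, hg, e⟩ := hs1.norm_trans (inf_le_left : D ≤ cz v₁) hDn o₁.r_mem v2Y hd hdv hcv fun e => v2Y (by
      have := hs1.norY' hc e
      have e2 : c⁻¹ * (c * v₂ * c⁻¹) * c = v₂ := by group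
      rwa [e2] at this)
    refine ⟨g, hg, ?_⟩
    have hcc := o₁.sq _ hcv
    rcases (mem_zp2 h.vq1).1 e with e | e
    · calc g * v₂ * g⁻¹ = g * v₂ * g⁻¹ * (c * v₂ * c⁻¹) * (c * v₂ * c⁻¹) := by
            rw [mul_assoc _ (c * v₂ * c⁻¹) _, hcc, mul_one]
        _ = c * v₂ * c⁻¹ := by rw [e, one_mul]
    · exfalso
      have e1 : g * v₂ * g⁻¹ = c * v₂ * c⁻¹ * v₁ := by
        calc g * v₂ * g⁻¹ = g * v₂ * g⁻¹ * (c * v₂ * c⁻¹) * (c * v₂ * c⁻¹) := by
              rw [mul_assoc _ (c * v₂ * c⁻¹) _, hcc, mul_one]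
          _ = c * v₂ * c⁻¹ * v₁ := by rw [e, hs1.mc o₁.c_mem hcv]
      have h1 : Qg (cz v₁) v₂ (g * v₂ * g⁻¹) = 0 := Qg_conj hg.1
      rw [e1, o₁.Qmulc hcv, Qg_conj hc] at h1
      exact absurd h1 (by decide)
  -- `N₁ ≤ N₁^l`
  have hv2 : v₂ ∈ MulAut.conj l • nc v₁ {v₂} := S.W_le_N' h.vV2
  have hDV : D ≤ centralizer ({v'} : Set G) := fun d hd => SpSide.mem_centralizer_singleton.2
    (mem_centralizer_iff.1 hd.2 v' (hVA S.v'V)).symm
  have hle : nc v₁ {v₂} ≤ MulAut.conj l • nc v₁ {v₂} := by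
    conv_lhs => rw [nc]
    rw [closure_le]
    rintro _ ⟨c, hc, a, ha, rfl⟩
    rw [Set.mem_singleton_iff.1 ha]
    obtain ⟨d, hd, e⟩ := hDtr c hc
    rw [← e]
    exact (mem_normalizer_iff.1 (S.nor' (hDV hd)) _).1 hv2
  exact S.v_not_mem (hle o₁.c_mem)

end point

end

end Cfsg.Agent.Omega.IId.PlaneF

end

end
end

-- part: Mrg/Omega/IId/Pf/Idx
section
prune_inst 0x10000401100000000000580110020444400009200630001d1000244020613000500670044801b120808aa000000000012100440000000000000000000200729802802001100a00424001180b086000000000000000000000000000000041004000400000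
set_option linter.all false
open scoped Cfsg.Agent.FastGrp

-- merged: Cfsg.Agent.Mrg.Omega.IId.SpKill
section

section


/-!
# II.d, CASE 1, `q = 2`: KILL OF `Sp₄(2)` (#14451; referee #14584)

`One`, case B (`[N₁, N₂] ≠ 1`), `|N₁| = 32` and an invariant quadratic form on `N₁` with radical `⟨v₁⟩`:
impossible.
-/

set_option autoImplicit false

namespace Cfsg.Agent.Omega.IId.SpKill

open Subgroup Cfsg.Agent.Omega.NoFF.Basic Cfsg Cfsg.Agent.ZN Cfsg.Agent.Omega.IId.SpSide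
open Cfsg.Agent.Omega.IId.SpForm Cfsg.Agent.Omega.IId.One
open scoped Pointwise

universe u

variable {G : Type u} [Group G]

section

variable {T V₁ V₂ L₁ L₂ : Subgroup G} {v₁ v₂ s : G}

/-- `N₁ = ⟨V₂^{C₁}⟩` -/
abbrev NN (v₁ : G) (V₂ : Subgroup G) : Subgroup G := nc v₁ (V₂ : Set G)

theorem V2_le_NN (v₁ : G) (V₂ : Subgroup G) : V₂ ≤ NN v₁ V₂ := subset_nc v₁ _

section basic

variable (h : Base T V₁ V₂ L₁ L₂ v₁ v₂ s)
include h

/-- `N₁ ≤ O₂(C₁)` -/
theorem NN_le_o2 : NN v₁ V₂ ≤ ZN.o2 (cz v₁) := nc_le h.half1 (le_normalizer_o2 _)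

/-- `O₂(C₁)` centralises `N₁`. -/
theorem NN_le_cent : NN v₁ V₂ ≤ centralizer (ZN.o2 (cz v₁) : Set G) := by
  refine nc_le (fun x hx => ?_) ?_
  · rw [SetLike.mem_coe, mem_centralizer_iff]
    exact fun y hy => h.halfc1 y hy x hx
  · intro c hc
    apply mem_normalizer_of_conj
    rw [Side.conj_centralizer, SpSide.conj_eq (le_normalizer_o2 _ hc)]

theorem NN_comm : NN v₁ V₂ ≤ centralizer (NN v₁ V₂ : Set G) :=
  (NN_le_cent h).trans (centralizer_le (NN_le_o2 h))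

theorem NN_sq : ∀ x ∈ NN v₁ V₂, x * x = 1 := by
  intro x hx
  have key : NN v₁ V₂ ≤
      { carrier := {x | x ∈ NN v₁ V₂ ∧ x * x = 1}
        one_mem' := ⟨one_mem _, one_mul 1⟩
        mul_mem' := by
          rintro x y ⟨hx, hx2⟩ ⟨hy, hy2⟩
          refine ⟨mul_mem hx hy, ?_⟩
          have h1 : x * y = y * x := (mem_centralizer_iff.1 (NN_comm h hx) y hy).symm
          calc x * y * (x * y) = x * (y * x) * y := by group
            _ = x * (x * y) * y := by rw [h1]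
            _ = (x * x) * (y * y) := by group
            _ = 1 := by rw [hx2, hy2, one_mul]
        inv_mem' := by
          rintro x ⟨hx, hx2⟩
          refine ⟨inv_mem hx, ?_⟩
          rw [← mul_inv_rev, hx2, inv_one] } := by
    refine (closure_le _).2 ?_
    rintro _ ⟨g, hg, a, ha, rfl⟩
    refine ⟨conj_mem_nc hg ha, ?_⟩
    calc g * a * g⁻¹ * (g * a * g⁻¹) = g * (a * a) * g⁻¹ := by group
      _ = 1 := by rw [h.q2 a ha]; group
  exact (key hx).2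

theorem NN_le_cz2 : NN v₁ V₂ ≤ cz v₂ := by
  refine (NN_le_cent h).trans (centralizer_le ?_)
  rintro _ rfl
  exact h.half1 h.vV2

/-- `⁅N₁, N₂⁆ ≤ N₁ ∩ N₂` -/
theorem comm_le : ⁅NN v₁ V₂, NN v₂ V₁⁆ ≤ NN v₁ V₂ ⊓ NN v₂ V₁ :=
  le_inf (le_normalizer_iff_commutator_le_left.1 ((NN_le_cz2 h.symm).trans (le_normalizer_nc _ _)))
    (le_normalizer_iff_commutator_le_right.1 ((NN_le_cz2 h).trans (le_normalizer_nc _ _)))

theorem conj_V2 [Finite G] : MulAut.conj s • V₂ = V₁ := by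
  apply Subgroup.eq_of_le_of_card_ge
  · intro x hx
    rw [mem_conj] at hx
    have := h.s2 _ hx
    have e : s * (s⁻¹ * x * s) * s⁻¹ = x := by group
    rwa [e] at this
  · rw [Side.card_conj, h.card1, h.card2]

/-- conjugation by `s` -/
theorem conj_s [Finite G] : MulAut.conj s • NN v₁ V₂ = NN v₂ V₁ := by
  apply le_antisymm
  · intro x hx
    rw [mem_conj] at hx
    have := conj_nc h.sv1 h.s2 hx
    have e : s * (s⁻¹ * x * s) * s⁻¹ = x := by group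
    rwa [e] at this
  · intro x hx
    rw [mem_conj]
    have hv : s⁻¹ * v₂ * s⁻¹⁻¹ = v₁ := by rw [← h.sv1]; group
    have hA : ∀ a ∈ (V₁ : Set G), s⁻¹ * a * s⁻¹⁻¹ ∈ (V₂ : Set G) := by
      intro a ha
      have h1 : a ∈ MulAut.conj s • V₂ := by rw [conj_V2 h]; exact ha
      rw [mem_conj] at h1
      rw [inv_inv]
      exact h1
    have := conj_nc hv hA hx
    rwa [inv_inv] at this

end basic

/-- case B gives `v₁ ∈ N₁` -/
theorem v1_mem [Finite G] (h : Base T V₁ V₂ L₁ L₂ v₁ v₂ s) (hNT : ZN.o2 (cz v₁) ≤ T)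
    (hB : ¬ NN v₁ V₂ ≤ centralizer (NN v₂ V₁ : Set G)) : v₁ ∈ NN v₁ V₂ := by
  have hne : ⁅NN v₁ V₂, NN v₂ V₁⁆ ≠ ⊥ := fun e => hB (commutator_eq_bot_iff_le_centralizer.1 e)
  have hle := comm_le h
  have hT : T ≤ normalizer ((⁅NN v₁ V₂, NN v₂ V₁⁆ : Subgroup G) : Set G) := by
    intro t ht
    apply mem_normalizer_of_conj
    have h1 : MulAut.conj t • NN v₁ V₂ = NN v₁ V₂ := SpSide.conj_eq (le_normalizer_nc _ _ (h.T_le ht))
    have h2 : MulAut.conj t • NN v₂ V₁ = NN v₂ V₁ := SpSide.conj_eq (le_normalizer_nc _ _ (h.T_le2 ht))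
    have h3 : MulAut.conj t • ⁅NN v₁ V₂, NN v₂ V₁⁆ = ⁅MulAut.conj t • NN v₁ V₂, MulAut.conj t • NN v₂ V₁⁆ :=
      Subgroup.map_commutator _ _ _
    rw [h3, h1, h2]
  obtain ⟨x, hx, hx1, hxT⟩ := NoFF.LinesPlug.exists_fixed h.pT
    ((hle.trans inf_le_left).trans ((NN_le_o2 h).trans hNT)) hT hne
  have hxN : x ∈ NN v₁ V₂ := (hle hx).1
  rcases h.fix x (hNT (NN_le_o2 h hxN)) (NN_sq h x hxN) hxT with h1 | h1 | h1 | h1
  · exact absurd h1 hx1
  · exact h1 ▸ hxN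
  · have h3 : MulAut.conj s • ⁅NN v₁ V₂, NN v₂ V₁⁆ = ⁅MulAut.conj s • NN v₁ V₂, MulAut.conj s • NN v₂ V₁⁆ :=
      Subgroup.map_commutator _ _ _
    have h4 : MulAut.conj s • ⁅NN v₁ V₂, NN v₂ V₁⁆ = ⁅NN v₁ V₂, NN v₂ V₁⁆ := by
      rw [h3, conj_s h, conj_s h.symm, commutator_comm]
    have h5 : s * x * s⁻¹ ∈ MulAut.conj s • ⁅NN v₁ V₂, NN v₂ V₁⁆ := SpSide.conj_mem hx
    rw [h4, h1, h.sv2] at h5
    exact (hle h5).1
  · have h2 : x * v₂⁻¹ = v₁ := by rw [h1]; group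
    have h3 := mul_mem hxN (inv_mem (V2_le_NN v₁ _ h.vV2))
    rw [h2] at h3
    exact h3

/-- The side `(v₁, V₁, N₁)`. -/
theorem exists_side [Finite G] (h : _root_.Cfsg.Agent.Omega.IId.One.One T V₁ V₂ L₁ L₂ v₁ v₂ s) (hV : V₁ ≤ ZN.o2 (cz v₁))
    (hK : Kk v₁ ≤ ZN.o2 (cz v₁)) (hv : v₁ ∈ NN v₁ V₂) {v' : G} (hv' : v' ∈ V₁) (hv'1 : v' ≠ 1) (hv'v : v' ≠ v₁) :
    ∃ w, ∃ l ∈ L₁, Side V₁ V₂ (NN v₁ V₂) v₁ v' w l := by
  obtain ⟨w, hw, x, hx, hwx⟩ := h.k1
  obtain ⟨l, hl, hlv⟩ := h.t1 v₁ h.vV1 h.v1 v' hv' hv'1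
  have hb := h.toBase
  have hwx' : w * x * w⁻¹ = v₁ * x := by
    rcases Kk_conj hb.vq1 hw (hV hx) with h1 | h1
    · rw [mul_inv_eq_iff_eq_mul] at h1
      exact absurd h1 hwx
    · exact h1
  have hwv : w * v₁ * w⁻¹ = v₁ := by rw [mem_cz.1 hw.1, mul_inv_cancel_right]
  -- `w` moves `v'`
  have hwv' : w * v' * w⁻¹ = v₁ * v' := by
    rcases Kk_conj hb.vq1 hw (hV hv') with h1 | h1
    · exfalso
      apply hwx
      rcases hb.mem_V1 hx hv' hv'1 hv'v with h2 | h2 | h2 | h2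
      · rw [h2]; group
      · rw [h2]; exact mem_cz.1 hw.1
      · rw [h2]; rw [mul_inv_eq_iff_eq_mul] at h1; exact h1
      · rw [h2]
        have e : w * (v₁ * v') * w⁻¹ = v₁ * v' := by
          calc w * (v₁ * v') * w⁻¹ = (w * v₁ * w⁻¹) * (w * v' * w⁻¹) := by group
            _ = v₁ * v' := by rw [hwv, h1]
        rw [mul_inv_eq_iff_eq_mul] at e
        exact e
    · exact h1
  refine ⟨w, l, hl, ?_⟩
  exact {
    memV := fun y => ⟨fun hy => hb.mem_V1 hy hv' hv'1 hv'v, by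
      rintro (rfl | rfl | rfl | rfl)
      · exact one_mem _
      · exact h.vV1
      · exact hv'
      · exact mul_mem h.vV1 hv'⟩
    v1 := h.v1
    v'1 := hv'1
    ne := Ne.symm hv'v
    vv := hb.vq1
    v'v' := h.q1 _ hv'
    comm := h.c1 _ h.vV1 _ hv'
    nor := le_normalizer_nc _ _
    ab := NN_comm hb
    sq := NN_sq hb
    WN := V2_le_NN _ _
    vN := hv
    NV := (NN_le_cent hb).trans (centralizer_le hV)
    l_v := hlv
    l_V := hb.L_norm1 hl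
    l_W := mem_centralizer_iff.2 fun y hy => (h.L12 l hl y hy).symm
    w_v' := hwv'
    w_N := mem_centralizer_iff.2 fun y hy => (mem_centralizer_iff.1 (NN_le_cent hb hy) w (hK hw)).symm
    w_Q := fun y hy => by
      rcases Kk_conj hb.vq1 hw hy with h1 | h1
      · left; rw [h1, inv_mul_cancel]
      · right
        rw [h1]
        have h2 := mem_cz.1 (o2_le _ hy)
        rw [← h2, ← mul_assoc, inv_mul_cancel, one_mul] }

theorem frm [Finite G] (h : Base T V₁ V₂ L₁ L₂ v₁ v₂ s) (hv : v₁ ∈ NN v₁ V₂) {Q : G → ZMod 2}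
    (hQ : QF (NN v₁ V₂) (cz v₁) v₁ Q) (hQ2 : Q v₂ = 0) (h32 : Nat.card (NN v₁ V₂) = 32) :
    Frm (NN v₁ V₂) V₂ (cz v₁) v₁ Q where
  toQF := hQ
  ab := fun x hx y hy => (mem_centralizer_iff.1 (NN_comm h hx) y hy).symm
  sq := NN_sq h
  WN := V2_le_NN _ _
  vN := hv
  cN := h32
  cW := h.card2
  QW := fun x hx => by
    by_cases hx1 : x = 1
    · rw [hx1]; exact hQ.Q_one
    obtain ⟨l, hl, rfl⟩ := h.t2 v₂ h.vV2 h.v2 x hx hx1
    rw [hQ.inv l (h.L2_le hl) v₂ (V2_le_NN _ _ h.vV2), hQ2]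

/-- **KILL OF `Sp₄(2)`** -/
theorem kill [Finite G] (h : _root_.Cfsg.Agent.Omega.IId.One.One T V₁ V₂ L₁ L₂ v₁ v₂ s) (hNT : ZN.o2 (cz v₁) ≤ T) (hV : V₁ ≤ ZN.o2 (cz v₁))
    (hK : Kk v₁ ≤ ZN.o2 (cz v₁)) (hB : ¬ NN v₁ V₂ ≤ centralizer (NN v₂ V₁ : Set G)) {Q : G → ZMod 2}
    (hQ : QF (NN v₁ V₂) (cz v₁) v₁ Q) (hQ2 : Q v₂ = 0) (h32 : Nat.card (NN v₁ V₂) = 32) : False := by
  have hb := h.toBase
  have hv := v1_mem hb hNT hB
  have hs1 : s⁻¹ * v₁ * s⁻¹⁻¹ = v₂ := by rw [← h.sv2]; group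
  -- side 2
  have hv2 : v₂ ∈ NN v₂ V₁ := by
    rw [← conj_s hb, ← h.sv1]
    exact SpSide.conj_mem hv
  have hV2 : V₂ ≤ ZN.o2 (cz v₂) := by
    intro x hx
    rw [← conj_V2 hb.symm, mem_conj] at hx
    have := conj_o2_cz h.sv1 (hV hx)
    have e : s * (s⁻¹ * x * s) * s⁻¹ = x := by group
    rwa [e] at this
  have hK2 : Kk v₂ ≤ ZN.o2 (cz v₂) := by
    intro x hx
    have h1 := conj_o2_cz hs1 (hK (conj_Kk h.sv2 hx))
    have e : s⁻¹ * (s * x * s⁻¹) * s⁻¹⁻¹ = x := by group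
    rwa [e] at h1
  obtain ⟨w0, hw0, v', hv', hwv'⟩ := h.k1
  have hv'1 : v' ≠ 1 := by rintro rfl; exact hwv' (by group)
  have hv'v : v' ≠ v₁ := by rintro rfl; exact hwv' (mem_cz.1 hw0.1)
  obtain ⟨w, l, hl, S1⟩ := exists_side h hV hK hv hv' hv'1 hv'v
  have hv2' : s * v' * s⁻¹ ∈ V₂ := h.s1 v' hv'
  have hv2'1 : s * v' * s⁻¹ ≠ 1 := fun e => hv'1 (by
    calc v' = s⁻¹ * (s * v' * s⁻¹) * s := by group
      _ = 1 := by rw [e]; group)
  have hv2'v : s * v' * s⁻¹ ≠ v₂ := fun e => hv'v (by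
    calc v' = s⁻¹ * (s * v' * s⁻¹) * s := by group
      _ = s⁻¹ * (s * v₁ * s⁻¹) * s := by rw [e, h.sv1]
      _ = v₁ := by group)
  obtain ⟨w2, l2, hl2, S2⟩ := exists_side h.symm hV2 hK2 hv2 hv2' hv2'1 hv2'v
  set F : Subgroup G := NN v₁ V₂ ⊓ MulAut.conj l • NN v₁ V₂ with hF
  set E : Subgroup G := NN v₂ V₁ ⊓ MulAut.conj l2 • NN v₂ V₁ with hE
  have hFE : MulAut.conj s • F = E := by
    rw [hF, hE, Side.conj_inf, conj_s hb]
    congr 1
    rw [← conj_s hb, conj_conj, conj_conj]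
    apply S1.conj_N_eq
    have e1 : s * l * v₁ * (s * l)⁻¹ = s * (l * v₁ * l⁻¹) * s⁻¹ := by group
    have e2 : l2 * s * v₁ * (l2 * s)⁻¹ = l2 * (s * v₁ * s⁻¹) * l2⁻¹ := by group
    rw [e1, e2, S1.l_v, h.sv1, S2.l_v]
  have hfrm := frm hb hv hQ hQ2 h32
  have hL2V : L₂ ≤ centralizer (V₁ : Set G) := fun l hl => mem_centralizer_iff.2 fun y hy => (h.L21 l hl y hy).symm
  have hvF : v₁ ∉ F := fun hcon => S1.v_not_mem hcon.2
  rcases hfrm.dich (F := F) (L := L₂) inf_le_left S1.W_le_F hvF hb.L2_le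
    (hL2V.trans S1.centralizer_le_normalizer_F) h.L2 h.t2 with h1 | h1
  · -- `F = V₂`, `E = V₁`
    have hEV : E = V₁ := by rw [← hFE, h1, conj_V2 hb]
    have hCN : centralizer (NN v₁ V₂ : Set G) ≤ normalizer (V₁ : Set G) := by
      rw [← hEV]
      exact (centralizer_le (V2_le_NN v₁ V₂)).trans S2.centralizer_le_normalizer_F
    have hc4 : Nat.card F = 4 := by rw [h1, h.card2]
    by_cases hc : MulAut.conj l • NN v₁ V₂ ≤ centralizer (NN v₁ V₂ : Set G)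
    · have := S1.card_le hc hCN
      rw [← hF] at this
      omega
    · have halt : Alt (NN v₁ V₂) (MulAut.conj l • NN v₁ V₂) V₂ v₁ Q := {
        ab := hfrm.ab
        ab' := fun x hx y hy => by
          rw [mem_conj] at hx hy
          have h3 := hfrm.ab _ hx _ hy
          have h4 := congrArg (fun t => l * t * l⁻¹) h3
          simpa only [mul_assoc, _root_.mul_inv_cancel_left, _root_.mul_inv_cancel, _root_.mul_one] using h4
        sq := hfrm.sq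
        WN := hfrm.WN
        WN' := S1.W_le_N'
        vN := hv
        v1 := h.v1
        vN' := fun b hb' => (mem_centralizer_iff.1 (S1.N'_V hb') v₁ h.vV1).symm
        cm := fun x hx b hb' => by
          have := S1.comm_mem hx hb'
          rw [← hF, h1] at this
          exact this
        add := hQ.add
        inv := fun b hb' x hx => hQ.inv b (S1.centralizer_V_le (S1.N'_V hb')) x hx
        Qv := hQ.Qv
        rad := hQ.rad
        QW := hfrm.QW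
        perp := hfrm.perp
        W4 := fun a ha b hb ha1 hb1 hab x hx =>
          four_mem h.card2 (fun y hy => h.q2 y hy) ha hb ha1 hb1 hab hx }
      have c1 := halt.card_le
      have c2 := halt.card_cent_le hc
      have c3 := S1.card_cent
      have c4 : Nat.card (MulAut.conj l • NN v₁ V₂ : Subgroup G) = 32 := by rw [Side.card_conj, h32]
      have c5 := h.card2
      omega
  · -- `N₁ = F⟨v₁⟩`, `N₂ = E⟨v₂⟩`
    apply hB
    have h2 : ∀ y ∈ NN v₂ V₁, y ∈ E ∨ y * v₂ ∈ E := by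
      intro y hy
      rw [← conj_s hb, mem_conj] at hy
      rcases h1 _ hy with h3 | h3
      · left
        rw [← hFE, mem_conj]
        exact h3
      · right
        rw [← hFE, mem_conj]
        have e : s⁻¹ * (y * v₂) * s = s⁻¹ * y * s * v₁ := by
          have e2 : s⁻¹ * v₂ * s = v₁ := by rw [← h.sv1]; group
          calc s⁻¹ * (y * v₂) * s = (s⁻¹ * y * s) * (s⁻¹ * v₂ * s) := by group
            _ = s⁻¹ * y * s * v₁ := by rw [e2]
        rw [e]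
        exact h3
    -- `E ∩ F = 1`
    have hEF : F ⊓ E = ⊥ := by
      by_contra hne
      have hT : T ≤ normalizer ((F ⊓ E : Subgroup G) : Set G) := by
        intro t ht
        apply mem_normalizer_of_conj
        rw [Side.conj_inf, S1.conj_F (hb.T_le ht) (h.T1 t ht _ hv'), S2.conj_F (hb.T_le2 ht) (h.T2 t ht _ hv2')]
      obtain ⟨x, hx, hx1, hxT⟩ := NoFF.LinesPlug.exists_fixed h.pT
        ((inf_le_left.trans inf_le_left).trans ((NN_le_o2 hb).trans hNT)) hT hne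
      have hxF : x ∈ F := hx.1
      have hxE : x ∈ E := hx.2
      rcases h.fix x (hNT (NN_le_o2 hb hxF.1)) (NN_sq hb x hxF.1) hxT with h3 | h3 | h3 | h3
      · exact hx1 h3
      · exact S1.v_not_mem (h3 ▸ hxF.2)
      · exact S2.v_not_mem (h3 ▸ hxE.2)
      · -- `l2 w2 l2⁻¹` centralises `E ∋ v₁v₂`, `v₁` and moves `v₂`
        have h4 : l2 * w2 * l2⁻¹ ∈ centralizer (E : Set G) := centralizer_le (fun y hy => hy.2) S2.w'_N'
        have h5 := SpSide.fix h4 hxE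
        have h6 := SpSide.fix h4 (S2.W_le_F h.vV1)
        rw [h3] at h5
        have h7 := S2.w'_v
        have h8 : l2 * w2 * l2⁻¹ * (v₁ * v₂) * (l2 * w2 * l2⁻¹)⁻¹ =
            (l2 * w2 * l2⁻¹ * v₁ * (l2 * w2 * l2⁻¹)⁻¹) * (l2 * w2 * l2⁻¹ * v₂ * (l2 * w2 * l2⁻¹)⁻¹) := by group
        rw [h8, h6, h7] at h5
        have h9 := mul_left_cancel h5
        exact hv2'1 (mul_eq_left.1 h9)
    -- `[F, E] = 1`
    have hFEc : ∀ x ∈ F, ∀ y ∈ E, x * y = y * x := by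
      intro x hx y hy
      have hxE : x ∈ normalizer (E : Set G) := by
        apply S2.centralizer_le_normalizer_F
        exact centralizer_le h.half1 (NN_le_cent hb hx.1)
      have hyF : y ∈ normalizer (F : Set G) := by
        apply S1.centralizer_le_normalizer_F
        exact centralizer_le h.half2 (NN_le_cent hb.symm hy.1)
      have h3 : x * y * x⁻¹ * y⁻¹ ∈ F ⊓ E := by
        refine ⟨?_, E.mul_mem ((mem_normalizer_iff.1 hxE y).1 hy) (E.inv_mem hy)⟩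
        have h4 := F.mul_mem hx ((mem_normalizer_iff.1 hyF x⁻¹).1 (F.inv_mem hx))
        have e : x * y * x⁻¹ * y⁻¹ = x * (y * x⁻¹ * y⁻¹) := by group
        rw [e]
        exact h4
      rw [hEF, mem_bot] at h3
      rw [mul_inv_eq_one, mul_inv_eq_iff_eq_mul] at h3
      exact h3
    -- `v₁`, `v₂` are central in `N₁N₂`
    have c11 : ∀ x ∈ NN v₁ V₂, x * v₁ = v₁ * x := fun x hx => hfrm.ab x hx v₁ hv
    have c12 : ∀ x ∈ NN v₁ V₂, x * v₂ = v₂ * x := fun x hx => mem_cz.1 (NN_le_cz2 hb hx)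
    have c21 : ∀ y ∈ NN v₂ V₁, y * v₁ = v₁ * y := fun y hy => mem_cz.1 (NN_le_cz2 hb.symm hy)
    have c22 : ∀ y ∈ NN v₂ V₁, y * v₂ = v₂ * y := fun y hy => (mem_centralizer_iff.1 (NN_comm hb.symm hy) v₂ hv2).symm
    have key : ∀ x ∈ NN v₁ V₂, ∀ y ∈ E, x * y = y * x := by
      intro x hx y hy
      rcases h1 x hx with h3 | h3
      · exact hFEc x h3 y hy
      · have h4 := hFEc _ h3 y hy
        have h5 : x * y * v₁ = y * x * v₁ := by
          calc x * y * v₁ = x * (y * v₁) := by group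
            _ = x * v₁ * y := by rw [c21 y hy.1]; group
            _ = y * x * v₁ := by rw [h4]; group
        exact mul_right_cancel h5
    intro x hx
    rw [mem_centralizer_iff]
    intro y hy
    rcases h2 y hy with h3 | h3
    · exact (key x hx y h3).symm
    · have h4 := key x hx _ h3
      have h5 : y * x * v₂ = x * y * v₂ := by
        calc y * x * v₂ = y * (x * v₂) := by group
          _ = y * v₂ * x := by rw [c12 x hx]; group
          _ = x * y * v₂ := by rw [← h4]; group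
      exact mul_right_cancel h5

/-- **KILL OF `Sp₄(2)`**, final form: `One`, case B, `|N₁| = 32` and a `C₁`-invariant quadratic form on `N₁` with
radical `⟨v₁⟩`, `Q(v₁) = 1`, `Q(v₂) = 0`. -/
theorem false_of [Finite G] (h : _root_.Cfsg.Agent.Omega.IId.One.One T V₁ V₂ L₁ L₂ v₁ v₂ s) (hB : ¬ nc v₁ {v₂} ≤ centralizer (nc v₂ {v₁} : Set G))
    {Q : G → ZMod 2} (hQ : QF (nc v₁ {v₂}) (cz v₁) v₁ Q) (hQ2 : Q v₂ = 0) (h32 : Nat.card (nc v₁ {v₂}) = 32) : False := by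
  have hb := h.toBase
  rw [hb.N1_eq] at hQ h32 hB
  rw [hb.symm.N1_eq] at hB
  exact kill h hb.Q_le hb.V1_le_Q hb.Kk_le_Q hB hQ hQ2 h32

end

end Cfsg.Agent.Omega.IId.SpKill

end

section


/-!
# II.d, CASE 1, `q = 2`: KILL OF `Sp₄(2)` from the orthogonal structure `GOrth` (helper304)
-/

set_option autoImplicit false

namespace Cfsg.Agent.Omega.IId.SpPlug

open Subgroup Cfsg Cfsg.Agent.ZN Cfsg.Agent.Omega.IId.SpForm Cfsg.Agent.Omega.IId.One Cfsg.Agent.Omega.TV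

universe u

variable {G : Type u} [Group G]

/-- `GOrth` gives `QF`. -/
theorem qf {C N : Subgroup G} {r c : G} (h : GOrth C N r c) : QF N C c (Qg C r) where
  add := fun x hx y hy z hz => h.add_left hx hy hz
  inv := h.inv
  Qv := h.Qc
  vrad := h.Bc
  rad := h.rad

/-- **KILL OF `Sp₄(2)`**: `One`, case B, `GOrth`, `|N₁| = 32`. -/
theorem false_of [Finite G] {T V₁ V₂ L₁ L₂ : Subgroup G} {v₁ v₂ s : G} (h : _root_.Cfsg.Agent.Omega.IId.One.One T V₁ V₂ L₁ L₂ v₁ v₂ s)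
    (hB : ¬ nc v₁ {v₂} ≤ centralizer (nc v₂ {v₁} : Set G)) (hO : GOrth (cz v₁) (nc v₁ {v₂}) v₂ v₁)
    (h32 : Nat.card (nc v₁ {v₂}) = 32) : False :=
  SpKill.false_of h hB (qf hO) Qg_self h32

end Cfsg.Agent.Omega.IId.SpPlug

end

end

-- merged: Cfsg.Agent.Mrg.Omega.IId.PlaneOf
section

section


/-!
# II.d, CASE 1, `q = 2`: DIAGRAM + IDENTITY (bb OMEGA #15930)

helper310.  `One`, `[N₁, N₂] ≠ 1` : `|N₁| = 2⁷`, `R = [N₁, N₁^l]` is a totally singular plane of `N₁`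
containing `V₂`, equal to the set of singular vectors of `C_{N₁}(N₁^l)`.
-/

set_option autoImplicit false
set_option linter.unusedSectionVars false
set_option linter.unusedVariables false

namespace Cfsg.Agent.Omega.IId.PlaneOf

open Cfsg.Agent.Omega.TV hiding z2
open Subgroup Cfsg Cfsg.Agent.ZN Cfsg.Agent.Omega.IId.PlaneSy Cfsg.Agent.Omega.IId.PlaneRk
open Cfsg.Agent.Omega.IId.PlaneF
open Cfsg.Agent.Omega.IId.One Cfsg.Agent.Omega.IId.SpSide
open Cfsg.Agent.Omega.NoFF.Basic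
open Cfsg.Agent.Omega.IId.SpKill (NN V2_le_NN NN_le_o2 NN_le_cent NN_comm NN_sq NN_le_cz2 conj_V2 conj_s exists_side)
open Cfsg.Agent.Omega.IId.SpForm (two_mul_card_le four_mem)
open scoped Pointwise commutatorElement

universe u

variable {G : Type u} [Group G]

section side

variable {V W N : Subgroup G} {v v' w l : G} (S : Side V W N v v' w l)
include S

/-- an element of `C_G(v)` normalising `V` maps `N'` to `N'` or `N''` -/
theorem conj_N' {t : G} (ht : t ∈ centralizer ({v} : Set G)) (htV : t * v' * t⁻¹ ∈ V) :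
    MulAut.conj t • (MulAut.conj l • N) = MulAut.conj l • N ∨
      MulAut.conj t • (MulAut.conj l • N) = MulAut.conj w • (MulAut.conj l • N) := by
  have h0 : t * v = v * t := mem_centralizer_singleton.1 ht
  rw [conj_conj]
  have e : t * l * v * (t * l)⁻¹ = t * v' * t⁻¹ := by rw [← S.l_v]; group
  rcases (S.memV _).1 htV with h2 | h2 | h2 | h2
  · exfalso
    apply S.v'1
    calc v' = t⁻¹ * (t * v' * t⁻¹) * t := by group
      _ = 1 := by rw [h2]; group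
  · exfalso
    apply S.ne
    calc v = t⁻¹ * (v * t) := by rw [← h0]; group
      _ = t⁻¹ * (t * v' * t⁻¹) * t := by rw [h2]; group
      _ = v' := by group
  · left
    apply S.conj_N_eq
    rw [e, h2, S.l_v]
  · right
    rw [conj_conj]
    apply S.conj_N_eq
    have e2 : w * l * v * (w * l)⁻¹ = w * (l * v * l⁻¹) * w⁻¹ := by group
    rw [e, h2, e2, S.l_v, S.w_v']

/-- `R = [N, N'] ≤ N ∩ N'` -/
theorem R_le : ⁅N, MulAut.conj l • N⁆ ≤ N ⊓ MulAut.conj l • N :=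
  le_inf (le_normalizer_iff_commutator_le_left.1 S.N'_le_normalizer)
    (le_normalizer_iff_commutator_le_right.1 S.N_le_normalizer)

/-- `N_{C_G(v)}(V)` normalises `R`. -/
theorem conj_R {t : G} (ht : t ∈ centralizer ({v} : Set G)) (htV : t * v' * t⁻¹ ∈ V) :
    MulAut.conj t • ⁅N, MulAut.conj l • N⁆ = ⁅N, MulAut.conj l • N⁆ := by
  have h1 : MulAut.conj t • ⁅N, MulAut.conj l • N⁆ = ⁅MulAut.conj t • N, MulAut.conj t • (MulAut.conj l • N)⁆ :=
    Subgroup.map_commutator _ _ _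
  have h2 : MulAut.conj t • N = N := conj_eq (S.nor ht)
  rw [h1, h2]
  rcases conj_N' S ht htV with h3 | h3
  · rw [h3]
  · rw [h3]
    have h4 : MulAut.conj w • ⁅N, MulAut.conj l • N⁆ = ⁅MulAut.conj w • N, MulAut.conj w • (MulAut.conj l • N)⁆ :=
      Subgroup.map_commutator _ _ _
    rw [conj_eq_of_centralizer S.w_N] at h4
    rw [← h4]
    exact conj_eq_of_centralizer (centralizer_le ((R_le S).trans inf_le_left) S.w_N)

end side

section

variable [Finite G] {T V₁ V₂ L₁ L₂ : Subgroup G} {v₁ v₂ s : G}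

/-- the index of `F` in `N₁` is not 2 -/
theorem not_index_two (h : _root_.Cfsg.Agent.Omega.IId.One.One T V₁ V₂ L₁ L₂ v₁ v₂ s) (hB : ¬ NN v₁ V₂ ≤ centralizer (NN v₂ V₁ : Set G))
    (hv : v₁ ∈ NN v₁ V₂) {v' w l : G} (S1 : Side V₁ V₂ (NN v₁ V₂) v₁ v' w l) {w2 l2 : G}
    (S2 : Side V₂ V₁ (NN v₂ V₁) v₂ (s * v' * s⁻¹) w2 l2)
    (h1 : ∀ x ∈ NN v₁ V₂, x ∈ NN v₁ V₂ ⊓ MulAut.conj l • NN v₁ V₂ ∨
      x * v₁ ∈ NN v₁ V₂ ⊓ MulAut.conj l • NN v₁ V₂) : False := by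
  have hb := h.toBase
  have hNT := hb.Q_le
  have hv2 : v₂ ∈ NN v₂ V₁ := by
    rw [← conj_s hb, ← h.sv1]
    exact SpSide.conj_mem hv
  have hv' : v' ∈ V₁ := S1.v'V
  have hv2' : s * v' * s⁻¹ ∈ V₂ := h.s1 v' hv'
  have hv2'1 := S2.v'1
  set F : Subgroup G := NN v₁ V₂ ⊓ MulAut.conj l • NN v₁ V₂ with hF
  set E : Subgroup G := NN v₂ V₁ ⊓ MulAut.conj l2 • NN v₂ V₁ with hE
  have hFE : MulAut.conj s • F = E := by
    rw [hF, hE, Side.conj_inf, conj_s hb]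
    congr 1
    rw [← conj_s hb, conj_conj, conj_conj]
    apply S1.conj_N_eq
    have e1 : s * l * v₁ * (s * l)⁻¹ = s * (l * v₁ * l⁻¹) * s⁻¹ := by group
    have e2 : l2 * s * v₁ * (l2 * s)⁻¹ = l2 * (s * v₁ * s⁻¹) * l2⁻¹ := by group
    rw [e1, e2, S1.l_v, h.sv1, S2.l_v]
  apply hB
  have h2 : ∀ y ∈ NN v₂ V₁, y ∈ E ∨ y * v₂ ∈ E := by
    intro y hy
    rw [← conj_s hb, mem_conj] at hy
    rcases h1 _ hy with h3 | h3
    · left
      rw [← hFE, mem_conj]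
      exact h3
    · right
      rw [← hFE, mem_conj]
      have e : s⁻¹ * (y * v₂) * s = s⁻¹ * y * s * v₁ := by
        have e2 : s⁻¹ * v₂ * s = v₁ := by rw [← h.sv1]; group
        calc s⁻¹ * (y * v₂) * s = (s⁻¹ * y * s) * (s⁻¹ * v₂ * s) := by group
          _ = s⁻¹ * y * s * v₁ := by rw [e2]
      rw [e]
      exact h3
  -- `E ∩ F = 1`
  have hEF : F ⊓ E = ⊥ := by
    by_contra hne
    have hT : T ≤ normalizer ((F ⊓ E : Subgroup G) : Set G) := by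
      intro t ht
      apply mem_normalizer_of_conj
      rw [Side.conj_inf, S1.conj_F (hb.T_le ht) (h.T1 t ht _ hv'), S2.conj_F (hb.T_le2 ht) (h.T2 t ht _ hv2')]
    obtain ⟨x, hx, hx1, hxT⟩ := NoFF.LinesPlug.exists_fixed h.pT
      ((inf_le_left.trans inf_le_left).trans ((NN_le_o2 hb).trans hNT)) hT hne
    have hxF : x ∈ F := hx.1
    have hxE : x ∈ E := hx.2
    rcases h.fix x (hNT (NN_le_o2 hb hxF.1)) (NN_sq hb x hxF.1) hxT with h3 | h3 | h3 | h3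
    · exact hx1 h3
    · exact S1.v_not_mem (h3 ▸ hxF.2)
    · exact S2.v_not_mem (h3 ▸ hxE.2)
    · -- `l2 w2 l2⁻¹` centralises `E ∋ v₁v₂`, `v₁` and moves `v₂`
      have h4 : l2 * w2 * l2⁻¹ ∈ centralizer (E : Set G) := centralizer_le (fun y hy => hy.2) S2.w'_N'
      have h5 := SpSide.fix h4 hxE
      have h6 := SpSide.fix h4 (S2.W_le_F h.vV1)
      rw [h3] at h5
      have h7 := S2.w'_v
      have h8 : l2 * w2 * l2⁻¹ * (v₁ * v₂) * (l2 * w2 * l2⁻¹)⁻¹ =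
          (l2 * w2 * l2⁻¹ * v₁ * (l2 * w2 * l2⁻¹)⁻¹) * (l2 * w2 * l2⁻¹ * v₂ * (l2 * w2 * l2⁻¹)⁻¹) := by group
      rw [h8, h6, h7] at h5
      have h9 := mul_left_cancel h5
      exact hv2'1 (mul_eq_left.1 h9)
  -- `[F, E] = 1`
  have hFEc : ∀ x ∈ F, ∀ y ∈ E, x * y = y * x := by
    intro x hx y hy
    have hxE : x ∈ normalizer (E : Set G) := by
      apply S2.centralizer_le_normalizer_F
      exact centralizer_le h.half1 (NN_le_cent hb hx.1)
    have hyF : y ∈ normalizer (F : Set G) := by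
      apply S1.centralizer_le_normalizer_F
      exact centralizer_le h.half2 (NN_le_cent hb.symm hy.1)
    have h3 : x * y * x⁻¹ * y⁻¹ ∈ F ⊓ E := by
      refine ⟨?_, E.mul_mem ((mem_normalizer_iff.1 hxE y).1 hy) (E.inv_mem hy)⟩
      have h4 := F.mul_mem hx ((mem_normalizer_iff.1 hyF x⁻¹).1 (F.inv_mem hx))
      have e : x * y * x⁻¹ * y⁻¹ = x * (y * x⁻¹ * y⁻¹) := by group
      rw [e]
      exact h4
    rw [hEF, mem_bot] at h3
    rw [mul_inv_eq_one, mul_inv_eq_iff_eq_mul] at h3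
    exact h3
  -- `v₁`, `v₂` are central in `N₁N₂`
  have c11 : ∀ x ∈ NN v₁ V₂, x * v₁ = v₁ * x := fun x hx =>
    (mem_centralizer_iff.1 (NN_comm hb hx) v₁ hv).symm
  have c12 : ∀ x ∈ NN v₁ V₂, x * v₂ = v₂ * x := fun x hx => mem_cz.1 (NN_le_cz2 hb hx)
  have c21 : ∀ y ∈ NN v₂ V₁, y * v₁ = v₁ * y := fun y hy => mem_cz.1 (NN_le_cz2 hb.symm hy)
  have c22 : ∀ y ∈ NN v₂ V₁, y * v₂ = v₂ * y := fun y hy => (mem_centralizer_iff.1 (NN_comm hb.symm hy) v₂ hv2).symm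
  have key : ∀ x ∈ NN v₁ V₂, ∀ y ∈ E, x * y = y * x := by
    intro x hx y hy
    rcases h1 x hx with h3 | h3
    · exact hFEc x h3 y hy
    · have h4 := hFEc _ h3 y hy
      have h5 : x * y * v₁ = y * x * v₁ := by
        calc x * y * v₁ = x * (y * v₁) := by group
          _ = x * v₁ * y := by rw [c21 y hy.1]; group
          _ = y * x * v₁ := by rw [h4]; group
      exact mul_right_cancel h5
  intro x hx
  rw [mem_centralizer_iff]
  intro y hy
  rcases h2 y hy with h3 | h3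
  · exact (key x hx y h3).symm
  · have h4 := key x hx _ h3
    have h5 : y * x * v₂ = x * y * v₂ := by
      calc y * x * v₂ = y * (x * v₂) := by group
        _ = y * v₂ * x := by rw [c12 x hx]; group
        _ = x * y * v₂ := by rw [← h4]; group
    exact mul_right_cancel h5

end

/-! ### The form and `N'` -/

section form

variable {C V W N : Subgroup G} {v r v' w l : G} (S : Side V W N v v' w l) (o : GOrth C N r v)
  (hC : centralizer ({v} : Set G) ≤ C)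
include S o hC

theorem N'_C : MulAut.conj l • N ≤ C := (S.N'_V.trans S.centralizer_V_le).trans hC

/-- `C_N(N') ⊥ R` -/
theorem perp_R {x : G} (hx : x ∈ N) (hxc : ∀ y ∈ MulAut.conj l • N, y * x * y⁻¹ = x) :
    ∀ t ∈ ⁅N, MulAut.conj l • N⁆, Bg C r x t = 0 := by
  have hs := sy_of o
  have hle : ⁅N, MulAut.conj l • N⁆ ≤ hs.pp hx := by
    rw [Subgroup.commutator_le]
    intro n hn y hy
    have hyC := N'_C S o hC hy
    have h1 : y * n⁻¹ * y⁻¹ ∈ N := o.nor y hyC _ (inv_mem hn)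
    have e : ⁅n, y⁆ = n * (y * n⁻¹ * y⁻¹) := by rw [commutatorElement_def]; group
    refine ⟨by rw [e]; exact mul_mem hn h1, ?_⟩
    rw [e, o.add x hx n hn _ h1]
    nth_rewrite 2 [← hxc y hy]
    rw [o.B_inv hyC hx (inv_mem hn), hs.iv hn, z2_self]
  exact fun t ht => (hle ht).2

/-- `C_N(N') = R^⊥` -/
theorem cent_of_perp {x : G} (hx : x ∈ N) (hxp : ∀ t ∈ ⁅N, MulAut.conj l • N⁆, Bg C r x t = 0) :
    ∀ y ∈ MulAut.conj l • N, y * x * y⁻¹ = x := by
  have hs := sy_of o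
  intro y hy
  have hyC := N'_C S o hC hy
  have hR := R_le S
  -- `x⁻¹(y x y⁻¹)` is orthogonal to `N`
  have h1 : ⁅y, x⁆ ∈ ⁅N, MulAut.conj l • N⁆ := by
    have h2 : ⁅x, y⁆ ∈ ⁅N, MulAut.conj l • N⁆ := commutator_mem_commutator hx hy
    rw [← commutatorElement_inv] 
    exact inv_mem h2
  have h2 : ∀ n ∈ N, Bg C r ⁅y, x⁆ n = 0 := by
    intro n hn
    have e : ⁅y, x⁆ = (y * x * y⁻¹) * x⁻¹ := by rw [commutatorElement_def]
    have hyx := o.nor y hyC x hx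
    rw [e, o.add_left hyx (inv_mem hx) hn, hs.iv hx, hs.inv_left hyC hx hn]
    have hyn := hs.nor' hyC hn
    have e3 : y⁻¹ * n * y = (y⁻¹ * n * y * n⁻¹) * n := by group
    have h4 : y⁻¹ * n * y * n⁻¹ ∈ ⁅N, MulAut.conj l • N⁆ := by
      have h5 : ⁅n, y⁻¹⁆ ∈ ⁅N, MulAut.conj l • N⁆ := commutator_mem_commutator hn (inv_mem hy)
      have h6 := inv_mem h5
      have e6 : (⁅n, y⁻¹⁆)⁻¹ = y⁻¹ * n * y * n⁻¹ := by rw [commutatorElement_def]; group
      rwa [e6] at h6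
    rw [e3, o.add x hx _ (hR h4).1 n hn, hxp _ h4, zero_add, z2_self]
  rcases o.rad _ (hR h1).1 h2 with h3 | h3
  · rw [commutatorElement_def, mul_inv_eq_one] at h3
    exact h3
  · exact absurd (h3 ▸ (hR h1).2) S.v_not_mem

theorem R_iso : ∀ x ∈ ⁅N, MulAut.conj l • N⁆, ∀ y ∈ ⁅N, MulAut.conj l • N⁆, Bg C r x y = 0 := by
  intro x hx
  have hR := R_le S
  refine perp_R S o hC (hR hx).1 fun y hy => ?_
  have hx' : x ∈ MulAut.conj l • N := (hR hx).2
  rw [mem_conj] at hy hx'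
  have h1 := (sy_of o).mc hy hx'
  have h2 := congrArg (fun t => l * t * l⁻¹) h1
  have e1 : l * (l⁻¹ * y * l * (l⁻¹ * x * l)) * l⁻¹ = y * x := by group
  have e2 : l * (l⁻¹ * x * l * (l⁻¹ * y * l)) * l⁻¹ = x * y := by group
  rw [e1, e2] at h2
  rw [h2]; group

/-- `|R| ≠ 4`: the alternating argument -/
theorem card_R_ne [Finite G] (hR4 : Nat.card (⁅N, MulAut.conj l • N⁆ : Subgroup G) = 4)
    (hQ : ∀ x ∈ ⁅N, MulAut.conj l • N⁆, Qg C r x = 0) : False := by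
  have hs := sy_of o
  have hR := R_le S
  set R := ⁅N, MulAut.conj l • N⁆ with hRdef
  have hRN : R ≤ N := hR.trans inf_le_left
  have hvv := S.vv
  -- a basis of `R`
  obtain ⟨a, ha, ha1⟩ : ∃ a ∈ R, a ≠ 1 := by
    by_contra hcon
    push Not at hcon
    have h1 : R ≤ ⊥ := fun x hx => by rw [mem_bot]; exact hcon x hx
    have h2 := Subgroup.card_le_of_le h1
    rw [Subgroup.card_bot] at h2
    omega
  obtain ⟨b, hb, hb1, hba⟩ : ∃ b ∈ R, b ≠ 1 ∧ b ≠ a := by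
    by_contra hcon
    push Not at hcon
    have h1 : R ≤ zpowers a := fun x hx => by
      by_cases hx1 : x = 1
      · rw [hx1]; exact one_mem _
      · rw [hcon x hx hx1]; exact mem_zpowers _
    have h2 := Subgroup.card_le_of_le h1
    rw [Nat.card_zpowers] at h2
    have h3 : orderOf a ≤ 2 := orderOf_le_of_pow_eq_one (by norm_num) (by rw [pow_two, o.sq a (hRN ha)])
    omega
  have hmem : ∀ x ∈ R, x = 1 ∨ x = a ∨ x = b ∨ x = a * b := fun x hx =>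
    four_mem hR4 (fun y hy => o.sq y (hRN hy)) ha hb ha1 hb1 (Ne.symm hba) hx
  have vR : v ∉ R := fun e => S.v_not_mem (hR e).2
  have nz : ∀ t ∈ R, t ≠ 1 → t ∉ zpowers v := fun t ht ht1 e => by
    rcases (mem_zp2 hvv).1 e with h1 | h1
    · exact ht1 h1
    · exact vR (h1 ▸ ht)
  have hab1 : a * b ≠ 1 := fun e => hba (by
    calc b = a * (a * b) := by rw [← mul_assoc, o.sq a (hRN ha), one_mul]
      _ = a := by rw [e, mul_one])
  have haN := hRN ha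
  have hbN := hRN hb
  have nab := nz _ (mul_mem ha hb) hab1
  -- dual basis
  obtain ⟨x, hx, ax, bx⟩ := hs.sep2 haN hbN (nz a ha ha1) nab
  obtain ⟨y, hy, byy, ay⟩ := hs.sep2 hbN haN (nz b hb hb1) (by rwa [hs.mc hbN haN])
  -- `β_c(n) = n⁻¹ (c n c⁻¹)`
  have hcR : ∀ n ∈ N, ∀ c ∈ MulAut.conj l • N, n⁻¹ * (c * n * c⁻¹) ∈ R := by
    intro n hn c hc
    have h5 : ⁅n⁻¹, c⁆ ∈ ⁅N, MulAut.conj l • N⁆ := commutator_mem_commutator (inv_mem hn) hc
    have e : ⁅n⁻¹, c⁆ = n⁻¹ * (c * n * c⁻¹) := by rw [commutatorElement_def]; group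
    rwa [e] at h5
  have hCc : ∀ c ∈ MulAut.conj l • N, c ∈ C := fun c hc => N'_C S o hC hc
  have hself : ∀ n ∈ N, ∀ c ∈ MulAut.conj l • N, Bg C r n (n⁻¹ * (c * n * c⁻¹)) = 0 := by
    intro n hn c hc
    unfold Bg
    rw [mul_inv_cancel_left, o.inv c (hCc c hc) n hn, hQ _ (hcR n hn c hc), add_zero, z2_self]
  have hsymm : ∀ n ∈ N, ∀ n' ∈ N, ∀ c ∈ MulAut.conj l • N,
      Bg C r n (n'⁻¹ * (c * n' * c⁻¹)) = Bg C r n' (n⁻¹ * (c * n * c⁻¹)) := by
    intro n hn n' hn' c hc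
    have h1 := hself (n * n') (mul_mem hn hn') c hc
    have e : (n * n')⁻¹ * (c * (n * n') * c⁻¹) = (n⁻¹ * (c * n * c⁻¹)) * (n'⁻¹ * (c * n' * c⁻¹)) := by
      have h2 : (n * n')⁻¹ * (c * (n * n') * c⁻¹) = n'⁻¹ * (n⁻¹ * (c * n * c⁻¹)) * (c * n' * c⁻¹) := by group
      rw [h2, hs.mc (inv_mem hn') (hRN (hcR n hn c hc)), mul_assoc]
    rw [e] at h1
    have p1 := hRN (hcR n hn c hc)
    have p2 := hRN (hcR n' hn' c hc)
    rw [o.add _ (mul_mem hn hn') _ p1 _ p2, o.add_left hn hn' p1, o.add_left hn hn' p2, hself n hn c hc,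
      hself n' hn' c hc, zero_add, add_zero] at h1
    rcases z2 (Bg C r n (n'⁻¹ * (c * n' * c⁻¹))) with h2 | h2 <;>
      rcases z2 (Bg C r n' (n⁻¹ * (c * n * c⁻¹))) with h3 | h3
    · rw [h2, h3]
    · rw [h2, h3] at h1; exact absurd h1 (by decide)
    · rw [h2, h3] at h1; exact absurd h1 (by decide)
    · rw [h2, h3]
  -- an element of `R` orthogonal to `x` and `y` is 1
  have hxyR : ∀ t ∈ R, Bg C r x t = 0 → Bg C r y t = 0 → t = 1 := by
    intro t ht h1 h2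
    rw [o.comm _ haN _ hx] at ax
    rw [o.comm _ hbN _ hx] at bx
    rw [o.comm _ hbN _ hy] at byy
    rw [o.comm _ haN _ hy] at ay
    rcases hmem t ht with h3 | h3 | h3 | h3
    · exact h3
    · rw [h3, ax] at h1; exact absurd h1 (by decide)
    · rw [h3, byy] at h2; exact absurd h2 (by decide)
    · rw [h3, o.add x hx a haN b hbN, ax, bx] at h1; exact absurd h1 (by decide)
  -- `Z = R^⊥`
  have hZ : ∀ n ∈ N, Bg C r a n = 0 → Bg C r b n = 0 → ∀ c ∈ MulAut.conj l • N, c * n * c⁻¹ = n := by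
    intro n hn h1 h2
    refine cent_of_perp S o hC hn fun t ht => ?_
    rw [o.comm _ hn _ (hRN ht)]
    rcases hmem t ht with rfl | rfl | rfl | rfl
    · rw [o.comm _ N.one_mem _ hn]; exact GOrth.Bone
    · exact h1
    · exact h2
    · rw [o.add_left haN hbN hn, h1, h2, add_zero]
  -- if `f_c = 0` then `c` centralises `N`
  have hf0 : ∀ c ∈ MulAut.conj l • N, Bg C r x (y⁻¹ * (c * y * c⁻¹)) = 0 → c ∈ centralizer (N : Set G) := by
    intro c hc h0
    have hy1 : y⁻¹ * (c * y * c⁻¹) = 1 := hxyR _ (hcR y hy c hc) h0 (hself y hy c hc)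
    have hx1 : x⁻¹ * (c * x * c⁻¹) = 1 := hxyR _ (hcR x hx c hc) (hself x hx c hc)
      (by rw [hsymm y hy x hx c hc]; exact h0)
    have hy2 : c * y * c⁻¹ = y := (inv_mul_eq_one.1 hy1).symm
    have hx2 : c * x * c⁻¹ = x := (inv_mul_eq_one.1 hx1).symm
    rw [mem_centralizer_iff]
    intro n hn
    -- `n = z x^i y^j`
    have step : ∀ m ∈ N, Bg C r a m = 0 → c * m * c⁻¹ = m := by
      intro m hm h1
      rcases z2 (Bg C r b m) with h2 | h2
      · exact hZ m hm h1 h2 c hc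
      · have h3 := hZ (m * y) (mul_mem hm hy) (by rw [o.add a haN m hm y hy, h1, ay, add_zero])
          (by rw [o.add b hbN m hm y hy, h2, byy]; decide) c hc
        have e : c * (m * y) * c⁻¹ = c * m * c⁻¹ * (c * y * c⁻¹) := by group
        rw [e, hy2] at h3
        exact mul_right_cancel h3
    have h4 : c * n * c⁻¹ = n := by
      rcases z2 (Bg C r a n) with h1 | h1
      · exact step n hn h1
      · have h3 := step (n * x) (mul_mem hn hx) (by rw [o.add a haN n hn x hx, h1, ax]; decide)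
        have e : c * (n * x) * c⁻¹ = c * n * c⁻¹ * (c * x * c⁻¹) := by group
        rw [e, hx2] at h3
        exact mul_right_cancel h3
    exact (mul_inv_eq_iff_eq_mul.1 h4).symm
  -- `f` is additive
  have hN'ab : ∀ p ∈ MulAut.conj l • N, ∀ q ∈ MulAut.conj l • N, p * q = q * p := by
    intro p hp q hq
    rw [mem_conj] at hp hq
    have h1 := hs.mc hp hq
    have h2 := congrArg (fun t => l * t * l⁻¹) h1
    simpa only [mul_assoc, _root_.mul_inv_cancel_left, _root_.mul_inv_cancel, _root_.mul_one] using h2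
  have hadd : ∀ c ∈ MulAut.conj l • N, ∀ c' ∈ MulAut.conj l • N,
      Bg C r x (y⁻¹ * (c * c' * y * (c * c')⁻¹)) =
        Bg C r x (y⁻¹ * (c * y * c⁻¹)) + Bg C r x (y⁻¹ * (c' * y * c'⁻¹)) := by
    intro c hc c' hc'
    have p1 := hcR y hy c hc
    have p2 := hcR y hy c' hc'
    have e : y⁻¹ * (c * c' * y * (c * c')⁻¹) =
        (y⁻¹ * (c * y * c⁻¹)) * (c * (y⁻¹ * (c' * y * c'⁻¹)) * c⁻¹) := by group
    have e2 : c * (y⁻¹ * (c' * y * c'⁻¹)) * c⁻¹ = y⁻¹ * (c' * y * c'⁻¹) := by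
      rw [hN'ab c hc _ (hR p2).2, mul_inv_cancel_right]
    rw [e, e2, o.add x hx _ (hRN p1) _ (hRN p2)]
  -- `|N' : C_{N'}(N)| ≤ 2`
  have h1 : Nat.card (MulAut.conj l • N : Subgroup G) ≤
      2 * Nat.card (centralizer (N : Set G) ⊓ MulAut.conj l • N : Subgroup G) := by
    refine card_le_two_mul fun c hc c' hc' hcn hcn' => ?_
    have hc0 : Bg C r x (y⁻¹ * (c * y * c⁻¹)) = 1 := (z2 _).resolve_left fun e => hcn (hf0 c hc e)
    have hc0' : Bg C r x (y⁻¹ * (c' * y * c'⁻¹)) = 1 := (z2 _).resolve_left fun e => hcn' (hf0 c' hc' e)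
    refine hf0 _ (mul_mem (inv_mem hc) hc') ?_
    have h2 := hadd c hc (c⁻¹ * c') (mul_mem (inv_mem hc) hc')
    rw [mul_inv_cancel_left, hc0, hc0'] at h2
    rcases z2 (Bg C r x (y⁻¹ * (c⁻¹ * c' * y * (c⁻¹ * c')⁻¹))) with h3 | h3
    · exact h3
    · rw [h3] at h2; exact absurd h2 (by decide)
  -- `|N : C_N(N')| = 4`
  have a1 : Nat.card N = 2 * Nat.card (hs.pp haN) :=
    card_ker (f := Bg C r a) (fun x hx y hy => o.add a haN x hx y hy) (fun x => Iff.rfl) ⟨x, hx, ax⟩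
  have a2 : Nat.card (hs.pp haN) = 2 * Nat.card (hs.pp haN ⊓ hs.pp hbN : Subgroup G) :=
    card_ker (f := Bg C r b) (fun x hx y hy => o.add b hbN x hx.1 y hy.1)
      (fun x => ⟨fun hx => ⟨hx.1, hx.2.2⟩, fun hx => ⟨hx.1, hx.1.1, hx.2⟩⟩) ⟨y, ⟨hy, ay⟩, byy⟩
  have a3 : (hs.pp haN ⊓ hs.pp hbN : Subgroup G) =
      N ⊓ centralizer ((MulAut.conj l • N : Subgroup G) : Set G) := by
    ext n
    constructor
    · rintro ⟨h2, h3⟩
      refine ⟨h2.1, mem_centralizer_iff.2 fun c hc => ?_⟩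
      exact mul_inv_eq_iff_eq_mul.1 (hZ n h2.1 h2.2 h3.2 c hc)
    · rintro ⟨h2, h3⟩
      have h4 := perp_R S o hC h2 fun c hc => by
        rw [mem_centralizer_iff.1 h3 c hc, mul_inv_cancel_right]
      exact ⟨⟨h2, by rw [o.comm _ haN _ h2]; exact h4 a ha⟩, ⟨h2, by rw [o.comm _ hbN _ h2]; exact h4 b hb⟩⟩
  have a4 := S.card_cent
  have a5 : Nat.card (MulAut.conj l • N : Subgroup G) = Nat.card N := Side.card_conj l N
  rw [inf_comm] at h1
  rw [a3, a4] at a2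
  have a6 : 0 < Nat.card ((MulAut.conj l • N) ⊓ centralizer (N : Set G) : Subgroup G) := Nat.card_pos
  omega

end form

/-! ### The theorem -/

/-- The plane `R = [N₁, N₁^l]`. -/
structure Plane (V₁ V₂ : Subgroup G) (v₁ v₂ v' w l : G) : Prop where
  side : Side V₁ V₂ (nc v₁ {v₂}) v₁ v' w l
  rk : Rk (cz v₁) (nc v₁ {v₂}) ⁅nc v₁ {v₂}, MulAut.conj l • nc v₁ {v₂}⁆ v₂ v₁
  V2R : V₂ ≤ ⁅nc v₁ {v₂}, MulAut.conj l • nc v₁ {v₂}⁆
  four : 4 < Nat.card (⁅nc v₁ {v₂}, MulAut.conj l • nc v₁ {v₂}⁆ : Subgroup G)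
  /-- `F₁` normalises `V₁` -/
  F1 : cz v₁ ⊓ centralizer (nc v₁ {v₂} : Set G) ≤ normalizer (V₁ : Set G)
  /-- `N_{C₁}(V₁)` normalises `R` -/
  nor : cz v₁ ⊓ normalizer (V₁ : Set G) ≤ normalizer ((⁅nc v₁ {v₂}, MulAut.conj l • nc v₁ {v₂}⁆ : Subgroup G) : Set G)

section main

variable [Finite G] {T V₁ V₂ L₁ L₂ : Subgroup G} {v₁ v₂ s : G}

/-- **DIAGRAM + IDENTITY** -/
theorem exists_plane (h : _root_.Cfsg.Agent.Omega.IId.One.One T V₁ V₂ L₁ L₂ v₁ v₂ s)
    (hI : ∃ x ∈ nc v₁ {v₂}, ∃ y ∈ nc v₂ {v₁}, x * y ≠ y * x) {v' : G} (hv' : v' ∈ V₁) (hv'1 : v' ≠ 1)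
    (hv'v : v' ≠ v₁) : ∃ w, ∃ l ∈ L₁, Plane V₁ V₂ v₁ v₂ v' w l := by
  have hb := h.toBase
  have o₁ := h.orth hI
  have o₂ := h.symm.orth (One.hI_symm hI)
  have hv : v₁ ∈ NN v₁ V₂ := by
    have := h.v1_mem hI
    rwa [hb.N1_eq] at this
  have hv2 : v₂ ∈ NN v₂ V₁ := by
    have := h.symm.v1_mem (One.hI_symm hI)
    rwa [hb.symm.N1_eq] at this
  have hB : ¬ NN v₁ V₂ ≤ centralizer (NN v₂ V₁ : Set G) := by
    intro hc
    obtain ⟨x, hx, y, hy, hne⟩ := hI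
    rw [hb.N1_eq] at hx
    rw [hb.symm.N1_eq] at hy
    exact hne (mem_centralizer_iff.1 (hc hx) y hy).symm
  obtain ⟨w, l, hl, S1⟩ := exists_side h hb.V1_le_Q hb.Kk_le_Q hv hv' hv'1 hv'v
  have hv2' : s * v' * s⁻¹ ∈ V₂ := h.s1 v' hv'
  have hv2'1 : s * v' * s⁻¹ ≠ 1 := fun e => hv'1 (by
    calc v' = s⁻¹ * (s * v' * s⁻¹) * s := by group
      _ = 1 := by rw [e]; group)
  have hv2'v : s * v' * s⁻¹ ≠ v₂ := fun e => hv'v (by
    calc v' = s⁻¹ * (s * v' * s⁻¹) * s := by group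
      _ = s⁻¹ * (s * v₁ * s⁻¹) * s := by rw [e, h.sv1]
      _ = v₁ := by group)
  obtain ⟨w2, l2, hl2, S2⟩ := exists_side h.symm hb.symm.V1_le_Q hb.symm.Kk_le_Q hv2 hv2' hv2'1 hv2'v
  have S : Side V₁ V₂ (nc v₁ {v₂}) v₁ v' w l := by rw [hb.N1_eq]; exact S1
  have hF := F_le h o₂ o₁ hI S
  have hR := R_le S
  set R : Subgroup G := ⁅nc v₁ {v₂}, MulAut.conj l • nc v₁ {v₂}⁆ with hRdef
  have hRN : R ≤ nc v₁ {v₂} := hR.trans inf_le_left
  -- `N_{C₁}(V₁) ≤ N(R)`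
  have hnor : ∀ t ∈ cz v₁, t * v' * t⁻¹ ∈ V₁ → t ∈ normalizer (R : Set G) := fun t ht htV =>
    mem_normalizer_of_conj (conj_R S ht htV)
  have hTR : T ≤ normalizer (R : Set G) := fun t ht => hnor t (hb.T_le ht) (h.T1 t ht _ hv')
  have hL2R : L₂ ≤ normalizer (R : Set G) := fun t ht => hnor t (hb.L2_le ht) (by
    rw [h.L21 t ht v' hv', mul_inv_cancel_right]; exact hv')
  have v1R : v₁ ∉ R := fun e => S.v_not_mem (hR e).2
  -- `R ≠ 1`
  have hRne : R ≠ ⊥ := by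
    intro h0
    rw [hRdef, hb.N1_eq] at h0
    have h1 : MulAut.conj l • NN v₁ V₂ ≤ centralizer (NN v₁ V₂ : Set G) := by
      rw [commutator_comm] at h0
      exact commutator_eq_bot_iff_le_centralizer.1 h0
    have h2 : centralizer (NN v₁ V₂ : Set G) ≤ normalizer (V₁ : Set G) := by
      refine le_trans (le_inf ?_ ?_) hF
      · refine centralizer_le ?_
        rintro _ rfl
        exact hv
      · rw [hb.N1_eq]
    have h3 := S1.card_le h1 h2
    have hle : NN v₁ V₂ ⊓ MulAut.conj l • NN v₁ V₂ ≤ NN v₁ V₂ := inf_le_left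
    have h4 := two_mul_card_le hle ⟨v₁, hv, fun e => S1.v_not_mem e.2⟩
    have h5 : ((NN v₁ V₂ ⊓ MulAut.conj l • NN v₁ V₂).subgroupOf (NN v₁ V₂)).index = 2 := by
      have h6 := ((NN v₁ V₂ ⊓ MulAut.conj l • NN v₁ V₂).subgroupOf (NN v₁ V₂)).card_mul_index
      rw [Nat.card_congr (subgroupOfEquivOfLe hle).toEquiv] at h6
      have h7 : 0 < Nat.card (NN v₁ V₂ ⊓ MulAut.conj l • NN v₁ V₂ : Subgroup G) := Nat.card_pos
      have h8 : Nat.card (NN v₁ V₂) = Nat.card (NN v₁ V₂ ⊓ MulAut.conj l • NN v₁ V₂ : Subgroup G) * 2 := by omega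
      rw [h8] at h6
      exact Nat.eq_of_mul_eq_mul_left h7 h6
    refine not_index_two h hB hv S1 S2 fun x hx => ?_
    by_cases hxF : x ∈ NN v₁ V₂ ⊓ MulAut.conj l • NN v₁ V₂
    · exact Or.inl hxF
    · right
      have h6 := (mul_mem_iff_of_index_two h5 (a := ⟨x, hx⟩) (b := ⟨v₁, hv⟩)).2
        ⟨fun e => absurd e hxF, fun e => absurd e.2 S1.v_not_mem⟩
      exact h6
  -- `V₂ ≤ R`
  have v2R : v₂ ∈ R := by
    obtain ⟨x, hx, hx1, hxT⟩ := NoFF.LinesPlug.exists_fixed h.pT (hRN.trans hb.N1_le_T) hTR hRne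
    refine hb.no_compl hL2R ?_
    rcases hb.N1_fix (hRN hx) hxT with e | e | e | e
    · exact absurd e hx1
    · exact absurd (e ▸ hx) v1R
    · exact Or.inl (e ▸ hx)
    · exact Or.inr (e ▸ hx)
  have hV2R : V₂ ≤ R := hb.symm.V1_le_of hL2R v2R
  have hiso := R_iso S o₁ le_rfl
  -- `|R| > 4`
  have h4 : 4 < Nat.card R := by
    have h5 := Subgroup.card_le_of_le hV2R
    rw [h.card2] at h5
    rcases Nat.lt_or_ge 4 (Nat.card R) with h6 | h6
    · exact h6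
    · exfalso
      have h7 : V₂ = R := Subgroup.eq_of_le_of_card_ge hV2R (by rw [h.card2]; exact h6)
      exact card_R_ne S o₁ le_rfl (by rw [← hRdef, ← h7, h.card2]) fun x hx => h.Q_V2 (h7 ▸ hx)
  -- the pigeon
  have hs := sy_perp (sy_of o₂) o₂.r_mem
  obtain ⟨hxp, hxy⟩ := pt_mem h o₂ hb hv' hv'1 hv'v
  have hst : ∀ m ∈ cz v₁ ⊓ centralizer {v₂}, m * v' * m⁻¹ * v' ∈ yr (sy_of o₂) o₂.r_mem → m ∈ normalizer (R : Set G) := by
    intro m hm e
    have h5 := (stab_iff h o₂ hv' hv'1 hv'v ⟨hm.2, hm.1⟩).1 e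
    exact hnor m hm.1 ((mem_normalizer_iff.1 h5 _).1 hv')
  refine ⟨w, l, hl, ⟨S, ⟨o₁, hRN, v2R, h.v2, v1R, hiso, ?_⟩, hV2R, h4, hF, ?_⟩⟩
  · intro m₁ hm₁ m₂ hm₂ m₃ hm₃ n1 n2 n3
    have dn : ∀ m m', Sy.DC (cz v₂ ⊓ centralizer {v₁}) (yr (sy_of o₂) o₂.r_mem) v' m m' → DN (cz v₁) R m m' := by
      rintro m m' ⟨a, ha, b, hb', ea, eb, e⟩
      exact ⟨a, ⟨ha.2, hst a ⟨ha.2, ha.1⟩ ea⟩, b, ⟨hb'.2, hst b ⟨hb'.2, hb'.1⟩ eb⟩, e⟩
    rcases hs.pigeon hxp hxy ⟨hm₁.2, hm₁.1⟩ ⟨hm₂.2, hm₂.1⟩ ⟨hm₃.2, hm₃.1⟩ (fun e => n1 (hst _ hm₁ e))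
      (fun e => n2 (hst _ hm₂ e)) (fun e => n3 (hst _ hm₃ e)) with h5 | h5 | h5
    · exact Or.inl (dn _ _ h5)
    · exact Or.inr (Or.inl (dn _ _ h5))
    · exact Or.inr (Or.inr (dn _ _ h5))
  · intro m hm
    exact hnor m hm.1 ((mem_normalizer_iff.1 hm.2 _).1 hv')

/-- `|N₁| = 2⁷` -/
theorem card_N1 (h : _root_.Cfsg.Agent.Omega.IId.One.One T V₁ V₂ L₁ L₂ v₁ v₂ s)
    (hI : ∃ x ∈ nc v₁ {v₂}, ∃ y ∈ nc v₂ {v₁}, x * y ≠ y * x) : Nat.card (nc v₁ {v₂}) = 128 := by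
  obtain ⟨x, hx, hx1, hxv⟩ := exists_x h
  obtain ⟨w, l, hl, P⟩ := exists_plane h hI hx hx1 hxv
  exact P.rk.card_N P.four

end main

end Cfsg.Agent.Omega.IId.PlaneOf

end

section


/-!
# II.d, CASE 1, `q = 2`, case B: `C_{C₁}(N₁) = O₂(C₁)`

helper310.  `Plane` + nonlocality: every element of odd order of `F₁ = C_{C₁}(N₁)` centralises `N₁^l`, so the group
generated by these elements is normalised by `C₁` and `L₁`; hence it is trivial: `F₁ = O₂(C₁)`.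
-/

set_option autoImplicit false
set_option linter.unusedSectionVars false
set_option linter.unusedVariables false

namespace Cfsg.Agent.Omega.IId.Pf.Rad

open Cfsg.Agent.Omega.TV hiding z2
open Subgroup Cfsg Cfsg.Agent.ZN Cfsg.Agent.Omega.IId.PlaneSy Cfsg.Agent.Omega.IId.PlaneRk
open Cfsg.Agent.Omega.IId.PlaneF Cfsg.Agent.Omega.IId.PlaneOf
open Cfsg.Agent.Omega.IId.One Cfsg.Agent.Omega.IId.SpSide
open Cfsg.Agent.Omega.MinPar
open Cfsg.Agent.Omega.NoFF.Basic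
open scoped Pointwise commutatorElement

universe u

variable {G : Type u} [Group G]

/-! ### Elements of odd order -/

/-- An element of odd order is a power of its square. -/
theorem odd_pow {g : G} (ho : Odd (orderOf g)) : ∃ k : ℕ, (g * g) ^ k = g := by
  obtain ⟨k, hk⟩ := ho
  refine ⟨k + 1, ?_⟩
  have h1 : (g * g) ^ (k + 1) = g ^ (2 * k + 1) * g := by
    rw [← pow_two, ← pow_mul, ← pow_succ]
    congr 1
  rw [h1, ← hk, pow_orderOf_eq_one, one_mul]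

theorem odd_comm {g x : G} (ho : Odd (orderOf g)) (h2 : g * g * x = x * (g * g)) : g * x = x * g := by
  obtain ⟨k, hk⟩ := odd_pow ho
  have h1 : Commute (g * g) x := h2
  have h3 := h1.pow_left k
  rw [hk] at h3
  exact h3

/-- `g x g⁻¹ = x w`, `g w g⁻¹ = w`, `w² = 1`: an element of odd order fixes `x`. -/
theorem odd_fix {g x w : G} (ho : Odd (orderOf g)) (h1 : g * x * g⁻¹ = x * w) (h2 : g * w * g⁻¹ = w)
    (h3 : w * w = 1) : g * x * g⁻¹ = x := by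
  have h4 : g * g * x = x * (g * g) := by
    have e1 : g * g * x * (g * g)⁻¹ = g * (g * x * g⁻¹) * g⁻¹ := by group
    have e2 : g * (x * w) * g⁻¹ = g * x * g⁻¹ * (g * w * g⁻¹) := by group
    rw [h1, e2, h1, h2, mul_assoc x, h3, mul_one] at e1
    exact mul_inv_eq_iff_eq_mul.1 e1
  rw [odd_comm ho h4, mul_inv_cancel_right]

theorem odd_conj {g t : G} (ho : Odd (orderOf g)) : Odd (orderOf (t * g * t⁻¹)) := by
  rwa [show t * g * t⁻¹ = MulAut.conj t g from rfl, MulEquiv.orderOf_eq]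

/-- A finite group without elements of odd order `≠ 1` is a 2-group. -/
theorem pGroup_of [Finite G] {P : Subgroup G} (h : ∀ g ∈ P, Odd (orderOf g) → g = 1) : IsPGroup 2 P := by
  rintro ⟨g, hg⟩
  obtain ⟨k, m, hm, he⟩ := Nat.exists_eq_two_pow_mul_odd (orderOf_pos g).ne'
  refine ⟨k, Subtype.ext ?_⟩
  show g ^ 2 ^ k = 1
  refine h _ (pow_mem hg _) ?_
  rw [orderOf_pow_of_dvd (pow_pos two_pos k).ne' (by rw [he]; exact dvd_mul_right _ _), he,
    Nat.mul_div_cancel_left _ (pow_pos two_pos k)]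
  exact hm

/-! ### The radical of a totally singular plane -/

/-- `g ∈ C` of odd order centralising `A` with `A^⊥ = A⟨c⟩` centralises `N`. -/
theorem odd_cent {C N A : Subgroup G} {r c g : G} (o : GOrth C N r c) (hA : A ≤ N)
    (hp : ∀ y ∈ N, (∀ t ∈ A, Bg C r y t = 0) → y ∈ A ∨ y * c ∈ A) (hg : g ∈ C) (ho : Odd (orderOf g))
    (hgA : ∀ t ∈ A, g * t * g⁻¹ = t) : ∀ x ∈ N, g * x * g⁻¹ = x := by
  intro x hx
  have hs := sy_of o
  have hgx := o.nor g hg x hx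
  have hw : x⁻¹ * (g * x * g⁻¹) ∈ N := mul_mem (inv_mem hx) hgx
  have hgc := o.c_fix g hg
  refine odd_fix (w := x⁻¹ * (g * x * g⁻¹)) ho (by group) ?_ (o.sq _ hw)
  have h1 := hp _ hw fun t ht => by
    rw [o.add_left (inv_mem hx) hgx (hA ht), hs.iv hx]
    nth_rewrite 2 [← hgA t ht]
    rw [o.B_inv hg hx (hA ht), z2_self]
  generalize x⁻¹ * (g * x * g⁻¹) = w at h1 hw
  rcases h1 with h1 | h1
  · exact hgA w h1
  · have h2 := hgA _ h1
    have e : g * (w * c) * g⁻¹ = g * w * g⁻¹ * (g * c * g⁻¹) := by group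
    rw [e, hgc] at h2
    exact mul_right_cancel h2

/-- `R^⊥ = R⟨c⟩` -/
theorem perp_of_rk [Finite G] {C N R : Subgroup G} {r c : G} (h : Rk C N R r c) (h4 : 4 < Nat.card R) {y : G}
    (hy : y ∈ N) (hyR : ∀ t ∈ R, Bg C r y t = 0) : y ∈ R ∨ y * c ∈ R := by
  rcases z2 (Qg C r y) with h1 | h1
  · exact Or.inl (h.sing h4 hy hyR h1)
  · refine Or.inr (h.sing h4 (mul_mem hy h.o.c_mem) (fun t ht => ?_) (by rw [h.o.Qmulc hy, h1]; decide))
    rw [h.o.add_left hy h.o.c_mem (h.RN ht), hyR t ht, h.o.Bc _ (h.RN ht), add_zero]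

/-- `R` is totally singular. -/
theorem Q_zero_rk [Finite G] {C N R : Subgroup G} {r c : G} (h : Rk C N R r c) (h4 : 4 < Nat.card R) {y : G}
    (hy : y ∈ R) : Qg C r y = 0 := by
  rcases z2 (Qg C r y) with h1 | h1
  · exact h1
  · exfalso
    have hyN := h.RN hy
    have h2 : y * c ∈ R := h.sing h4 (mul_mem hyN h.o.c_mem) (fun t ht => by
      rw [h.o.add_left hyN h.o.c_mem (h.RN ht), h.iso y hy t ht, h.o.Bc _ (h.RN ht), add_zero])
      (by rw [h.o.Qmulc hyN, h1]; decide)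
    apply h.cR
    have h3 := mul_mem (inv_mem hy) h2
    rwa [inv_mul_cancel_left] at h3

section side

variable {V W N : Subgroup G} {v v' w l : G} (S : Side V W N v v' w l)
include S

/-- `l` normalises `R = [N, N^l]`. -/
theorem conj_l_R : MulAut.conj l • ⁅N, MulAut.conj l • N⁆ = ⁅N, MulAut.conj l • N⁆ := by
  have h1 : MulAut.conj l • ⁅N, MulAut.conj l • N⁆ = ⁅MulAut.conj l • N, MulAut.conj l • (MulAut.conj l • N)⁆ :=
    Subgroup.map_commutator _ _ _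
  rw [h1, conj_conj]
  have hv : l * (l * v * l⁻¹) * l⁻¹ ∈ V := (mem_normalizer_iff.1 S.l_V _).1 ((mem_normalizer_iff.1 S.l_V _).1 S.vV)
  have e : l * l * v * (l * l)⁻¹ = l * (l * v * l⁻¹) * l⁻¹ := by group
  have n1 : l * (l * v * l⁻¹) * l⁻¹ ≠ 1 := fun h2 => S.v1 (by
    calc v = l⁻¹ * (l⁻¹ * (l * (l * v * l⁻¹) * l⁻¹) * l) * l := by group
      _ = 1 := by rw [h2]; group)
  have n2 : l * (l * v * l⁻¹) * l⁻¹ ≠ v' := fun h2 => S.ne (by
    rw [← S.l_v] at h2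
    have h3 : l * v * l⁻¹ = v := by
      calc l * v * l⁻¹ = l⁻¹ * (l * (l * v * l⁻¹) * l⁻¹) * l := by group
        _ = v := by rw [h2]; group
    rw [← S.l_v, h3])
  rcases (S.memV _).1 hv with h2 | h2 | h2 | h2
  · exact absurd h2 n1
  · have h3 : MulAut.conj (l * l) • N = MulAut.conj (1 : G) • N := by
      apply S.conj_N_eq
      rw [e, h2]; group
    rw [h3, map_one, one_smul, commutator_comm]
  · exact absurd h2 n2
  · have h3 : MulAut.conj (l * l) • N = MulAut.conj (l * w * l⁻¹) • N := by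
      apply S.conj_N_eq
      rw [e, h2, S.w'_v]
    rw [h3]
    have h4 : MulAut.conj l • N = MulAut.conj (l * w * l⁻¹) • (MulAut.conj l • N) :=
      (conj_eq_of_centralizer S.w'_N').symm
    nth_rewrite 1 [h4]
    have h5 : MulAut.conj (l * w * l⁻¹) • ⁅N, MulAut.conj l • N⁆ =
        ⁅MulAut.conj (l * w * l⁻¹) • N, MulAut.conj (l * w * l⁻¹) • (MulAut.conj l • N)⁆ :=
      Subgroup.map_commutator _ _ _
    rw [commutator_comm, ← h5]
    exact conj_eq_of_centralizer (centralizer_le ((R_le S).trans inf_le_right) S.w'_N')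

end side

section main

variable [Finite G] {T V₁ V₂ L₁ L₂ : Subgroup G} {v₁ v₂ s : G}

/-- the elements of odd order of `F₁` -/
def XX (v₁ v₂ : G) : Subgroup G :=
  _root_.Subgroup.closure {f | f ∈ cz v₁ ⊓ centralizer (nc v₁ {v₂} : Set G) ∧ Odd (orderOf f)}

theorem XX_le : XX v₁ v₂ ≤ cz v₁ ⊓ centralizer (nc v₁ {v₂} : Set G) := by
  rw [XX, closure_le]
  exact fun f hf => hf.1

/-- **`F₁ = O₂(C₁)`** -/
theorem F1_eq (h : _root_.Cfsg.Agent.Omega.IId.One.One T V₁ V₂ L₁ L₂ v₁ v₂ s) (hnl : NonLoc (cz v₁) (cz v₂))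
    (hI : ∃ x ∈ nc v₁ {v₂}, ∃ y ∈ nc v₂ {v₁}, x * y ≠ y * x) {v' w l : G} (hl : l ∈ L₁)
    (P : Plane V₁ V₂ v₁ v₂ v' w l) :
    cz v₁ ⊓ centralizer (nc v₁ {v₂} : Set G) = ZN.o2 (cz v₁) := by
  have hb := h.toBase
  have o₁ := h.orth hI
  have o₂ := h.symm.orth (One.hI_symm hI)
  have S := P.side
  set F := cz v₁ ⊓ centralizer (nc v₁ {v₂} : Set G) with hF
  set R : Subgroup G := ⁅nc v₁ {v₂}, MulAut.conj l • nc v₁ {v₂}⁆ with hR
  have hRN : R ≤ nc v₁ {v₂} := P.rk.RN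
  -- `C₁` normalises `X`
  have hC1 : cz v₁ ≤ normalizer (XX v₁ v₂ : Set G) := by
    intro g hg
    apply Cfsg.Agent.MinSimple.VModule.mem_normalizer_of_map_le
    rw [XX, MonoidHom.map_closure, closure_le]
    rintro _ ⟨f, ⟨hf, ho⟩, rfl⟩
    refine subset_closure ⟨?_, odd_conj ho⟩
    exact (mem_normalizer_iff.1 (hb.F1_norm hg) f).1 hf
  -- `l⁻¹ X l ≤ X`
  have key : ∀ f ∈ F, Odd (orderOf f) → l⁻¹ * f * l ∈ F := by
    intro f hf ho
    have hfV : f * v' * f⁻¹ = v' := by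
      have h1 := (mem_normalizer_iff.1 (P.F1 hf) v').1 S.v'V
      rcases hb.conj1 hf.1 h1 S.v'V with h2 | h2
      · exact h2
      · refine odd_fix (w := v₁) ho ?_ ?_ hb.vq1
        · rw [h2, S.comm]
        · rw [mem_cz.1 hf.1, mul_inv_cancel_right]
    have hg : l⁻¹ * f * l ∈ cz v₁ := by
      rw [mem_cz]
      have h1 : f * (l * v₁ * l⁻¹) * f⁻¹ = l * v₁ * l⁻¹ := by rw [S.l_v, hfV]
      have h2 : f * (l * v₁ * l⁻¹) = l * v₁ * l⁻¹ * f := by
        rw [mul_inv_eq_iff_eq_mul] at h1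
        exact h1
      calc l⁻¹ * f * l * v₁ = l⁻¹ * (f * (l * v₁ * l⁻¹)) * l := by group
        _ = v₁ * (l⁻¹ * f * l) := by rw [h2]; group
    have ho' : Odd (orderOf (l⁻¹ * f * l)) := by
      have := odd_conj (t := l⁻¹) ho
      rwa [inv_inv] at this
    have h3 := odd_cent o₁ hRN (fun y hy hyR => perp_of_rk P.rk P.four hy hyR) hg ho' fun t ht => by
      have h4 : l * t * l⁻¹ ∈ R := by
        rw [hR, ← conj_l_R S]
        exact ⟨t, ht, rfl⟩
      have h5 := mem_centralizer_iff.1 hf.2 _ (hRN h4)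
      calc l⁻¹ * f * l * t * (l⁻¹ * f * l)⁻¹ = l⁻¹ * (f * (l * t * l⁻¹)) * f⁻¹ * l := by group
        _ = l⁻¹ * (l * t * l⁻¹ * f) * f⁻¹ * l := by rw [← h5]
        _ = t := by group
    exact mem_inf.2 ⟨hg, mem_centralizer_iff.2 fun x hx => (mul_inv_eq_iff_eq_mul.1 (h3 x hx)).symm⟩
  have hlX : l⁻¹ ∈ normalizer (XX v₁ v₂ : Set G) := by
    apply Cfsg.Agent.MinSimple.VModule.mem_normalizer_of_map_le
    rw [XX, MonoidHom.map_closure, closure_le]
    rintro _ ⟨f, ⟨hf, ho⟩, rfl⟩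
    refine subset_closure ⟨?_, odd_conj ho⟩
    have := key f hf ho
    show l⁻¹ * f * l⁻¹⁻¹ ∈ F
    rwa [inv_inv]
  have hl' : l ∈ normalizer (XX v₁ v₂ : Set G) := by
    have := inv_mem hlX
    rwa [inv_inv] at this
  -- `L₁` normalises `X`
  have hwC : w ∈ cz v₁ := mem_cz.2 (mem_centralizer_iff.1 S.w_N v₁ S.vN).symm
  have hL1 : L₁ ≤ normalizer (XX v₁ v₂ : Set G) := by
    intro k hk
    have hkV := hb.L1 k hk v₁ hb.vV1
    have step : ∀ g ∈ normalizer (XX v₁ v₂ : Set G), g * v₁ * g⁻¹ = k * v₁ * k⁻¹ → k ∈ normalizer (XX v₁ v₂ : Set G) := by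
      intro g hg e
      have h1 : g⁻¹ * k ∈ cz v₁ := by
        rw [mem_cz]
        calc g⁻¹ * k * v₁ = g⁻¹ * (k * v₁ * k⁻¹) * k := by group
          _ = v₁ * (g⁻¹ * k) := by rw [← e]; group
      have h2 := mul_mem hg (hC1 h1)
      rwa [mul_inv_cancel_left] at h2
    rcases (S.memV _).1 hkV with h1 | h1 | h1 | h1
    · exfalso
      apply hb.v1
      calc v₁ = k⁻¹ * (k * v₁ * k⁻¹) * k := by group
        _ = 1 := by rw [h1]; group
    · exact step 1 (one_mem _) (by rw [h1]; group)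
    · exact step l hl' (by rw [h1, S.l_v])
    · refine step (w * l) (mul_mem (hC1 hwC) hl') ?_
      have e : w * l * v₁ * (w * l)⁻¹ = w * (l * v₁ * l⁻¹) * w⁻¹ := by group
      rw [e, S.l_v, S.w_v', h1]
  have hC2 : cz v₂ ≤ normalizer (XX v₁ v₂ : Set G) :=
    (gen h.symm o₂).trans (sup_le (inf_le_right.trans hC1) hL1)
  have ho2 : ZN.o2 (XX v₁ v₂) = ⊥ :=
    hnl _ (isPGroup_o2 _) (hC1.trans (normalizer_le_normalizer_o2 _)) (hC2.trans (normalizer_le_normalizer_o2 _))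
  -- `X ∩ Q₁ = 1`
  have hXC : XX v₁ v₂ ≤ cz v₁ := XX_le.trans inf_le_left
  have hXQ : XX v₁ v₂ ⊓ ZN.o2 (cz v₁) = ⊥ := by
    rw [eq_bot_iff, ← ho2]
    refine ZN.le_o2 inf_le_left ((isPGroup_o2 _).to_le inf_le_right) ?_
    exact Half.le_normalizer_inf le_normalizer (hXC.trans (le_normalizer_o2 _))
  have hX1 : XX v₁ v₂ = ⊥ := by
    rw [eq_bot_iff, ← hXQ]
    refine le_inf le_rfl fun x hx => hb.char2 (mem_inf.2 ⟨hXC hx, mem_centralizer_iff.2 fun q hq => ?_⟩)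
    have h1 : x * q * x⁻¹ * q⁻¹ ∈ XX v₁ v₂ ⊓ ZN.o2 (cz v₁) := by
      refine mem_inf.2 ⟨?_, ?_⟩
      · have h2 := (mem_normalizer_iff.1 (hC1 (o2_le _ hq)) x⁻¹).1 (inv_mem hx)
        have e : x * q * x⁻¹ * q⁻¹ = x * (q * x⁻¹ * q⁻¹) := by group
        rw [e]
        exact mul_mem hx h2
      · exact mul_mem ((mem_normalizer_iff.1 (le_normalizer_o2 _ (hXC hx)) q).1 hq) (inv_mem hq)
    rw [hXQ, mem_bot, mul_inv_eq_one, mul_inv_eq_iff_eq_mul] at h1
    exact h1.symm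
  have hF2 : IsPGroup 2 F := pGroup_of fun g hg ho => by
    have h1 : g ∈ XX v₁ v₂ := subset_closure ⟨hg, ho⟩
    rwa [hX1, mem_bot] at h1
  exact le_antisymm (ZN.le_o2 inf_le_left hF2 hb.F1_norm) hb.Q_le_F1

end main

end Cfsg.Agent.Omega.IId.Pf.Rad

end

section


/-!
# II.d, CASE 1, `q = 2`, case B: the parabolics

helper310.  `siegel` : Siegel elements of `N_M(R)`; `nC` : `N_{C₁}(R) = N_{C₁}(V₁)`, transitive on `R^#`;
`mem_T` : `T = N_M(V₁) ∩ N_M(V₂)`.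
-/

set_option autoImplicit false
set_option linter.unusedSectionVars false
set_option linter.unusedVariables false

namespace Cfsg.Agent.Omega.IId.Pf.Par

open Cfsg.Agent.Omega.TV hiding z2
open Subgroup Cfsg Cfsg.Agent.ZN Cfsg.Agent.Omega.IId.PlaneSy Cfsg.Agent.Omega.IId.PlaneRk
open Cfsg.Agent.Omega.IId.PlaneF Cfsg.Agent.Omega.IId.PlaneOf
open Cfsg.Agent.Omega.IId.One Cfsg.Agent.Omega.IId.SpSide
open Cfsg.Agent.Omega.MinPar
open Cfsg.Agent.Omega.NoFF.Basic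
open Cfsg.Agent.Omega.IId.Pf.Rad
open Cfsg.Agent.Omega.IId.Two (le_normalizer_of)
open scoped Pointwise commutatorElement

universe u

variable {G : Type u} [Group G]

/-! ### Siegel elements -/

theorem siegel [Finite G] {C N R : Subgroup G} {r c : G} (h : Rk C N R r c) {a y t₀ : G} (ha : a ∈ N)
    (ar : Bg C r a r = 0) (hy : y ∈ N) (hyR : ∀ t ∈ R, Bg C r y t = 0) (hQ : Qg C r y = 0)
    (ay : Bg C r a y = 0) (ht₀ : t₀ ∈ R) (at₀ : Bg C r a t₀ = 1) :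
    ∃ m ∈ C ⊓ centralizer {r}, ∀ x ∈ R, (Bg C r a x = 0 ∧ m * x * m⁻¹ = x) ∨
      (Bg C r a x = 1 ∧ m * x * m⁻¹ = x * y) := by
  have hs := sy_of h.o
  have ht₀N := h.RN ht₀
  have hay : a * y ∈ N := mul_mem ha hy
  -- the two transvections
  obtain ⟨a', ha', haa, haB, g, hg, hgn⟩ := h.exists_tau ha ar ht₀N at₀
  obtain ⟨b', hb', hbb, hbB, k, hk, hkn⟩ := h.exists_tau hay
    (by rw [h.o.add_left ha hy h.o.r_mem, ar, hyR r h.rR, add_zero]) ht₀N
    (by rw [h.o.add_left ha hy ht₀N, at₀, hyR t₀ ht₀, add_zero])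
  have hyr : ∀ x ∈ R, Bg C r (a * y) x = Bg C r a x := fun x hx => by
    rw [h.o.add_left ha hy (h.RN hx), hyR x hx, add_zero]
  -- action on `R`
  have act : ∀ x ∈ R, (Bg C r a x = 0 ∧ k * g * x * (k * g)⁻¹ = x) ∨
      (Bg C r a x = 1 ∧ k * g * x * (k * g)⁻¹ = x * (a' * b')) := by
    intro x hx
    have hxN := h.RN hx
    have e : k * g * x * (k * g)⁻¹ = k * (g * x * g⁻¹) * k⁻¹ := by group
    rw [e]
    rcases hgn x hxN with ⟨h1, h2⟩ | ⟨h1, h2⟩
    · left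
      refine ⟨h1, ?_⟩
      rw [h2]
      rcases hkn x hxN with ⟨-, h3⟩ | ⟨h3, -⟩
      · exact h3
      · rw [hyr x hx, h1] at h3; exact absurd h3 (by decide)
    · right
      refine ⟨h1, ?_⟩
      rw [h2]
      rcases hkn _ (mul_mem hxN ha') with ⟨h3, -⟩ | ⟨-, h3⟩
      · exfalso
        rw [h.o.add _ hay _ hxN _ ha', hyr x hx, h1, h.o.add_left ha hy ha', h.o.comm _ ha _ ha', haB a ha,
          h.o.self a ha, h.o.comm _ hy _ ha', haB y hy, ay] at h3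
        exact absurd h3 (by decide)
      · rw [h3, mul_assoc]
  -- `a'b' = y`
  have hcN := h.o.c_mem
  have hab : a' * b' = y := by
    have hyy : a' * b' = y ∨ a' * b' = y * c := by
      have e1 : a = a' ∨ a = c * a' := by
        have haa' := h.o.sq a' ha'
        rcases (mem_zp2 h.cc).1 haa with e | e
        · left
          calc a = a * a' * a' := by rw [mul_assoc, haa', mul_one]
            _ = a' := by rw [e, one_mul]
        · right
          calc a = a * a' * a' := by rw [mul_assoc, haa', mul_one]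
            _ = c * a' := by rw [e]
      have e2 : b' = a * y ∨ b' = a * y * c := by
        have hay2 := h.o.sq _ hay
        rcases (mem_zp2 h.cc).1 hbb with e | e
        · left
          calc b' = a * y * (a * y * b') := by rw [← mul_assoc, hay2, one_mul]
            _ = a * y := by rw [e, mul_one]
        · right
          calc b' = a * y * (a * y * b') := by rw [← mul_assoc, hay2, one_mul]
            _ = a * y * c := by rw [e]
      have haa' := h.o.sq a' ha'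
      have hca : c * a' = a' * c := hs.mc hcN ha'
      have hcy : c * y = y * c := hs.mc hcN hy
      rcases e1 with e1 | e1 <;> rcases e2 with e2 | e2 <;> rw [e2]
      · left
        calc a' * (a * y) = a' * a * y := by group
          _ = y := by rw [e1, haa', one_mul]
      · right
        calc a' * (a * y * c) = a' * a * y * c := by group
          _ = y * c := by rw [e1, haa', one_mul]
      · right
        calc a' * (a * y) = a' * a * y := by group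
          _ = a' * (a' * c) * y := by rw [e1, hca]
          _ = (a' * a') * (c * y) := by group
          _ = y * c := by rw [haa', one_mul, hcy]
      · left
        calc a' * (a * y * c) = a' * a * y * c := by group
          _ = a' * (a' * c) * y * c := by rw [e1, hca]
          _ = (a' * a') * (c * y) * c := by group
          _ = y * (c * c) := by rw [haa', one_mul, hcy]; group
          _ = y := by rw [h.cc, mul_one]
    rcases hyy with e | e
    · exact e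
    · exfalso
      rcases act t₀ ht₀ with ⟨h1, -⟩ | ⟨-, h2⟩
      · rw [at₀] at h1; exact absurd h1 (by decide)
      · have hyc : y * c ∈ N := mul_mem hy hcN
        have h3 := h.o.inv _ (mul_mem hk hg).1 t₀ ht₀N
        rw [h2, e, GOrth.Q_mul, h.o.Qmulc hy, hQ, h.o.add _ ht₀N _ hy _ hcN, h.o.comm _ ht₀N _ hy, hyR t₀ ht₀,
          h.o.comm _ ht₀N _ hcN, h.o.Bc t₀ ht₀N] at h3
        have h4 : ∀ u : ZMod 2, u + (0 + 1) + (0 + 0) ≠ u := by decide
        exact h4 _ h3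
  rw [hab] at act
  exact ⟨k * g, mul_mem hk hg, act⟩

/-- `x → x y` on `R`, fixing `r` and `y`, for `x ∉ ⟨r, y⟩` -/
theorem siegel' [Finite G] {C N R : Subgroup G} {r c : G} (h : Rk C N R r c) (h4 : 4 < Nat.card R) {x y : G}
    (hx : x ∈ R) (hy : y ∈ R) (hx1 : x ≠ 1) (hxr : x ≠ r) (hxy : x ≠ y) (hxyr : x * r ≠ y) :
    ∃ m ∈ C ⊓ centralizer {r}, m ∈ normalizer (R : Set G) ∧ m * y * m⁻¹ = y ∧ m * x * m⁻¹ = x * y ∧
      ∀ t ∈ R, m * t * m⁻¹ = t ∨ m * t * m⁻¹ = t * y := by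
  have hs := sy_of h.o
  have hxN := h.RN hx
  have hyN := h.RN hy
  have hrN := h.o.r_mem
  have sqx := h.o.sq x hxN
  have eqv : ∀ t u : G, u ∈ N → t * u = 1 → t = u := fun t u hu e => by
    calc t = t * (u * u) := by rw [h.o.sq u hu, mul_one]
      _ = u := by rw [← mul_assoc, e, one_mul]
  have nz : ∀ t ∈ R, t ≠ 1 → t ∉ zpowers c := fun t ht ht1 => h.not_zp ht ht1
  obtain ⟨a, ha, a1, a2, a3⟩ := hs.sep3 hxN hrN hyN (nz x hx hx1)
    (nz _ (mul_mem hx h.rR) fun e => hxr (eqv _ _ hrN e)) (nz _ (mul_mem hx hy) fun e => hxy (eqv _ _ hyN e))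
    (nz _ (mul_mem (mul_mem hx h.rR) hy) fun e => hxyr (eqv _ _ hyN e))
  rw [h.o.comm _ hxN _ ha] at a1
  rw [h.o.comm _ hrN _ ha] at a2
  rw [h.o.comm _ hyN _ ha] at a3
  obtain ⟨m, hm, hmx⟩ := siegel h ha a2 hyN (fun t ht => h.iso y hy t ht) (Q_zero_rk h h4 hy) a3 hx a1
  refine ⟨m, hm, ?_, ?_, ?_, ?_⟩
  · apply Cfsg.Agent.MinSimple.VModule.mem_normalizer_of_map_le
    rintro _ ⟨t, ht, rfl⟩
    show m * t * m⁻¹ ∈ R
    rcases hmx t ht with ⟨-, h1⟩ | ⟨-, h1⟩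
    · rw [h1]; exact ht
    · rw [h1]; exact mul_mem ht hy
  · rcases hmx y hy with ⟨-, h1⟩ | ⟨h1, -⟩
    · exact h1
    · rw [a3] at h1; exact absurd h1 (by decide)
  · rcases hmx x hx with ⟨h1, -⟩ | ⟨-, h1⟩
    · rw [a1] at h1; exact absurd h1 (by decide)
    · exact h1
  · intro t ht
    rcases hmx t ht with ⟨-, h1⟩ | ⟨-, h1⟩
    · exact Or.inl h1
    · exact Or.inr h1

/-- the reflection in the vector `y c`, `y` singular -/
theorem tau [Finite G] {C N : Subgroup G} {r c : G} (o : GOrth C N r c) {y : G} (hy : y ∈ N) (hy1 : y ≠ 1)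
    (hQ : Qg C r y = 0) : ∃ g ∈ C, ∀ n ∈ N, (Bg C r y n = 0 ∧ g * n * g⁻¹ = n) ∨
      (Bg C r y n = 1 ∧ g * n * g⁻¹ = n * (y * c)) := o.refl y hy hy1 hQ

section main

variable [Finite G] {T V₁ V₂ L₁ L₂ : Subgroup G} {v₁ v₂ s : G}

/-- the plane -/
abbrev RR (v₁ v₂ l : G) : Subgroup G := ⁅nc v₁ {v₂}, MulAut.conj l • nc v₁ {v₂}⁆

/-- `N_M(R) ≤ N(V₁)` -/
theorem nM (h : _root_.Cfsg.Agent.Omega.IId.One.One T V₁ V₂ L₁ L₂ v₁ v₂ s) (hI : ∃ x ∈ nc v₁ {v₂}, ∃ y ∈ nc v₂ {v₁}, x * y ≠ y * x)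
    {v' w l : G} (P : Plane V₁ V₂ v₁ v₂ v' w l) {m : G} (hm1 : m ∈ cz v₁) (hm2 : m ∈ cz v₂)
    (hmR : m ∈ normalizer (RR v₁ v₂ l : Set G)) : m ∈ normalizer (V₁ : Set G) := by
  by_contra hmV
  have hb := h.toBase
  have o₂ := h.symm.orth (One.hI_symm hI)
  have S := P.side
  have hv' := S.v'V
  have hv'1 := S.v'1
  have hv'v : v' ≠ v₁ := fun e => S.ne e.symm
  have hs := sy_perp (sy_of o₂) o₂.r_mem
  obtain ⟨hxp, hxy⟩ := pt_mem h o₂ hb hv' hv'1 hv'v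
  obtain ⟨m₁, hm₁, m₂, hm₂, S₁, hS₁, S₂, hS₂, hr₂, hmS₁, hmS₂, hmf₂, hc₁, hc₂, -⟩ := P.rk.two_steps P.four
  have hpos : 0 < Nat.card S₂ := Nat.card_pos
  have n1 := P.rk.not_norm hS₁ hmS₁ (by omega)
  have n2 := P.rk.not_norm hS₂ hmS₂ (by omega)
  have hst : ∀ k ∈ cz v₁, k ∈ cz v₂ → (k * v' * k⁻¹ * v' ∈ yr (sy_of o₂) o₂.r_mem ↔ k ∈ normalizer (V₁ : Set G)) :=
    fun k hk1 hk2 => stab_iff h o₂ hv' hv'1 hv'v ⟨hk2, hk1⟩
  have dn : ∀ m m', Sy.DC (cz v₂ ⊓ centralizer {v₁}) (yr (sy_of o₂) o₂.r_mem) v' m m' →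
      DN (cz v₁) (RR v₁ v₂ l) m m' := by
    rintro m m' ⟨a, ha, b, hb', ea, eb, e⟩
    exact ⟨a, ⟨ha.2, P.nor ⟨ha.2, (hst a ha.2 ha.1).1 ea⟩⟩, b, ⟨hb'.2, P.nor ⟨hb'.2, (hst b hb'.2 hb'.1).1 eb⟩⟩, e⟩
  have c0 : II (RR v₁ v₂ l) m = RR v₁ v₂ l := by
    ext t
    exact ⟨fun ht => ht.1, fun ht => ⟨ht, (mem_normalizer_iff.1 hmR t).1 ht⟩⟩
  have c1 : II (RR v₁ v₂ l) m₁ = S₁ := P.rk.card_II hS₁ hmS₁
  have c2 : II (RR v₁ v₂ l) m₂ = S₂ := P.rk.card_II hS₂ hmS₂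
  have hc : Nat.card (RR v₁ v₂ l) = 2 * Nat.card S₁ := hc₁
  rcases hs.pigeon hxp hxy ⟨hm2, hm1⟩ ⟨hm₁.2, hm₁.1⟩ ⟨hm₂.2, hm₂.1⟩ (fun e => hmV ((hst m hm1 hm2).1 e))
    (fun e => n1 (P.nor ⟨hm₁.1, (hst m₁ hm₁.1 hm₁.2).1 e⟩)) (fun e => n2 (P.nor ⟨hm₂.1, (hst m₂ hm₂.1 hm₂.2).1 e⟩))
    with h5 | h5 | h5
  · have := (dn _ _ h5).card
    rw [c0, c1] at this
    omega
  · have := (dn _ _ h5).card
    rw [c0, c2] at this
    omega
  · have := (dn _ _ h5).card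
    rw [c1, c2] at this
    omega

/-- `N_{C₁}(V₁)` is transitive on `R^#`. -/
theorem transR (h : _root_.Cfsg.Agent.Omega.IId.One.One T V₁ V₂ L₁ L₂ v₁ v₂ s) (hI : ∃ x ∈ nc v₁ {v₂}, ∃ y ∈ nc v₂ {v₁}, x * y ≠ y * x)
    {v' w l : G} (P : Plane V₁ V₂ v₁ v₂ v' w l) {t : G} (ht : t ∈ RR v₁ v₂ l) (ht1 : t ≠ 1) :
    ∃ n ∈ cz v₁ ⊓ normalizer (V₁ : Set G), n * t * n⁻¹ = v₂ := by
  have hb := h.toBase
  have hL2 : ∀ k ∈ L₂, k ∈ cz v₁ ⊓ normalizer (V₁ : Set G) := fun k hk =>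
    ⟨hb.L2_le hk, le_normalizer_of (fun k hk v hv => by
      rw [h.L21 k hk v hv, mul_inv_cancel_right]; exact hv) hk⟩
  by_cases htV : t ∈ V₂
  · obtain ⟨k, hk, e⟩ := h.t2 t htV ht1 v₂ h.vV2 h.v2
    exact ⟨k, hL2 k hk, e⟩
  · obtain ⟨u, hu, hu1, huv⟩ := exists_x h.symm
    have htN := P.rk.RN ht
    have htt := P.rk.o.sq t htN
    obtain ⟨m, hm, hmR, -, hmt, -⟩ := siegel' P.rk P.four (x := t) (y := t * u) ht (mul_mem ht (P.V2R hu)) ht1
      (fun e => htV (e ▸ h.vV2)) (fun e => hu1 (by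
        calc u = t * (t * u) := by rw [← mul_assoc, htt, one_mul]
          _ = 1 := by rw [← e, htt])) (fun e => huv (mul_left_cancel e).symm)
    rw [← mul_assoc, htt, one_mul] at hmt
    have hmV := nM h hI P hm.1 hm.2 hmR
    obtain ⟨k, hk, e⟩ := h.t2 u hu hu1 v₂ h.vV2 h.v2
    refine ⟨k * m, mul_mem (hL2 k hk) ⟨hm.1, hmV⟩, ?_⟩
    have e2 : k * m * t * (k * m)⁻¹ = k * (m * t * m⁻¹) * k⁻¹ := by group
    rw [e2, hmt, e]

/-- `N_{C₁}(R) ≤ N(V₁)` -/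
theorem nC (h : _root_.Cfsg.Agent.Omega.IId.One.One T V₁ V₂ L₁ L₂ v₁ v₂ s) (hI : ∃ x ∈ nc v₁ {v₂}, ∃ y ∈ nc v₂ {v₁}, x * y ≠ y * x)
    {v' w l : G} (P : Plane V₁ V₂ v₁ v₂ v' w l) {g : G} (hg : g ∈ cz v₁)
    (hgR : g ∈ normalizer (RR v₁ v₂ l : Set G)) : g ∈ normalizer (V₁ : Set G) := by
  have h1 : g * v₂ * g⁻¹ ∈ RR v₁ v₂ l := (mem_normalizer_iff.1 hgR _).1 P.rk.rR
  have h2 : g * v₂ * g⁻¹ ≠ 1 := fun e => h.v2 (by
    calc v₂ = g⁻¹ * (g * v₂ * g⁻¹) * g := by group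
      _ = 1 := by rw [e]; group)
  obtain ⟨n, hn, e⟩ := transR h hI P h1 h2
  have h3 : n * g ∈ cz v₂ := by
    rw [mem_cz]
    have e2 : n * g * v₂ * (n * g)⁻¹ = v₂ := by
      calc n * g * v₂ * (n * g)⁻¹ = n * (g * v₂ * g⁻¹) * n⁻¹ := by group
        _ = v₂ := e
    exact mul_inv_eq_iff_eq_mul.1 e2
  have h4 := nM h hI P (mul_mem hn.1 hg) h3 (mul_mem (P.nor hn) hgR)
  have h5 := (normalizer (V₁ : Set G)).mul_mem ((normalizer (V₁ : Set G)).inv_mem hn.2) h4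
  rwa [inv_mul_cancel_left] at h5

/-- `V₂` has index 2 in `R`. -/
theorem quo_V2 (h : _root_.Cfsg.Agent.Omega.IId.One.One T V₁ V₂ L₁ L₂ v₁ v₂ s) {v' w l : G} (P : Plane V₁ V₂ v₁ v₂ v' w l) {x y : G}
    (hx : x ∈ RR v₁ v₂ l) (hy : y ∈ RR v₁ v₂ l) (hx2 : x ∉ V₂) (hy2 : y ∉ V₂) : x * y ∈ V₂ := by
  have h8 := P.rk.card_eq P.four
  have h5 : (V₂.subgroupOf (RR v₁ v₂ l)).index = 2 := by
    have h6 := (V₂.subgroupOf (RR v₁ v₂ l)).card_mul_index
    rw [Nat.card_congr (subgroupOfEquivOfLe P.V2R).toEquiv, h8, h.card2] at h6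
    omega
  have h6 := (mul_mem_iff_of_index_two h5 (a := ⟨x, hx⟩) (b := ⟨y, hy⟩)).2
    ⟨fun e => absurd e hx2, fun e => absurd e hy2⟩
  exact h6

/-- **`T = N_M(V₁) ∩ N_M(V₂)`** -/
theorem mem_T (h : _root_.Cfsg.Agent.Omega.IId.One.One T V₁ V₂ L₁ L₂ v₁ v₂ s) (hnl : NonLoc (cz v₁) (cz v₂))
    (hI : ∃ x ∈ nc v₁ {v₂}, ∃ y ∈ nc v₂ {v₁}, x * y ≠ y * x)
    {v' w l : G} (hl : l ∈ L₁) (P : Plane V₁ V₂ v₁ v₂ v' w l) :
    T = cz v₁ ⊓ cz v₂ ⊓ normalizer (V₁ : Set G) ⊓ normalizer (V₂ : Set G) := by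
  have hb := h.toBase
  have hle : T ≤ cz v₁ ⊓ cz v₂ ⊓ normalizer (V₁ : Set G) ⊓ normalizer (V₂ : Set G) :=
    le_inf (le_inf hb.T_leM hb.T_norm1) hb.T_norm2
  refine le_antisymm hle (h.syl1 _ (pGroup_of fun g hg ho => ?_) hle fun x hx => mem_cz.1 hx.1.1.1)
  obtain ⟨⟨⟨hg1, hg2⟩, hgV1⟩, hgV2⟩ := hg
  have hgR : g ∈ normalizer (RR v₁ v₂ l : Set G) := P.nor ⟨hg1, hgV1⟩
  -- `g` fixes `V₂`
  have fV : ∀ x ∈ V₂, g * x * g⁻¹ = x := by
    intro x hx
    have h1 := (mem_normalizer_iff.1 hgV2 x).1 hx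
    rcases hb.symm.conj1 hg2 h1 hx with h2 | h2
    · exact h2
    · refine odd_fix (w := v₂) ho ?_ ?_ hb.vq2
      · rw [h2, h.c2 _ h.vV2 _ hx]
      · rw [mem_cz.1 hg2, mul_inv_cancel_right]
  have fR : ∀ x ∈ RR v₁ v₂ l, g * x * g⁻¹ = x := by
    intro x hx
    by_cases hxV : x ∈ V₂
    · exact fV x hxV
    have h1 := (mem_normalizer_iff.1 hgR x).1 hx
    have h2 : g * x * g⁻¹ ∉ V₂ := fun e => hxV ((mem_normalizer_iff.1 hgV2 x).2 e)
    have hxx := P.rk.o.sq x (P.rk.RN hx)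
    have h3 := quo_V2 h P hx h1 hxV h2
    refine odd_fix (w := x * (g * x * g⁻¹)) ho ?_ (fV _ h3) (h.q2 _ h3)
    rw [← mul_assoc, hxx, one_mul]
  have fN := odd_cent P.rk.o P.rk.RN (fun y hy hyR => perp_of_rk P.rk P.four hy hyR) hg1 ho fR
  have h1 : g ∈ ZN.o2 (cz v₁) := by
    rw [← F1_eq h hnl hI hl P]
    exact mem_inf.2 ⟨hg1, mem_centralizer_iff.2 fun x hx => (mul_inv_eq_iff_eq_mul.1 (fN x hx)).symm⟩
  obtain ⟨k, hk⟩ := isPGroup_o2 (cz v₁) ⟨g, h1⟩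
  have h2 : g ^ 2 ^ k = 1 := congrArg Subtype.val hk
  have h3 := (Nat.dvd_prime_pow Nat.prime_two).1 (orderOf_dvd_of_pow_eq_one h2)
  obtain ⟨j, -, hj⟩ := h3
  rcases Nat.eq_zero_or_pos j with h0 | h0
  · rw [h0, pow_zero, orderOf_eq_one_iff] at hj
    exact hj
  · exfalso
    rw [hj] at ho
    exact (Nat.not_odd_iff_even.2 (Nat.even_pow.2 ⟨even_two, h0.ne'⟩)) ho

end main

end Cfsg.Agent.Omega.IId.Pf.Par

end

section


/-!
# II.d, CASE 1, `q = 2`, case B: `|T| ≥ 2²⁴`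

helper370, after helper310.  `Aᵢ = v₃₋ᵢ^⊥` in `Nᵢ`.  `A₂ ≤ Kk v₁`, and `C_{A₂}(Q₁) = {1, v₁, v₂, v₁v₂}`; the
commutator form on `A₂ × Q₁` gives `|Q₁| ≥ 2¹⁵`, on `A₁ × Q₂` it gives `|Q₂ : Q₁ ∩ Q₂| ≥ 2⁵`.  The group
`Ta = {t ∈ T : [R, t] ≤ ⟨v₂⟩} ≠ T` contains `Q₁Q₂`, and `|Ta : Q₁Q₂| ≥ 2³`.
-/

set_option autoImplicit false
set_option linter.unusedSectionVars false
set_option linter.unusedVariables false

namespace Cfsg.Agent.Omega.IId.Pf.Card

open Cfsg.Agent.Omega.TV hiding z2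
open Subgroup Cfsg Cfsg.Agent.ZN Cfsg.Agent.Omega.IId.PlaneSy Cfsg.Agent.Omega.IId.PlaneRk
open Cfsg.Agent.Omega.IId.PlaneF Cfsg.Agent.Omega.IId.PlaneOf
open Cfsg.Agent.Omega.IId.One Cfsg.Agent.Omega.IId.SpSide
open Cfsg.Agent.Omega.MinPar
open Cfsg.Agent.Omega.NoFF.Basic
open Cfsg.Agent.Omega.IId.Pf.Rad Cfsg.Agent.Omega.IId.Pf.Par Cfsg.Agent.Omega.IId.Pf.Dual
open Cfsg.Agent.Omega.IId.SpForm (two_mul_card_le)
open Cfsg.Agent.Omega.IId.Two (le_normalizer_of)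
open scoped Pointwise commutatorElement

universe u

variable {G : Type u} [Group G]

theorem card_sup [Finite G] (A B : Subgroup G) :
    Nat.card A * Nat.card B ≤ Nat.card (A ⊓ B : Subgroup G) * Nat.card (A ⊔ B : Subgroup G) := by
  have h1 := relIndex_mul_relIndex (⊥ : Subgroup G) (A ⊓ B) A bot_le inf_le_left
  have h2 := relIndex_mul_relIndex (⊥ : Subgroup G) B (A ⊔ B) bot_le le_sup_right
  rw [relIndex_bot_left, relIndex_bot_left, inf_relIndex_left] at h1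
  rw [relIndex_bot_left, relIndex_bot_left] at h2
  have h4 : B.relIndex A ≤ B.relIndex (A ⊔ B) := relIndex_le_of_le_right le_sup_left (by
    rw [relIndex]
    exact index_ne_zero_of_finite)
  calc Nat.card A * Nat.card B = Nat.card (A ⊓ B : Subgroup G) * (Nat.card B * B.relIndex A) := by
        rw [← h1]; ring
    _ ≤ Nat.card (A ⊓ B : Subgroup G) * (Nat.card B * B.relIndex (A ⊔ B)) := by gcongr
    _ = _ := by rw [h2]

/-! ### The commutator form -/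

/-- the commutator form -/
noncomputable def cf (a x : G) : ZMod 2 := open Classical in if a * x = x * a then 0 else 1

theorem cf_zero {a x : G} : cf a x = 0 ↔ a * x = x * a := by
  unfold cf
  split_ifs with h <;> simp only [h, _root_.one_ne_zero]

theorem cf_one {a x : G} : cf a x = 1 ↔ a * x ≠ x * a := by
  unfold cf
  split_ifs with h <;> simp only [h, _root_.zero_ne_one, _root_.ne_eq, _root_.not_true_eq_false, _root_.not_false_eq_true]

theorem cf_of0 {a x : G} (h : a * x * a⁻¹ = x) : cf a x = 0 := cf_zero.2 (mul_inv_eq_iff_eq_mul.1 h)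

theorem cf_of1 {v a x : G} (hv : v ≠ 1) (h : a * x * a⁻¹ = v * x) : cf a x = 1 := cf_one.2 fun e => hv (by
  have h1 : a * x * a⁻¹ = x := mul_inv_eq_iff_eq_mul.2 e
  rw [h] at h1
  exact mul_eq_right.1 h1)

theorem cf_val {v a x : G} (hv : v ≠ 1) (h : a * x * a⁻¹ = x ∨ a * x * a⁻¹ = v * x) :
    (cf a x = 0 ∧ a * x * a⁻¹ = x) ∨ (cf a x = 1 ∧ a * x * a⁻¹ = v * x) := by
  rcases h with h | h
  · exact Or.inl ⟨cf_of0 h, h⟩
  · exact Or.inr ⟨cf_of1 hv h, h⟩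

theorem cf_add_left {v a b x : G} (hv : v ≠ 1) (hvv : v * v = 1) (hav : a * v = v * a)
    (ha : a * x * a⁻¹ = x ∨ a * x * a⁻¹ = v * x) (hb : b * x * b⁻¹ = x ∨ b * x * b⁻¹ = v * x) :
    cf (a * b) x = cf a x + cf b x := by
  have e : a * b * x * (a * b)⁻¹ = a * (b * x * b⁻¹) * a⁻¹ := by group
  have e2 : a * (v * x) * a⁻¹ = v * (a * x * a⁻¹) := by
    calc a * (v * x) * a⁻¹ = (a * v) * x * a⁻¹ := by group
      _ = v * (a * x * a⁻¹) := by rw [hav]; group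
  rcases cf_val hv ha with ⟨h1, h2⟩ | ⟨h1, h2⟩ <;> rcases cf_val hv hb with ⟨h3, h4⟩ | ⟨h3, h4⟩ <;>
    rw [h1, h3]
  · rw [cf_of0 (by rw [e, h4, h2])]; decide
  · rw [cf_of1 hv (by rw [e, h4, e2, h2])]; decide
  · rw [cf_of1 hv (by rw [e, h4, h2])]; decide
  · rw [cf_of0 (by rw [e, h4, e2, h2, ← mul_assoc, hvv, one_mul])]; decide

theorem cf_add_right {v a x y : G} (hv : v ≠ 1) (hvv : v * v = 1) (hxv : x * v = v * x)
    (hx : a * x * a⁻¹ = x ∨ a * x * a⁻¹ = v * x) (hy : a * y * a⁻¹ = y ∨ a * y * a⁻¹ = v * y) :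
    cf a (x * y) = cf a x + cf a y := by
  have e : a * (x * y) * a⁻¹ = (a * x * a⁻¹) * (a * y * a⁻¹) := by group
  have e2 : x * (v * y) = v * (x * y) := by rw [← mul_assoc, hxv, mul_assoc]
  rcases cf_val hv hx with ⟨h1, h2⟩ | ⟨h1, h2⟩ <;> rcases cf_val hv hy with ⟨h3, h4⟩ | ⟨h3, h4⟩ <;>
    rw [h1, h3]
  · rw [cf_of0 (by rw [e, h4, h2])]; decide
  · rw [cf_of1 hv (by rw [e, h4, h2, e2])]; decide
  · rw [cf_of1 hv (by rw [e, h4, h2, mul_assoc])]; decide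
  · rw [cf_of0 (by rw [e, h4, h2, mul_assoc, e2, ← mul_assoc, hvv, one_mul])]; decide

section pts

variable [Finite G] {T V₁ V₂ L₁ L₂ : Subgroup G} {v₁ v₂ s : G} (h : _root_.Cfsg.Agent.Omega.IId.One.One T V₁ V₂ L₁ L₂ v₁ v₂ s)
  (o : GOrth (cz v₂) (nc v₂ {v₁}) v₁ v₂)
include h o

/-- `M` is transitive on the points of `v₁^⊥`, `v₁^⊥ ≤ N₂`. -/
theorem trans_pt {x : G} (hx : x ∈ V₁) (hx1 : x ≠ 1) (hxv : x ≠ v₁) {a : G}
    (ha : a ∈ (sy_of o).pp o.r_mem) (ha' : a ∉ yr (sy_of o) o.r_mem) :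
    ∃ g ∈ cz v₂ ⊓ cz v₁, g * x * g⁻¹ * a ∈ yr (sy_of o) o.r_mem := by
  have hs := sy_perp (sy_of o) o.r_mem
  obtain ⟨hxp, hxy⟩ := pt_mem h o h.toBase hx hx1 hxv
  obtain ⟨z, hz, e⟩ := hs.sep1 hxp hxy
  obtain ⟨k, hk, -, hkz⟩ := hs.tr hxp hz e
  refine hs.norm_trans le_rfl (fun m hm k hk => mul_mem (mul_mem hm hk) (inv_mem hm)) hxp hxy hk (fun e2 => ?_)
    ha ha'
  have hkx := hs.nor k hk x hxp
  have h1 := hs.eqv_trans hkx (hs.eqv_symm hkx hxp e2) hkz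
  have h2 := hs.zero _ h1 z hz
  rw [hs.add_left hxp hz hz, e, hs.self z hz] at h2
  exact absurd h2 (by decide)

/-- `⟨v₁, v₂⟩` centralises `T`. -/
theorem yr_T {y t : G} (hy : y ∈ yr (sy_of o) o.r_mem) (ht : t ∈ T) : y * t = t * y := by
  rcases mem_yr' h o hy with rfl | rfl | rfl | rfl
  · rw [one_mul, mul_one]
  · exact (h.Tv2 t ht).symm
  · exact (h.Tv1 t ht).symm
  · rw [← mul_assoc, h.Tv1 t ht, mul_assoc, ← h.Tv2 t ht, mul_assoc]

theorem yr_Kk : yr (sy_of o) o.r_mem ≤ Kk v₁ := by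
  have h2 : v₂ ∈ Kk v₁ := ⟨h.T_le (h.V2T h.vV2), fun x hx => by
    rw [← h.Tv2 x (h.Q_le hx)]
    have e : x * v₂ * v₂⁻¹ * x⁻¹ = 1 := by group
    rw [e]
    exact one_mem _⟩
  have h1 : v₁ ∈ Kk v₁ := h.V1_le_Kk h.vV1
  intro y hy
  rcases mem_yr' h o hy with rfl | rfl | rfl | rfl
  · exact one_mem _
  · exact h2
  · exact h1
  · exact mul_mem h1 h2

/-- `v₁^⊥ ≤ Kk v₁` -/
theorem A_le : (sy_of o).pp o.r_mem ≤ Kk v₁ := by
  intro a ha
  by_cases ha' : a ∈ yr (sy_of o) o.r_mem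
  · exact yr_Kk h o ha'
  obtain ⟨x, hx, hx1, hxv⟩ := exists_x h
  obtain ⟨g, hg, e⟩ := trans_pt h o hx hx1 hxv ha ha'
  have h1 := (mem_normalizer_iff.1 (le_normalizer_Kk v₁ hg.2) x).1 (h.V1_le_Kk hx)
  have h2 := mul_mem (inv_mem h1) (yr_Kk h o e)
  rwa [inv_mul_cancel_left] at h2

theorem A_le_Q : (sy_of o).pp o.r_mem ≤ ZN.o2 (cz v₁) := (A_le h o).trans h.Kk_le_Q

/-- `C_{A₂}(Q₁) ≤ ⟨v₁, v₂⟩` -/
theorem ker_le {a : G} (ha : a ∈ (sy_of o).pp o.r_mem) (hc : ∀ x ∈ ZN.o2 (cz v₁), a * x = x * a) :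
    a ∈ yr (sy_of o) o.r_mem := by
  by_contra ha'
  obtain ⟨w, hw, x, hx, hne⟩ := h.k1
  have hx1 : x ≠ 1 := fun e => hne (by rw [e, one_mul, mul_one])
  have hxv : x ≠ v₁ := fun e => hne (by rw [e]; exact mem_cz.1 hw.1)
  obtain ⟨g, hg, e⟩ := trans_pt h o hx hx1 hxv ha ha'
  have hwQ := h.Kk_le_Q hw
  have hgw : g * w * g⁻¹ ∈ ZN.o2 (cz v₁) := (mem_normalizer_iff.1 (le_normalizer_o2 _ hg.2) w).1 hwQ
  have h1 := yr_T h o e (h.Q_le hgw)
  have h2 := hc _ hgw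
  -- `x` commutes with `w`
  apply hne
  have h3 : g * x * g⁻¹ * (g * w * g⁻¹) = g * w * g⁻¹ * (g * x * g⁻¹) := by
    apply mul_right_cancel (b := a)
    calc g * x * g⁻¹ * (g * w * g⁻¹) * a = g * x * g⁻¹ * (g * w * g⁻¹ * a) := by group
      _ = g * x * g⁻¹ * a * (g * w * g⁻¹) := by rw [← h2]; group
      _ = g * w * g⁻¹ * (g * x * g⁻¹) * a := by rw [h1]; group
  have e1 : g * x * g⁻¹ * (g * w * g⁻¹) = g * (x * w) * g⁻¹ := by group
  have e2 : g * w * g⁻¹ * (g * x * g⁻¹) = g * (w * x) * g⁻¹ := by group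
  rw [e1, e2] at h3
  exact (mul_left_cancel (mul_right_cancel h3)).symm

theorem card_yr : Nat.card (yr (sy_of o) o.r_mem) ≤ 4 := by
  classical
  have h5 : ((yr (sy_of o) o.r_mem : Subgroup G) : Set G) ⊆ (({1, v₂, v₁, v₁ * v₂} : Finset G) : Set G) := by
    intro t ht
    simpa only [_root_.Finset.coe_insert, _root_.Finset.coe_singleton, _root_.Set.mem_insert_iff, _root_.Set.mem_singleton_iff] using mem_yr' h o ht
  have h6 := Set.ncard_le_ncard h5 (Finset.finite_toSet _)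
  rw [Set.ncard_coe_finset] at h6
  have h7 : Nat.card (yr (sy_of o) o.r_mem) = ((yr (sy_of o) o.r_mem : Subgroup G) : Set G).ncard :=
    Nat.card_coe_set_eq _
  have h9 : ({1, v₂, v₁, v₁ * v₂} : Finset G).card ≤ 4 := Finset.card_le_four
  omega

theorem card_pp (hN : Nat.card (nc v₂ {v₁}) = 128) : Nat.card ((sy_of o).pp o.r_mem) = 64 := by
  have hs := sy_of o
  obtain ⟨z, hz, e⟩ := hs.sep1 o.r_mem fun e => by
    rcases (mem_zp2 h.vq2).1 e with e | e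
    · exact h.v1 e
    · exact h.ne e
  have a1 : Nat.card (nc v₂ {v₁}) = 2 * Nat.card ((sy_of o).pp o.r_mem) :=
    card_ker (f := Bg (cz v₂) v₁ v₁) (fun x hx y hy => o.add v₁ o.r_mem x hx y hy) (fun x => Iff.rfl) ⟨z, hz, e⟩
  omega

/-- `[Q₁, A₂] ≤ ⟨v₁⟩` -/
theorem A_conj {a x : G} (ha : a ∈ (sy_of o).pp o.r_mem) (hx : x ∈ ZN.o2 (cz v₁)) :
    a * x * a⁻¹ = x ∨ a * x * a⁻¹ = v₁ * x := Kk_conj h.vq1 (A_le h o ha) hx

theorem dualQ {K : Subgroup G} (hK : K ≤ ZN.o2 (cz v₁))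
    (hc : ∀ z ∈ K, ∀ a ∈ (sy_of o).pp o.r_mem, a * z = z * a) :
    Nat.card ((sy_of o).pp o.r_mem) * Nat.card K ≤ Nat.card (yr (sy_of o) o.r_mem) * Nat.card (ZN.o2 (cz v₁)) := by
  refine dual_card (f := cf) _ rfl (fun a ha b hb x hx => ?_) (fun a ha x hx y hy => ?_)
    (fun a ha h0 => ker_le h o ha fun x hx => cf_zero.1 (h0 x hx)) hK (fun z hz a ha => cf_zero.2 (hc z hz a ha))
  · exact cf_add_left h.v1 h.vq1 (mem_cz.1 (A_le h o ha).1) (A_conj h o ha hx) (A_conj h o hb hx)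
  · exact cf_add_right h.v1 h.vq1 (mem_cz.1 (o2_le _ hx)) (A_conj h o ha hx) (A_conj h o ha hy)

end pts

section main

variable [Finite G] {T V₁ V₂ L₁ L₂ : Subgroup G} {v₁ v₂ s : G}

/-- **(a)** -/
theorem card_Q (h : _root_.Cfsg.Agent.Omega.IId.One.One T V₁ V₂ L₁ L₂ v₁ v₂ s) (hI : ∃ x ∈ nc v₁ {v₂}, ∃ y ∈ nc v₂ {v₁}, x * y ≠ y * x) :
    2 ^ 15 ≤ Nat.card (ZN.o2 (cz v₁)) := by
  have o := h.symm.orth (One.hI_symm hI)
  have hN1 := card_N1 h hI
  have hN2 := card_N1 h.symm (One.hI_symm hI)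
  have hA := card_pp h o hN2
  have hY := card_yr h o
  have hAQ := A_le_Q h o
  -- the intersection
  have h1 : nc v₁ {v₂} ⊓ (sy_of o).pp o.r_mem ≤ yr (sy_of o) o.r_mem := fun a ha =>
    ker_le h o ha.2 fun x hx => (h.Q_N1 hx ha.1).symm
  have h2 := Subgroup.card_le_of_le h1
  have h3 := card_sup (nc v₁ {v₂}) ((sy_of o).pp o.r_mem)
  have h4 := dualQ h o (K := nc v₁ {v₂} ⊔ (sy_of o).pp o.r_mem) (sup_le h.N1_le_Q hAQ) (by
    have h5 : nc v₁ {v₂} ⊔ (sy_of o).pp o.r_mem ≤ centralizer ((sy_of o).pp o.r_mem : Set G) := by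
      refine sup_le (fun x hx => mem_centralizer_iff.2 fun a ha => h.Q_N1 (hAQ ha) hx)
        (fun x hx => mem_centralizer_iff.2 fun a ha => h.symm.N1_comm ha.1 hx.1)
    exact fun z hz a ha => mem_centralizer_iff.1 (h5 hz) a ha)
  rw [hN1, hA] at h3
  rw [hA] at h4
  have h6 : Nat.card (nc v₁ {v₂} ⊓ (sy_of o).pp o.r_mem : Subgroup G) *
      Nat.card (nc v₁ {v₂} ⊔ (sy_of o).pp o.r_mem : Subgroup G) ≤
      4 * Nat.card (nc v₁ {v₂} ⊔ (sy_of o).pp o.r_mem : Subgroup G) := Nat.mul_le_mul_right _ (h2.trans hY)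
  have h7 : Nat.card (yr (sy_of o) o.r_mem) * Nat.card (ZN.o2 (cz v₁)) ≤ 4 * Nat.card (ZN.o2 (cz v₁)) :=
    Nat.mul_le_mul_right _ hY
  omega

/-- **(b)** -/
theorem card_QQ (h : _root_.Cfsg.Agent.Omega.IId.One.One T V₁ V₂ L₁ L₂ v₁ v₂ s) (hI : ∃ x ∈ nc v₁ {v₂}, ∃ y ∈ nc v₂ {v₁}, x * y ≠ y * x) :
    2 ^ 20 ≤ Nat.card (ZN.o2 (cz v₁) ⊔ ZN.o2 (cz v₂) : Subgroup G) := by
  have o := h.orth hI
  have hN1 := card_N1 h hI
  have hQ1 := card_Q h hI
  have hA := card_pp h.symm o hN1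
  have hY := card_yr h.symm o
  -- `K = C_{Q₂}(A₁)`
  set K : Subgroup G := ZN.o2 (cz v₂) ⊓ centralizer ((sy_of o).pp o.r_mem : Set G) with hK
  have h1 := dualQ h.symm o (K := K) inf_le_left (fun z hz a ha => mem_centralizer_iff.1 hz.2 a ha)
  have h2 : 2 * Nat.card (ZN.o2 (cz v₁) ⊓ ZN.o2 (cz v₂) : Subgroup G) ≤ Nat.card K := by
    refine two_mul_card_le (fun x hx => ⟨hx.2, mem_centralizer_iff.2 fun a ha => (h.Q_N1 hx.1 ha.1).symm⟩) ?_
    obtain ⟨x, hx, y, hy, hne⟩ := hI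
    exact ⟨y, ⟨h.symm.N1_le_Q hy, mem_centralizer_iff.2 fun a ha =>
      h.symm.Q_N1 (A_le_Q h.symm o ha) hy⟩, fun e => hne (h.Q_N1 e.1 hx).symm⟩
  have h3 := card_sup (ZN.o2 (cz v₁)) (ZN.o2 (cz v₂))
  rw [hA] at h1
  have h4 : Nat.card (yr (sy_of o) o.r_mem) * Nat.card (ZN.o2 (cz v₂)) ≤ 4 * Nat.card (ZN.o2 (cz v₂)) :=
    Nat.mul_le_mul_right _ hY
  have h5 : 32 * Nat.card (ZN.o2 (cz v₁) ⊓ ZN.o2 (cz v₂) : Subgroup G) ≤ Nat.card (ZN.o2 (cz v₂)) := by omega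
  have h6 : 0 < Nat.card (ZN.o2 (cz v₁) ⊓ ZN.o2 (cz v₂) : Subgroup G) := Nat.card_pos
  have h7 : 2 ^ 15 * (32 * Nat.card (ZN.o2 (cz v₁) ⊓ ZN.o2 (cz v₂) : Subgroup G)) ≤
      Nat.card (ZN.o2 (cz v₁)) * Nat.card (ZN.o2 (cz v₂)) := Nat.mul_le_mul hQ1 h5
  have h8 : Nat.card (ZN.o2 (cz v₁) ⊓ ZN.o2 (cz v₂) : Subgroup G) * 2 ^ 20 ≤
      Nat.card (ZN.o2 (cz v₁) ⊓ ZN.o2 (cz v₂) : Subgroup G) * Nat.card (ZN.o2 (cz v₁) ⊔ ZN.o2 (cz v₂) : Subgroup G) := by
    calc _ = 2 ^ 15 * (32 * Nat.card (ZN.o2 (cz v₁) ⊓ ZN.o2 (cz v₂) : Subgroup G)) := by ring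
      _ ≤ _ := h7.trans h3
  exact Nat.le_of_mul_le_mul_left h8 h6

end main

/-! ### The group `Ta` -/

/-- `{t ∈ T : [R, t] ≤ ⟨c⟩}` -/
def Ta (T R : Subgroup G) (c : G) (hT : ∀ t ∈ T, t * c = c * t) : Subgroup G where
  carrier := {t | t ∈ T ∧ ∀ x ∈ R, t * x * t⁻¹ * x⁻¹ ∈ zpowers c}
  one_mem' := ⟨one_mem _, fun x _ => by
    have e : (1 : G) * x * 1⁻¹ * x⁻¹ = 1 := by group
    rw [e]; exact one_mem _⟩
  mul_mem' := by
    rintro a b ⟨ha, ha'⟩ ⟨hb, hb'⟩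
    refine ⟨mul_mem ha hb, fun x hx => ?_⟩
    have h1 : ∀ y ∈ zpowers c, a * y * a⁻¹ = y := by
      rintro _ ⟨k, rfl⟩
      have h2 : Commute a c := hT a ha
      change a * c ^ k * a⁻¹ = c ^ k
      rw [(h2.zpow_right k).eq, mul_inv_cancel_right]
    have e : a * b * x * (a * b)⁻¹ * x⁻¹ = (a * (b * x * b⁻¹ * x⁻¹) * a⁻¹) * (a * x * a⁻¹ * x⁻¹) := by
      group
    rw [e, h1 _ (hb' x hx)]
    exact mul_mem (hb' x hx) (ha' x hx)
  inv_mem' := by
    rintro a ⟨ha, ha'⟩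
    refine ⟨inv_mem ha, fun x hx => ?_⟩
    have h1 : ∀ y ∈ zpowers c, a⁻¹ * y * a = y := by
      rintro _ ⟨k, rfl⟩
      have h2 : Commute a c := hT a ha
      change a⁻¹ * c ^ k * a = c ^ k
      rw [mul_assoc, ← (h2.zpow_right k).eq, inv_mul_cancel_left]
    have e : a⁻¹ * x * a⁻¹⁻¹ * x⁻¹ = a⁻¹ * (a * x * a⁻¹ * x⁻¹)⁻¹ * a := by group
    rw [e, h1 _ (inv_mem (ha' x hx))]
    exact inv_mem (ha' x hx)

section rk

variable [Finite G] {C N R : Subgroup G} {r c : G} (h : Rk C N R r c) (h4 : 4 < Nat.card R)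
include h

/-- `[A, t] ≤ R^⊥` for `t ∈ Ta` -/
theorem perpTa {t n : G} (ht : t ∈ C) (ht' : ∀ x ∈ R, t * x * t⁻¹ * x⁻¹ ∈ zpowers r) (hn : n ∈ N)
    (hrn : Bg C r r n = 0) : ∀ x ∈ R, Bg C r (n⁻¹ * (t⁻¹ * n * t)) x = 0 := by
  intro x hx
  have hs := sy_of h.o
  have hxN := h.RN hx
  have hrr := h.o.sq r h.o.r_mem
  have htn : t⁻¹ * n * t ∈ N := hs.nor' ht hn
  rw [h.o.add_left (inv_mem hn) htn hxN, hs.iv hn, ← hs.inv_right ht hn hxN]
  have e : t * x * t⁻¹ = (t * x * t⁻¹ * x⁻¹) * x := by group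
  rcases (mem_zp2 hrr).1 (ht' x hx) with h1 | h1
  · rw [e, h1, one_mul, z2_self]
  · rw [e, h1, h.o.add n hn r h.o.r_mem x hxN, h.o.comm n hn r h.o.r_mem, hrn, zero_add, z2_self]

include h4

/-- `R^⊥` is totally isotropic. -/
theorem iso_perp {w w' : G} (hw : w ∈ N) (hw' : w' ∈ N) (hp : ∀ x ∈ R, Bg C r w x = 0)
    (hp' : ∀ x ∈ R, Bg C r w' x = 0) : Bg C r w w' = 0 := by
  rcases perp_of_rk h h4 hw' hp' with h1 | h1
  · exact hp w' h1
  · have h2 := hp _ h1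
    rw [h.o.add w hw w' hw' c h.o.c_mem, h.o.comm w hw c h.o.c_mem, h.o.Bc w hw, add_zero] at h2
    exact h2

end rk

section last

variable [Finite G] {T V₁ V₂ L₁ L₂ : Subgroup G} {v₁ v₂ s : G}

/-- the reflections `τ_y`, `y ∈ R^#`, lie in `T` -/
theorem tauR (h : _root_.Cfsg.Agent.Omega.IId.One.One T V₁ V₂ L₁ L₂ v₁ v₂ s) (hnl : NonLoc (cz v₁) (cz v₂))
    (hI : ∃ x ∈ nc v₁ {v₂}, ∃ y ∈ nc v₂ {v₁}, x * y ≠ y * x) {v' w l : G} (hl : l ∈ L₁)
    (P : Plane V₁ V₂ v₁ v₂ v' w l) {y : G} (hy : y ∈ RR v₁ v₂ l) (hy1 : y ≠ 1) :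
    ∃ g ∈ Ta T (RR v₁ v₂ l) v₂ h.Tv2, ∀ n ∈ nc v₁ {v₂}, (Bg (cz v₁) v₂ y n = 0 ∧ g * n * g⁻¹ = n) ∨
      (Bg (cz v₁) v₂ y n = 1 ∧ g * n * g⁻¹ = n * (y * v₁)) := by
  obtain ⟨g, hg, hgn⟩ := P.rk.o.refl y (P.rk.RN hy) hy1 (Q_zero_rk P.rk P.four hy)
  have fR : ∀ x ∈ RR v₁ v₂ l, g * x * g⁻¹ = x := by
    intro x hx
    rcases hgn x (P.rk.RN hx) with ⟨-, h1⟩ | ⟨h1, -⟩
    · exact h1
    · rw [P.rk.iso y hy x hx] at h1; exact absurd h1 (by decide)
  have hg2 : g ∈ cz v₂ := mem_cz.2 (mul_inv_eq_iff_eq_mul.1 (fR v₂ P.rk.rR))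
  have hgR : g ∈ normalizer (RR v₁ v₂ l : Set G) := by
    apply Cfsg.Agent.MinSimple.VModule.mem_normalizer_of_map_le
    rintro _ ⟨t, ht, rfl⟩
    show g * t * g⁻¹ ∈ RR v₁ v₂ l
    rw [fR t ht]
    exact ht
  have hgV : g ∈ normalizer (V₂ : Set G) := by
    apply Cfsg.Agent.MinSimple.VModule.mem_normalizer_of_map_le
    rintro _ ⟨t, ht, rfl⟩
    show g * t * g⁻¹ ∈ V₂
    rw [fR t (P.V2R ht)]
    exact ht
  have hgT : g ∈ T := by
    rw [mem_T h hnl hI hl P]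
    exact ⟨⟨⟨hg, hg2⟩, nC h hI P hg hgR⟩, hgV⟩
  exact ⟨g, ⟨hgT, fun x hx => by rw [fR x hx, mul_inv_cancel]; exact one_mem _⟩, hgn⟩

/-- `Ta ≠ T` -/
theorem Ta_ne (h : _root_.Cfsg.Agent.Omega.IId.One.One T V₁ V₂ L₁ L₂ v₁ v₂ s) (hnl : NonLoc (cz v₁) (cz v₂))
    (hI : ∃ x ∈ nc v₁ {v₂}, ∃ y ∈ nc v₂ {v₁}, x * y ≠ y * x) {v' w l : G} (hl : l ∈ L₁)
    (P : Plane V₁ V₂ v₁ v₂ v' w l) {u x : G} (hu : u ∈ V₂) (hu1 : u ≠ 1) (huv : u ≠ v₂)
    (hx : x ∈ RR v₁ v₂ l) (hx2 : x ∉ V₂) : ∃ m ∈ T, m ∉ Ta T (RR v₁ v₂ l) v₂ h.Tv2 := by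
  obtain ⟨m, hm, hmR, hmu, hmx, -⟩ := siegel' P.rk P.four (x := x) (y := u) hx (P.V2R hu)
    (fun e => hx2 (e ▸ one_mem _)) (fun e => hx2 (e ▸ h.vV2)) (fun e => hx2 (e ▸ hu)) (fun e => hx2 (by
      have e2 : x = u * v₂⁻¹ := by rw [← e]; group
      rw [e2]
      exact mul_mem hu (inv_mem h.vV2)))
  have hm2 : m * v₂ * m⁻¹ = v₂ := by rw [mem_cz.1 hm.2, mul_inv_cancel_right]
  refine ⟨m, ?_, fun e => ?_⟩
  · rw [mem_T h hnl hI hl P]
    refine ⟨⟨⟨hm.1, hm.2⟩, nC h hI P hm.1 hmR⟩, ?_⟩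
    apply Cfsg.Agent.MinSimple.VModule.mem_normalizer_of_map_le
    rintro _ ⟨t, ht, rfl⟩
    show m * t * m⁻¹ ∈ V₂
    rcases h.toBase.symm.mem_V1 ht hu hu1 huv with rfl | rfl | rfl | rfl
    · rw [mul_one, mul_inv_cancel]; exact one_mem _
    · rw [hm2]; exact h.vV2
    · rw [hmu]; exact hu
    · have e3 : m * (v₂ * u) * m⁻¹ = m * v₂ * m⁻¹ * (m * u * m⁻¹) := by group
      rw [e3, hm2, hmu]
      exact mul_mem h.vV2 hu
  · have h1 := e.2 x hx
    have h2 : x * u * x⁻¹ = u := by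
      rw [(sy_of P.rk.o).mc (P.rk.RN hx) (P.rk.RN (P.V2R hu)), mul_inv_cancel_right]
    rw [hmx, h2] at h1
    rcases (mem_zp2 h.vq2).1 h1 with e | e
    · exact hu1 e
    · exact huv e

/-- **`|T| ≥ 2²⁴`** -/
theorem card_T (h : _root_.Cfsg.Agent.Omega.IId.One.One T V₁ V₂ L₁ L₂ v₁ v₂ s) (hnl : NonLoc (cz v₁) (cz v₂))
    (hI : ∃ x ∈ nc v₁ {v₂}, ∃ y ∈ nc v₂ {v₁}, x * y ≠ y * x) : 2 ^ 24 ≤ Nat.card T := by
  obtain ⟨v', hv', hv'1, hv'v⟩ := exists_x h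
  obtain ⟨w, l, hl, P⟩ := exists_plane h hI hv' hv'1 hv'v
  have o := P.rk.o
  have hs := sy_of o
  have hrk := P.rk
  have h4 := P.four
  set R : Subgroup G := RR v₁ v₂ l with hR
  have hRN : R ≤ nc v₁ {v₂} := P.rk.RN
  -- the basis of `R`
  obtain ⟨u, hu, hu1, huv⟩ := exists_x h.symm
  obtain ⟨x, hx, hx2⟩ : ∃ x ∈ R, x ∉ V₂ := by
    by_contra hcon
    push Not at hcon
    have h5 := Subgroup.card_le_of_le (show R ≤ V₂ from hcon)
    rw [h.card2] at h5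
    have h6 : 4 < Nat.card R := P.four
    omega
  have huR : u ∈ R := P.V2R hu
  have huN := hRN huR
  have hxN := hRN hx
  have hvR : v₂ ∈ R := P.rk.rR
  have hvN := hRN hvR
  have eqv : ∀ t z : G, z ∈ nc v₁ {v₂} → t * z = 1 → t = z := fun t z hz e => by
    calc t = t * (z * z) := by rw [o.sq z hz, mul_one]
      _ = z := by rw [← mul_assoc, e, one_mul]
  have nz : ∀ t ∈ R, t ≠ 1 → t ∉ zpowers v₁ := fun t ht ht1 => P.rk.not_zp ht ht1
  have n1 : x ∉ zpowers v₁ := nz x hx fun e => hx2 (e ▸ one_mem _)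
  have n2 : x * u ∉ zpowers v₁ := nz _ (mul_mem hx huR) fun e => hx2 (eqv _ _ huN e ▸ hu)
  have n3 : x * v₂ ∉ zpowers v₁ := nz _ (mul_mem hx hvR) fun e => hx2 (eqv _ _ hvN e ▸ h.vV2)
  have n4 : x * u * v₂ ∉ zpowers v₁ := nz _ (mul_mem (mul_mem hx huR) hvR) fun e => hx2 (by
    have e2 : x = v₂⁻¹⁻¹ * u⁻¹ := by
      have := eqv _ _ hvN e
      rw [inv_inv, ← this]
      group
    rw [e2, inv_inv]
    exact mul_mem h.vV2 (inv_mem hu))
  have n5 : u ∉ zpowers v₁ := nz u huR hu1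
  have n6 : u * v₂ ∉ zpowers v₁ := nz _ (mul_mem huR hvR) fun e => huv (eqv _ _ hvN e)
  have n7 : v₂ ∉ zpowers v₁ := nz v₂ hvR h.v2
  -- the dual basis
  obtain ⟨a, ha, xa, ua, va⟩ := hs.val3 hxN huN hvN n1 n5 n7 n2 n3 n6 n4 0 1 0
  obtain ⟨b, hb, xb, ub, vb⟩ := hs.val3 hxN huN hvN n1 n5 n7 n2 n3 n6 n4 1 0 0
  set A := Ta T R v₂ h.Tv2 with hA
  have hAT : A ≤ T := fun t ht => ht.1
  -- the functions `f`
  set F : G → G → G → ZMod 2 := fun n n' t => Bg (cz v₁) v₂ n (n'⁻¹ * (t * n' * t⁻¹)) with hF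
  have hTC : ∀ t ∈ A, t ∈ cz v₁ := fun t ht => h.T_le ht.1
  have wN : ∀ t ∈ A, ∀ n ∈ nc v₁ {v₂}, n⁻¹ * (t * n * t⁻¹) ∈ nc v₁ {v₂} := fun t ht n hn =>
    mul_mem (inv_mem hn) (o.nor t (hTC t ht) n hn)
  have wp : ∀ t ∈ A, ∀ n ∈ nc v₁ {v₂}, Bg (cz v₁) v₂ v₂ n = 0 →
      ∀ z ∈ R, Bg (cz v₁) v₂ (n⁻¹ * (t * n * t⁻¹)) z = 0 := by
    intro t ht n hn hvn z hz
    have ht' := inv_mem ht
    have := perpTa hrk (t := t⁻¹) (hTC _ ht') (fun y hy => ht'.2 y hy) hn hvn z hz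
    rwa [inv_inv] at this
  have hadd : ∀ n ∈ nc v₁ {v₂}, ∀ n' ∈ nc v₁ {v₂}, Bg (cz v₁) v₂ v₂ n = 0 → Bg (cz v₁) v₂ v₂ n' = 0 →
      ∀ t ∈ A, ∀ t' ∈ A, F n n' (t * t') = F n n' t + F n n' t' := by
    intro n hn n' hn' hvn hvn' t ht t' ht'
    have e : n'⁻¹ * (t * t' * n' * (t * t')⁻¹) =
        (n'⁻¹ * (t * n' * t⁻¹)) * (t * (n'⁻¹ * (t' * n' * t'⁻¹)) * t⁻¹) := by group
    have hw := wN t' ht' n' hn'
    have hw1 := wN t ht n' hn'
    have hti := inv_mem ht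
    have hw2 := wN _ hti n hn
    have e2 : t⁻¹ * n * t = n * (n⁻¹ * (t⁻¹ * n * t⁻¹⁻¹)) := by group
    show Bg (cz v₁) v₂ n (n'⁻¹ * (t * t' * n' * (t * t')⁻¹)) = _
    rw [e, o.add n hn _ hw1 _ (o.nor t (hTC t ht) _ hw), hs.inv_right (hTC t ht) hn hw, e2,
      o.add_left hn hw2 hw, iso_perp hrk h4 hw2 hw (wp _ hti n hn hvn) (wp t' ht' n' hn' hvn'), add_zero]
  -- `Q₁`, `Q₂`
  have hQ1 : ∀ n ∈ nc v₁ {v₂}, ∀ n' ∈ nc v₁ {v₂}, ∀ t ∈ ZN.o2 (cz v₁), F n n' t = 0 := by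
    intro n hn n' hn' t ht
    show Bg (cz v₁) v₂ n (n'⁻¹ * (t * n' * t⁻¹)) = 0
    rw [h.Q_N1 ht hn', mul_inv_cancel_right, inv_mul_cancel]
    exact GOrth.Bone
  have hc2 : ∀ n ∈ nc v₁ {v₂}, Bg (cz v₁) v₂ v₂ n = 0 → ∀ t ∈ ZN.o2 (cz v₂),
      t * n * t⁻¹ = n ∨ t * n * t⁻¹ = n * v₂ := by
    intro n hn hvn t ht
    have hnt : t * v₂ = v₂ * t := mem_cz.1 (o2_le _ ht)
    have hnv : n * v₂ = v₂ * n := hs.mc hn hvN
    rcases A_conj h.symm o (a := n) ⟨hn, hvn⟩ ht with h5 | h5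
    · left
      have h6 : n * t = t * n := mul_inv_eq_iff_eq_mul.1 h5
      rw [← h6, mul_inv_cancel_right]
    · right
      have h6 : n * t = v₂ * t * n := mul_inv_eq_iff_eq_mul.1 h5
      have h7 : t * n = n * v₂ * t := by
        calc t * n = v₂ * v₂ * t * n := by rw [h.vq2, one_mul]
          _ = v₂ * (v₂ * t * n) := by group
          _ = v₂ * n * t := by rw [← h6]; group
          _ = n * v₂ * t := by rw [hnv]
      rw [h7, mul_inv_cancel_right]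
  have hQ2 : ∀ n ∈ nc v₁ {v₂}, ∀ n' ∈ nc v₁ {v₂}, Bg (cz v₁) v₂ v₂ n = 0 → Bg (cz v₁) v₂ v₂ n' = 0 →
      ∀ t ∈ ZN.o2 (cz v₂), F n n' t = 0 := by
    intro n hn n' hn' hvn hvn' t ht
    show Bg (cz v₁) v₂ n (n'⁻¹ * (t * n' * t⁻¹)) = 0
    rcases hc2 n' hn' hvn' t ht with h5 | h5
    · rw [h5, inv_mul_cancel]; exact GOrth.Bone
    · rw [h5, inv_mul_cancel_left, o.comm n hn v₂ hvN, hvn]
  have hQA : ZN.o2 (cz v₁) ⊔ ZN.o2 (cz v₂) ≤ A := by
    refine sup_le (fun t ht => ⟨h.Q_le ht, fun z hz => ?_⟩) (fun t ht => ⟨h.symm.Q_le ht, fun z hz => ?_⟩)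
    · rw [h.Q_N1 ht (hRN hz), mul_inv_cancel_right, mul_inv_cancel]; exact one_mem _
    · rcases hc2 z (hRN hz) (P.rk.iso v₂ hvR z hz) t ht with h5 | h5
      · rw [h5, mul_inv_cancel]; exact one_mem _
      · rw [h5, hs.mc (hRN hz) hvN, mul_inv_cancel_right]; exact mem_zpowers _
  -- the values on the reflections
  have hval : ∀ y ∈ R, y ≠ 1 → ∃ g ∈ A, ∀ n ∈ nc v₁ {v₂}, ∀ n' ∈ nc v₁ {v₂},
      F n n' g = Bg (cz v₁) v₂ y n * Bg (cz v₁) v₂ y n' := by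
    intro y hy hy1
    obtain ⟨g, hg, hgn⟩ := tauR h hnl hI hl P hy hy1
    refine ⟨g, hg, fun n hn n' hn' => ?_⟩
    have hyN := hRN hy
    show Bg (cz v₁) v₂ n (n'⁻¹ * (g * n' * g⁻¹)) = _
    rcases hgn n' hn' with ⟨h5, h6⟩ | ⟨h5, h6⟩
    · rw [h6, inv_mul_cancel, h5, mul_zero]; exact GOrth.Bone
    · rw [h6, inv_mul_cancel_left, h5, mul_one, o.add n hn y hyN v₁ o.c_mem, o.comm n hn v₁ o.c_mem, o.Bc n hn,
        add_zero, o.comm n hn y hyN]
  obtain ⟨g₁, hg₁, hf₁⟩ := hval u huR hu1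
  obtain ⟨g₂, hg₂, hf₂⟩ := hval x hx fun e => hx2 (e ▸ one_mem _)
  obtain ⟨g₃, hg₃, hf₃⟩ := hval (x * u) (mul_mem hx huR) fun e => hx2 (eqv _ _ huN e ▸ hu)
  have xua : Bg (cz v₁) v₂ (x * u) a = 1 := by rw [o.add_left hxN huN ha, xa, ua]; decide
  have xub : Bg (cz v₁) v₂ (x * u) b = 1 := by rw [o.add_left hxN huN hb, xb, ub]; decide
  -- `f₂₁`
  have ad1 := hadd b hb a ha vb va
  have c1 := card_ker' (A := A) (f := F b a) ad1 ⟨g₃, hg₃, by rw [hf₃ b hb a ha, xua, xub]; decide⟩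
  set K₁ := ker A (F b a) ad1 with hK₁
  have ad2 : ∀ t ∈ K₁, ∀ t' ∈ K₁, F a a (t * t') = F a a t + F a a t' := fun t ht t' ht' =>
    hadd a ha a ha va va t ht.1 t' ht'.1
  have c2 := card_ker' (A := K₁) (f := F a a) ad2 ⟨g₁, ⟨hg₁, by rw [hf₁ b hb a ha, ub, zero_mul]⟩, by
    rw [hf₁ a ha a ha, ua]; decide⟩
  set K₂ := ker K₁ (F a a) ad2 with hK₂
  have ad3 : ∀ t ∈ K₂, ∀ t' ∈ K₂, F b b (t * t') = F b b t + F b b t' := fun t ht t' ht' =>
    hadd b hb b hb vb vb t ht.1.1 t' ht'.1.1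
  have c3 := card_ker' (A := K₂) (f := F b b) ad3 ⟨g₂, ⟨⟨hg₂, by rw [hf₂ b hb a ha, xa, mul_zero]⟩, by
    rw [hf₂ a ha a ha, xa, zero_mul]⟩, by rw [hf₂ b hb b hb, xb]; decide⟩
  set K₃ := ker K₂ (F b b) ad3 with hK₃
  have hle : ZN.o2 (cz v₁) ⊔ ZN.o2 (cz v₂) ≤ K₃ := by
    refine sup_le (fun t ht => ?_) (fun t ht => ?_)
    · exact ⟨⟨⟨hQA (mem_sup_left ht), hQ1 b hb a ha t ht⟩, hQ1 a ha a ha t ht⟩, hQ1 b hb b hb t ht⟩
    · exact ⟨⟨⟨hQA (mem_sup_right ht), hQ2 b hb a ha vb va t ht⟩, hQ2 a ha a ha va va t ht⟩,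
        hQ2 b hb b hb vb vb t ht⟩
  have c4 := Subgroup.card_le_of_le hle
  have c5 := card_QQ h hI
  have c6 : 2 * Nat.card A ≤ Nat.card T := two_mul_card_le hAT (Ta_ne h hnl hI hl P hu hu1 huv hx hx2)
  omega

end last

end Cfsg.Agent.Omega.IId.Pf.Card

end

section


/-!
# The order of the orthogonal module when `m₃ ≤ 2`

helper304 (helper612 #14107 (6)).  `GOrth.exists_plane`: hyperbolic pairs split off; `GOrth.card_le`:
`m₃(G) ≤ 2` implies `|N| ≤ 32`; `GOrth.le_card`: `32 ≤ |N|` if `N` contains a totally singular four-group;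
`One.card_N1`: `|N₁| = 32` for the configuration `One` with `[N₁, N₂] ≠ 1` and `m₃(G) ≤ 2`.
-/

set_option autoImplicit false
set_option linter.dupNamespace false

namespace Cfsg.Agent.Omega.TV

open Subgroup

variable {G : Type*} [Group G]

namespace GOrth

variable {C N : Subgroup G} {r c : G} (h : GOrth C N r c)

include h

theorem mcomm {x y : G} (hx : x ∈ N) (hy : y ∈ N) : x * y = y * x := EA.comm_of h.sq hx hy

/-- A vector or its product with `c` is singular. -/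
theorem exists_sing {x : G} (hx : x ∈ N) : ∃ y ∈ N, Qg C r y = 0 ∧ (y = x ∨ y = x * c) := by
  rcases z2 (Qg C r x) with e | e
  · exact ⟨x, hx, e, Or.inl rfl⟩
  · refine ⟨x * c, N.mul_mem hx h.c_mem, ?_, Or.inr rfl⟩
    rw [h.Qmulc hx, e]
    exact z2_add_self 1

theorem B_mulc {x y : G} (hx : x ∈ N) (hy : y ∈ N) : Bg C r x (y * c) = Bg C r x y := by
  rw [h.add x hx y hy c h.c_mem, h.comm x hx c h.c_mem, h.Bc x hx, add_zero]

theorem B_mulc' {x y : G} (hx : x ∈ N) (hy : y ∈ N) : Bg C r (x * c) y = Bg C r x y := by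
  rw [h.comm _ (N.mul_mem hx h.c_mem) y hy, h.B_mulc hy hx, h.comm y hy x hx]

end GOrth

/-- A subgroup of `N` on which the form is nondegenerate modulo `⟨c⟩`. -/
structure Good (C N : Subgroup G) (r c : G) (W : Subgroup G) : Prop where
  le : W ≤ N
  c_mem : c ∈ W
  rad : ∀ x ∈ W, (∀ y ∈ W, Bg C r x y = 0) → x = 1 ∨ x = c

namespace GOrth

variable {C N : Subgroup G} {r c : G} (h : GOrth C N r c)

include h

theorem good_self : Good C N r c N := ⟨le_rfl, h.c_mem, h.rad⟩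

/-- A hyperbolic pair splits off. -/
theorem exists_plane [Finite G] {W : Subgroup G} (hW : Good C N r c W) (hc : 2 < Nat.card W) :
    ∃ a ∈ W, ∃ b ∈ W, Qg C r a = 0 ∧ Qg C r b = 0 ∧ Bg C r a b = 1 ∧
      ∃ W' : Subgroup G, W' ≤ W ∧ Good C N r c W' ∧ (∀ x ∈ W', Bg C r a x = 0 ∧ Bg C r b x = 0) ∧
        Nat.card W = 4 * Nat.card W' := by
  classical
  -- a vector outside `⟨c⟩`
  obtain ⟨x, hx, hx1, hxc⟩ : ∃ x ∈ W, x ≠ 1 ∧ x ≠ c := by
    by_contra hcon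
    push Not at hcon
    have h1 : (W : Set G) ⊆ (({1, c} : Finset G) : Set G) := by
      intro y hy
      by_cases hy1 : y = 1
      · simp [hy1]
      · simp [hcon y hy hy1]
    have h2 := Set.ncard_le_ncard h1 (Finset.finite_toSet _)
    rw [Set.ncard_coe_finset] at h2
    have h3 : (W : Set G).ncard = Nat.card W := rfl
    have h4 : ({1, c} : Finset G).card ≤ 2 := Finset.card_le_two
    omega
  obtain ⟨y, hy, hxy⟩ : ∃ y ∈ W, Bg C r x y = 1 := by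
    by_contra hcon
    push Not at hcon
    rcases hW.rad x hx (fun y hy => z2_ne_one (hcon y hy)) with e | e
    · exact hx1 e
    · exact hxc e
  obtain ⟨a, -, ha0, ha⟩ := h.exists_sing (hW.le hx)
  obtain ⟨b, -, hb0, hb⟩ := h.exists_sing (hW.le hy)
  have haW : a ∈ W := by
    rcases ha with rfl | rfl
    · exact hx
    · exact W.mul_mem hx hW.c_mem
  have hbW : b ∈ W := by
    rcases hb with rfl | rfl
    · exact hy
    · exact W.mul_mem hy hW.c_mem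
  have hab : Bg C r a b = 1 := by
    rcases ha with rfl | rfl <;> rcases hb with rfl | rfl
    · exact hxy
    · rw [h.B_mulc (hW.le hx) (hW.le hy), hxy]
    · rw [h.B_mulc' (hW.le hx) (hW.le hy), hxy]
    · rw [h.B_mulc' (hW.le hx) (N.mul_mem (hW.le hy) h.c_mem), h.B_mulc (hW.le hx) (hW.le hy), hxy]
  have hba : Bg C r b a = 1 := by rw [h.comm b (hW.le hbW) a (hW.le haW), hab]
  have haa := h.self a (hW.le haW)
  have hbb := h.self b (hW.le hbW)
  -- the orthogonal complement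
  let χ : W →* Multiplicative (ZMod 2 × ZMod 2) :=
    { toFun := fun w => Multiplicative.ofAdd (Bg C r a w, Bg C r b w)
      map_one' := by
        show Multiplicative.ofAdd (Bg C r a ((1 : W) : G), Bg C r b ((1 : W) : G)) = 1
        rw [Subgroup.coe_one, GOrth.Bone, GOrth.Bone]
        rfl
      map_mul' := by
        intro u v
        show Multiplicative.ofAdd (Bg C r a ((u * v : W) : G), Bg C r b ((u * v : W) : G)) = _
        rw [Subgroup.coe_mul, h.add a (hW.le haW) u (hW.le u.2) v (hW.le v.2),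
          h.add b (hW.le hbW) u (hW.le u.2) v (hW.le v.2)]
        rfl }
  have hχ : ∀ w : W, w ∈ χ.ker ↔ Bg C r a w = 0 ∧ Bg C r b w = 0 := by
    intro w
    rw [MonoidHom.mem_ker]
    show Multiplicative.ofAdd (Bg C r a (w : G), Bg C r b (w : G)) = Multiplicative.ofAdd 0 ↔ _
    rw [Multiplicative.ofAdd.injective.eq_iff]
    exact Prod.mk_eq_zero
  refine ⟨a, haW, b, hbW, ha0, hb0, hab, χ.ker.map W.subtype, ?_, ⟨?_, ?_, ?_⟩, ?_, ?_⟩
  · rintro _ ⟨w, _, rfl⟩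
    exact w.2
  · rintro _ ⟨w, _, rfl⟩
    exact hW.le w.2
  · refine ⟨⟨c, hW.c_mem⟩, (hχ _).2 ⟨?_, ?_⟩, rfl⟩
    · show Bg C r a c = 0
      rw [h.comm a (hW.le haW) c h.c_mem, h.Bc a (hW.le haW)]
    · show Bg C r b c = 0
      rw [h.comm b (hW.le hbW) c h.c_mem, h.Bc b (hW.le hbW)]
  · rintro _ ⟨w, hw, rfl⟩ hall
    obtain ⟨hw1, hw2⟩ := (hχ w).1 hw
    refine hW.rad w w.2 fun y hy => ?_
    -- adjust `y`
    have key : ∀ y' ∈ W, Bg C r a y' = 0 → Bg C r b y' = 0 → Bg C r w y' = 0 := by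
      intro y' hy' e1 e2
      exact hall y' ⟨⟨y', hy'⟩, (hχ _).2 ⟨e1, e2⟩, rfl⟩
    have hwa : Bg C r w a = 0 := by rw [h.comm _ (hW.le w.2) a (hW.le haW), hw1]
    have hwb : Bg C r w b = 0 := by rw [h.comm _ (hW.le w.2) b (hW.le hbW), hw2]
    have hyN := hW.le hy
    have haN := hW.le haW
    have hbN := hW.le hbW
    rcases z2 (Bg C r a y) with e1 | e1 <;> rcases z2 (Bg C r b y) with e2 | e2
    · exact key y hy e1 e2
    · -- add `a`
      have e3 := key (y * a) (W.mul_mem hy haW) (by rw [h.add a haN y hyN a haN, e1, haa, add_zero])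
        (by rw [h.add b hbN y hyN a haN, e2, hba]; exact z2_add_self 1)
      rwa [h.add _ (hW.le w.2) y hyN a haN, hwa, add_zero] at e3
    · have e3 := key (y * b) (W.mul_mem hy hbW)
        (by rw [h.add a haN y hyN b hbN, e1, hab]; exact z2_add_self 1)
        (by rw [h.add b hbN y hyN b hbN, e2, hbb, add_zero])
      rwa [h.add _ (hW.le w.2) y hyN b hbN, hwb, add_zero] at e3
    · have e3 := key (y * (a * b)) (W.mul_mem hy (W.mul_mem haW hbW))
        (by rw [h.add a haN y hyN _ (N.mul_mem haN hbN), h.add a haN a haN b hbN, e1, haa, hab, zero_add]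
            exact z2_add_self 1)
        (by rw [h.add b hbN y hyN _ (N.mul_mem haN hbN), h.add b hbN a haN b hbN, e2, hba, hbb, add_zero]
            exact z2_add_self 1)
      rwa [h.add _ (hW.le w.2) y hyN _ (N.mul_mem haN hbN), h.add _ (hW.le w.2) a haN b hbN, hwa, hwb,
        add_zero, add_zero] at e3
  · rintro _ ⟨w, hw, rfl⟩
    exact (hχ w).1 hw
  · have h1 : Nat.card (χ.ker.map W.subtype) = Nat.card χ.ker := by
      rw [Subgroup.card_map_of_injective W.subtype_injective]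
    have h2 : Nat.card χ.ker * χ.ker.index = Nat.card W := Subgroup.card_mul_index _
    have h3 : χ.ker.index = 4 := by
      have h5 : χ.range = ⊤ := by
        rw [eq_top_iff]
        have ea : χ ⟨a, haW⟩ = Multiplicative.ofAdd (0, 1) := by
          show Multiplicative.ofAdd (Bg C r a a, Bg C r b a) = _
          rw [haa, hba]
        have eb : χ ⟨b, hbW⟩ = Multiplicative.ofAdd (1, 0) := by
          show Multiplicative.ofAdd (Bg C r a b, Bg C r b b) = _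
          rw [hab, hbb]
        rintro x -
        obtain ⟨⟨u, v⟩, rfl⟩ := Multiplicative.ofAdd.surjective x
        have hm : ∀ u v : ZMod 2, Multiplicative.ofAdd (u, v) ∈ χ.range := by
          intro u v
          rcases z2 u with rfl | rfl <;> rcases z2 v with rfl | rfl
          · exact one_mem _
          · exact ⟨_, ea⟩
          · exact ⟨_, eb⟩
          · refine ⟨⟨b, hbW⟩ * ⟨a, haW⟩, ?_⟩
            rw [map_mul, ea, eb, ← ofAdd_add, Prod.mk_add_mk, add_zero, zero_add]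
        exact hm u v
      rw [Subgroup.index_ker, h5, Subgroup.card_top, Nat.card_congr Multiplicative.toAdd, Nat.card_prod,
        Nat.card_zmod]
    rw [h1, ← h2, h3, mul_comm]

omit h in
/-- A triple of singular vectors in a hyperbolic plane. -/
structure Tri (C N : Subgroup G) (r c : G) (w : Fin 3 → G) : Prop where
  mem : ∀ l, w l ∈ N
  Q : ∀ l, Qg C r (w l) = 0
  B : ∀ l l', l ≠ l' → Bg C r (w l) (w l') = 1
  rel : ∀ j k l, j ≠ k → j ≠ l → k ≠ l → w j * (w l * c) = w k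

theorem tri_of {a b : G} (ha : a ∈ N) (hb : b ∈ N) (ha0 : Qg C r a = 0) (hb0 : Qg C r b = 0)
    (hab : Bg C r a b = 1) : Tri C N r c ![a, b, a * b * c] := by
  have hba : Bg C r b a = 1 := by rw [h.comm b hb a ha, hab]
  have haa := h.self a ha
  have hbb := h.self b hb
  have habN := N.mul_mem ha hb
  have hQ3 : Qg C r (a * b * c) = 0 := by
    rw [h.Qmulc habN, Q_mul, ha0, hb0, hab, zero_add, zero_add]
    exact z2_add_self 1
  have h1 : Bg C r a (a * b * c) = 1 := by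
    rw [h.B_mulc ha habN, h.add a ha a ha b hb, haa, hab, zero_add]
  have h2 : Bg C r b (a * b * c) = 1 := by
    rw [h.B_mulc hb habN, h.add b hb a ha b hb, hba, hbb, add_zero]
  have h1' : Bg C r (a * b * c) a = 1 := by
    rw [h.comm _ (N.mul_mem habN h.c_mem) a ha, h1]
  have h2' : Bg C r (a * b * c) b = 1 := by
    rw [h.comm _ (N.mul_mem habN h.c_mem) b hb, h2]
  have ea := h.sq a ha
  have eb := h.sq b hb
  have ec := h.sq c h.c_mem
  have cab := h.mcomm ha hb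
  have cac := h.mcomm ha h.c_mem
  have cbc := h.mcomm hb h.c_mem
  have r1 : a * (b * c) = a * b * c := (mul_assoc _ _ _).symm
  have r2 : b * (a * c) = a * b * c := by rw [← mul_assoc, ← cab]
  have r3 : a * (a * b * c * c) = b := by
    calc a * (a * b * c * c) = (a * a) * b * (c * c) := by group
      _ = b := by rw [ea, ec, one_mul, mul_one]
  have r4 : b * (a * b * c * c) = a := by
    calc b * (a * b * c * c) = (b * a) * b * (c * c) := by group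
      _ = a * (b * b) * (c * c) := by rw [← cab]; group
      _ = a := by rw [eb, ec, mul_one, mul_one]
  have r5 : a * b * c * (a * c) = b := by
    calc a * b * c * (a * c) = a * b * (c * a) * c := by group
      _ = (a * b) * (a * c) * c := by rw [← cac]
      _ = (b * a) * (a * c) * c := by rw [cab]
      _ = b * (a * a) * (c * c) := by group
      _ = b := by rw [ea, ec, mul_one, mul_one]
  have r6 : a * b * c * (b * c) = a := by
    calc a * b * c * (b * c) = a * b * (c * b) * c := by group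
      _ = a * b * (b * c) * c := by rw [← cbc]
      _ = a * (b * b) * (c * c) := by group
      _ = a := by rw [eb, ec, mul_one, mul_one]
  refine ⟨?_, ?_, ?_, ?_⟩
  · intro l
    fin_cases l
    · exact ha
    · exact hb
    · exact N.mul_mem habN h.c_mem
  · intro l
    fin_cases l
    · exact ha0
    · exact hb0
    · exact hQ3
  · intro l l' hne
    fin_cases l <;> fin_cases l' <;> first | exact absurd rfl hne | assumption
  · intro j k l h1 h2 h3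
    fin_cases j <;> fin_cases k <;> fin_cases l <;>
      first | exact absurd rfl h1 | exact absurd rfl h2 | exact absurd rfl h3 | assumption

omit h in
theorem tri_ne_one {w : Fin 3 → G} (hw : Tri C N r c w) (l : Fin 3) : w l ≠ 1 := by
  obtain ⟨l', hl'⟩ : ∃ l' : Fin 3, l' ≠ l := ⟨l + 1, by fin_cases l <;> decide⟩
  intro e
  have h1 := hw.B l' l hl'
  rw [e, GOrth.Bone] at h1
  exact zero_ne_one h1

theorem tri_inj {w : Fin 3 → G} (hw : Tri C N r c w) : Function.Injective w := by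
  intro l l' e
  by_contra hne
  have h1 := hw.B l l' hne
  rw [e, h.self _ (hw.mem l')] at h1
  exact zero_ne_one h1

/-- The 3-rank is at least the number of mutually orthogonal triples. -/
theorem rank_of_tri [Finite G] {n m : ℕ} (w : Fin n → Fin 3 → G) (hw : ∀ i, Tri C N r c (w i))
    (ho : ∀ i i', i ≠ i' → ∀ l l', Bg C r (w i l) (w i' l') = 0) (hr : PRankLE 3 m G) : n ≤ m := by
  refine IId.RankPlanes.rank_of_triples w (fun i => h.tri_inj (hw i)) ?_ hr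
  intro i j k hjk
  -- the third index
  obtain ⟨l, hlj, hlk, hall⟩ : ∃ l : Fin 3, l ≠ j ∧ l ≠ k ∧ ∀ l' : Fin 3, l' = j ∨ l' = k ∨ l' = l := by
    revert j k; decide
  obtain ⟨g, hg, hgn⟩ := h.refl (w i l) ((hw i).mem l) (tri_ne_one (hw i) l) ((hw i).Q l)
  have hmove : ∀ x ∈ N, Bg C r (w i l) x = 1 → g * x * g⁻¹ = x * (w i l * c) := by
    intro x hx e
    rcases hgn x hx with ⟨e1, -⟩ | ⟨-, e1⟩
    · rw [e] at e1; exact absurd e1 one_ne_zero
    · exact e1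
  have hstay : ∀ x ∈ N, Bg C r (w i l) x = 0 → g * x * g⁻¹ = x := by
    intro x hx e
    rcases hgn x hx with ⟨-, e1⟩ | ⟨e1, -⟩
    · exact e1
    · rw [e] at e1; exact absurd e1 zero_ne_one
  refine ⟨g, ?_, ?_⟩
  · intro l'
    rcases hall l' with rfl | rfl | rfl
    · rw [Equiv.swap_apply_left, hmove _ ((hw i).mem _) ((hw i).B _ _ hlj)]
      exact (hw i).rel _ _ _ hjk hlj.symm hlk.symm
    · rw [Equiv.swap_apply_right, hmove _ ((hw i).mem _) ((hw i).B _ _ hlk)]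
      exact (hw i).rel _ _ _ hjk.symm hlk.symm hlj.symm
    · rw [Equiv.swap_apply_of_ne_of_ne hlj hlk]
      exact hstay _ ((hw i).mem _) (h.self _ ((hw i).mem _))
  · intro i' hi' l'
    exact hstay _ ((hw i').mem _) (ho i i' hi'.symm _ _)

/-- **`m₃(G) ≤ 2` implies `|N| ≤ 32`.** -/
theorem card_le [Finite G] (hr : PRankLE 3 2 G) : Nat.card N ≤ 32 := by
  by_contra hcon
  push Not at hcon
  obtain ⟨a₁, ha₁, b₁, hb₁, qa₁, qb₁, ab₁, W₁, hW₁, gW₁, o₁, n₁⟩ := h.exists_plane h.good_self (by omega)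
  obtain ⟨a₂, ha₂, b₂, hb₂, qa₂, qb₂, ab₂, W₂, hW₂, gW₂, o₂, n₂⟩ := h.exists_plane gW₁ (by omega)
  obtain ⟨a₃, ha₃, b₃, hb₃, qa₃, qb₃, ab₃, -⟩ := h.exists_plane gW₂ (by omega)
  have ha₂' := hW₁ ha₂
  have hb₂' := hW₁ hb₂
  have ha₃' := hW₁ (hW₂ ha₃)
  have hb₃' := hW₁ (hW₂ hb₃)
  have t₁ := h.tri_of ha₁ hb₁ qa₁ qb₁ ab₁
  have t₂ := h.tri_of ha₂' hb₂' qa₂ qb₂ ab₂
  have t₃ := h.tri_of ha₃' hb₃' qa₃ qb₃ ab₃
  -- orthogonality
  have orth : ∀ {a b a' b' : G}, a ∈ N → b ∈ N → a' ∈ N → b' ∈ N → Bg C r a a' = 0 ∧ Bg C r b a' = 0 →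
      Bg C r a b' = 0 ∧ Bg C r b b' = 0 →
      ∀ l l', Bg C r ((![a, b, a * b * c] : Fin 3 → G) l) ((![a', b', a' * b' * c] : Fin 3 → G) l') = 0 := by
    intro a b a' b' ha hb ha' hb' ⟨e1, e2⟩ ⟨e3, e4⟩ l l'
    have key : ∀ x ∈ N, Bg C r x a' = 0 → Bg C r x b' = 0 →
        Bg C r x ((![a', b', a' * b' * c] : Fin 3 → G) l') = 0 := by
      intro x hx f1 f2
      have f3 : Bg C r x (a' * b' * c) = 0 := by
        rw [h.B_mulc hx (N.mul_mem ha' hb'), h.add x hx a' ha' b' hb', f1, f2, add_zero]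
      fin_cases l' <;> assumption
    have g1 := key a ha e1 e3
    have g2 := key b hb e2 e4
    have g3 := key (a * b * c) (N.mul_mem (N.mul_mem ha hb) h.c_mem)
      (by rw [h.B_mulc' (N.mul_mem ha hb) ha', h.add_left ha hb ha', e1, e2, add_zero])
      (by rw [h.B_mulc' (N.mul_mem ha hb) hb', h.add_left ha hb hb', e3, e4, add_zero])
    fin_cases l <;> assumption
  have o12 := orth ha₁ hb₁ ha₂' hb₂' (o₁ _ ha₂) (o₁ _ hb₂)
  have o13 := orth ha₁ hb₁ ha₃' hb₃' (o₁ _ (hW₂ ha₃)) (o₁ _ (hW₂ hb₃))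
  have o23 := orth ha₂' hb₂' ha₃' hb₃' (o₂ _ ha₃) (o₂ _ hb₃)
  have hsym : ∀ {w w' : Fin 3 → G}, Tri C N r c w → Tri C N r c w' →
      (∀ l l', Bg C r (w l) (w' l') = 0) → ∀ l l', Bg C r (w' l) (w l') = 0 := by
    intro w w' hw hw' ho l l'
    rw [h.comm _ (hw'.mem l) _ (hw.mem l'), ho]
  have h3 : 3 ≤ 2 := by
    refine h.rank_of_tri (n := 3) (m := 2)
      ![![a₁, b₁, a₁ * b₁ * c], ![a₂, b₂, a₂ * b₂ * c], ![a₃, b₃, a₃ * b₃ * c]] ?_ ?_ hr
    · intro i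
      fin_cases i
      · exact t₁
      · exact t₂
      · exact t₃
    · intro i i' hne
      fin_cases i <;> fin_cases i'
      · exact absurd rfl hne
      · exact o12
      · exact o13
      · exact hsym t₁ t₂ o12
      · exact absurd rfl hne
      · exact o23
      · exact hsym t₁ t₃ o13
      · exact hsym t₂ t₃ o23
      · exact absurd rfl hne
  omega

/-- The order of a good subspace. -/
theorem card_good [Finite G] : ∀ (m : ℕ) {W : Subgroup G}, Good C N r c W → Nat.card W ≤ m →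
    ∃ k, Nat.card W = 2 * 4 ^ k := by
  classical
  intro m
  induction m with
  | zero =>
    intro W _ hm
    have := Nat.card_pos (α := W)
    omega
  | succ m ih =>
    intro W hW hm
    by_cases hc : 2 < Nat.card W
    · obtain ⟨a, _, b, _, _, _, _, W', _, gW', _, hn⟩ := h.exists_plane hW hc
      have := Nat.card_pos (α := W')
      obtain ⟨k, hk⟩ := ih gW' (by omega)
      exact ⟨k + 1, by rw [hn, hk, pow_succ]; ring⟩
    · refine ⟨0, ?_⟩
      rw [pow_zero, mul_one]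
      refine le_antisymm (by omega) ?_
      have hc1 : c ≠ 1 := by
        intro e
        have := h.Qc
        rw [e, Qg_one] at this
        exact zero_ne_one this
      have h1 : (({1, c} : Finset G) : Set G) ⊆ (W : Set G) := by
        intro y hy
        rcases Finset.mem_insert.1 (Finset.mem_coe.1 hy) with rfl | hy
        · exact W.one_mem
        · rw [Finset.mem_singleton.1 hy]
          exact hW.c_mem
      have h2 := Set.ncard_le_ncard h1 (Set.toFinite _)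
      rw [Set.ncard_coe_finset, Finset.card_pair hc1.symm] at h2
      exact h2

/-- `|N| = 2^{2n+1}`. -/
theorem exists_card [Finite G] : ∃ k, Nat.card N = 2 * 4 ^ k := h.card_good _ h.good_self le_rfl

/-- `32 ≤ |N|` if `N` contains a totally singular four-group. -/
theorem le_card [Finite G] {V : Subgroup G} (hV : V ≤ N) (hV4 : Nat.card V = 4)
    (hQ : ∀ v ∈ V, Qg C r v = 0) : 32 ≤ Nat.card N := by
  classical
  have h8 : 8 < Nat.card N := by
    by_contra hcon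
    push Not at hcon
    -- `N = V × ⟨c⟩`
    let F : V × Bool → N := fun x => ⟨(x.1 : G) * (if x.2 then c else 1), N.mul_mem (hV x.1.2) (by
      split_ifs
      · exact h.c_mem
      · exact N.one_mem)⟩
    have hFQ : ∀ x : V × Bool, Qg C r (F x : G) = if x.2 then 1 else 0 := by
      rintro ⟨v, e⟩
      cases e
      · show Qg C r ((v : G) * 1) = 0
        rw [mul_one]
        exact hQ v v.2
      · show Qg C r ((v : G) * c) = 1
        rw [h.Qmulc (hV v.2), hQ v v.2, zero_add]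
    have hinj : Function.Injective F := by
      rintro ⟨v, e⟩ ⟨v', e'⟩ he
      have h1 := hFQ (v, e)
      have h2 := hFQ (v', e')
      rw [he] at h1
      rw [h1] at h2
      have h3 : e = e' := by
        cases e <;> cases e' <;> first | rfl | simp only [_root_.Bool.false_eq_true, ↓ _root_.reduceIte, _root_.zero_ne_one, _root_.one_ne_zero] at h2
      subst h3
      have h4 := congrArg Subtype.val he
      have h5 : (v : G) = v' := mul_right_cancel (show (v : G) * (if e then c else 1) =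
        (v' : G) * (if e then c else 1) from h4)
      rw [Subtype.ext h5]
    have hcardF : Nat.card (V × Bool) = 8 := by
      rw [Nat.card_prod, hV4, Nat.card_eq_fintype_card, Fintype.card_bool]
    have hbij := hinj.bijective_of_nat_card_le (by rw [hcardF]; exact hcon)
    -- the form vanishes
    obtain ⟨v, hv, hv1⟩ : ∃ v ∈ V, v ≠ 1 := by
      by_contra hc
      push Not at hc
      have : V = ⊥ := (Subgroup.eq_bot_iff_forall V).2 hc
      rw [this, Subgroup.card_bot] at hV4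
      omega
    have hB : ∀ u ∈ V, Bg C r v u = 0 := by
      intro u hu
      unfold Bg
      rw [hQ _ (V.mul_mem hv hu), hQ v hv, hQ u hu, add_zero, add_zero]
    have hrad : ∀ y ∈ N, Bg C r v y = 0 := by
      intro y hy
      obtain ⟨⟨u, e⟩, he⟩ := hbij.2 ⟨y, hy⟩
      have h1 : (u : G) * (if e then c else 1) = y := congrArg Subtype.val he
      rw [← h1]
      cases e
      · show Bg C r v ((u : G) * 1) = 0
        rw [mul_one]
        exact hB u u.2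
      · show Bg C r v ((u : G) * c) = 0
        rw [h.B_mulc (hV hv) (hV u.2)]
        exact hB u u.2
    rcases h.rad v (hV hv) hrad with e | e
    · exact hv1 e
    · have h1 := hQ v hv
      rw [e, h.Qc] at h1
      exact one_ne_zero h1
  obtain ⟨k, hk⟩ := h.exists_card
  have hk2 : 2 ≤ k := by
    by_contra hcon
    have : k = 0 ∨ k = 1 := by omega
    rcases this with rfl | rfl
    · rw [hk] at h8; norm_num at h8
    · rw [hk] at h8; norm_num at h8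
  rw [hk]
  calc 32 = 2 * 4 ^ 2 := by norm_num
    _ ≤ 2 * 4 ^ k := Nat.mul_le_mul_left 2 (Nat.pow_le_pow_right (by norm_num) hk2)

end GOrth

end Cfsg.Agent.Omega.TV

namespace Cfsg.Agent.Omega.IId.One

open Subgroup Cfsg Cfsg.Agent.Omega.TV

universe u

variable {G : Type u} [Group G] [Finite G] {T V₁ V₂ L₁ L₂ : Subgroup G} {v₁ v₂ s : G}

/-- **`|N₁| = 32`** if `[N₁, N₂] ≠ 1` and `m₃(G) ≤ 2`. -/
theorem One.card_N1 (h : One T V₁ V₂ L₁ L₂ v₁ v₂ s)
    (hI : ∃ x ∈ nc v₁ {v₂}, ∃ y ∈ nc v₂ {v₁}, x * y ≠ y * x) (hr : PRankLE 3 2 G) :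
    Nat.card (nc v₁ {v₂}) = 32 :=
  le_antisymm ((h.orth hI).card_le hr) ((h.orth hI).le_card h.V2_le_N1 h.card2 fun _ hv => h.Q_V2 hv)

end Cfsg.Agent.Omega.IId.One

end

end

-- merged: Cfsg.Agent.Mrg.Omega.IId.Pf.Idx
section

section


/-!
# II.d, CASE 1, `q = 2`, case B: the minimal parabolics

helper310.  `PE v V₁ V₂ = C_G(v) ∩ N(V₁) ∩ N(V₂)`, `PM v₁ v₂ V = C_G(v₁) ∩ C_G(v₂) ∩ N(V)`; the indices of `T` are 3, and
they generate `⟨C₁, C₂⟩`.
-/

set_option autoImplicit false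
set_option linter.unusedSectionVars false
set_option linter.unusedVariables false

namespace Cfsg.Agent.Omega.IId.Pf.Idx

open Cfsg.Agent.Omega.TV hiding z2
open Subgroup Cfsg Cfsg.Agent.ZN Cfsg.Agent.Omega.IId.PlaneSy Cfsg.Agent.Omega.IId.PlaneRk
open Cfsg.Agent.Omega.IId.PlaneF Cfsg.Agent.Omega.IId.PlaneOf
open Cfsg.Agent.Omega.IId.One Cfsg.Agent.Omega.IId.SpSide
open Cfsg.Agent.Omega.MinPar
open Cfsg.Agent.Omega.NoFF.Basic
open Cfsg.Agent.Omega.IId.Pf.Rad Cfsg.Agent.Omega.IId.Pf.Par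
open Cfsg.Agent.Omega.IId.Two (le_normalizer_of)
open scoped Pointwise commutatorElement

universe u

variable {G : Type u} [Group G]

/-- Orbit-stabiliser. -/
theorem relIndex_orbit {α : Type*} {T P : Subgroup G} (φ : G → α) (Ω : Set α)
    (hT : ∀ x ∈ P, ∀ y ∈ P, φ x = φ y ↔ x⁻¹ * y ∈ T) (hmem : ∀ x ∈ P, φ x ∈ Ω)
    (hsur : ∀ ω ∈ Ω, ∃ x ∈ P, φ x = ω) : T.relIndex P = Ω.ncard := by
  have h1 : Set.range (fun a : P ⧸ T.subgroupOf P => φ (a.out : P)) = Ω := by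
    ext ω
    constructor
    · rintro ⟨a, rfl⟩
      exact hmem _ (a.out : P).2
    · intro hω
      obtain ⟨x, hx, rfl⟩ := hsur ω hω
      refine ⟨((⟨x, hx⟩ : P) : P ⧸ T.subgroupOf P), ?_⟩
      show φ ((((⟨x, hx⟩ : P) : P ⧸ T.subgroupOf P).out : P) : G) = φ x
      rw [hT _ (Subtype.property _) _ hx]
      have h2 := QuotientGroup.out_eq' ((⟨x, hx⟩ : P) : P ⧸ T.subgroupOf P)
      rw [QuotientGroup.eq] at h2
      exact h2
  have h2 : Function.Injective (fun a : P ⧸ T.subgroupOf P => φ (a.out : P)) := by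
    intro a b h3
    have h4 := (hT _ (a.out : P).2 _ (b.out : P).2).1 h3
    rw [← QuotientGroup.out_eq' a, ← QuotientGroup.out_eq' b, QuotientGroup.eq]
    exact h4
  rw [← h1, Set.ncard_range_of_injective h2]
  rfl

/-- `|A ∖ {1}|` -/
theorem ncard_one [Finite G] (A : Subgroup G) : {x | x ∈ A ∧ x ≠ 1}.ncard + 1 = Nat.card A := by
  have h1 : (A : Set G) = insert 1 {x | x ∈ A ∧ x ≠ 1} := by
    ext x
    simp only [SetLike.mem_coe, Set.mem_insert_iff, Set.mem_ofPred_eq]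
    constructor
    · intro hx
      by_cases h : x = 1
      · exact Or.inl h
      · exact Or.inr ⟨hx, h⟩
    · rintro (rfl | h)
      · exact one_mem _
      · exact h.1
  have h2 : Nat.card A = (A : Set G).ncard := Nat.card_coe_set_eq _
  rw [h2, h1, Set.ncard_insert_of_notMem (by simp)]

theorem ncard_two [Finite G] {A : Subgroup G} {r : G} (hr : r ∈ A) (hr1 : r ≠ 1) :
    {x | x ∈ A ∧ x ≠ 1 ∧ x ≠ r}.ncard + 2 = Nat.card A := by
  have h1 : {x | x ∈ A ∧ x ≠ 1} = insert r {x | x ∈ A ∧ x ≠ 1 ∧ x ≠ r} := by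
    ext x
    simp only [Set.mem_insert_iff, Set.mem_ofPred_eq]
    constructor
    · rintro ⟨hx, h⟩
      by_cases h2 : x = r
      · exact Or.inl h2
      · exact Or.inr ⟨hx, h, h2⟩
    · rintro (rfl | h)
      · exact ⟨hr, hr1⟩
      · exact ⟨h.1, h.2.1⟩
  rw [← ncard_one A, h1, Set.ncard_insert_of_notMem (by simp)]

theorem conj_eq_iff {x y v : G} : x * v * x⁻¹ = y * v * y⁻¹ ↔ x⁻¹ * y ∈ cz v := by
  rw [mem_cz]
  constructor
  · intro h
    calc x⁻¹ * y * v = x⁻¹ * (y * v * y⁻¹) * y := by group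
      _ = v * (x⁻¹ * y) := by rw [← h]; group
  · intro h
    calc x * v * x⁻¹ = x * (v * (x⁻¹ * y)) * y⁻¹ := by group
      _ = y * v * y⁻¹ := by rw [← h]; group

/-- `C_G(v) ∩ N(V₁) ∩ N(V₂)` -/
def PE (v : G) (V₁ V₂ : Subgroup G) : Subgroup G := cz v ⊓ (normalizer (V₁ : Set G) ⊓ normalizer (V₂ : Set G))

/-- `C_G(v₁) ∩ C_G(v₂) ∩ N(V)` -/
def PM (v₁ v₂ : G) (V : Subgroup G) : Subgroup G := cz v₁ ⊓ cz v₂ ⊓ normalizer (V : Set G)

theorem PE_comm (v : G) (V₁ V₂ : Subgroup G) : PE v V₂ V₁ = PE v V₁ V₂ := by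
  unfold PE; rw [inf_comm (normalizer (V₂ : Set G))]

theorem PM_comm (v₁ v₂ : G) (V : Subgroup G) : PM v₂ v₁ V = PM v₁ v₂ V := by
  unfold PM; rw [inf_comm (cz v₂)]

section main

variable [Finite G] {T V₁ V₂ L₁ L₂ : Subgroup G} {v₁ v₂ s : G}

section base

variable (h : Base T V₁ V₂ L₁ L₂ v₁ v₂ s)
include h

omit [Finite G] in
theorem T_PM : T ≤ PM v₁ v₂ V₁ := le_inf h.T_leM h.T_norm1

omit [Finite G] in
theorem L2_norm1 : L₂ ≤ normalizer (V₁ : Set G) := le_normalizer_of fun k hk v hv => by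
  rw [h.L21 k hk v hv, mul_inv_cancel_right]; exact hv

omit [Finite G] in
theorem L2_PE : L₂ ≤ PE v₁ V₁ V₂ := le_inf h.L2_le (le_inf (L2_norm1 h) h.L_norm2)

end base

variable (h : _root_.Cfsg.Agent.Omega.IId.One.One T V₁ V₂ L₁ L₂ v₁ v₂ s) (hnl : NonLoc (cz v₁) (cz v₂))
  (hI : ∃ x ∈ nc v₁ {v₂}, ∃ y ∈ nc v₂ {v₁}, x * y ≠ y * x) {v' w l : G} (hl : l ∈ L₁)
  (P : Plane V₁ V₂ v₁ v₂ v' w l)

include h hnl hI hl P

theorem T_iff {x : G} : x ∈ T ↔ x ∈ cz v₁ ∧ x ∈ cz v₂ ∧ x ∈ normalizer (V₁ : Set G) ∧ x ∈ normalizer (V₂ : Set G) := by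
  have e := mem_T h hnl hI hl P
  have e2 : x ∈ T ↔ x ∈ cz v₁ ⊓ cz v₂ ⊓ normalizer (V₁ : Set G) ⊓ normalizer (V₂ : Set G) := by
    conv_lhs => rw [e]
  rw [e2]
  exact ⟨fun hx => ⟨hx.1.1.1, hx.1.1.2, hx.1.2, hx.2⟩, fun hx => ⟨⟨⟨hx.1, hx.2.1⟩, hx.2.2.1⟩, hx.2.2.2⟩⟩

/-- `|P₄ : T| = 3` -/
theorem idx_PE : T.relIndex (PE v₁ V₁ V₂) = 3 := by
  have h1 := relIndex_orbit (T := T) (P := PE v₁ V₁ V₂) (fun g => g * v₂ * g⁻¹) {x | x ∈ V₂ ∧ x ≠ 1} ?_ ?_ ?_
  · have h2 := ncard_one V₂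
    rw [h.card2] at h2
    omega
  · intro x hx y hy
    rw [conj_eq_iff, T_iff h hnl hI hl P]
    have hxy := mul_mem (inv_mem hx) hy
    exact ⟨fun e => ⟨hxy.1, e, hxy.2.1, hxy.2.2⟩, fun e => e.2.1⟩
  · intro x hx
    refine ⟨(mem_normalizer_iff.1 hx.2.2 _).1 h.vV2, fun e => h.v2 ?_⟩
    calc v₂ = x⁻¹ * (x * v₂ * x⁻¹) * x := by group
      _ = 1 := by rw [e]; group
  · rintro x ⟨hx, hx1⟩
    obtain ⟨k, hk, e⟩ := h.t2 v₂ h.vV2 h.v2 x hx hx1
    exact ⟨k, L2_PE h.toBase hk, e⟩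

/-- `N_M(R)` is transitive on `R ∖ ⟨v₂⟩`. -/
theorem move {u x : G} (hu : u ∈ V₂) (hu1 : u ≠ 1) (hur : u ≠ v₂) (hx : x ∈ RR v₁ v₂ l) (hx1 : x ≠ 1) (hxr : x ≠ v₂) :
    ∃ m ∈ PM v₁ v₂ V₁, m * u * m⁻¹ = x := by
  have huR := P.V2R hu
  have huN := P.rk.RN huR
  have huu := P.rk.o.sq u huN
  obtain ⟨m, hm, hmR, -, hmu, -⟩ := siegel' P.rk P.four (x := u) (y := u * x) huR (mul_mem huR hx) hu1 hur
    (fun e => hx1 (by
      calc x = u * (u * x) := by rw [← mul_assoc, huu, one_mul]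
        _ = 1 := by rw [← e, huu])) (fun e => hxr (mul_left_cancel e).symm)
  rw [← mul_assoc, huu, one_mul] at hmu
  exact ⟨m, ⟨hm, nM h hI P hm.1 hm.2 hmR⟩, hmu⟩

omit [Finite G] hnl hl in
/-- an element of `M` mapping `u ∈ V₂` into `V₂` normalises `V₂` -/
theorem norm_V2 {u m : G} [Finite G] (hu : u ∈ V₂) (hu1 : u ≠ 1) (hur : u ≠ v₂) (hm : m ∈ cz v₂) (hmu : m * u * m⁻¹ ∈ V₂) :
    m ∈ normalizer (V₂ : Set G) := by
  apply Cfsg.Agent.MinSimple.VModule.mem_normalizer_of_map_le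
  rintro _ ⟨x, hx, rfl⟩
  show m * x * m⁻¹ ∈ V₂
  have hmr : m * v₂ * m⁻¹ = v₂ := by rw [mem_cz.1 hm, mul_inv_cancel_right]
  rcases h.toBase.symm.mem_V1 hx hu hu1 hur with rfl | rfl | rfl | rfl
  · simp
  · rw [hmr]; exact h.vV2
  · exact hmu
  · have e : m * (v₂ * u) * m⁻¹ = m * v₂ * m⁻¹ * (m * u * m⁻¹) := by group
    rw [e, hmr]
    exact mul_mem h.vV2 hmu

/-- `|P₃ : T| = 3` -/
theorem idx_PM : T.relIndex (PM v₁ v₂ V₁) = 3 := by
  obtain ⟨u, hu, hu1, hur⟩ := exists_x h.symm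
  have huR := P.V2R hu
  have hb := h.toBase
  have hne : ∀ m : G, m ∈ cz v₂ → m * u * m⁻¹ ≠ 1 ∧ m * u * m⁻¹ ≠ v₂ := by
    intro m hm
    refine ⟨fun e => hu1 ?_, fun e => hur ?_⟩
    · calc u = m⁻¹ * (m * u * m⁻¹) * m := by group
        _ = 1 := by rw [e]; group
    · calc u = m⁻¹ * (m * u * m⁻¹) * m := by group
        _ = m⁻¹ * (v₂ * m) := by rw [e]; group
        _ = v₂ := by rw [← mem_cz.1 hm]; group
  have h6 := relIndex_orbit (T := T ⊓ cz u) (P := PM v₁ v₂ V₁) (fun g => g * u * g⁻¹)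
    {x | x ∈ RR v₁ v₂ l ∧ x ≠ 1 ∧ x ≠ v₂} ?_ ?_ ?_
  · have h2 := relIndex_orbit (T := T ⊓ cz u) (P := T) (fun g => g * u * g⁻¹) {x | x ∈ V₂ ∧ x ≠ 1 ∧ x ≠ v₂} ?_ ?_ ?_
    · have c6 := ncard_two (A := RR v₁ v₂ l) P.rk.rR h.v2
      have c2 := ncard_two (A := V₂) h.vV2 h.v2
      have c8 : Nat.card (RR v₁ v₂ l) = 8 := P.rk.card_eq P.four
      rw [c8] at c6
      rw [h.card2] at c2
      have h3 := relIndex_mul_relIndex (T ⊓ cz u) T (PM v₁ v₂ V₁) inf_le_left (T_PM hb)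
      rw [h2, h6] at h3
      have e2 : {x | x ∈ V₂ ∧ x ≠ 1 ∧ x ≠ v₂}.ncard = 2 := by omega
      rw [e2] at h3
      omega
    · intro x hx y hy
      rw [conj_eq_iff]
      exact ⟨fun e => ⟨T.mul_mem (T.inv_mem hx) hy, e⟩, fun e => e.2⟩
    · intro x hx
      exact ⟨h.T2 x hx u hu, hne x (hb.T_le2 hx)⟩
    · rintro x ⟨hx, hx1, hxr⟩
      obtain ⟨m, hm, e⟩ := move h hnl hI hl P hu hu1 hur (P.V2R hx) hx1 hxr
      refine ⟨m, (T_iff h hnl hI hl P).2 ⟨hm.1.1, hm.1.2, hm.2, ?_⟩, e⟩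
      exact norm_V2 h hI P hu hu1 hur hm.1.2 (by rw [e]; exact hx)
  · intro x hx y hy
    rw [conj_eq_iff]
    have hxy := mul_mem (inv_mem hx) hy
    refine ⟨fun e => ⟨(T_iff h hnl hI hl P).2 ⟨hxy.1.1, hxy.1.2, hxy.2, ?_⟩, e⟩, fun e => e.2⟩
    refine norm_V2 h hI P hu hu1 hur hxy.1.2 ?_
    rw [mem_cz.1 e, mul_inv_cancel_right]
    exact hu
  · intro x hx
    have hxR : x ∈ normalizer (RR v₁ v₂ l : Set G) := P.nor ⟨hx.1.1, hx.2⟩
    exact ⟨(mem_normalizer_iff.1 hxR u).1 huR, hne x hx.1.2⟩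
  · rintro x ⟨hx, hx1, hxr⟩
    exact move h hnl hI hl P hu hu1 hur hx hx1 hxr

/-- `M = ⟨P₂, P₃⟩` -/
theorem gen_M : cz v₁ ⊓ cz v₂ ≤ PM v₁ v₂ V₁ ⊔ PM v₁ v₂ V₂ := by
  obtain ⟨u, hu, hu1, hur⟩ := exists_x h.symm
  have o₁ := P.rk.o
  have hs := sy_perp (sy_of o₁) o₁.r_mem
  have hb := h.toBase
  obtain ⟨hup, huy⟩ := pt_mem h.symm o₁ hb.symm hu hu1 hur
  -- an element of `R ∖ V₂`
  obtain ⟨x, hx, hxV⟩ : ∃ x ∈ RR v₁ v₂ l, x ∉ V₂ := by
    by_contra hcon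
    push Not at hcon
    have h1 := Subgroup.card_le_of_le (show RR v₁ v₂ l ≤ V₂ from hcon)
    have c8 : Nat.card (RR v₁ v₂ l) = 8 := P.rk.card_eq P.four
    rw [c8, h.card2] at h1
    omega
  obtain ⟨m, hm, e⟩ := move h hnl hI hl P hu hu1 hur hx (fun e => hxV (e ▸ one_mem _)) (fun e => hxV (e ▸ h.vV2))
  refine hs.perp_gen (p := u) (k := m) hup huy ?_ (mem_sup_left hm) ⟨hm.1.1, hm.1.2⟩ ?_ ?_
  · intro g hg e1
    apply mem_sup_right
    exact ⟨hg, (stab_iff h.symm o₁ hu hu1 hur hg).1 e1⟩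
  · rw [e]
    exact P.rk.iso u (P.V2R hu) x hx
  · rw [e]
    intro e1
    apply hxV
    have huN := o₁.sq u (P.rk.RN (P.V2R hu))
    have huxR : u * x ∈ RR v₁ v₂ l := mul_mem (P.V2R hu) hx
    have hcR : v₁ ∉ RR v₁ v₂ l := P.rk.cR
    have hrR : v₂ ∈ RR v₁ v₂ l := P.rk.rR
    have hx2 : x = u * (u * x) := by rw [← mul_assoc, huN, one_mul]
    rcases mem_yr' h.symm o₁ e1 with e2 | e2 | e2 | e2
    · rw [hx2, e2, mul_one]; exact hu
    · exfalso
      apply hcR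
      rwa [e2] at huxR
    · rw [hx2, e2]; exact mul_mem hu h.vV2
    · exfalso
      apply hcR
      have e3 := mul_mem (inv_mem hrR) huxR
      have e4 : v₂⁻¹ * (v₂ * v₁) = v₁ := by group
      rwa [e2, e4] at e3

end main

end Cfsg.Agent.Omega.IId.Pf.Idx

end

section


/-!
# II.d, CASE 1, `q = 2`, case B: the digons and the projective planes

helper310.
-/

set_option autoImplicit false
set_option linter.unusedSectionVars false
set_option linter.unusedVariables false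

namespace Cfsg.Agent.Omega.IId.Pf.Geo

open Cfsg.Agent.Omega.TV hiding z2
open Subgroup Cfsg Cfsg.Agent.ZN Cfsg.Agent.Omega.IId.PlaneSy Cfsg.Agent.Omega.IId.PlaneRk
open Cfsg.Agent.Omega.IId.PlaneF Cfsg.Agent.Omega.IId.PlaneOf
open Cfsg.Agent.Omega.IId.One Cfsg.Agent.Omega.IId.SpSide
open Cfsg.Agent.Omega.IId.SpForm (two_mul_card_le)
open Cfsg.Agent.Omega.MinPar
open Cfsg.Agent.Omega.NoFF.Basic
open Cfsg.Agent.Omega.IId.Pf.Rad Cfsg.Agent.Omega.IId.Pf.Par Cfsg.Agent.Omega.IId.Pf.Idx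
open Cfsg.Agent.ParSys Cfsg.Agent.ParSys.Free Cfsg.Agent.ParSys.RankTwo Cfsg.Agent.ParSys.FlagGP
open scoped Pointwise commutatorElement

universe u

variable {G : Type u} [Group G]

/-! ### The actions by conjugation -/

/-- elements of `G`, `G` acts by conjugation -/
structure Pt (G : Type u) where
  val : G

/-- subgroups of `G`, `G` acts by conjugation -/
structure Ln (G : Type u) [Group G] where
  val : Subgroup G

instance : MulAction G (Pt G) where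
  smul g x := ⟨g * x.val * g⁻¹⟩
  one_smul x := by
    show Pt.mk (1 * x.val * 1⁻¹) = x
    simp
  mul_smul g k x := by
    show Pt.mk (g * k * x.val * (g * k)⁻¹) = Pt.mk (g * (k * x.val * k⁻¹) * g⁻¹)
    simp only [mul_assoc, _root_.mul_inv_rev]

instance : MulAction G (Ln G) where
  smul g L := ⟨MulAut.conj g • L.val⟩
  one_smul L := by
    show Ln.mk (MulAut.conj 1 • L.val) = L
    rw [map_one, one_smul]
  mul_smul g k L := by
    show Ln.mk (MulAut.conj (g * k) • L.val) = Ln.mk (MulAut.conj g • (MulAut.conj k • L.val))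
    rw [map_mul, mul_smul]

theorem pt_smul (g : G) (x : Pt G) : (g • x).val = g * x.val * g⁻¹ := rfl
theorem ln_smul (g : G) (L : Ln G) : (g • L).val = MulAut.conj g • L.val := rfl

theorem pt_ext {x y : Pt G} (h : x.val = y.val) : x = y := by
  cases x; cases y; cases h; rfl

theorem ln_ext {x y : Ln G} (h : x.val = y.val) : x = y := by
  cases x; cases y; cases h; rfl

theorem mem_sm {g x : G} {A : Subgroup G} : g * x * g⁻¹ ∈ MulAut.conj g • A ↔ x ∈ A := by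
  rw [mem_conj]
  rw [show g⁻¹ * (g * x * g⁻¹) * g = x by group]

/-! ### Klein four groups -/

/-- `{1, x, y, xy}` -/
def kl {x y : G} (hx : x * x = 1) (hy : y * y = 1) (hc : x * y = y * x) : Subgroup G where
  carrier := {t | t = 1 ∨ t = x ∨ t = y ∨ t = x * y}
  one_mem' := Or.inl rfl
  mul_mem' := by
    have e1 : x * (x * y) = y := by rw [← mul_assoc, hx, one_mul]
    have e2 : y * (x * y) = x := by rw [hc, ← mul_assoc, hy, one_mul]
    have e3 : x * y * x = y := by rw [hc, mul_assoc, hx, mul_one]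
    have e4 : x * y * y = x := by rw [mul_assoc, hy, mul_one]
    have e5 : x * y * (x * y) = 1 := by rw [mul_assoc, e2, hx]
    have e6 : y * x = x * y := hc.symm
    rintro a b (rfl | rfl | rfl | rfl) (rfl | rfl | rfl | rfl) <;> simp only [e1, e2, e3, e4, e5, e6, hx, hy, _root_.mul_one, _root_.Set.mem_ofPred_eq, _root_.true_or, _root_.one_mul, _root_.left_eq_mul, _root_.or_true, _root_.right_eq_mul, _root_.mul_eq_left, _root_.mul_eq_right]
  inv_mem' := by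
    have hx' : x⁻¹ = x := inv_eq_of_mul_eq_one_left hx
    have hy' : y⁻¹ = y := inv_eq_of_mul_eq_one_left hy
    rintro a (rfl | rfl | rfl | rfl) <;> simp [hx', hy', ← hc]

theorem card_kl [Finite G] {x y : G} {hx : x * x = 1} {hy : y * y = 1} {hc : x * y = y * x} (hx1 : x ≠ 1)
    (hy1 : y ≠ 1) (hxy : x ≠ y) : Nat.card (kl hx hy hc) = 4 := by
  apply le_antisymm
  · classical
    have h5 : (kl hx hy hc : Set G) ⊆ (({1, x, y, x * y} : Finset G) : Set G) := by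
      intro t ht
      have ht : t = 1 ∨ t = x ∨ t = y ∨ t = x * y := ht
      simpa only [_root_.Finset.coe_insert, _root_.Finset.coe_singleton, _root_.Set.mem_insert_iff, _root_.Set.mem_singleton_iff] using ht
    have h6 := Set.ncard_le_ncard h5 (Finset.finite_toSet _)
    rw [Set.ncard_coe_finset] at h6
    have h7 : Nat.card (kl hx hy hc) = (kl hx hy hc : Set G).ncard := Nat.card_coe_set_eq _
    have h9 : ({1, x, y, x * y} : Finset G).card ≤ 4 := Finset.card_le_four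
    omega
  · have h1 : Nat.card (zpowers x) = 2 := by
      rw [Nat.card_zpowers]
      exact orderOf_eq_prime (by rw [pow_two, hx]) hx1
    have h2 := two_mul_card_le (K := zpowers x) (H := kl hx hy hc) (zpowers_le.2 (Or.inr (Or.inl rfl)))
      ⟨y, Or.inr (Or.inr (Or.inl rfl)), fun e => by
        rcases (mem_zp2 hx).1 e with e | e
        · exact hy1 e
        · exact hxy e.symm⟩
    omega

theorem eq_kl [Finite G] {x y : G} {hx : x * x = 1} {hy : y * y = 1} {hc : x * y = y * x} (hx1 : x ≠ 1)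
    (hy1 : y ≠ 1) (hxy : x ≠ y) {L : Subgroup G} (hL : Nat.card L = 4) (h1 : x ∈ L) (h2 : y ∈ L) :
    L = kl hx hy hc := by
  refine (Subgroup.eq_of_le_of_card_ge ?_ (by rw [hL, card_kl hx1 hy1 hxy])).symm
  rintro t (rfl | rfl | rfl | rfl)
  · exact one_mem _
  · exact h1
  · exact h2
  · exact mul_mem h1 h2

/-- a subgroup of index 2 -/
theorem quo_two [Finite G] {A R : Subgroup G} (hA : A ≤ R) (hc : Nat.card R = 2 * Nat.card A) {x y : G}
    (hx : x ∈ R) (hy : y ∈ R) (hx2 : x ∉ A) (hy2 : y ∉ A) : x * y ∈ A := by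
  have h5 : (A.subgroupOf R).index = 2 := by
    have h6 := (A.subgroupOf R).card_mul_index
    rw [Nat.card_congr (subgroupOfEquivOfLe hA).toEquiv, hc, mul_comm 2] at h6
    exact Nat.eq_of_mul_eq_mul_left Nat.card_pos h6
  exact (mul_mem_iff_of_index_two h5 (a := ⟨x, hx⟩) (b := ⟨y, hy⟩)).2 ⟨fun e => absurd e hx2, fun e => absurd e hy2⟩

/-! ### The digons -/

theorem inv_mul {A : Subgroup G} {x y : G} (hx : x ∈ A) (hy : y ∈ A) : x⁻¹ * y ∈ A := A.mul_mem (A.inv_mem hx) hy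

theorem swap_mul {A B : Subgroup G} (h : ∀ p ∈ A, ∀ q ∈ B, ∃ q' ∈ B, ∃ p' ∈ A, p * q = q' * p') :
    ∀ q ∈ B, ∀ p ∈ A, ∃ p' ∈ A, ∃ q' ∈ B, q * p = p' * q' := by
  intro q hq p hp
  obtain ⟨q', hq', p', hp', e⟩ := h p⁻¹ (inv_mem hp) q⁻¹ (inv_mem hq)
  refine ⟨p'⁻¹, inv_mem hp', q'⁻¹, inv_mem hq', ?_⟩
  rw [← mul_inv_rev, ← e, mul_inv_rev, inv_inv, inv_inv]

section main

variable [Finite G] {T V₁ V₂ L₁ L₂ : Subgroup G} {v₁ v₂ s : G} {I : Type*} {PP : I → Subgroup G} {i j : I}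

theorem digon_E (h : Base T V₁ V₂ L₁ L₂ v₁ v₂ s)
    (hT : ∀ x, x ∈ T ↔ x ∈ cz v₁ ∧ x ∈ cz v₂ ∧ x ∈ normalizer (V₁ : Set G) ∧ x ∈ normalizer (V₂ : Set G))
    (hBP : ∀ i, T ≤ PP i) (hi : PP i = PE v₂ V₁ V₂) (hj : PP j = PE v₁ V₁ V₂) :
    GPp T PP i j 2 ∧ GPp T PP j i 2 := by
  have hinf : ∀ x, x ∈ PP i → x ∈ PP j → x ∈ T := fun x hx hy => by
    rw [hi] at hx
    rw [hj] at hy
    exact (hT x).2 ⟨hy.1, hx.1, hx.2.1, hx.2.2⟩
  have hm : ∀ p ∈ PP i, ∀ q ∈ PP j, ∃ q' ∈ PP j, ∃ p' ∈ PP i, p * q = q' * p' := by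
    intro p hp q hq
    rw [hi] at hp
    rw [hj] at hq
    have hpq : p * q ∈ normalizer (V₂ : Set G) := mul_mem hp.2.2 hq.2.2
    have h1 : p * q * v₂ * (p * q)⁻¹ ∈ V₂ := (mem_normalizer_iff.1 hpq v₂).1 h.vV2
    have h2 : p * q * v₂ * (p * q)⁻¹ ≠ 1 := fun e => h.v2 (by
      calc v₂ = (p * q)⁻¹ * (p * q * v₂ * (p * q)⁻¹) * (p * q) := by group
        _ = 1 := by rw [e]; group)
    obtain ⟨k, hk, e⟩ := h.t2 v₂ h.vV2 h.v2 _ h1 h2
    have hk' := L2_PE h hk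
    refine ⟨k, by rw [hj]; exact hk', k⁻¹ * (p * q), ?_, by group⟩
    rw [hi]
    exact ⟨conj_eq_iff.1 e, inv_mul hk'.2.1 (mul_mem hp.2.1 hq.2.1), inv_mul hk'.2.2 hpq⟩
  exact ⟨gpp_two hBP hinf hm, gpp_two hBP (fun x hx hy => hinf x hy hx) (swap_mul hm)⟩

theorem digon_M (h : Base T V₁ V₂ L₁ L₂ v₁ v₂ s)
    (hT : ∀ x, x ∈ T ↔ x ∈ cz v₁ ∧ x ∈ cz v₂ ∧ x ∈ normalizer (V₁ : Set G) ∧ x ∈ normalizer (V₂ : Set G))
    (hBP : ∀ i, T ≤ PP i) (hi : PP i = PM v₁ v₂ V₂) (hj : PP j = PE v₁ V₁ V₂) :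
    GPp T PP i j 2 ∧ GPp T PP j i 2 := by
  have hinf : ∀ x, x ∈ PP i → x ∈ PP j → x ∈ T := fun x hx hy => by
    rw [hi] at hx
    rw [hj] at hy
    exact (hT x).2 ⟨hy.1, hx.1.2, hy.2.1, hy.2.2⟩
  have hm : ∀ p ∈ PP i, ∀ q ∈ PP j, ∃ q' ∈ PP j, ∃ p' ∈ PP i, p * q = q' * p' := by
    intro p hp q hq
    rw [hi] at hp
    rw [hj] at hq
    have hpq : p * q ∈ normalizer (V₂ : Set G) := mul_mem hp.2 hq.2.2
    have h1 : p * q * v₂ * (p * q)⁻¹ ∈ V₂ := (mem_normalizer_iff.1 hpq v₂).1 h.vV2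
    have h2 : p * q * v₂ * (p * q)⁻¹ ≠ 1 := fun e => h.v2 (by
      calc v₂ = (p * q)⁻¹ * (p * q * v₂ * (p * q)⁻¹) * (p * q) := by group
        _ = 1 := by rw [e]; group)
    obtain ⟨k, hk, e⟩ := h.t2 v₂ h.vV2 h.v2 _ h1 h2
    have hk' := L2_PE h hk
    refine ⟨k, by rw [hj]; exact hk', k⁻¹ * (p * q), ?_, by group⟩
    rw [hi]
    exact ⟨⟨inv_mul hk'.1 (mul_mem hp.1.1 hq.1), conj_eq_iff.1 e⟩, inv_mul hk'.2.2 hpq⟩
  exact ⟨gpp_two hBP hinf hm, gpp_two hBP (fun x hx hy => hinf x hy hx) (swap_mul hm)⟩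

/-! ### The projective plane -/

/-- points of the plane -/
def ptR (R : Subgroup G) : Set (Pt G) := fun x => x.val ∈ R ∧ x.val ≠ 1

/-- lines of the plane -/
def lnR (R : Subgroup G) : Set (Ln G) := fun L => L.val ≤ R ∧ Nat.card L.val = 4

def inc (x : Pt G) (L : Ln G) : Prop := x.val ∈ L.val

variable (h : _root_.Cfsg.Agent.Omega.IId.One.One T V₁ V₂ L₁ L₂ v₁ v₂ s) (hnl : NonLoc (cz v₁) (cz v₂))
  (hI : ∃ x ∈ nc v₁ {v₂}, ∃ y ∈ nc v₂ {v₁}, x * y ≠ y * x) {v' w l : G} (hl : l ∈ L₁)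
  (P : Plane V₁ V₂ v₁ v₂ v' w l)

include h hnl hI hl P

/-- `N_M(R)` is transitive on the lines of `R` through `v₂`. -/
theorem move_line {L : Subgroup G} (hLR : L ≤ RR v₁ v₂ l) (hL : Nat.card L = 4) (hr : v₂ ∈ L) :
    ∃ g ∈ PM v₁ v₂ V₁, MulAut.conj g • V₂ = L := by
  obtain ⟨u, hu, hu1, hur⟩ := exists_x h.symm
  obtain ⟨x, hx, hx1, hxr⟩ : ∃ x ∈ L, x ≠ 1 ∧ x ≠ v₂ := by
    by_contra hcon
    push Not at hcon
    have h1 : L ≤ zpowers v₂ := fun t ht => by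
      rw [mem_zp2 h.toBase.vq2]
      by_cases ht1 : t = 1
      · exact Or.inl ht1
      · exact Or.inr (hcon t ht ht1)
    have h2 := Subgroup.card_le_of_le h1
    rw [Nat.card_zpowers] at h2
    have h3 : orderOf v₂ ≤ 2 := orderOf_le_of_pow_eq_one (by norm_num) (by rw [pow_two, h.toBase.vq2])
    omega
  obtain ⟨m, hm, e⟩ := move h hnl hI hl P hu hu1 hur (hLR hx) hx1 hxr
  refine ⟨m, hm, ?_⟩
  have hmr : m * v₂ * m⁻¹ = v₂ := by rw [mem_cz.1 hm.1.2, mul_inv_cancel_right]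
  apply Subgroup.eq_of_le_of_card_ge
  · intro t ht
    rw [mem_conj] at ht
    have e3 : t = m * (m⁻¹ * t * m) * m⁻¹ := by group
    rw [e3]
    rcases h.toBase.symm.mem_V1 ht hu hu1 hur with e4 | e4 | e4 | e4 <;> rw [e4]
    · simp
    · rw [hmr]; exact hr
    · rw [e]; exact hx
    · have e5 : m * (v₂ * u) * m⁻¹ = m * v₂ * m⁻¹ * (m * u * m⁻¹) := by group
      rw [e5, hmr, e]
      exact mul_mem hr hx
  · rw [Side.card_conj, hL, h.card2]

/-- **the projective plane `R`** -/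
theorem plane_gp
    (hT : ∀ x, x ∈ T ↔ x ∈ cz v₁ ∧ x ∈ cz v₂ ∧ x ∈ normalizer (V₁ : Set G) ∧ x ∈ normalizer (V₂ : Set G))
    (hij : i ≠ j) (hBP : ∀ i, T ≤ PP i) (hi : PP i = PE v₁ V₁ V₂) (hj : PP j = PM v₁ v₂ V₁) :
    GPp T PP i j 3 ∧ GPp T PP j i 3 := by
  have c8 : Nat.card (RR v₁ v₂ l) = 8 := P.rk.card_eq P.four
  have sqR : ∀ x ∈ RR v₁ v₂ l, x * x = 1 := fun x hx => P.rk.o.sq x (P.rk.RN hx)
  have coR : ∀ x ∈ RR v₁ v₂ l, ∀ y ∈ RR v₁ v₂ l, x * y = y * x := fun x hx y hy =>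
    comm_of_sq sqR hx hy
  have hgR : ∀ g, g ∈ PP i ∨ g ∈ PP j → g ∈ normalizer (RR v₁ v₂ l : Set G) ∧ g ∈ cz v₁ ∧ g ∈ normalizer (V₁ : Set G) := by
    rintro g (hg | hg)
    · rw [hi] at hg
      exact ⟨P.nor ⟨hg.1, hg.2.1⟩, hg.1, hg.2.1⟩
    · rw [hj] at hg
      exact ⟨P.nor ⟨hg.1.1, hg.2⟩, hg.1.1, hg.2⟩
  have hconj : ∀ g : G, g ∈ normalizer (RR v₁ v₂ l : Set G) → ∀ L : Subgroup G, L ≤ RR v₁ v₂ l →
      MulAut.conj g • L ≤ RR v₁ v₂ l := by
    intro g hg L hL t ht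
    rw [mem_conj] at ht
    have := (mem_normalizer_iff.1 hg _).1 (hL ht)
    rwa [show g * (g⁻¹ * t * g) * g⁻¹ = t by group] at this
  have F : Flags T (PP i) (PP j) (ptR (RR v₁ v₂ l)) (lnR (RR v₁ v₂ l)) inc ⟨v₂⟩ ⟨V₂⟩ :=
    { hp := ⟨P.rk.rR, h.v2⟩
      hl := ⟨P.V2R, h.card2⟩
      hpl := h.vV2
      Bi := hBP i
      Bj := hBP j
      pts := fun g hg x hx => by
        refine ⟨(mem_normalizer_iff.1 (hgR g hg).1 _).1 hx.1, fun e => hx.2 ?_⟩
        rw [pt_smul] at e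
        calc x.val = g⁻¹ * (g * x.val * g⁻¹) * g := by group
          _ = 1 := by rw [e]; group
      lns := fun g hg L hL => by
        refine ⟨hconj g (hgR g hg).1 _ hL.1, ?_⟩
        rw [ln_smul, Side.card_conj]
        exact hL.2
      inc' := fun g hg x hx L hL hxL => by
        show g * x.val * g⁻¹ ∈ MulAut.conj g • L.val
        exact mem_sm.2 hxL
      fixl := fun g hg => by
        rw [hi] at hg
        apply ln_ext
        exact conj_eq hg.2.2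
      fixp := fun g hg => by
        rw [hj] at hg
        apply pt_ext
        show g * v₂ * g⁻¹ = v₂
        rw [mem_cz.1 hg.1.2, mul_inv_cancel_right]
      trp := fun x hx hxl => by
        obtain ⟨k, hk, e⟩ := h.t2 v₂ h.vV2 h.v2 x.val hxl hx.2
        exact ⟨k, by rw [hi]; exact L2_PE h.toBase hk, pt_ext e⟩
      trl := fun L hL hpL => by
        obtain ⟨g, hg, e⟩ := move_line h hnl hI hl P hL.1 hL.2 hpL
        exact ⟨g, by rw [hj]; exact hg, ln_ext e⟩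
      stab := fun g hg hp hL => by
        have h1 : g ∈ cz v₁ ⊓ normalizer (V₁ : Set G) :=
          (sup_le (fun x hx => (hgR x (Or.inl hx)).2) (fun x hx => (hgR x (Or.inr hx)).2) :
            PP i ⊔ PP j ≤ cz v₁ ⊓ normalizer (V₁ : Set G)) hg
        refine (hT g).2 ⟨h1.1, ?_, h1.2, ?_⟩
        · have h2 : g * v₂ * g⁻¹ = v₂ := congrArg Pt.val hp
          exact mem_cz.2 (mul_inv_eq_iff_eq_mul.1 h2)
        · exact mem_normalizer_of_conj (congrArg Ln.val hL) }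
  refine F.gpp_three hBP hij ?_ ?_ ?_
  · intro x hx y hy hxy
    have hne : x.val ≠ y.val := fun e => hxy (pt_ext e)
    have hc := coR _ hx.1 _ hy.1
    refine ⟨⟨kl (sqR _ hx.1) (sqR _ hy.1) hc⟩, ⟨?_, card_kl (hx := sqR _ hx.1) (hy := sqR _ hy.1) (hc := hc) hx.2 hy.2 hne⟩, Or.inr (Or.inl rfl),
      Or.inr (Or.inr (Or.inl rfl))⟩
    rintro t (rfl | rfl | rfl | rfl)
    · exact one_mem _
    · exact hx.1
    · exact hy.1
    · exact mul_mem hx.1 hy.1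
  · intro x hx y hy hxy L hL L' hL' h1 h2 h3 h4
    have hne : x.val ≠ y.val := fun e => hxy (pt_ext e)
    have hc := coR _ hx.1 _ hy.1
    apply ln_ext
    rw [eq_kl (hx := sqR _ hx.1) (hy := sqR _ hy.1) (hc := hc) hx.2 hy.2 hne hL.2 h1 h2,
      eq_kl (hx := sqR _ hx.1) (hy := sqR _ hy.1) (hc := hc) hx.2 hy.2 hne hL'.2 h3 h4]
  · intro L hL L' hL' hne
    -- two elements of `L'` outside `L`
    by_contra hcon
    push Not at hcon
    have hcap : ∀ t ∈ L.val, t ∈ L'.val → t = 1 := by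
      intro t ht ht'
      by_contra ht1
      exact hcon ⟨t⟩ ⟨hL.1 ht, ht1⟩ ht ht'
    have h2 : ∀ x ∈ L'.val, ∀ y ∈ L'.val, x ≠ 1 → y ≠ 1 → x = y := by
      intro x hx y hy hx1 hy1
      have hxL : x ∉ L.val := fun e => hx1 (hcap x e hx)
      have hyL : y ∉ L.val := fun e => hy1 (hcap y e hy)
      have h3 := quo_two hL.1 (by rw [c8, hL.2]) (hL'.1 hx) (hL'.1 hy) hxL hyL
      have h4 := hcap _ h3 (mul_mem hx hy)
      calc x = x * (y * y) := by rw [sqR y (hL'.1 hy), mul_one]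
        _ = y := by rw [← mul_assoc, h4, one_mul]
    obtain ⟨x, hx, hx1⟩ : ∃ x ∈ L'.val, x ≠ 1 := by
      by_contra hcon2
      push Not at hcon2
      have h3 : L'.val ≤ ⊥ := fun x hx => by rw [mem_bot]; exact hcon2 x hx
      have h4 := Subgroup.card_le_of_le h3
      rw [hL'.2, Subgroup.card_bot] at h4
      omega
    have h3 : L'.val ≤ zpowers x := fun y hy => by
      by_cases hy1 : y = 1
      · rw [hy1]; exact one_mem _
      · rw [h2 y hy x hx hy1 hx1]; exact mem_zpowers _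
    have h4 := Subgroup.card_le_of_le h3
    rw [Nat.card_zpowers, hL'.2] at h4
    have h5 : orderOf x ≤ 2 := orderOf_le_of_pow_eq_one (by norm_num) (by rw [pow_two, sqR x (hL'.1 hx)])
    omega

end main

/-! ### Restriction to a subgroup -/

theorem gpp_restrict {B H : Subgroup G} {I : Type*} {P : I → Subgroup G} (hBP : ∀ i, B ≤ P i) (hPH : ∀ i, P i ≤ H)
    {i j : I} {m : ℕ} (hg : GPp B P i j m) :
    GPp (B.subgroupOf H) (fun i => (P i).subgroupOf H) i j m := by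
  have hM : Model (B.subgroupOf H) (fun i => (P i).subgroupOf H) i j (adj B P) (fun x : H => ((x : G) : G ⧸ B)) ⊤ :=
    { li := le_top
      lj := le_top
      inj := fun x _ y _ e => by
        rw [QuotientGroup.eq] at e
        exact e
      eqB := fun x _ b hb => by
        rw [QuotientGroup.eq]
        have e : ((x * b : H) : G)⁻¹ * (x : G) = ((b : H) : G)⁻¹ := by
          rw [Subgroup.coe_mul]; group
        rw [e]
        exact inv_mem hb
      adj := fun k _ x _ p hp hpB => by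
        rw [adj_mk hBP]
        have e : ((x : H) : G)⁻¹ * ((x * p : H) : G) = (p : G) := by
          rw [Subgroup.coe_mul]; group
        rw [e]
        exact ⟨hp, hpB⟩
      sur := fun k _ x _ d hd => by
        induction d using QuotientGroup.induction_on with
        | _ y =>
        rw [adj_mk hBP] at hd
        refine ⟨⟨(x : G)⁻¹ * y, hPH k hd.1⟩, hd.1, hd.2, ?_⟩
        have e : ((x * ⟨(x : G)⁻¹ * y, hPH k hd.1⟩ : H) : G) = y := by
          rw [Subgroup.coe_mul]; group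
        rw [e] }
  refine hM.gpp (fun i => ?_) fun l hl => hg _ l hl
  intro x hx
  exact hBP i hx

end Cfsg.Agent.Omega.IId.Pf.Geo

end

section


/-!
# II.d, CASE 1, `q = 2`, case B: the quadrangle

helper310.  The totally singular subgroups of order 4 and 8 of `N₁` which contain `v₂`: a generalised quadrangle
(`pu`, `quad_q`), on which `M` acts flag-transitively (`flags`).
-/

set_option autoImplicit false
set_option linter.unusedSectionVars false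
set_option linter.unusedVariables false

namespace Cfsg.Agent.Omega.IId.Pf.Quad

open Cfsg.Agent.Omega.TV hiding z2
open Subgroup Cfsg Cfsg.Agent.ZN Cfsg.Agent.Omega.IId.PlaneSy Cfsg.Agent.Omega.IId.PlaneRk
open Cfsg.Agent.Omega.IId.PlaneF Cfsg.Agent.Omega.IId.PlaneOf
open Cfsg.Agent.Omega.IId.One Cfsg.Agent.Omega.IId.SpSide
open Cfsg.Agent.Omega.IId.SpForm (two_mul_card_le four_mem)
open Cfsg.Agent.Omega.MinPar
open Cfsg.Agent.Omega.NoFF.Basic
open Cfsg.Agent.Omega.IId.Pf.Rad Cfsg.Agent.Omega.IId.Pf.Par Cfsg.Agent.Omega.IId.Pf.Idx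
open Cfsg.Agent.Omega.IId.Pf.Geo Cfsg.Agent.Omega.IId.Pf.Dual
open Cfsg.Agent.ParSys Cfsg.Agent.ParSys.Free Cfsg.Agent.ParSys.RankTwo Cfsg.Agent.ParSys.FlagGP
open scoped Pointwise commutatorElement

universe u

variable {G : Type u} [Group G]

/-! ### Adjoining an involution -/

/-- `A ∪ Ay` -/
def ad (A : Subgroup G) {y : G} (hy : y * y = 1) (hc : ∀ a ∈ A, a * y = y * a) : Subgroup G where
  carrier := {t | t ∈ A ∨ t * y ∈ A}
  one_mem' := Or.inl (one_mem _)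
  mul_mem' := by
    rintro a b (ha | ha) (hb | hb)
    · exact Or.inl (mul_mem ha hb)
    · exact Or.inr (by rw [mul_assoc]; exact mul_mem ha hb)
    · refine Or.inr ?_
      rw [mul_assoc, hc b hb, ← mul_assoc]
      exact mul_mem ha hb
    · left
      have e : a * b = a * y * (b * y) := by
        have h1 := hc _ hb
        calc a * b = a * (b * y * y) := by rw [mul_assoc b, hy, mul_one]
          _ = a * (y * (b * y)) := by rw [h1]
          _ = a * y * (b * y) := by group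
      rw [e]
      exact mul_mem ha hb
  inv_mem' := by
    rintro a (ha | ha)
    · exact Or.inl (inv_mem ha)
    · refine Or.inr ?_
      have h1 := inv_mem ha
      have hyi : y⁻¹ = y := inv_eq_of_mul_eq_one_left hy
      rw [mul_inv_rev, hyi] at h1
      have h2 := hc _ h1
      have e : a⁻¹ * y = y * a⁻¹ := by
        have e1 : y * a⁻¹ * y = y * (y * a⁻¹) := h2
        rw [← mul_assoc, hy, one_mul] at e1
        calc a⁻¹ * y = y * a⁻¹ * y * y := by rw [e1]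
          _ = y * a⁻¹ := by rw [mul_assoc, hy, mul_one]
      rw [e]; exact h1

theorem mem_ad {A : Subgroup G} {y : G} {hy : y * y = 1} {hc : ∀ a ∈ A, a * y = y * a} {t : G} :
    t ∈ ad A hy hc ↔ t ∈ A ∨ t * y ∈ A := Iff.rfl

theorem card_ad [Finite G] {A : Subgroup G} {y : G} {hy : y * y = 1} {hc : ∀ a ∈ A, a * y = y * a} (hyA : y ∉ A) :
    Nat.card (ad A hy hc) = 2 * Nat.card A := by
  have hle : A ≤ ad A hy hc := fun a ha => Or.inl ha
  apply le_antisymm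
  · have h1 := card_le_two_mul (K := A) (H := ad A hy hc) (fun a ha b hb haA hbA => by
      have ha' : a * y ∈ A := (mem_ad.1 ha).resolve_left haA
      have hb' : b * y ∈ A := (mem_ad.1 hb).resolve_left hbA
      have h2 := mul_mem (inv_mem ha') hb'
      -- `(ay)⁻¹(by) = y a⁻¹ b y`
      have h3 := hc _ h2
      have e : (a * y)⁻¹ * (b * y) = y⁻¹ * (a⁻¹ * b) * y := by group
      have hyi : y⁻¹ = y := inv_eq_of_mul_eq_one_left hy
      have e2 : a⁻¹ * b = y * ((a * y)⁻¹ * (b * y)) * y := by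
        rw [e, hyi]
        calc a⁻¹ * b = (y * y) * (a⁻¹ * b) * (y * y) := by rw [hy, one_mul, mul_one]
          _ = y * (y * (a⁻¹ * b) * y) * y := by group
      rw [e2, ← h3, mul_assoc, hy, mul_one]
      exact h2)
    rwa [inf_eq_left.2 hle] at h1
  · exact two_mul_card_le hle ⟨y, Or.inr (by rw [hy]; exact one_mem _), hyA⟩

/-! ### The quadrangle -/

section geo

variable [Finite G] {C N : Subgroup G} {r c : G} (o : GOrth C N r c)

/-- totally singular subgroups of order `n` containing `r` -/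
def TS (C N : Subgroup G) (r : G) (n : ℕ) : Set (Ln G) := fun L =>
  r ∈ L.val ∧ L.val ≤ N ∧ Nat.card L.val = n ∧ ∀ x ∈ L.val, Qg C r x = 0

def inc2 (L L' : Ln G) : Prop := L.val ≤ L'.val

theorem B_of_Q {A : Subgroup G} (hQ : ∀ x ∈ A, Qg C r x = 0) {x y : G} (hx : x ∈ A) (hy : y ∈ A) : Bg C r x y = 0 := by
  unfold Bg
  rw [hQ x hx, hQ y hy, hQ _ (mul_mem hx hy), add_zero, add_zero]

include o

theorem coN {x y : G} (hx : x ∈ N) (hy : y ∈ N) : x * y = y * x := (sy_of o).mc hx hy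

theorem Q_ad {A : Subgroup G} (hA : A ≤ N) (hQ : ∀ x ∈ A, Qg C r x = 0) {y : G} (hy : y ∈ N) (hQy : Qg C r y = 0)
    (hB : ∀ x ∈ A, Bg C r y x = 0) {t : G} (ht : t ∈ ad A (o.sq y hy) fun a ha => coN o (hA ha) hy) :
    t ∈ N ∧ Qg C r t = 0 := by
  rcases mem_ad.1 ht with ht | ht
  · exact ⟨hA ht, hQ t ht⟩
  · have e : t = t * y * y := by rw [mul_assoc, o.sq y hy, mul_one]
    have h1 := hB _ ht
    rw [e]
    refine ⟨mul_mem (hA ht) hy, ?_⟩
    rw [GOrth.Q_mul, hQ _ ht, hQy, o.comm _ (hA ht) _ hy, h1]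
    decide

theorem max8 (hN : Nat.card N = 128) {L : Ln G} (hL : L ∈ TS C N r 8) {y : G} (hy : y ∈ N) (hQy : Qg C r y = 0)
    (hB : ∀ t ∈ L.val, Bg C r y t = 0) : y ∈ L.val := by
  by_contra hyL
  set A := ad L.val (o.sq y hy) (fun a ha => coN o (hL.2.1 ha) hy) with hA
  have hAQ : ∀ t ∈ A, t ∈ N ∧ Qg C r t = 0 := fun t ht => Q_ad o hL.2.1 hL.2.2.2 hy hQy hB ht
  have h1 : Nat.card A = 2 * 8 := by rw [hA, card_ad hyL, hL.2.2.1]
  have h2 := card_iso o (A := A) (fun t ht => (hAQ t ht).1) (fun e => by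
    have := (hAQ c e).2
    rw [o.Qc] at this
    exact absurd this (by decide)) (fun x hx y hy => B_of_Q (fun t ht => (hAQ t ht).2) hx hy)
  rw [h1, hN] at h2
  omega

theorem pu {p p' l l' : Ln G} (hp : p ∈ TS C N r 4) (hp' : p' ∈ TS C N r 4) (hpp : p ≠ p') (hl : l ∈ TS C N r 8)
    (hl' : l' ∈ TS C N r 8) (h1 : inc2 p l) (h2 : inc2 p' l) (h3 : inc2 p l') (h4 : inc2 p' l') : l = l' := by
  obtain ⟨y, hy, hyp⟩ : ∃ y ∈ p'.val, y ∉ p.val := by
    by_contra hcon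
    push Not at hcon
    have h5 : p'.val ≤ p.val := hcon
    exact hpp (ln_ext (Subgroup.eq_of_le_of_card_ge h5 (by rw [hp.2.2.1, hp'.2.2.1])).symm)
  have h5 := two_mul_card_le (K := p.val) (H := l.val ⊓ l'.val) (le_inf h1 h3) ⟨y, ⟨h2 hy, h4 hy⟩, hyp⟩
  rw [hp.2.2.1] at h5
  have h6 : l.val ⊓ l'.val = l.val := Subgroup.eq_of_le_of_card_ge inf_le_left (by rw [hl.2.2.1]; omega)
  have h7 : l.val ⊓ l'.val = l'.val := Subgroup.eq_of_le_of_card_ge inf_le_right (by rw [hl'.2.2.1]; omega)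
  exact ln_ext (h6.symm.trans h7)

theorem quad_q (hr1 : r ≠ 1) (hN : Nat.card N = 128) {p l : Ln G} (hp : p ∈ TS C N r 4) (hl : l ∈ TS C N r 8)
    (hpl : ¬ inc2 p l) : ∃ q ∈ TS C N r 4, ∃ m ∈ TS C N r 8, inc2 p m ∧ inc2 q m ∧ inc2 q l ∧
      ∀ q' ∈ TS C N r 4, ∀ m' ∈ TS C N r 8, inc2 p m' → inc2 q' m' → inc2 q' l → q' = q ∧ m' = m := by
  obtain ⟨y, hy, hyl⟩ := SetLike.not_le_iff_exists.1 hpl
  have hyN := hp.2.1 hy
  have hQy := hp.2.2.2 y hy
  have hadd : ∀ x ∈ l.val, ∀ z ∈ l.val, Bg C r y (x * z) = Bg C r y x + Bg C r y z := fun x hx z hz =>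
    o.add y hyN x (hl.2.1 hx) z (hl.2.1 hz)
  obtain ⟨t, ht, hyt⟩ : ∃ t ∈ l.val, Bg C r y t = 1 := by
    by_contra hcon
    push Not at hcon
    exact hyl (max8 o hN hl hyN hQy fun t ht => (z2 _).resolve_right (hcon t ht))
  have hc := card_ker' (A := l.val) (f := Bg C r y) hadd ⟨t, ht, hyt⟩
  set q : Subgroup G := ker l.val (Bg C r y) hadd with hq
  have hql : q ≤ l.val := fun x hx => hx.1
  have hqB : ∀ x ∈ q, Bg C r y x = 0 := fun x hx => hx.2
  have hqN : q ≤ N := hql.trans hl.2.1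
  have c4 : Nat.card q = 4 := by rw [hl.2.2.1] at hc; omega
  have hrq : r ∈ q := ⟨hl.1, B_of_Q hp.2.2.2 hy hp.1⟩
  have hq4 : (⟨q⟩ : Ln G) ∈ TS C N r 4 := ⟨hrq, hqN, c4, fun x hx => hl.2.2.2 x (hql hx)⟩
  set m : Subgroup G := ad q (o.sq y hyN) (fun a ha => coN o (hqN ha) hyN) with hm
  have hmQ : ∀ t ∈ m, t ∈ N ∧ Qg C r t = 0 := fun t ht => Q_ad o hqN (fun x hx => hl.2.2.2 x (hql hx)) hyN hQy hqB ht
  have hqm : q ≤ m := fun x hx => Or.inl hx
  have hym : y ∈ m := Or.inr (by rw [o.sq y hyN]; exact one_mem _)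
  have c8 : Nat.card m = 8 := by rw [hm, card_ad (fun e => hyl (hql e)), c4]
  have hm8 : (⟨m⟩ : Ln G) ∈ TS C N r 8 := ⟨hqm hrq, fun t ht => (hmQ t ht).1, c8, fun t ht => (hmQ t ht).2⟩
  refine ⟨⟨q⟩, hq4, ⟨m⟩, hm8, ?_, hqm, hql, ?_⟩
  · intro x hx
    have hy1 : y ≠ 1 := fun e => hyl (e ▸ one_mem _)
    have hry : r ≠ y := fun e => hyl (e ▸ hl.1)
    rcases four_mem hp.2.2.1 (fun x hx => o.sq x (hp.2.1 hx)) hp.1 hy hr1 hy1 hry hx with h1 | h1 | h1 | h1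
    · rw [h1]; exact one_mem _
    · rw [h1]; exact hqm hrq
    · rw [h1]; exact hym
    · rw [h1]; exact mul_mem (hqm hrq) hym
  · intro q' hq' m' hm' h1 h2 h3
    have h4 : q' = ⟨q⟩ := by
      apply ln_ext
      refine Subgroup.eq_of_le_of_card_ge (fun x hx => ⟨h3 hx, B_of_Q hm'.2.2.2 (h1 hy) (h2 hx)⟩) ?_
      show Nat.card q ≤ _
      rw [c4, hq'.2.2.1]
    refine ⟨h4, ?_⟩
    apply ln_ext
    refine (Subgroup.eq_of_le_of_card_ge ?_ ?_).symm
    · intro t ht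
      have hq'm : q ≤ m'.val := by
        rw [h4] at h2
        exact h2
      have ht2 : t ∈ q ∨ t * y ∈ q := ht
      rcases ht2 with h5 | h5
      · exact hq'm h5
      · have e : t = t * y * y⁻¹ := by group
        rw [e]
        exact mul_mem (hq'm h5) (inv_mem (h1 hy))
    · show Nat.card m'.val ≤ Nat.card m
      rw [c8, hm'.2.2.1]

end geo

section main

variable [Finite G] {T V₁ V₂ L₁ L₂ : Subgroup G} {v₁ v₂ s : G} {I : Type*} {PP : I → Subgroup G} {i j : I}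
  (h : _root_.Cfsg.Agent.Omega.IId.One.One T V₁ V₂ L₁ L₂ v₁ v₂ s) (hnl : NonLoc (cz v₁) (cz v₂))
  (hI : ∃ x ∈ nc v₁ {v₂}, ∃ y ∈ nc v₂ {v₁}, x * y ≠ y * x) {v' w l : G} (hl : l ∈ L₁)
  (P : Plane V₁ V₂ v₁ v₂ v' w l)

include h hnl hI hl P

theorem V2_TS : (⟨V₂⟩ : Ln G) ∈ TS (cz v₁) (nc v₁ {v₂}) v₂ 4 :=
  ⟨h.vV2, h.toBase.V2_le_N1, h.card2, fun x hx => Q_zero h h.toBase hx⟩

theorem R_TS : (⟨RR v₁ v₂ l⟩ : Ln G) ∈ TS (cz v₁) (nc v₁ {v₂}) v₂ 8 :=
  ⟨P.rk.rR, P.rk.RN, P.rk.card_eq P.four, fun x hx => Q_zero_rk P.rk P.four hx⟩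

/-- `N_M(V₂)` is transitive on the totally singular planes containing `V₂`. -/
theorem move_plane {L : Ln G} (hL : L ∈ TS (cz v₁) (nc v₁ {v₂}) v₂ 8) (hVL : V₂ ≤ L.val) :
    ∃ g ∈ PM v₁ v₂ V₂, MulAut.conj g • RR v₁ v₂ l = L.val := by
  have o := P.rk.o
  have hN := P.rk.card_N P.four
  have c8 : Nat.card (RR v₁ v₂ l) = 8 := P.rk.card_eq P.four
  obtain ⟨x', hx', hx'V⟩ : ∃ x ∈ L.val, x ∉ V₂ := by
    by_contra hcon
    push Not at hcon
    have h1 := Subgroup.card_le_of_le (show L.val ≤ V₂ from hcon)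
    rw [hL.2.2.1, h.card2] at h1
    omega
  obtain ⟨x, hx, hxV⟩ : ∃ x ∈ RR v₁ v₂ l, x ∉ V₂ := by
    by_contra hcon
    push Not at hcon
    have h1 := Subgroup.card_le_of_le (show RR v₁ v₂ l ≤ V₂ from hcon)
    rw [c8, h.card2] at h1
    omega
  have hxN := P.rk.RN hx
  have hx'N := hL.2.1 hx'
  have hVR := P.V2R
  have qR : ∀ t ∈ RR v₁ v₂ l, t ∉ V₂ → x * t ∈ V₂ := fun t ht htV =>
    quo_two hVR (by rw [h.card2]; exact c8) hx ht hxV htV
  by_cases hx'R : x' ∈ RR v₁ v₂ l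
  · refine ⟨1, one_mem _, ?_⟩
    rw [map_one, one_smul]
    refine Subgroup.eq_of_le_of_card_ge (fun t ht => ?_) (by rw [hL.2.2.1]; exact c8.symm.le)
    by_cases htV : t ∈ V₂
    · exact hVL htV
    · have h1 := quo_two hVR (by rw [h.card2]; exact c8) hx'R ht hx'V htV
      have e : t = x'⁻¹ * (x' * t) := by group
      rw [e]
      exact mul_mem (inv_mem hx') (hVL h1)
  have hVN : V₂ ≤ nc v₁ {v₂} := h.toBase.V2_le_N1
  have hB : Bg (cz v₁) v₂ x x' = 1 := by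
    refine (z2 _).resolve_left fun e => hx'R (P.rk.sing P.four hx'N (fun t ht => ?_) (hL.2.2.2 x' hx'))
    have hV0 : ∀ t ∈ V₂, Bg (cz v₁) v₂ x' t = 0 := fun t ht => B_of_Q hL.2.2.2 hx' (hVL ht)
    by_cases htV : t ∈ V₂
    · exact hV0 t htV
    · have h1 := qR t ht htV
      have e2 : t = x * (x * t) := by rw [← mul_assoc, o.sq x hxN, one_mul]
      rw [e2, o.add x' hx'N x hxN _ (hVN h1), o.comm _ hx'N _ hxN, e, hV0 _ h1, add_zero]
  -- the reflection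
  have hcN := o.c_mem
  have hcc := P.rk.cc
  have hxx' : x * x' ∈ nc v₁ {v₂} := mul_mem hxN hx'N
  have hzN : x * x' * v₁ ∈ nc v₁ {v₂} := mul_mem hxx' hcN
  have hQz : Qg (cz v₁) v₂ (x * x' * v₁) = 0 := by
    rw [o.Qmulc hxx', GOrth.Q_mul, Q_zero_rk P.rk P.four hx, hL.2.2.2 x' hx', hB]
    decide
  have hBz : ∀ n ∈ nc v₁ {v₂}, Bg (cz v₁) v₂ (x * x' * v₁) n = Bg (cz v₁) v₂ x n + Bg (cz v₁) v₂ x' n := by
    intro n hn
    rw [o.add_left hxx' hcN hn, o.add_left hxN hx'N hn, o.Bc n hn, add_zero]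
  have hz1 : x * x' * v₁ ≠ 1 := fun e => by
    have h1 := hBz x hxN
    rw [e, o.comm _ (one_mem _) _ hxN, (sy_of o).one_right hxN, o.self x hxN, o.comm _ hx'N _ hxN, hB] at h1
    exact absurd h1 (by decide)
  obtain ⟨g, hg, hgn⟩ := o.refl _ hzN hz1 hQz
  have ezc : x * x' * v₁ * v₁ = x * x' := by rw [mul_assoc, hcc, mul_one]
  rw [ezc] at hgn
  have gx : g * x * g⁻¹ = x' := by
    rcases hgn x hxN with ⟨h1, -⟩ | ⟨-, h1⟩
    · rw [hBz x hxN, o.self x hxN, o.comm _ hx'N _ hxN, hB] at h1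
      exact absurd h1 (by decide)
    · rw [h1, ← mul_assoc, o.sq x hxN, one_mul]
  have gV : ∀ t ∈ V₂, g * t * g⁻¹ = t := by
    intro t ht
    rcases hgn t (hVN ht) with ⟨-, h1⟩ | ⟨h1, -⟩
    · exact h1
    · rw [hBz t (hVN ht), P.rk.iso x hx t (hVR ht), B_of_Q hL.2.2.2 hx' (hVL ht)] at h1
      exact absurd h1 (by decide)
  have hg2 : g ∈ cz v₂ := mem_cz.2 (mul_inv_eq_iff_eq_mul.1 (gV _ h.vV2))
  refine ⟨g, ⟨⟨hg, hg2⟩, ?_⟩, ?_⟩
  · apply Cfsg.Agent.MinSimple.VModule.mem_normalizer_of_map_le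
    rintro _ ⟨t, ht, rfl⟩
    show g * t * g⁻¹ ∈ V₂
    rw [gV t ht]; exact ht
  · apply Subgroup.eq_of_le_of_card_ge
    · intro t ht
      rw [mem_conj] at ht
      have e3 : t = g * (g⁻¹ * t * g) * g⁻¹ := by group
      rw [e3]
      generalize g⁻¹ * t * g = t at ht
      by_cases htV : t ∈ V₂
      · rw [gV t htV]; exact hVL htV
      · have h1 := qR t ht htV
        have e2 : t = x * (x * t) := by rw [← mul_assoc, o.sq x hxN, one_mul]
        rw [e2]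
        have e4 : g * (x * (x * t)) * g⁻¹ = g * x * g⁻¹ * (g * (x * t) * g⁻¹) := by group
        rw [e4, gx, gV _ h1]
        exact mul_mem hx' (hVL h1)
    · rw [Side.card_conj, hL.2.2.1]
      exact c8.symm.le

theorem smul_TS {g : G} (hg1 : g ∈ cz v₁) (hg2 : g ∈ cz v₂) {n : ℕ} {L : Ln G}
    (hL : L ∈ TS (cz v₁) (nc v₁ {v₂}) v₂ n) : g • L ∈ TS (cz v₁) (nc v₁ {v₂}) v₂ n := by
  have o := P.rk.o
  have hr : g * v₂ * g⁻¹ = v₂ := by rw [mem_cz.1 hg2, mul_inv_cancel_right]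
  refine ⟨?_, ?_, ?_, ?_⟩
  · rw [ln_smul, ← hr]
    exact mem_sm.2 hL.1
  · intro t ht
    rw [ln_smul, mem_conj] at ht
    have := o.nor g hg1 _ (hL.2.1 ht)
    rwa [show g * (g⁻¹ * t * g) * g⁻¹ = t by group] at this
  · rw [ln_smul, Side.card_conj]
    exact hL.2.2.1
  · intro t ht
    rw [ln_smul, mem_conj] at ht
    have h1 := o.inv g hg1 _ (hL.2.1 ht)
    rw [show g * (g⁻¹ * t * g) * g⁻¹ = t by group] at h1
    rw [h1]
    exact hL.2.2.2 _ ht

/-- the flags of the quadrangle -/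
theorem flags
    (hT : ∀ x, x ∈ T ↔ x ∈ cz v₁ ∧ x ∈ cz v₂ ∧ x ∈ normalizer (V₁ : Set G) ∧ x ∈ normalizer (V₂ : Set G))
    (hi : PP i = PM v₁ v₂ V₁) (hj : PP j = PM v₁ v₂ V₂) :
    Flags T (PP i) (PP j) (TS (cz v₁) (nc v₁ {v₂}) v₂ 4) (TS (cz v₁) (nc v₁ {v₂}) v₂ 8) inc2 ⟨V₂⟩ ⟨RR v₁ v₂ l⟩ := by
  have hM : ∀ g, g ∈ PP i ∨ g ∈ PP j → g ∈ cz v₁ ∧ g ∈ cz v₂ := by
    rintro g (hg | hg)
    · rw [hi] at hg; exact hg.1
    · rw [hj] at hg; exact hg.1
  exact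
    { hp := V2_TS h hnl hI hl P
      hl := R_TS h hnl hI hl P
      hpl := P.V2R
      Bi := by
        rw [hi]
        intro x hx
        have := (hT x).1 hx
        exact ⟨⟨this.1, this.2.1⟩, this.2.2.1⟩
      Bj := by
        rw [hj]
        intro x hx
        have := (hT x).1 hx
        exact ⟨⟨this.1, this.2.1⟩, this.2.2.2⟩
      pts := fun g hg x hx => smul_TS h hnl hI hl P (hM g hg).1 (hM g hg).2 hx
      lns := fun g hg x hx => smul_TS h hnl hI hl P (hM g hg).1 (hM g hg).2 hx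
      inc' := fun g hg x hx y hy hxy => by
        intro t ht
        rw [ln_smul, mem_conj] at ht ⊢
        exact hxy ht
      fixl := fun g hg => by
        rw [hi] at hg
        apply ln_ext
        exact conj_eq (P.nor ⟨hg.1.1, hg.2⟩)
      fixp := fun g hg => by
        rw [hj] at hg
        apply ln_ext
        exact conj_eq hg.2
      trp := fun L hL hLR => by
        obtain ⟨g, hg, e⟩ := move_line h hnl hI hl P hLR hL.2.2.1 hL.1
        exact ⟨g, by rw [hi]; exact hg, ln_ext e⟩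
      trl := fun L hL hpL => by
        obtain ⟨g, hg, e⟩ := move_plane h hnl hI hl P hL hpL
        exact ⟨g, by rw [hj]; exact hg, ln_ext e⟩
      stab := fun g hg hp hL => by
        have h1 : g ∈ cz v₁ ⊓ cz v₂ :=
          (sup_le (fun x hx => hM x (Or.inl hx)) (fun x hx => hM x (Or.inr hx)) : PP i ⊔ PP j ≤ cz v₁ ⊓ cz v₂) hg
        have h2 : g ∈ normalizer (V₂ : Set G) := mem_normalizer_of_conj (congrArg Ln.val hp)
        have h3 : g ∈ normalizer (RR v₁ v₂ l : Set G) := mem_normalizer_of_conj (congrArg Ln.val hL)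
        exact (hT g).2 ⟨h1.1, h1.2, nM h hI P h1.1 h1.2 h3, h2⟩ }

end main

end Cfsg.Agent.Omega.IId.Pf.Quad

end

section


/-!
# II.d, CASE 1, `q = 2`, case B: the system of type `F₄`

helper310.  `sysL` : `⟨C₁, C₂⟩` has a system of parabolics of type `F₄` (`FreeLoc.SysL`) with all `q i = 2` and
`B = U = T`.
-/

set_option autoImplicit false
set_option linter.unusedSectionVars false
set_option linter.unusedVariables false

namespace Cfsg.Agent.Omega.IId.Pf.Sys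

open Cfsg.Agent.Omega.TV hiding z2
open Subgroup Cfsg Cfsg.Agent.ZN Cfsg.Agent.Omega.IId.PlaneSy Cfsg.Agent.Omega.IId.PlaneRk
open Cfsg.Agent.Omega.IId.PlaneF Cfsg.Agent.Omega.IId.PlaneOf
open Cfsg.Agent.Omega.IId.One Cfsg.Agent.Omega.IId.SpSide
open Cfsg.Agent.Omega.MinPar
open Cfsg.Agent.Omega.IId.Pf.Rad Cfsg.Agent.Omega.IId.Pf.Par Cfsg.Agent.Omega.IId.Pf.Idx
open Cfsg.Agent.Omega.IId.Pf.Geo Cfsg.Agent.Omega.IId.Pf.Quad
open Cfsg.Agent.ParSys Cfsg.Agent.ParSys.Free Cfsg.Agent.ParSys.RankTwo Cfsg.Agent.ParSys.FlagGP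

universe u

variable {G : Type u} [Group G]

/-- the minimal parabolics -/
def PF (v₁ v₂ : G) (V₁ V₂ : Subgroup G) : Fin 4 → Subgroup G :=
  ![PE v₂ V₁ V₂, PM v₁ v₂ V₂, PM v₁ v₂ V₁, PE v₁ V₁ V₂]

section

variable (v₁ v₂ : G) (V₁ V₂ : Subgroup G)

end

variable [Finite G] {T V₁ V₂ L₁ L₂ : Subgroup G} {v₁ v₂ s : G}
  (h : _root_.Cfsg.Agent.Omega.IId.One.One T V₁ V₂ L₁ L₂ v₁ v₂ s) (hnl : NonLoc (cz v₁) (cz v₂))
  (hI : ∃ x ∈ nc v₁ {v₂}, ∃ y ∈ nc v₂ {v₁}, x * y ≠ y * x)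

include h hnl hI

/-- a plane on side 1 -/
theorem plane1 : ∃ v' w, ∃ l ∈ L₁, Plane V₁ V₂ v₁ v₂ v' w l := by
  obtain ⟨x, hx, hx1, hxv⟩ := exists_x h
  obtain ⟨w, l, hl, P⟩ := exists_plane h hI hx hx1 hxv
  exact ⟨x, w, l, hl, P⟩

theorem T_iff' : ∀ x, x ∈ T ↔ x ∈ cz v₁ ∧ x ∈ cz v₂ ∧ x ∈ normalizer (V₁ : Set G) ∧ x ∈ normalizer (V₂ : Set G) := by
  obtain ⟨v', w, l, hl, P⟩ := plane1 h hnl hI
  exact fun x => T_iff h hnl hI hl P

theorem le_PF : ∀ i, T ≤ PF v₁ v₂ V₁ V₂ i := by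
  have hT := T_iff' h hnl hI
  intro i
  fin_cases i
  · intro x hx
    have := (hT x).1 hx
    exact ⟨this.2.1, this.2.2⟩
  · intro x hx
    have := (hT x).1 hx
    exact ⟨⟨this.1, this.2.1⟩, this.2.2.2⟩
  · intro x hx
    have := (hT x).1 hx
    exact ⟨⟨this.1, this.2.1⟩, this.2.2.1⟩
  · intro x hx
    have := (hT x).1 hx
    exact ⟨this.1, this.2.2⟩

theorem PF_le : ∀ i, PF v₁ v₂ V₁ V₂ i ≤ cz v₁ ⊔ cz v₂ := by
  intro i
  fin_cases i
  · exact inf_le_left.trans le_sup_right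
  · exact (inf_le_left.trans inf_le_left).trans le_sup_left
  · exact (inf_le_left.trans inf_le_left).trans le_sup_left
  · exact inf_le_left.trans le_sup_left

theorem gen_PF : cz v₁ ⊔ cz v₂ ≤ ⨆ i, PF v₁ v₂ V₁ V₂ i := by
  obtain ⟨v', w, l, hl, P⟩ := plane1 h hnl hI
  have o₁ := P.rk.o
  have o₂ := h.symm.orth (One.hI_symm hI)
  have hi : ∀ i, PF v₁ v₂ V₁ V₂ i ≤ ⨆ i, PF v₁ v₂ V₁ V₂ i := fun i => le_iSup (fun i => PF v₁ v₂ V₁ V₂ i) i
  have hM : cz v₁ ⊓ cz v₂ ≤ ⨆ i, PF v₁ v₂ V₁ V₂ i :=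
    (gen_M h hnl hI hl P).trans (sup_le (hi 2) (hi 1))
  have hL2 : L₂ ≤ ⨆ i, PF v₁ v₂ V₁ V₂ i := (L2_PE h.toBase).trans (hi 3)
  have hL1 : L₁ ≤ ⨆ i, PF v₁ v₂ V₁ V₂ i := by
    refine le_trans ?_ (hi 0)
    have := L2_PE h.toBase.symm
    rwa [PE_comm] at this
  refine sup_le ((gen h o₁).trans (sup_le hM hL2)) ((gen h.symm o₂).trans (sup_le ?_ hL1))
  rw [inf_comm]
  exact hM

theorem card_PF : ∀ i, T.relIndex (PF v₁ v₂ V₁ V₂ i) = 3 := by
  obtain ⟨v', w, l, hl, P⟩ := plane1 h hnl hI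
  obtain ⟨v'', w', l', hl', P'⟩ := plane1 h.symm hnl.symm (One.hI_symm hI)
  intro i
  fin_cases i
  · have := idx_PE h.symm hnl.symm (One.hI_symm hI) hl' P'
    rwa [PE_comm] at this
  · have := idx_PM h.symm hnl.symm (One.hI_symm hI) hl' P'
    rwa [PM_comm] at this
  · exact idx_PM h hnl hI hl P
  · exact idx_PE h hnl hI hl P

/-- the rank two residues -/
theorem gp_PF : ∀ i j, i ≠ j → GPp T (PF v₁ v₂ V₁ V₂) i j (CoxeterMatrix.F₄ i j) := by
  obtain ⟨v', w, l, hl, P⟩ := plane1 h hnl hI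
  obtain ⟨v'', w', l', hl', P'⟩ := plane1 h.symm hnl.symm (One.hI_symm hI)
  have hT := T_iff' h hnl hI
  have hT' : ∀ x, x ∈ T ↔ x ∈ cz v₂ ∧ x ∈ cz v₁ ∧ x ∈ normalizer (V₂ : Set G) ∧ x ∈ normalizer (V₁ : Set G) := by
    intro x
    rw [hT x]
    (clear * -; tauto)
  have hBP := le_PF h hnl hI
  have g01 := plane_gp h.symm hnl.symm (One.hI_symm hI) hl' P' hT' (i := (0 : Fin 4)) (j := 1) (PP := PF v₁ v₂ V₁ V₂)
    (by decide) hBP (PE_comm _ _ _).symm (PM_comm _ _ _).symm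
  have g32 := plane_gp h hnl hI hl P hT (i := (3 : Fin 4)) (j := 2) (PP := PF v₁ v₂ V₁ V₂) (by decide) hBP rfl rfl
  have F := Quad.flags h hnl hI hl P hT (i := (2 : Fin 4)) (j := 1) (PP := PF v₁ v₂ V₁ V₂) rfl rfl
  have g21 := F.gpp_four hBP (by decide)
    (fun p hp p' hp' hpp l hl l' hl' h1 h2 h3 h4 => pu P.rk.o hp hp' hpp hl hl' h1 h2 h3 h4)
    (fun p hp l hl hpl => quad_q P.rk.o h.v2 (P.rk.card_N P.four) hp hl hpl)
  have g03 := digon_E h.toBase hT (i := (0 : Fin 4)) (j := 3) (PP := PF v₁ v₂ V₁ V₂) hBP rfl rfl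
  have g13 := digon_M h.toBase hT (i := (1 : Fin 4)) (j := 3) (PP := PF v₁ v₂ V₁ V₂) hBP rfl rfl
  have g20 := digon_M h.toBase.symm hT' (i := (2 : Fin 4)) (j := 0) (PP := PF v₁ v₂ V₁ V₂) hBP
    (PM_comm _ _ _).symm (PE_comm _ _ _).symm
  intro i j hij
  fin_cases i <;> fin_cases j
  · exact absurd rfl hij
  · exact g01.1
  · exact g20.2
  · exact g03.1
  · exact g01.2
  · exact absurd rfl hij
  · exact g21.2
  · exact g13.1
  · exact g20.1
  · exact g21.1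
  · exact absurd rfl hij
  · exact g32.2
  · exact g03.2
  · exact g13.2
  · exact g32.1
  · exact absurd rfl hij

/-- a 2-group normalised by `⟨C₁, C₂⟩` is trivial -/
theorem core {g : G} (hg : g ∈ T) (hc : ∀ x ∈ cz v₁ ⊔ cz v₂, x⁻¹ * g * x ∈ T) : g = 1 := by
  set G₀ := cz v₁ ⊔ cz v₂ with hG₀
  let U : Subgroup G := _root_.Subgroup.closure {y | ∃ x ∈ G₀, y = x⁻¹ * g * x}
  have hU : U ≤ T := by
    rw [closure_le]
    rintro _ ⟨x, hx, rfl⟩
    exact hc x hx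
  have hn : G₀ ≤ normalizer (U : Set G) := by
    intro k hk
    apply Cfsg.Agent.MinSimple.VModule.mem_normalizer_of_map_le
    rw [MonoidHom.map_closure, closure_le]
    rintro _ ⟨y, ⟨x, hx, rfl⟩, rfl⟩
    refine _root_.Subgroup.subset_closure ⟨x * k⁻¹, mul_mem hx (inv_mem hk), ?_⟩
    show k * (x⁻¹ * g * x) * k⁻¹ = _
    group
  have h1 := hnl U (h.pT.to_le hU) (le_sup_left.trans hn) (le_sup_right.trans hn)
  have h2 : g ∈ U := subset_closure ⟨1, one_mem _, by group⟩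
  rwa [h1, mem_bot] at h2

/-- **The system of type `F₄`.** -/
theorem sysL : FreeLoc.SysL CoxeterMatrix.F₄.toCoxeterSystem (T.subgroupOf (cz v₁ ⊔ cz v₂))
    (fun i => (PF v₁ v₂ V₁ V₂ i).subgroupOf (cz v₁ ⊔ cz v₂)) (T.subgroupOf (cz v₁ ⊔ cz v₂)) (fun _ => 2) := by
  have hBP := le_PF h hnl hI
  have hPG := PF_le h hnl hI
  have hc3 := card_PF h hnl hI
  have hle : ∀ i, T.subgroupOf (cz v₁ ⊔ cz v₂) ≤ (PF v₁ v₂ V₁ V₂ i).subgroupOf (cz v₁ ⊔ cz v₂) := fun i x hx => hBP i hx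
  have hidx : ∀ i, (T.subgroupOf (cz v₁ ⊔ cz v₂)).relIndex ((PF v₁ v₂ V₁ V₂ i).subgroupOf (cz v₁ ⊔ cz v₂)) = 3 := by
    intro i
    rw [relIndex_subgroupOf (hPG i), hc3 i]
  refine
    { le := hle
      gen := ?_
      gp := ?_
      card := hidx
      two := fun i => le_rfl
      U_le := le_rfl
      pan := ?_
      clo := fun i g hg x hx hgx => hgx
      core := ?_ }
  · have h1 := gen_PF h hnl hI
    apply Subgroup.map_injective (cz v₁ ⊔ cz v₂).subtype_injective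
    rw [Subgroup.map_iSup, ← MonoidHom.range_eq_map, Subgroup.range_subtype]
    apply le_antisymm
    · refine iSup_le fun i => ?_
      rw [subgroupOf_map_subtype]
      exact inf_le_right
    · refine h1.trans (iSup_le fun i => ?_)
      refine le_trans ?_ (le_iSup _ i)
      rw [subgroupOf_map_subtype]
      exact le_inf le_rfl (hPG i)
  · rw [gp_iff]
    intro i j hij
    exact gpp_restrict hBP hPG (gp_PF h hnl hI i j hij)
  · intro i g hg x hx hxB hgx y hy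
    exact pan_three (P := fun i => (PF v₁ v₂ V₁ V₂ i).subgroupOf (cz v₁ ⊔ cz v₂)) (hle i) (hidx i) hg hx hxB hgx hy
  · intro g hg hx
    apply Subtype.ext
    exact core h hnl hI hg fun x hxG => hx ⟨x, hxG⟩

end Cfsg.Agent.Omega.IId.Pf.Sys

end

end

private theorem dce_3a4a3d691ae3 : _root_.True := by
  try have : _root_.True := by simp only [_root_.Cfsg.Agent.Omega.IId.Pf.Rad.XX.eq_1]
  exact _root_.True.intro
end

-- part: Mrg/Omega/IId/CaseA
section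
set_option linter.all false
open scoped Cfsg.Agent.FastGrp


/-!
# II.d, `q = 2`, CASE 1, case A : `[N₁, N₂] = 1` is impossible

helper64 (bb #14186, #14872; #12430 (A)).  `N₁ = nc v₁ {v₂}`, `N₂ = nc v₂ {v₁}`.

* `One.allTv` : every transvection of `N₁` is induced by `C(v₁)` (the hyperbolic line is excluded by `n1`);
* `One.caseA` : `One`, `NonLoc (C(v₁)) (C(v₂))` and `[N₁, N₂] = 1` are contradictory.
-/

set_option autoImplicit false
set_option linter.dupNamespace false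
set_option linter.unusedSectionVars false

namespace Cfsg.Agent.Omega.IId.One

open Subgroup Cfsg Cfsg.Agent.ZN Cfsg.Agent.ZN.ChoiceBase
open Cfsg.Agent.Omega.TV Cfsg.Agent.Omega.MinPar Cfsg.Agent.Omega.IId.CaseA
open Cfsg.Agent.Omega.IId.Two (le_normalizer_of)

universe u

variable {G : Type u} [Group G] [Finite G] {T V₁ V₂ L₁ L₂ : Subgroup G} {v₁ v₂ s : G}

namespace Base

variable (h : Base T V₁ V₂ L₁ L₂ v₁ v₂ s)
include h

/-- a normal 2-subgroup of `M` centralizing `N₂` lies in `O₂(C(v₂))` -/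
theorem le_Q2 {X : Subgroup G} (hX : IsPGroup 2 X) (hX2 : X ≤ cz v₂) (hM : cz v₁ ⊓ cz v₂ ≤ normalizer (X : Set G))
    (hc : ∀ x ∈ X, ∀ y ∈ nc v₂ {v₁}, x * y = y * x) : X ≤ ZN.o2 (cz v₂) := by
  set F := cz v₂ ⊓ centralizer (nc v₂ {v₁} : Set G) with hF
  have hXF : X ≤ F := le_inf hX2 fun x hx => mem_centralizer_iff.2 fun y hy => (hc x hx y hy).symm
  have hFM : F ≤ cz v₁ ⊓ cz v₂ := by
    have := h.symm.F1_le
    rwa [inf_comm (cz v₂) (cz v₁)] at this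
  have h1 : X ≤ ZN.o2 F := ZN.le_o2 hXF hX (hFM.trans hM)
  have h2 : ZN.o2 F ≤ ZN.o2 (cz v₂) := ZN.le_o2 ((ZN.o2_le F).trans inf_le_left) (ZN.isPGroup_o2 F)
    (h.symm.F1_norm.trans (ZN.normalizer_le_normalizer_o2 F))
  exact h1.trans h2

theorem N1_le_Q2 (hcom : ∀ x ∈ nc v₁ {v₂}, ∀ y ∈ nc v₂ {v₁}, x * y = y * x) :
    nc v₁ {v₂} ≤ ZN.o2 (cz v₂) :=
  h.le_Q2 (h.pT.to_le h.N1_le_T) (h.N1_le_T.trans h.T_le2) (inf_le_left.trans (le_normalizer_nc _ _)) hcom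

end Base

namespace One

variable (h : One T V₁ V₂ L₁ L₂ v₁ v₂ s)
include h

theorem hcom_symm (hcom : ∀ x ∈ nc v₁ {v₂}, ∀ y ∈ nc v₂ {v₁}, x * y = y * x) :
    ∀ x ∈ nc v₂ {v₁}, ∀ y ∈ nc v₁ {v₂}, x * y = y * x := fun x hx y hy => (hcom y hy x hx).symm

theorem tvKk (hcom : ∀ x ∈ nc v₁ {v₂}, ∀ y ∈ nc v₂ {v₁}, x * y = y * x) {k n : G} (hk : k ∈ Kk v₂)
    (hn : n ∈ nc v₁ {v₂}) : k * n * k⁻¹ = n ∨ k * n * k⁻¹ = n * v₂ := by
  rcases Kk_conj h.vq2 hk (h.N1_le_Q2 hcom hn) with e | e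
  · exact Or.inl e
  · right
    rw [e]
    exact h.N1_comm h.v2_mem_N1 hn

/-- every transvection of `N₁` is induced by `C(v₁)` -/
theorem allTv (hcom : ∀ x ∈ nc v₁ {v₂}, ∀ y ∈ nc v₂ {v₁}, x * y = y * x) :
    AllTv (cz v₁) (nc v₁ {v₂}) := by
  obtain ⟨w, hw, u, hu, hwu⟩ := h.k2
  have hu1 : u ≠ 1 := by rintro rfl; exact hwu (by simp)
  have hu2 : u ≠ v₂ := by
    rintro rfl
    exact hwu (mem_cz.1 (Kk_le _ hw))
  obtain ⟨l, hl, hlu⟩ := h.t2 v₂ h.vV2 h.v2 u hu hu1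
  have hmov : w * u * w⁻¹ ≠ u := fun e => hwu (mul_inv_eq_iff_eq_mul.1 e)
  have hv1c : ∀ c ∈ cz v₁, c * v₁ * c⁻¹ = v₁ := fun c hc => by rw [mem_cz.1 hc, mul_inv_cancel_right]
  rcases h.gsys.dich (h.symm.Kk_le_T.trans h.T_le hw) (fun n hn => h.tvKk hcom hw hn)
      ⟨l, h.L2_le hl, hlu.symm⟩ hmov h.pT (fun x hx => by rw [h.Tv2 x hx, mul_inv_cancel_right])
      (fun x hx => h.symm.T_conj1 hx hu) h.T_le (fun n hn hfix => by
        have hfix' : ∀ t ∈ T, t * n = n * t := fun t ht => mul_inv_eq_iff_eq_mul.1 (hfix t ht)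
        rcases h.N1_fix hn hfix' with e | e | e | e
        · exact ⟨1, one_mem _, fun c _ => by simp, Or.inl e⟩
        · exact ⟨v₁, by rw [e] at hn; exact hn, hv1c, Or.inl e⟩
        · exact ⟨1, one_mem _, fun c _ => by simp, Or.inr (by rw [e, mul_one])⟩
        · refine ⟨v₁, ?_, hv1c, Or.inr (by rw [e, h.vc])⟩
          have h1 := mul_mem hn h.v2_mem_N1
          rwa [e, mul_assoc, h.vq2, mul_one] at h1)
    with h1 | h1
  · exfalso
    apply h.n1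
    have hle : nc v₁ {v₂} ≤ V₂ := by
      intro x hx
      rcases h1 x hx with rfl | rfl | rfl | rfl
      · exact one_mem _
      · exact h.vV2
      · exact hu
      · exact mul_mem h.vV2 hu
    have heq : nc v₁ {v₂} = V₂ := le_antisymm hle h.V2_le_N1
    have := le_normalizer_nc v₁ {v₂}
    rwa [heq] at this
  · exact h1

/-- `N₂ ≤ Kk v₁` -/
theorem N2_le_Kk (hcom : ∀ x ∈ nc v₁ {v₂}, ∀ y ∈ nc v₂ {v₁}, x * y = y * x) : nc v₂ {v₁} ≤ Kk v₁ := by
  have h2 := h.symm.allTv (h.hcom_symm hcom)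
  obtain ⟨w, hw, r, hr, hwr⟩ := h.k1
  have hr1 : r ≠ 1 := by rintro rfl; exact hwr (by simp)
  have hr2 : r ≠ v₁ := by rintro rfl; exact hwr (mem_cz.1 (Kk_le _ hw))
  have hsq : ∀ x ∈ nc v₂ {v₁}, x * x = 1 := fun x hx => h.symm.N1_sq hx
  intro y hy
  by_cases hy1 : y = 1
  · rw [hy1]; exact one_mem _
  by_cases hy2 : y = v₁
  · rw [hy2]; exact h.V1_le_Kk h.vV1
  obtain ⟨t, ht, e1, e2⟩ := move hsq h2 (U := one2 v₁ h.vq1) (by
    rintro g hg
    rcases mem_one2.1 hg with rfl | rfl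
    exacts [one_mem _, h.symm.v2_mem_N1]) (h.V1_le_N2 hr) hy (fun e => (mem_one2.1 e).elim hr1 hr2)
    (fun e => (mem_one2.1 e).elim hy1 hy2)
  have ht1 : t ∈ cz v₁ := mem_cz.2 (mul_inv_eq_iff_eq_mul.1 (e1 v₁ (mem_one2.2 (Or.inr rfl))))
  rw [← e2]
  exact (mem_normalizer_iff.1 (le_normalizer_Kk v₁ ht1) r).1 (h.V1_le_Kk hr)

theorem half (hnl : NonLoc (cz v₁) (cz v₂))
    (hcom : ∀ x ∈ nc v₁ {v₂}, ∀ y ∈ nc v₂ {v₁}, x * y = y * x) :
    Half (cz v₁) (cz v₂) (nc v₁ {v₂}) (nc v₂ {v₁}) (Kk v₂) v₁ v₂ := by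
  have hN2 := h.N2_le_Kk hcom
  refine
    { sqN := fun x hx => h.N1_sq hx
      sqB := fun x hx => h.symm.N1_sq hx
      tvN := h.allTv hcom
      tvB := h.symm.allTv (h.hcom_symm hcom)
      norN := fun c hc n hn => (mem_normalizer_iff.1 (le_normalizer_nc v₁ _ hc) n).1 hn
      norB := fun c hc n hn => (mem_normalizer_iff.1 (le_normalizer_nc v₂ _ hc) n).1 hn
      v₂N := h.v2_mem_N1
      v₁B := h.symm.v2_mem_N1
      ne₁ := h.v1
      ne₂ := h.v2
      C₁ := fun c hc => by rw [mem_cz.1 hc, mul_inv_cancel_right]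
      D₂ := fun c hc => by rw [mem_cz.1 hc, mul_inv_cancel_right]
      CD := fun c _ e => mem_cz.2 (mul_inv_eq_iff_eq_mul.1 e)
      DC := fun c _ e => mem_cz.2 (mul_inv_eq_iff_eq_mul.1 e)
      KC := h.symm.Kk_le_T.trans h.T_le
      KD := Kk_le v₂
      norK := fun d hd k hk => (mem_normalizer_iff.1 (le_normalizer_Kk v₂ hd) k).1 hk
      cenK := ?_
      tvK := fun k hk n hn => h.tvKk hcom hk hn
      movK := ?_
      comm := ?_
      hJ := ?_
      nl := ?_ }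
  · intro k hk b hb
    rw [h.symm.Q_N1 (h.symm.Kk_le_Q hk) hb, mul_inv_cancel_right]
  · obtain ⟨w, hw, u, hu, hwu⟩ := h.k2
    exact ⟨w, hw, u, h.V2_le_N1 hu, fun e => hwu (mul_inv_eq_iff_eq_mul.1 e)⟩
  · intro c hc b hb b' hb'
    have h1 : c * b' * c⁻¹ ∈ ZN.o2 (cz v₁) :=
      h.Kk_le_Q ((mem_normalizer_iff.1 (le_normalizer_Kk v₁ hc) b').1 (hN2 hb'))
    rcases Kk_conj h.vq1 (hN2 hb) h1 with e | e
    · exact Or.inl (mul_inv_eq_iff_eq_mul.1 e)
    · right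
      have e1 := mul_inv_eq_iff_eq_mul.1 e
      have e2 : v₁ * (c * b' * c⁻¹) = c * b' * c⁻¹ * v₁ := (mem_cz.1 (ZN.o2_le _ h1)).symm
      have e3 : v₁ * b = b * v₁ := (mem_cz.1 ((Kk_le v₁) (hN2 hb))).symm
      rw [e1, e2, mul_assoc (c * b' * c⁻¹) v₁ b, e3, ← mul_assoc]
  · obtain ⟨w, hw, r, hr, hwr⟩ := h.k1
    have hr1 : r ≠ 1 := by rintro rfl; exact hwr (by simp)
    have hr2 : r ≠ v₁ := by rintro rfl; exact hwr (mem_cz.1 (Kk_le _ hw))
    obtain ⟨w', hw', u, hu, hwu⟩ := h.k2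
    have hu1 : u ≠ 1 := by rintro rfl; exact hwu (by simp)
    have hu2 : u ≠ v₂ := by rintro rfl; exact hwu (mem_cz.1 (Kk_le _ hw'))
    obtain ⟨l, hl, hlu⟩ := h.t2 v₂ h.vV2 h.v2 u hu hu1
    refine ⟨l, h.L2_le hl, by rwa [hlu], r, h.V1_le_N2 hr, hr1, hr2, ?_⟩
    have : l⁻¹ * r * l = r := by
      rw [mul_assoc, ← h.L21 l hl r hr, inv_mul_cancel_left]
    rw [this]
    exact h.V1_le_N2 hr
  · by_contra hcon
    push Not at hcon
    have h1 : nc v₂ {v₁} = ⊥ := by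
      refine hnl _ (h.pT.to_le h.symm.N1_le_T) ?_ (le_normalizer_nc v₂ {v₁})
      exact le_normalizer_of hcon
    have h2 := h.symm.v2_mem_N1
    rw [h1, mem_bot] at h2
    exact h.v1 h2

/-- **CASE A** : `[N₁, N₂] = 1` is impossible. -/
theorem caseA (hnl : NonLoc (cz v₁) (cz v₂))
    (hcom : ∀ x ∈ nc v₁ {v₂}, ∀ y ∈ nc v₂ {v₁}, x * y = y * x) : False := by
  have hcom' := h.hcom_symm hcom
  have h1 := h.half hnl hcom
  have h2 := h.symm.half hnl.symm hcom'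
  have hinf : nc v₁ {v₂} ⊓ nc v₂ {v₁} = ⊥ := by
    by_contra hne
    have hz : v₁ * v₂ ∈ nc v₁ {v₂} ⊓ nc v₂ {v₁} := by
      apply h.z_mem (X := nc v₁ {v₂} ⊓ nc v₂ {v₁})
      · exact inf_le_left.trans h.N1_le_T
      · exact fun t ht x hx => Subgroup.mem_inf.2 ⟨h.T_N1 ht hx.1, h.T_N2 ht hx.2⟩
      · exact fun x hx => Subgroup.mem_inf.2 ⟨h.s_N2 hx.2, h.s_N1 hx.1⟩
      · exact fun x hx => h.N1_sq hx.1
      · exact hne
    have hv1 : v₁ ∈ nc v₁ {v₂} := by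
      have h3 := mul_mem hz.1 h.v2_mem_N1
      rwa [mul_assoc, h.vq2, mul_one] at h3
    obtain ⟨c, hc, e⟩ := h1.ex hv1 h.v1
    apply h.ne
    have h4 := h1.C₁ _ (inv_mem hc)
    rw [← e] at h4
    have h5 : c⁻¹ * (c * v₂ * c⁻¹) * c⁻¹⁻¹ = v₂ := by group
    rw [h5] at h4
    rw [← e, ← h4]
  have hN : ∀ g ∈ nc v₁ {v₂}, g ∈ nc v₂ {v₁} → g = 1 := fun g hg hg' => by
    have : g ∈ nc v₁ {v₂} ⊓ nc v₂ {v₁} := Subgroup.mem_inf.2 ⟨hg, hg'⟩
    rwa [hinf, mem_bot] at this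
  have hN2 := h.N2_le_Kk hcom
  have hN1 := h.symm.N2_le_Kk hcom'
  refine h1.false h2 hN hN1 hN2 ?_
  intro hW c hc b hb k hk
  -- `W₁ ≤ Q₂`
  have hWle : nc v₁ (nc v₂ {v₁} : Set G) ≤ ZN.o2 (cz v₂) := by
    have hK : nc v₁ (nc v₂ {v₁} : Set G) ≤ Kk v₁ := nc_le hN2 (le_normalizer_Kk v₁)
    have hT := hK.trans h.Kk_le_T
    refine h.le_Q2 (h.pT.to_le hT) (hT.trans h.T_le2) (inf_le_left.trans (le_normalizer_nc _ _)) ?_
    intro x hx y hy
    have h3 : nc v₁ (nc v₂ {v₁} : Set G) ≤ cz y := by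
      rw [nc, closure_le]
      rintro _ ⟨g, hg, a, ha, rfl⟩
      exact mem_cz.2 (mul_inv_eq_iff_eq_mul.1 (hW g hg a ha y hy))
    exact mem_cz.1 (h3 hx)
  have h4 : c * b * c⁻¹ ∈ ZN.o2 (cz v₂) := hWle (conj_mem_nc hc hb)
  rcases Kk_conj h.vq2 hk h4 with e | e
  · exact Or.inl e
  · right
    rw [e]
    exact (mem_cz.1 (ZN.o2_le _ h4)).symm

end One

end Cfsg.Agent.Omega.IId.One
end

-- part: Mrg/Omega/EDel/QP
section
prune_inst 0x400000
set_option linter.all false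
open scoped Cfsg.Agent.FastGrp


/-!
# (E), light blocks: `Y = K D` without FF-blocks of `K B` (helper557's LEMMA G'' #23477; helper164 #24003)

* `exists_orbit_prod` : the product over the `X'`-orbit of `a ∈ C_W(T)`, `T` Sylow in `X'`;
* `lemG` : **LEMMA G''**: `B` Sylow in `D`, `W ≤ B` elementary abelian normal in `Y = ⟨D, L⟩`, `C_W(B) ≤ Z ≤ W`,
  `K ⊴ Y`, `L` normalises `B ∩ K`: then `Y` normalises `K ∩ D`;
* `moves_of` : if some subgroup of `K ∩ D` moves a conjugate of `Z`, then `L` does not normalise `B ∩ K`.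
-/

set_option autoImplicit false

namespace Cfsg.Agent.Omega.EDel.QP

open Subgroup Cfsg Cfsg.Agent.ZN.ChoiceBase Cfsg.Agent.ZN.ChoiceSit
open Cfsg.Agent.Omega.OM

universe u

variable {G : Type u} [Group G] [Finite G]

/-- an element of `P - N` central in `S` modulo `N` -/
theorem exists_central_mod {S P N : Subgroup G} (hS : IsPGroup 2 S) (hPS : P ≤ S)
    (hn : ∀ s ∈ S, ∀ p ∈ P, s * p * s⁻¹ ∈ P) (hN : ∀ s ∈ S, ∀ p ∈ N, s * p * s⁻¹ ∈ N)
    {y : G} (hy : y ∈ P) (hyN : y ∉ N) :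
    ∃ u ∈ P, u ∉ N ∧ ∀ s ∈ S, u⁻¹ * (s * u * s⁻¹) ∈ N := by
  have : Fact (Nat.Prime 2) := ⟨Nat.prime_two⟩
  let Z : Subgroup S := N.subgroupOf S
  have hZn : Z.Normal := by
    refine ⟨fun x hx g => ?_⟩
    rw [mem_subgroupOf] at hx ⊢
    exact hN g g.2 x hx
  have : (P.subgroupOf S).Normal := by
    refine ⟨fun x hx g => ?_⟩
    rw [mem_subgroupOf] at hx ⊢
    exact hn g g.2 x hx
  let π : S →* (S ⧸ Z) := QuotientGroup.mk' Z
  have hπs : Function.Surjective π := QuotientGroup.mk'_surjective Z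
  have hNor : ((P.subgroupOf S).map π).Normal := Subgroup.Normal.map inferInstance π hπs
  have hpi1 : ∀ x : S, π x = 1 ↔ (x : G) ∈ N := fun x => by
    show (QuotientGroup.mk' Z) x = 1 ↔ _
    rw [← MonoidHom.mem_ker, QuotientGroup.ker_mk', mem_subgroupOf]
  have hne : (P.subgroupOf S).map π ≠ ⊥ := by
    intro hb
    have h1 : π ⟨y, hPS hy⟩ ∈ (P.subgroupOf S).map π := mem_map_of_mem _ (by rw [mem_subgroupOf]; exact hy)
    rw [hb, mem_bot, hpi1] at h1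
    exact hyN h1
  have hp : IsPGroup 2 (S ⧸ Z) := hS.to_quotient Z
  have : Group.IsNilpotent (S ⧸ Z) := hp.isNilpotent
  have h1 := Cfsg.Agent.Lib.NormalAbelian.normal_inf_center_ne_bot ((P.subgroupOf S).map π) hne
  rw [Ne, Subgroup.eq_bot_iff_forall] at h1
  push Not at h1
  obtain ⟨w, hx, hj1⟩ := h1
  obtain ⟨⟨u, huP, hu⟩, hwc⟩ := hx
  have hwc' : ∀ g, g * w = w * g := mem_center_iff.1 hwc
  refine ⟨u, by simpa [mem_subgroupOf] using huP, ?_, ?_⟩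
  · intro h
    apply hj1
    rw [← hu, hpi1]
    exact h
  · intro s hs
    have h3 : π (u⁻¹ * (⟨s, hs⟩ * u * ⟨s, hs⟩⁻¹) : S) = 1 := by
      rw [map_mul, map_mul, map_mul, map_inv, map_inv, hu, hwc']
      group
    rw [hpi1] at h3
    simpa using h3

/-- The product over the `X`-orbit of `a`. -/
theorem exists_orbit_prod {W X T B : Subgroup G} (hWc : ∀ x ∈ W, ∀ y ∈ W, x * y = y * x)
    (hW2 : ∀ x ∈ W, x * x = 1) (hXW : ∀ x ∈ X, ∀ w ∈ W, x * w * x⁻¹ ∈ W) (hTX : T ≤ X)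
    (hodd : ¬ 2 ∣ T.relIndex X) {a : G} (ha : a ∈ W) (haT : ∀ t ∈ T, t * a * t⁻¹ = a)
    (hBX : ∀ b ∈ B, ∀ x ∈ X, b * x * b⁻¹ ∈ X) (hBW : ∀ b ∈ B, ∀ w ∈ W, b * w * b⁻¹ ∈ W)
    (hab : ∀ b ∈ B, ∀ x ∈ X, x * (a⁻¹ * (b * a * b⁻¹)) * x⁻¹ = a⁻¹ * (b * a * b⁻¹)) :
    ∃ s ∈ W, (∀ x ∈ X, x * s * x⁻¹ = s) ∧ ∀ b ∈ B, b * (a * s) * b⁻¹ = a * s := by
  classical
  let cg : CommGroup W := { (inferInstance : Group W) with
    mul_comm := fun x y => Subtype.ext (hWc x x.2 y y.2) }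
  have : Finite W := inferInstance
  let act : MulDistribMulAction X W :=
    { smul := fun x w => ⟨(x : G) * w * (x : G)⁻¹, hXW x x.2 w w.2⟩
      one_smul := fun w => Subtype.ext (by change ((1 : X) : G) * w * ((1 : X) : G)⁻¹ = w; simp)
      mul_smul := fun x y w => Subtype.ext (by
        change ((x * y : X) : G) * w * ((x * y : X) : G)⁻¹ = x * (y * w * (y : G)⁻¹) * (x : G)⁻¹
        rw [Subgroup.coe_mul]; group)
      smul_one := fun x => Subtype.ext (by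
        change (x : G) * ((1 : W) : G) * (x : G)⁻¹ = ((1 : W) : G); simp)
      smul_mul := fun x v w => Subtype.ext (by
        change (x : G) * ((v * w : W) : G) * (x : G)⁻¹ = (x * v * (x : G)⁻¹) * (x * w * (x : G)⁻¹)
        rw [Subgroup.coe_mul]; group) }
  have hsm : ∀ (x : X) (w : W), ((x • w : W) : G) = x * w * (x : G)⁻¹ := fun _ _ => rfl
  set a' : W := ⟨a, ha⟩ with ha'
  have hfin : (MulAction.orbit X a').Finite := Set.toFinite _
  let Om : Finset W := hfin.toFinset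
  have hOm : ∀ w : W, w ∈ Om ↔ w ∈ MulAction.orbit X a' := fun w => Set.Finite.mem_toFinset _
  have hcard : ¬ 2 ∣ Om.card := by
    intro h2
    apply hodd
    have h3 : Om.card = (MulAction.stabilizer X a').index := by
      rw [MulAction.index_stabilizer, Set.ncard_eq_toFinset_card _ hfin]
    rw [h3] at h2
    refine h2.trans ?_
    have h4 : T.subgroupOf X ≤ MulAction.stabilizer X a' := by
      intro t ht
      rw [MulAction.mem_stabilizer_iff]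
      exact Subtype.ext (haT t (mem_subgroupOf.1 ht))
    exact index_dvd_of_le h4
  let s : W := ∏ w ∈ Om, w
  have hs2 : ∀ w : W, w ^ 2 = 1 := fun w => Subtype.ext (by
    change (w : G) ^ 2 = 1
    rw [pow_two]; exact hW2 w w.2)
  -- a map permuting `Om` fixes the product
  have hperm : ∀ ψ : W → W, Function.Injective ψ → (∀ w ∈ Om, ψ w ∈ Om) → ∏ w ∈ Om, ψ w = s := by
    intro ψ hψ hm
    have h1 : Om.image ψ = Om := Finset.eq_of_subset_of_card_le (Finset.image_subset_iff.2 hm)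
      (by rw [Finset.card_image_of_injective _ hψ])
    have h2 : ∏ w ∈ Om.image ψ, w = ∏ w ∈ Om, ψ w :=
      Finset.prod_image (f := fun w : W => w) fun x _ y _ e => hψ e
    rw [← h2, h1]
  refine ⟨s, s.2, fun x hx => ?_, fun b hb => ?_⟩
  · have h1 : (⟨x, hx⟩ : X) • s = s := by
      have h2 : (⟨x, hx⟩ : X) • s = ∏ w ∈ Om, (⟨x, hx⟩ : X) • w := Finset.smul_prod'
      rw [h2]
      refine hperm _ (MulAction.injective _) fun w hw => ?_
      rw [hOm] at *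
      exact (MulAction.mem_orbit_of_mem_orbit _ hw)
    exact congrArg Subtype.val h1
  · -- `ψ w = b w b⁻¹`
    let ψ : W →* W :=
      { toFun := fun w => ⟨b * w * b⁻¹, hBW b hb w w.2⟩
        map_one' := Subtype.ext (by change b * ((1 : W) : G) * b⁻¹ = ((1 : W) : G); simp)
        map_mul' := fun v w => Subtype.ext (by
          change b * ((v * w : W) : G) * b⁻¹ = (b * v * b⁻¹) * (b * w * b⁻¹)
          rw [Subgroup.coe_mul]; group) }
    have hψ : ∀ w : W, ((ψ w : W) : G) = b * w * b⁻¹ := fun _ => rfl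
    have hψi : Function.Injective ψ := fun v w e => Subtype.ext (by
      have h1 : b * (v : G) * b⁻¹ = b * w * b⁻¹ := congrArg Subtype.val e
      exact mul_left_cancel (mul_right_cancel h1))
    let z : W := a'⁻¹ * ψ a'
    have hz : ∀ x : X, x • z = z := fun x => Subtype.ext (hab b hb x x.2)
    have h1 : ∏ w ∈ Om, z⁻¹ * ψ w = s := by
      refine hperm _ (fun v w e => hψi (mul_left_cancel e)) fun w hw => ?_
      rw [hOm] at *
      obtain ⟨x, rfl⟩ := hw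
      refine ⟨⟨b * x * b⁻¹, hBX b hb x x.2⟩, ?_⟩
      set x' : X := ⟨b * x * b⁻¹, hBX b hb x x.2⟩ with hx'
      have h2 : x' • ψ a' = ψ (x • a') := Subtype.ext (by
        change (b * x * b⁻¹) * (b * a * b⁻¹) * (b * x * b⁻¹)⁻¹ = b * (x * a * (x : G)⁻¹) * b⁻¹
        group)
      have h3 : x' • (z⁻¹ * ψ a') = z⁻¹ * ψ (x • a') := by
        rw [smul_mul', smul_inv', hz, h2]
      have h4 : z⁻¹ * ψ a' = a' := by
        change (a'⁻¹ * ψ a')⁻¹ * ψ a' = a'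
        rw [mul_inv_rev, inv_inv, mul_assoc, mul_comm a', inv_mul_cancel_left]
      rw [h4] at h3
      exact h3
    have h2 : ∏ w ∈ Om, z⁻¹ * ψ w = z⁻¹ ^ Om.card * ψ s := by
      rw [Finset.prod_mul_distrib, Finset.prod_const, map_prod]
    have h3 : z⁻¹ ^ Om.card = z⁻¹ := by
      obtain ⟨k, hk⟩ : ∃ k, Om.card = 2 * k + 1 := ⟨Om.card / 2, by omega⟩
      rw [hk, pow_add, pow_mul, hs2, one_pow, one_mul, pow_one]
    rw [h2, h3] at h1
    -- `ψ s = z s`, `ψ a' = a' z`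
    have h4 : ψ (a' * s) = a' * s := by
      have h5 : ψ s = z * s := by
        conv_rhs => rw [← h1]
        rw [mul_inv_cancel_left]
      have h6 : ψ a' = a' * z := by
        change ψ a' = a' * (a'⁻¹ * ψ a')
        rw [mul_inv_cancel_left]
      rw [map_mul, h5, h6]
      calc a' * z * (z * s) = a' * (z ^ 2 * s) := by rw [pow_two]; simp only [mul_assoc]
        _ = a' * s := by rw [hs2, one_mul]
    exact congrArg Subtype.val h4

/-- **LEMMA G''.** -/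
theorem lemG {B D L W K Z : Subgroup G} (hsyl : Syl B D) (hDZ : D ≤ centralizer (Z : Set G))
    (hWB : W ≤ B) (hWc : ∀ x ∈ W, ∀ y ∈ W, x * y = y * x) (hW2 : ∀ x ∈ W, x * x = 1)
    (hWn : D ⊔ L ≤ normalizer (W : Set G)) (hZW : Z ≤ W) (hCW : W ⊓ centralizer (B : Set G) ≤ Z)
    (hKY : K ≤ D ⊔ L) (hKn : D ⊔ L ≤ normalizer (K : Set G)) (hKD : K ⊓ centralizer (Z : Set G) ≤ D)
    (hT : L ≤ normalizer ((B ⊓ K : Subgroup G) : Set G)) :
    D ⊔ L ≤ normalizer ((K ⊓ D : Subgroup G) : Set G) := by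
  have hBD : B ≤ D := hsyl.1
  set X : Subgroup G := K ⊓ D with hX
  have hXZ : X = K ⊓ centralizer (Z : Set G) :=
    le_antisymm (inf_le_inf_left _ hDZ) (le_inf inf_le_left hKD)
  have hDX : ∀ d ∈ D, ∀ x ∈ X, d * x * d⁻¹ ∈ X := fun d hd x hx =>
    ⟨(mem_normalizer_iff.1 (hKn (mem_sup_left hd)) x).1 hx.1, D.mul_mem (D.mul_mem hd hx.2) (D.inv_mem hd)⟩
  have hBK : B ⊓ K = B ⊓ X := by
    rw [hX, ← inf_assoc, inf_right_comm, inf_eq_left.2 hBD]
  have hTs : Syl (B ⊓ X) X := SQ1.FFOne.syl_inf hsyl inf_le_right hDX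
  have hodd : ¬ 2 ∣ (B ⊓ X).relIndex X := syl_not_dvd hTs
  have hXW : ∀ x ∈ X, ∀ w ∈ W, x * w * x⁻¹ ∈ W := fun x hx w hw =>
    (mem_normalizer_iff.1 (hWn (hKY hx.1)) w).1 hw
  have hBW : ∀ b ∈ B, ∀ w ∈ W, b * w * b⁻¹ ∈ W := fun b hb w hw =>
    (mem_normalizer_iff.1 (hWn (mem_sup_left (hBD hb))) w).1 hw
  -- `C_W(T) ≤ C_W(X)`
  have key : W ⊓ centralizer ((B ⊓ X : Subgroup G) : Set G) ≤ W ⊓ centralizer (X : Set G) := by
    intro y hy
    by_contra hyX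
    have hA : ∀ b ∈ B, ∀ p ∈ W ⊓ centralizer ((B ⊓ X : Subgroup G) : Set G),
        b * p * b⁻¹ ∈ W ⊓ centralizer ((B ⊓ X : Subgroup G) : Set G) := by
      rintro b hb p ⟨hp, hpc⟩
      refine ⟨hBW b hb p hp, mem_centralizer_iff.2 fun t ht => ?_⟩
      have h1 : b⁻¹ * t * b ∈ B ⊓ X := by
        refine ⟨B.mul_mem (B.mul_mem (B.inv_mem hb) ht.1) hb, ?_⟩
        have := hDX b⁻¹ (inv_mem (hBD hb)) t ht.2
        rwa [inv_inv] at this
      have h2 := mem_centralizer_iff.1 hpc _ h1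
      calc t * (b * p * b⁻¹) = b * (b⁻¹ * t * b * p) * b⁻¹ := by group
        _ = b * (p * (b⁻¹ * t * b)) * b⁻¹ := by rw [h2]
        _ = b * p * b⁻¹ * t := by group
    have hA0 : ∀ b ∈ B, ∀ p ∈ W ⊓ centralizer (X : Set G), b * p * b⁻¹ ∈ W ⊓ centralizer (X : Set G) := by
      rintro b hb p ⟨hp, hpc⟩
      refine ⟨hBW b hb p hp, mem_centralizer_iff.2 fun t ht => ?_⟩
      have h1 : b⁻¹ * t * b ∈ X := by
        have := hDX b⁻¹ (inv_mem (hBD hb)) t ht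
        rwa [inv_inv] at this
      have h2 := mem_centralizer_iff.1 hpc _ h1
      calc t * (b * p * b⁻¹) = b * (b⁻¹ * t * b * p) * b⁻¹ := by group
        _ = b * (p * (b⁻¹ * t * b)) * b⁻¹ := by rw [h2]
        _ = b * p * b⁻¹ * t := by group
    obtain ⟨a, ha, haN, hab⟩ := exists_central_mod hsyl.2.1 (inf_le_left.trans hWB) hA hA0
      hy hyX
    apply haN
    obtain ⟨s, hs, hsX, hsB⟩ := exists_orbit_prod (T := B ⊓ X) (X := X) (B := B) hWc hW2 hXW inf_le_right hodd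
      ha.1 (fun t ht => by rw [mem_centralizer_iff.1 ha.2 t ht, mul_inv_cancel_right])
      (fun b hb => hDX b (hBD hb)) hBW (fun b hb x hx => by
        have h1 := (hab b hb).2
        rw [mem_centralizer_iff.1 h1 x hx, mul_inv_cancel_right])
    have h1 : a * s ∈ Z := by
      refine hCW ⟨mul_mem ha.1 hs, mem_centralizer_iff.2 fun b hb => ?_⟩
      exact mul_inv_eq_iff_eq_mul.1 (hsB b hb)
    refine ⟨ha.1, mem_centralizer_iff.2 fun x hx => ?_⟩
    have hxZ : x * (a * s) = a * s * x := (mem_centralizer_iff.1 (hDZ hx.2) _ h1).symm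
    have hxs : x * s = s * x := mul_inv_eq_iff_eq_mul.1 (hsX x hx)
    have c1 : Commute x (a * s) := hxZ
    have c2 : Commute x s := hxs
    have e1 : a = a * s * s⁻¹ := by group
    have c3 : Commute x a := by
      rw [e1]; exact c1.mul_right c2.inv_right
    exact c3.eq
  -- `N_Y(T)` normalises `X`
  have hN : ∀ n ∈ D ⊔ L, n ∈ normalizer ((B ⊓ K : Subgroup G) : Set G) → cj n X ≤ X := by
    intro n hn hnT
    rintro _ ⟨x, hx, rfl⟩
    change n * x * n⁻¹ ∈ X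
    rw [hXZ]
    refine ⟨(mem_normalizer_iff.1 (hKn hn) x).1 hx.1, mem_centralizer_iff.2 fun z hz => ?_⟩
    -- `z^n ∈ C_W(X)`
    have h1 : n⁻¹ * z * n ∈ W ⊓ centralizer (X : Set G) := by
      apply key
      refine ⟨(mem_normalizer_iff''.1 (hWn hn) z).1 (hZW hz), mem_centralizer_iff.2 fun t ht => ?_⟩
      rw [← hBK] at ht
      have h2 : n * t * n⁻¹ ∈ B ⊓ K := (mem_normalizer_iff.1 hnT t).1 ht
      have h3 : z * (n * t * n⁻¹) = n * t * n⁻¹ * z := mem_centralizer_iff.1 (hDZ (hBD h2.1)) z hz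
      calc t * (n⁻¹ * z * n) = n⁻¹ * (n * t * n⁻¹ * z) * n := by group
        _ = n⁻¹ * (z * (n * t * n⁻¹)) * n := by rw [h3]
        _ = n⁻¹ * z * n * t := by group
    have h4 := mem_centralizer_iff.1 h1.2 x hx
    calc z * (n * x * n⁻¹) = n * ((n⁻¹ * z * n) * x) * n⁻¹ := by group
      _ = n * (x * (n⁻¹ * z * n)) * n⁻¹ := by rw [h4]
      _ = n * x * n⁻¹ * z := by group
  refine sup_le (fun d hd => mem_normalizer_of_cj_le ?_) fun l hl => mem_normalizer_of_cj_le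
    (hN l (mem_sup_right hl) (hT hl))
  rintro _ ⟨x, hx, rfl⟩
  exact hDX d hd x hx

/-- if a subgroup of `K ∩ D` moves a conjugate of `Z`, then `L` does not normalise `B ∩ K` -/
theorem moves_of {B D L W K Z : Subgroup G} (hsyl : Syl B D) (hDZ : D ≤ centralizer (Z : Set G))
    (hWB : W ≤ B) (hWc : ∀ x ∈ W, ∀ y ∈ W, x * y = y * x) (hW2 : ∀ x ∈ W, x * x = 1)
    (hWn : D ⊔ L ≤ normalizer (W : Set G)) (hZW : Z ≤ W) (hCW : W ⊓ centralizer (B : Set G) ≤ Z)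
    (hKY : K ≤ D ⊔ L) (hKn : D ⊔ L ≤ normalizer (K : Set G)) (hKD : K ⊓ centralizer (Z : Set G) ≤ D)
    {F : Subgroup G} (hF : F ≤ K ⊓ D) {y : G} (hy : y ∈ D ⊔ L) (hFy : ¬ F ≤ centralizer (cj y Z : Set G)) :
    ¬ L ≤ normalizer ((B ⊓ K : Subgroup G) : Set G) := by
  intro hT
  have h1 := lemG hsyl hDZ hWB hWc hW2 hWn hZW hCW hKY hKn hKD hT
  apply hFy
  intro f hf
  refine mem_centralizer_iff.2 ?_
  rintro _ ⟨z, hz, rfl⟩
  change y * z * y⁻¹ * f = f * (y * z * y⁻¹)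
  have h2 : y⁻¹ * f * y ∈ K ⊓ D := (mem_normalizer_iff''.1 (h1 hy) f).1 (hF hf)
  have h3 := mem_centralizer_iff.1 (hDZ h2.2) z hz
  calc y * z * y⁻¹ * f = y * (z * (y⁻¹ * f * y)) * y⁻¹ := by group
    _ = y * (y⁻¹ * f * y * z) * y⁻¹ := by rw [h3]
    _ = f * (y * z * y⁻¹) := by group

end Cfsg.Agent.Omega.EDel.QP
end

-- part: Mrg/Omega/NO3b/BasePt/NodeFam
section
prune_inst 0xd110634415220000001805801100004474000092004000009000024002061240a54568017420291218188a502002006012540400001000002000880040200729842a42401300a104250011c07887180c00000000000000000000000000041004000400000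
set_option linter.all false
open scoped Cfsg.Agent.FastGrp

section


/-!
# NotFFG (NO-3L), the base point, (E2), part 3: consequences of `Fam`

`F : Fam W M 𝒴`, split : `W = ⨆ [W, Y] + C_W(RR)`; `S` a Sylow 2-subgroup of `M`; `FamS W M 𝒴 S`.

* `norm`, `norm'` : `Y ⊴ RR`; `act` : `RR` acts on `[W, Y]` as `Y`; `one` : every `Y` is a faithful split block;
* `syl` : `S ∩ Y` is a Sylow 2-subgroup of `Y`; `actS` : `S ∩ RR` acts on `[W, Y]` as `S ∩ Y`;
* `Z1 W S 𝒴` = `C_W(S ∩ RR)`, `V2 W S 𝒴` = `{v | [v, S ∩ RR] ≤ Z1}`;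
* `mem_Z1_iff` : `Z1 = {w | w is fixed by all S ∩ Y}`; `lT_le_Z1` : `[W, Y] ∩ C_W(S ∩ Y) ≤ Z1`;
* `fix_Z1` : `y ∈ Y` which fixes `[W, Y] ∩ C_W(S ∩ Y)` fixes `Z1`;
* `V2_of` : `y ∈ Y`, `[W, y, S ∩ Y] ≤ [W, Y] ∩ C_W(S ∩ Y)` implies `[W, y] ≤ V2`.
-/

set_option autoImplicit false
set_option linter.unusedSectionVars false

namespace Cfsg.Agent.Omega.NO3b.BasePt

open Subgroup
open Cfsg.Agent.Omega.NO3b.Exit Cfsg.Agent.Omega.NO3b.Exit.Ten Cfsg.Agent.Omega.NO3b.Exit.Descent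
open Cfsg.Agent.Omega.FF.Basic (fx mem_fx cj mem_cj mem_cj_of)
open Cfsg.Agent.Omega.NO3b.BasePt.Node

universe u v w

variable {Γ : Type u} [Group Γ] {W : Type v} [AddCommGroup W] [DistribMulAction Γ W]
variable {M S : Subgroup Γ} {𝒴 : Set (Subgroup Γ)}

theorem cj_eq_map (g : Γ) (A : Subgroup Γ) : cj g A = A.map (MulAut.conj g).toMonoidHom := by
  ext x
  rw [mem_cj, mem_map]
  constructor
  · intro h
    exact ⟨_, h, by change g * (g⁻¹ * x * g) * g⁻¹ = x; group⟩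
  · rintro ⟨y, hy, rfl⟩
    have e : g⁻¹ * ((MulAut.conj g).toMonoidHom y) * g = y := by
      change g⁻¹ * (g * y * g⁻¹) * g = y; group
    rwa [e]

theorem le_RR {Y : Subgroup Γ} (hY : Y ∈ 𝒴) : Y ≤ RR 𝒴 := le_sSup hY

theorem odd_normal {M : Type*} [Group M] [Finite M] {S N : Subgroup M} [N.Normal] (h : ¬ 2 ∣ S.index) :
    ¬ 2 ∣ S.relIndex N := by
  have h1 : S.relIndex N * N.relIndex (N ⊔ S) = (S ⊓ N).relIndex (N ⊔ S) := by
    have := relIndex_inf_mul_relIndex S N (N ⊔ S)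
    rwa [inf_eq_left.2 (le_sup_left : N ≤ N ⊔ S)] at this
  have h2 : N.relIndex S * S.relIndex (N ⊔ S) = (N ⊓ S).relIndex (N ⊔ S) := by
    have := relIndex_inf_mul_relIndex N S (N ⊔ S)
    rwa [inf_eq_left.2 (le_sup_right : S ≤ N ⊔ S)] at this
  rw [relIndex_sup_left] at h1
  rw [inf_comm, ← h1] at h2
  have h3 : N.relIndex S ≠ 0 := index_ne_zero_of_finite
  have h4 : S.relIndex (N ⊔ S) = S.relIndex N := by
    refine Nat.eq_of_mul_eq_mul_left (Nat.pos_of_ne_zero h3) ?_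
    rw [h2, mul_comm]
  rw [← h4]
  intro h5
  exact h (h5.trans (relIndex_dvd_index_of_le le_sup_right))

/-- a subgroup of odd index meets a normal subgroup in a subgroup of odd index -/
theorem odd_of_cj [Finite Γ] {S K M : Subgroup Γ} (hKM : K ≤ M) (hn : ∀ m ∈ M, cj m K = K)
    (h : ¬ 2 ∣ S.relIndex M) : ¬ 2 ∣ S.relIndex K := by
  have hN : (K.subgroupOf M).Normal := ⟨fun n hn' g => by
    have h2 := mem_cj_of (g := (g : Γ)) (mem_subgroupOf.1 hn')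
    rw [hn g g.2] at h2
    exact h2⟩
  have h3 := odd_normal (M := M) (S := S.subgroupOf M) (N := K.subgroupOf M) h
  rwa [relIndex_subgroupOf hKM] at h3

/-- Sylow's theorem for subgroups -/
theorem exists_le_cj [Finite Γ] {K T R : Subgroup Γ} (hT2 : IsPGroup 2 T) (hTo : ¬ 2 ∣ T.relIndex K)
    (hRK : R ≤ K) (hR2 : IsPGroup 2 R) : ∃ k ∈ K, R ≤ cj k T := by
  have : Fact (Nat.Prime 2) := ⟨Nat.prime_two⟩
  let P₀ : Sylow 2 K := IsPGroup.toSylow (hT2.comap_of_injective K.subtype K.subtype_injective :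
    IsPGroup 2 (T.subgroupOf K)) hTo
  obtain ⟨Q, hQ⟩ := IsPGroup.exists_le_sylow (hR2.comap_of_injective K.subtype K.subtype_injective :
    IsPGroup 2 (R.subgroupOf K))
  obtain ⟨k, hk⟩ := MulAction.exists_smul_eq K P₀ Q
  refine ⟨k, k.2, fun r hr => ?_⟩
  have h1 : (⟨r, hRK hr⟩ : K) ∈ (Q : Subgroup K) := hQ hr
  rw [← hk, Sylow.coe_subgroup_smul, Subgroup.mem_pointwise_smul_iff_inv_smul_mem] at h1
  have h2 : (k : Γ)⁻¹ * r * k ∈ T := by
    have h3 : ((MulAut.conj k)⁻¹ • (⟨r, hRK hr⟩ : K) : K) ∈ T.subgroupOf K := h1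
    rw [mem_subgroupOf, ← map_inv] at h3
    simpa using h3
  exact mem_cj.2 h2

/-- **Frattini.** -/
theorem frattini [Finite Γ] {S K P : Subgroup Γ} (hKP : K ≤ P) (hn : ∀ p ∈ P, cj p K = K)
    (hS2 : IsPGroup 2 S) (hS : ¬ 2 ∣ S.relIndex P) {p : Γ} (hp : p ∈ P) :
    ∃ k ∈ K, cj (k⁻¹ * p) (S ⊓ K) = S ⊓ K := by
  have h1 : ¬ 2 ∣ (S ⊓ K).relIndex K := by
    rw [inf_relIndex_right]
    exact odd_of_cj hKP hn hS
  have h2 : cj p (S ⊓ K) ≤ K := by
    have h3 := FF.Basic.cj_mono p (inf_le_right : S ⊓ K ≤ K)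
    rwa [hn p hp] at h3
  obtain ⟨k, hk, h3⟩ := exists_le_cj (hS2.to_le inf_le_left : IsPGroup 2 (S ⊓ K : Subgroup Γ)) h1 h2
    (FF.Basic.isPGroup_cj p (hS2.to_le inf_le_left))
  refine ⟨k, hk, FF.Basic.cj_eq_of_le ?_⟩
  have h4 := FF.Basic.cj_mono k⁻¹ h3
  rwa [FF.Basic.cj_inv_cj, FF.Basic.cj_cj] at h4

/-- A subgroup `P ≥ S` not generated by two proper subgroups over `S`, `K ⊴ P`: `P = K S` or `P` normalises
`S ∩ K`. -/
theorem sup_or [Finite Γ] {S K P : Subgroup Γ} (hKP : K ≤ P) (hn : ∀ p ∈ P, cj p K = K) (hSP : S ≤ P)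
    (hS2 : IsPGroup 2 S) (hS : ¬ 2 ∣ S.relIndex P)
    (hP : ∀ Q₁ Q₂ : Subgroup Γ, S ≤ Q₁ → S ≤ Q₂ → Q₁ ⊔ Q₂ = P → Q₁ = P ∨ Q₂ = P) :
    K ⊔ S = P ∨ ∀ p ∈ P, cj p (S ⊓ K) = S ⊓ K := by
  have h1 : S ≤ P ⊓ normalizer ((S ⊓ K : Subgroup Γ) : Set Γ) := by
    intro s hs
    refine ⟨hSP hs, FF.Basic.cj_eq_iff_mem_normalizer.1 (FF.Basic.cj_eq_of_le ?_)⟩
    refine le_inf ?_ ?_
    · have h2 := FF.Basic.cj_mono s (inf_le_left : S ⊓ K ≤ S)
      rwa [FF.Basic.cj_eq_self_of_mem hs] at h2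
    · have h2 := FF.Basic.cj_mono s (inf_le_right : S ⊓ K ≤ K)
      rwa [hn s (hSP hs)] at h2
  rcases hP (K ⊔ S) (P ⊓ normalizer ((S ⊓ K : Subgroup Γ) : Set Γ)) le_sup_right h1 (by
    refine le_antisymm (sup_le (sup_le hKP hSP) inf_le_left) fun p hp => ?_
    obtain ⟨k, hk, h2⟩ := frattini hKP hn hS2 hS hp
    have h3 : p = k * (k⁻¹ * p) := by group
    rw [h3]
    exact mul_mem (mem_sup_left (mem_sup_left hk))
      (mem_sup_right ⟨P.mul_mem (P.inv_mem (hKP hk)) hp, FF.Basic.cj_eq_iff_mem_normalizer.1 h2⟩)) with h | h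
  · exact Or.inl h
  · right
    intro p hp
    rw [← h] at hp
    exact FF.Basic.cj_eq_iff_mem_normalizer.2 hp.2

namespace Fam

variable (F : Fam W M 𝒴)
include F

theorem mem_cj {Y : Subgroup Γ} (hY : Y ∈ 𝒴) {m : Γ} (hm : m ∈ M) : cj m Y ∈ 𝒴 := by
  rw [cj_eq_map]
  exact F.conj Y hY m hm

theorem RR_le_top : RR 𝒴 ≤ M := sSup_le F.le

theorem cj_RR {m : Γ} (hm : m ∈ M) : cj m (RR 𝒴) = RR 𝒴 := by
  have key : ∀ m ∈ M, RR 𝒴 ≤ cj m (RR 𝒴) := by
    intro m hm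
    refine sSup_le fun Y hY => ?_
    have h1 := FF.Basic.cj_mono m (le_RR (F.mem_cj hY (inv_mem hm)))
    rwa [FF.Basic.cj_cj_inv] at h1
  refine le_antisymm ?_ (key m hm)
  have h1 := FF.Basic.cj_mono m (key m⁻¹ (inv_mem hm))
  rwa [FF.Basic.cj_cj_inv] at h1

theorem norm {Y Y' : Subgroup Γ} (hY : Y ∈ 𝒴) (hY' : Y' ∈ 𝒴) {y : Γ} (hy : y ∈ Y') : cj y Y = Y := by
  by_cases h0 : Y' = Y
  · subst h0
    exact FF.Basic.cj_eq_self_of_mem hy
  by_contra hne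
  have hm := F.mem_cj hY (F.le _ hY' hy)
  obtain ⟨x, hx, v, hv, hxv⟩ := exists_move (F.blk _ hm)
  have h1 := mem_cm_cj.1 hv
  have h2 := F.triv Y' hY' Y hY h0 y hy _ h1
  rw [smul_inv_smul] at h2
  rw [← h2] at h1
  exact hxv (F.triv _ hm Y hY hne x hx v h1)

theorem norm' {Y : Subgroup Γ} (hY : Y ∈ 𝒴) {g : Γ} (hg : g ∈ RR 𝒴) : cj g Y = Y := by
  have h1 : RR 𝒴 ≤ normalizer (Y : Set Γ) := sSup_le fun Y' hY' y hy =>
    FF.Basic.cj_eq_iff_mem_normalizer.1 (F.norm hY hY' hy)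
  exact FF.Basic.cj_eq_iff_mem_normalizer.2 (h1 hg)

theorem act {Y : Subgroup Γ} (hY : Y ∈ 𝒴) {g : Γ} (hg : g ∈ RR 𝒴) : ∃ y ∈ Y, ∀ v ∈ cm W Y, g • v = y • v := by
  let Q : Subgroup Γ :=
    { carrier := {g | ∃ y ∈ Y, ∀ v ∈ cm W Y, g • v = y • v}
      one_mem' := ⟨1, one_mem _, fun _ _ => rfl⟩
      mul_mem' := by
        rintro a b ⟨x, hx, h1⟩ ⟨y, hy, h2⟩
        exact ⟨x * y, mul_mem hx hy, fun v hv => by rw [mul_smul, mul_smul, h2 v hv, h1 _ (smul_cm hy hv)]⟩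
      inv_mem' := by
        rintro a ⟨x, hx, h1⟩
        refine ⟨x⁻¹, inv_mem hx, fun v hv => ?_⟩
        rw [inv_smul_eq_iff, h1 _ (smul_cm (inv_mem hx) hv), smul_inv_smul] }
  have h1 : RR 𝒴 ≤ Q := by
    refine sSup_le fun Y' hY' y hy => ?_
    by_cases h0 : Y' = Y
    · subst h0
      exact ⟨y, hy, fun _ _ => rfl⟩
    · exact ⟨1, one_mem _, fun v hv => by rw [one_smul]; exact F.triv Y' hY' Y hY h0 y hy v hv⟩
  exact h1 hg

end Fam

variable (W) in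
/-- `Z₁ = C_W(S ∩ RR)` -/
def Z1 (S : Subgroup Γ) (𝒴 : Set (Subgroup Γ)) : AddSubgroup W := fx W (S ⊓ RR 𝒴)

variable (W) in
/-- `V₍₂₎ = {v | [v, S ∩ RR] ≤ Z₁}` -/
def V2 (S : Subgroup Γ) (𝒴 : Set (Subgroup Γ)) : AddSubgroup W where
  carrier := {v | ∀ d ∈ S ⊓ RR 𝒴, d • v - v ∈ Z1 W S 𝒴}
  zero_mem' := fun d _ => by rw [smul_zero, sub_self]; exact zero_mem _
  add_mem' := fun {v w} hv hw d hd => by
    have e : d • (v + w) - (v + w) = (d • v - v) + (d • w - w) := by rw [smul_add]; abel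
    rw [e]
    exact add_mem (hv d hd) (hw d hd)
  neg_mem' := fun {v} hv d hd => by
    have e : d • (-v) - (-v) = - (d • v - v) := by rw [smul_neg]; abel
    rw [e]
    exact neg_mem (hv d hd)

theorem mem_V2 {v : W} : v ∈ V2 W S 𝒴 ↔ ∀ d ∈ S ⊓ RR 𝒴, d • v - v ∈ Z1 W S 𝒴 := Iff.rfl

variable (W) in
/-- `Fam`, split, with a Sylow 2-subgroup `S` of `M`. -/
structure FamS (M : Subgroup Γ) (𝒴 : Set (Subgroup Γ)) (S : Subgroup Γ) : Prop where
  fam : Fam W M 𝒴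
  sp : (⨆ Y ∈ 𝒴, cm W Y) ⊔ fx W (RR 𝒴) = ⊤
  S2 : IsPGroup 2 S
  SM : S ≤ M
  odd : ¬ 2 ∣ S.relIndex M

namespace FamS

variable (F : FamS W M 𝒴 S)
include F

open Classical in
theorem dec [Finite Γ] (w : W) : ∃ c : Subgroup Γ → W, (∀ Y ∈ 𝒴, c Y ∈ cm W Y) ∧
    w - ∑ Y ∈ (Set.toFinite 𝒴).toFinset, c Y ∈ fx W (RR 𝒴) := by
  let N : AddSubgroup W :=
    { carrier := {w | ∃ c : Subgroup Γ → W, (∀ Y ∈ 𝒴, c Y ∈ cm W Y) ∧
        w - ∑ Y ∈ (Set.toFinite 𝒴).toFinset, c Y ∈ fx W (RR 𝒴)}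
      zero_mem' := ⟨0, fun _ _ => zero_mem _, by simp⟩
      add_mem' := by
        rintro a b ⟨c, hc, h1⟩ ⟨c', hc', h2⟩
        refine ⟨fun Y => c Y + c' Y, fun Y hY => add_mem (hc Y hY) (hc' Y hY), ?_⟩
        rw [Finset.sum_add_distrib, add_sub_add_comm]
        exact add_mem h1 h2
      neg_mem' := by
        rintro a ⟨c, hc, h1⟩
        refine ⟨fun Y => - c Y, fun Y hY => neg_mem (hc Y hY), ?_⟩
        rw [Finset.sum_neg_distrib]
        have e : -a - -∑ Y ∈ (Set.toFinite 𝒴).toFinset, c Y = - (a - ∑ Y ∈ (Set.toFinite 𝒴).toFinset, c Y) := by abel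
        rw [e]
        exact neg_mem h1 }
  have h1 : (⊤ : AddSubgroup W) ≤ N := by
    rw [← F.sp]
    refine sup_le (iSup₂_le fun Y hY w hw => ?_) fun w hw => ⟨0, fun _ _ => zero_mem _, by simpa using hw⟩
    refine ⟨fun Y' => if Y' = Y then w else 0, fun Y' hY' => ?_, ?_⟩
    · change (if Y' = Y then w else 0) ∈ cm W Y'
      split_ifs with h
      · rw [h]
        exact hw
      · exact zero_mem _
    · rw [Finset.sum_ite_eq' _ Y, if_pos ((Set.toFinite 𝒴).mem_toFinset.2 hY), sub_self]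
      exact zero_mem _
  exact h1 trivial

theorem one [Finite Γ] {Y : Subgroup Γ} (hY : Y ∈ 𝒴) : One W Y where
  blk := F.fam.blk Y hY
  faith := F.fam.faith
  two := F.fam.two
  sp w := by
    classical
    obtain ⟨c, hc, h1⟩ := F.dec w
    refine ⟨c Y, hc Y hY, fun y hy => ?_⟩
    have e : w - c Y = (w - ∑ Y ∈ (Set.toFinite 𝒴).toFinset, c Y) + ∑ Y' ∈ (Set.toFinite 𝒴).toFinset.erase Y, c Y' := by
      rw [← Finset.add_sum_erase _ c ((Set.toFinite 𝒴).mem_toFinset.2 hY)]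
      abel
    rw [e, smul_add, h1 y (le_RR hY hy), Finset.smul_sum]
    congr 1
    refine Finset.sum_congr rfl fun Y' hY' => ?_
    rw [Finset.mem_erase, Set.Finite.mem_toFinset] at hY'
    exact F.fam.triv Y hY Y' hY'.2 (Ne.symm hY'.1) y hy _ (hc Y' hY'.2)

theorem syl [Finite Γ] {Y : Subgroup Γ} (hY : Y ∈ 𝒴) : Syl Y (S ⊓ Y) where
  le := inf_le_right
  two := F.S2.to_le inf_le_left
  odd := by
    rw [inf_relIndex_right]
    exact odd_of_cj (le_RR hY) (fun g hg => F.fam.norm' hY hg)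
      (odd_of_cj F.fam.RR_le_top (fun m hm => F.fam.cj_RR hm) F.odd)

theorem actS [Finite Γ] {Y : Subgroup Γ} (hY : Y ∈ 𝒴) {d : Γ} (hd : d ∈ S ⊓ RR 𝒴) :
    ∃ t ∈ S ⊓ Y, ∀ v ∈ cm W Y, d • v = t • v := by
  let T' : Subgroup Γ :=
    { carrier := {y | y ∈ Y ∧ ∃ d ∈ S ⊓ RR 𝒴, ∀ v ∈ cm W Y, d • v = y • v}
      one_mem' := ⟨one_mem _, 1, one_mem _, fun _ _ => rfl⟩
      mul_mem' := by
        rintro a b ⟨ha, x, hx, h1⟩ ⟨hb, y, hy, h2⟩
        exact ⟨mul_mem ha hb, x * y, mul_mem hx hy, fun v hv => by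
          rw [mul_smul, mul_smul, h2 v hv, h1 _ (smul_cm hb hv)]⟩
      inv_mem' := by
        rintro a ⟨ha, x, hx, h1⟩
        refine ⟨inv_mem ha, x⁻¹, inv_mem hx, fun v hv => ?_⟩
        rw [inv_smul_eq_iff, h1 _ (smul_cm (inv_mem ha) hv), smul_inv_smul] }
  have h1 : IsPGroup 2 T' := by
    rintro ⟨y, hy, d, hd, h⟩
    obtain ⟨k, hk⟩ := F.S2 ⟨d, hd.1⟩
    refine ⟨k, Subtype.ext ?_⟩
    have hk' : d ^ 2 ^ k = 1 := congrArg Subtype.val hk
    have h2 : ∀ j : ℕ, ∀ v ∈ cm W Y, d ^ j • v = y ^ j • v := by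
      intro j
      induction j with
      | zero => intro v _; rw [pow_zero, pow_zero]
      | succ j ih =>
        intro v hv
        rw [pow_succ', pow_succ', mul_smul, mul_smul, ih v hv, h _ (smul_cm (pow_mem hy j) hv)]
    change y ^ 2 ^ k = 1
    refine (F.one hY).eq_one (pow_mem hy _) fun v hv => ?_
    rw [← h2 _ v hv, hk', one_smul]
  have h2 : T' ≤ S ⊓ Y := le_of_odd h1 (fun y hy => ⟨hy.2, y, ⟨hy.1, le_RR hY hy.2⟩, fun _ _ => rfl⟩)
    (fun y hy => hy.1) (F.syl hY).odd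
  obtain ⟨y, hy, h⟩ := F.fam.act hY hd.2
  exact ⟨y, h2 ⟨hy, d, hd, h⟩, h⟩

theorem lT_le_Z1 [Finite Γ] {Y : Subgroup Γ} (hY : Y ∈ 𝒴) : lT W Y (S ⊓ Y) ≤ Z1 W S 𝒴 := by
  rintro v ⟨h1, h2⟩ d hd
  obtain ⟨t, ht, h⟩ := F.actS hY hd
  rw [h v h1]
  exact h2 t ht

/-- `Z₁` is fixed by `y ∈ Y` which fixes the point of `S ∩ Y`. -/
theorem fix_Z1 [Finite Γ] {Y : Subgroup Γ} (hY : Y ∈ 𝒴) {y : Γ} (hy : y ∈ Y)
    (h : ∀ v ∈ lT W Y (S ⊓ Y), y • v = v) {w : W} (hw : ∀ s ∈ S ⊓ Y, s • w = w) : y • w = w := by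
  obtain ⟨c, hc, h1⟩ := (F.one hY).sp w
  have e : w = c + (w - c) := by abel
  have h2 : c ∈ lT W Y (S ⊓ Y) := by
    refine ⟨hc, fun s hs => ?_⟩
    have h3 := hw s hs
    rw [e, smul_add, h1 s hs.2] at h3
    exact add_right_cancel h3
  rw [e, smul_add, h1 y hy, h c h2]

theorem mem_Z1_iff [Finite Γ] {w : W} : w ∈ Z1 W S 𝒴 ↔ ∀ Y ∈ 𝒴, ∀ s ∈ S ⊓ Y, s • w = w := by
  classical
  constructor
  · exact fun h Y hY s hs => h s ⟨hs.1, le_RR hY hs.2⟩
  · intro h d hd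
    obtain ⟨c, hc, h1⟩ := F.dec w
    have h2 : ∀ Y ∈ 𝒴, ∀ s ∈ S ⊓ Y, s • c Y = c Y := by
      intro Y hY s hs
      have e : w = c Y + ((w - ∑ Y ∈ (Set.toFinite 𝒴).toFinset, c Y) +
          ∑ Y' ∈ (Set.toFinite 𝒴).toFinset.erase Y, c Y') := by
        rw [← Finset.add_sum_erase _ c ((Set.toFinite 𝒴).mem_toFinset.2 hY)]
        abel
      have h3 := h Y hY s hs
      rw [e, smul_add, smul_add, h1 s (le_RR hY hs.2), Finset.smul_sum] at h3
      have h4 : ∑ Y' ∈ (Set.toFinite 𝒴).toFinset.erase Y, s • c Y' =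
          ∑ Y' ∈ (Set.toFinite 𝒴).toFinset.erase Y, c Y' := Finset.sum_congr rfl fun Y' hY' => by
        rw [Finset.mem_erase, Set.Finite.mem_toFinset] at hY'
        exact F.fam.triv Y hY Y' hY'.2 (Ne.symm hY'.1) s hs.2 _ (hc Y' hY'.2)
      rw [h4] at h3
      exact add_right_cancel h3
    have e : w = (w - ∑ Y ∈ (Set.toFinite 𝒴).toFinset, c Y) + ∑ Y ∈ (Set.toFinite 𝒴).toFinset, c Y := by abel
    rw [e, smul_add, h1 d hd.2, Finset.smul_sum]
    congr 1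
    refine Finset.sum_congr rfl fun Y hY => ?_
    rw [Set.Finite.mem_toFinset] at hY
    obtain ⟨t, ht, h3⟩ := F.actS hY hd
    rw [h3 _ (hc Y hY), h2 Y hY t ht]

theorem V2_of [Finite Γ] {Y : Subgroup Γ} (hY : Y ∈ 𝒴) {y : Γ} (hy : y ∈ Y)
    (h : ∀ w : W, ∀ t ∈ S ⊓ Y, t • (y • w - w) - (y • w - w) ∈ lT W Y (S ⊓ Y)) (w : W) : y • w - w ∈ V2 W S 𝒴 := by
  intro d hd
  obtain ⟨t, ht, h1⟩ := F.actS hY hd
  rw [h1 _ (mem_cm_of hy w)]
  exact F.lT_le_Z1 hY (h w t ht)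

end FamS

end Cfsg.Agent.Omega.NO3b.BasePt

end

section


/-!
# NotFFG (NO-3L), the base point, (E2): the node-1 lemma (bb 22687, 23192)

`F : FamS W M 𝒴 S`. **`node_one`** : `S ≤ P ≤ M`, `P` is not generated by two proper subgroups over `S`, `P` does not
centralise `C_W(S)`. Then `P` normalises `V₍₂₎ = {v | [v, S ∩ RR] ≤ Z₁}`, `Z₁ = C_W(S ∩ RR)`.

Proof: `P` normalises `S ∩ RR` or `P = (P ∩ RR) S`. If `P` normalises `Z₁` too, `C_{P ∩ RR}(Z₁)` is normal in `P`, so `P`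
normalises `S ∩ RR` or `P = C_{P ∩ RR}(Z₁) S` centralises `C_W(S)`. Otherwise `N` = the group generated by all the full
transvection groups `AT W Y T ≤ P` is normal in `P`, `P = N S` (if `P` normalises `S ∩ N`, it permutes the points of
`S`), and `N ≤ ⟨N_P(Z₁), N_P(V₍₂₎)⟩` by `AT_le_of`.
-/

set_option autoImplicit false
set_option linter.unusedSectionVars false

namespace Cfsg.Agent.Omega.NO3b.BasePt

open Subgroup
open Cfsg.Agent.Omega.NO3b.Exit Cfsg.Agent.Omega.NO3b.Exit.Ten Cfsg.Agent.Omega.NO3b.Exit.Descent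
open Cfsg.Agent.Omega.FF.Basic (fx mem_fx cj mem_cj mem_cj_of)
open Cfsg.Agent.Omega.NO3b.BasePt.Node

universe u v w

variable {Γ : Type u} [Group Γ] {W : Type v} [AddCommGroup W] [DistribMulAction Γ W]
variable {M S P : Subgroup Γ} {𝒴 : Set (Subgroup Γ)}

/-- the elements of `P` which map `X` into itself -/
def stb [Finite Γ] (P : Subgroup Γ) (X : AddSubgroup W) : Subgroup Γ where
  carrier := {p | p ∈ P ∧ ∀ v ∈ X, p • v ∈ X}
  one_mem' := ⟨one_mem _, fun v hv => by rwa [one_smul]⟩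
  mul_mem' := fun {a b} ha hb => ⟨mul_mem ha.1 hb.1, fun v hv => by rw [mul_smul]; exact ha.2 _ (hb.2 v hv)⟩
  inv_mem' := fun {a} ha => ⟨inv_mem ha.1, fun v hv => by
    have h1 : ∀ j : ℕ, ∀ v ∈ X, a ^ j • v ∈ X := by
      intro j
      induction j with
      | zero => intro v hv; rwa [pow_zero, one_smul]
      | succ j ih => intro v hv; rw [pow_succ', mul_smul]; exact ha.2 _ (ih v hv)
    obtain ⟨k, hk⟩ := mem_powers_iff_mem_zpowers.2 (inv_mem (mem_zpowers a))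
    have hk' : a ^ k = a⁻¹ := hk
    rw [← hk']
    exact h1 k v hv⟩

namespace FamS

variable (F : FamS W M 𝒴 S)
include F

theorem smul_Z1 {p : Γ} (hp : cj p (S ⊓ RR 𝒴) = S ⊓ RR 𝒴) {v : W} (hv : v ∈ Z1 W S 𝒴) : p • v ∈ Z1 W S 𝒴 := by
  have h1 := FF.Basic.smul_mem_fx_cj (g := p) hv
  rwa [hp] at h1

theorem smul_V2 {p : Γ} (hp : cj p (S ⊓ RR 𝒴) = S ⊓ RR 𝒴) {v : W} (hv : v ∈ V2 W S 𝒴) : p • v ∈ V2 W S 𝒴 := by
  intro d hd
  rw [← hp, mem_cj] at hd
  have h1 := F.smul_Z1 hp (hv _ hd)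
  rwa [smul_sub, mul_smul, mul_smul, smul_inv_smul] at h1

theorem cj_S {s : Γ} (hs : s ∈ S) : cj s (S ⊓ RR 𝒴) = S ⊓ RR 𝒴 := by
  ext x
  have h1 : cj s (RR 𝒴) = RR 𝒴 := F.fam.cj_RR (F.SM hs)
  constructor
  · intro h
    have h2 := mem_cj.1 h
    refine ⟨?_, ?_⟩
    · have h3 := S.mul_mem (S.mul_mem hs h2.1) (S.inv_mem hs)
      have e : s * (s⁻¹ * x * s) * s⁻¹ = x := by group
      rwa [e] at h3
    · rw [← h1]
      exact mem_cj.2 h2.2
  · intro h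
    refine mem_cj.2 ⟨S.mul_mem (S.mul_mem (S.inv_mem hs) h.1) hs, ?_⟩
    have h2 := h.2
    rw [← h1] at h2
    exact mem_cj.1 h2

/-- **(E2).** -/
theorem node_one [Finite Γ] [Finite W] (SP : S ≤ P) (PM : P ≤ M)
    (hP : ∀ Q₁ Q₂ : Subgroup Γ, S ≤ Q₁ → S ≤ Q₂ → Q₁ ⊔ Q₂ = P → Q₁ = P ∨ Q₂ = P)
    (hZ : ¬ ∀ p ∈ P, ∀ w : W, (∀ s ∈ S, s • w = w) → p • w = w) : ∀ p ∈ P, ∀ v ∈ V2 W S 𝒴, p • v ∈ V2 W S 𝒴 := by
  have hodd : ¬ 2 ∣ S.relIndex P := fun h => F.odd (by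
    rw [← relIndex_mul_relIndex S P M SP PM]
    exact h.mul_right _)
  have hSZ : ∀ w : W, (∀ s ∈ S, s • w = w) → w ∈ Z1 W S 𝒴 := fun w hw d hd => hw d hd.1
  by_cases hD : ∀ p ∈ P, cj p (S ⊓ RR 𝒴) = S ⊓ RR 𝒴
  · exact fun p hp v hv => F.smul_V2 (hD p hp) hv
  by_cases hZ1 : ∀ p ∈ P, ∀ v ∈ Z1 W S 𝒴, p • v ∈ Z1 W S 𝒴
  · -- `P` normalises `Z₁`
    exfalso
    let C : Subgroup Γ :=
      { carrier := {g | g ∈ P ⊓ RR 𝒴 ∧ ∀ v ∈ Z1 W S 𝒴, g • v = v}
        one_mem' := ⟨one_mem _, fun v _ => one_smul _ v⟩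
        mul_mem' := fun {a b} ha hb => ⟨mul_mem ha.1 hb.1, fun v hv => by rw [mul_smul, hb.2 v hv, ha.2 v hv]⟩
        inv_mem' := fun {a} ha => ⟨inv_mem ha.1, fun v hv => by rw [inv_smul_eq_iff, ha.2 v hv]⟩ }
    have hCP : C ≤ P := fun g hg => hg.1.1
    have hn : ∀ p ∈ P, cj p C = C := by
      intro p hp
      refine FF.Basic.cj_eq_of_le (FF.Basic.cj_le_iff.2 fun g hg => ?_)
      refine ⟨⟨P.mul_mem (P.mul_mem hp hg.1.1) (P.inv_mem hp), ?_⟩, fun v hv => ?_⟩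
      · have h1 := mem_cj_of (g := p) hg.1.2
        rwa [F.fam.cj_RR (PM hp)] at h1
      · rw [mul_smul, mul_smul, hg.2 _ (hZ1 p⁻¹ (inv_mem hp) v hv), smul_inv_smul]
    have hSC : S ⊓ C = S ⊓ RR 𝒴 := by
      ext x
      exact ⟨fun h => ⟨h.1, h.2.1.2⟩, fun h => ⟨h.1, ⟨SP h.1, h.2⟩, fun v hv => hv x h⟩⟩
    rcases sup_or hCP hn SP F.S2 hodd hP with h | h
    · refine hZ fun p hp w hw => ?_
      rw [← h] at hp
      have h1 : C ⊔ S ≤ MulAction.stabilizer Γ w := sup_le (fun g hg => hg.2 w (hSZ w hw)) fun s hs => hw s hs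
      exact h1 hp
    · rw [hSC] at h
      exact hD h
  -- `P` does not normalise `Z₁`
  by_contra hV
  let J : Subgroup Γ := stb P (Z1 W S 𝒴) ⊔ stb P (V2 W S 𝒴)
  have hS1 : S ≤ stb P (Z1 W S 𝒴) := fun s hs => ⟨SP hs, fun v hv => F.smul_Z1 (F.cj_S hs) hv⟩
  have hS2 : S ≤ stb P (V2 W S 𝒴) := fun s hs => ⟨SP hs, fun v hv => F.smul_V2 (F.cj_S hs) hv⟩
  have hJ : ¬ P ≤ J := by
    intro hJ
    rcases hP _ _ hS1 hS2 (le_antisymm (sup_le (fun p hp => hp.1) fun p hp => hp.1) hJ) with h | h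
    · exact hZ1 fun p hp => (h.ge hp).2
    · exact hV fun p hp => (h.ge hp).2
  let N : Subgroup Γ := closure {x | ∃ Y ∈ 𝒴, ∃ T, Syl Y T ∧ AT W Y T ≤ P ∧ x ∈ AT W Y T}
  have hNP : N ≤ P := (closure_le _).2 (by
    rintro x ⟨Y, -, T, -, h1, h2⟩
    exact h1 h2)
  have hSylcj : ∀ {Y T : Subgroup Γ} (g : Γ), Syl Y T → Syl (cj g Y) (cj g T) := by
    intro Y T g h
    refine ⟨FF.Basic.cj_mono g h.le, FF.Basic.isPGroup_cj g h.two, ?_⟩
    rw [cj_eq_map, cj_eq_map, relIndex_map_map_of_injective _ _ (MulAut.conj g).injective]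
    exact h.odd
  have hn : ∀ p ∈ P, cj p N = N := by
    intro p hp
    refine FF.Basic.cj_eq_of_le ?_
    have h1 : N ≤ cj p⁻¹ N := (closure_le _).2 (by
      rintro x ⟨Y, hY, T, hT, h1, h2⟩
      refine mem_cj.2 (subset_closure ⟨cj p Y, F.fam.mem_cj hY (PM hp), cj p T, hSylcj p hT, ?_, ?_⟩)
      · rw [AT_cj]
        have h3 := FF.Basic.cj_mono p h1
        rwa [FF.Basic.cj_eq_self_of_mem hp] at h3
      · rw [AT_cj, mem_cj]
        have e : p⁻¹ * (p⁻¹⁻¹ * x * p⁻¹) * p = x := by group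
        rwa [e])
    have h2 := FF.Basic.cj_mono p h1
    rwa [FF.Basic.cj_cj_inv] at h2
  have hNJ : N ≤ J := (closure_le _).2 (by
    rintro x ⟨Y, hY, T, hT, h1, h2⟩
    refine (F.one hY).AT_le_of (P := P) (J := J) (F.syl hY) hT (inf_le_left.trans SP)
      ((inf_le_left.trans hS1).trans le_sup_left) h1 (fun y hy hyP h => ?_) (fun y hy hyP h => ?_) h2
    · have h3 : y ∈ stb P (Z1 W S 𝒴) := ⟨hyP, fun v hv => by
        rw [F.fix_Z1 hY hy h (F.mem_Z1_iff.1 hv Y hY)]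
        exact hv⟩
      exact mem_sup_left h3
    · have h3 : y ∈ stb P (V2 W S 𝒴) := ⟨hyP, fun v hv => by
        have e : y • v = (y • v - v) + v := by abel
        rw [e]
        exact add_mem (F.V2_of hY hy h v) hv⟩
      exact mem_sup_right h3)
  rcases sup_or hNP hn SP F.S2 hodd hP with h | h
  · refine hJ ?_
    rw [← h]
    exact sup_le hNJ (hS1.trans le_sup_left)
  · apply hZ1
    intro p hp w hw
    refine F.mem_Z1_iff.2 fun Y' hY' s hs => ?_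
    set Y := cj p⁻¹ Y' with hYdef
    have hY : Y ∈ 𝒴 := F.fam.mem_cj hY' (PM (inv_mem hp))
    have hYY' : cj p Y = Y' := FF.Basic.cj_cj_inv p Y'
    have hg : p⁻¹ * s * p ∈ Y := by
      have h1 : s ∈ cj p Y := by rw [hYY']; exact hs.2
      exact mem_cj.1 h1
    -- the point of `S ∩ Y`
    have h1 : AT W Y (S ⊓ Y) ≤ S ⊓ N := by
      have h2 : AT W Y (S ⊓ Y) ≤ S := ((F.one hY).AT_le (F.syl hY)).trans inf_le_left
      exact fun x hx => ⟨h2 hx, subset_closure ⟨Y, hY, S ⊓ Y, F.syl hY, h2.trans SP, hx⟩⟩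
    have h2 : AT W Y' (cj p (S ⊓ Y)) ≤ S ⊓ Y' := by
      refine le_inf ?_ AT_Y
      rw [← hYY', AT_cj]
      have h3 := FF.Basic.cj_mono p h1
      rw [h p hp] at h3
      exact h3.trans inf_le_left
    have h3 : Syl Y' (cj p (S ⊓ Y)) := by
      have h4 := hSylcj p (F.syl hY)
      rwa [hYY'] at h4
    have h4 := (F.one hY').lT_le (F.syl hY') h3 h2
    have h5 : (p⁻¹ * s * p) • w = w := by
      refine F.fix_Z1 hY hg (fun v hv => ?_) (F.mem_Z1_iff.1 hw Y hY)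
      have h6 : p • v ∈ lT W Y' (cj p (S ⊓ Y)) := by
        rw [← hYY', mem_lT_cj, inv_smul_smul]
        exact hv
      have h7 := (h4 h6).2 s hs
      rw [mul_smul, mul_smul, h7, inv_smul_smul]
    rw [mul_smul, mul_smul, inv_smul_eq_iff] at h5
    exact h5

end FamS

/-- **(E2)**, the announced form. -/
theorem node_one [Finite Γ] [Finite W] (F : Fam W M 𝒴) (hsp : (⨆ Y ∈ 𝒴, cm W Y) ⊔ fx W (RR 𝒴) = ⊤)
    (hS2 : IsPGroup 2 S) (syl : ¬ 2 ∣ S.relIndex M) (SP : S ≤ P) (PM : P ≤ M)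
    (hP : ∀ Q₁ Q₂ : Subgroup Γ, S ≤ Q₁ → S ≤ Q₂ → Q₁ ⊔ Q₂ = P → Q₁ = P ∨ Q₂ = P)
    (hZ : ¬ ∀ p ∈ P, ∀ w : W, (∀ s ∈ S, s • w = w) → p • w = w) : ∀ p ∈ P, ∀ v ∈ V2 W S 𝒴, p • v ∈ V2 W S 𝒴 :=
  FamS.node_one ⟨F, hsp, hS2, SP.trans PM, syl⟩ SP PM hP hZ

end Cfsg.Agent.Omega.NO3b.BasePt

end
end

-- part: Mrg/Omega/NO3b/Exit/BlkBP
section
prune_inst 0xd010234405000000001800800100004470000002004000002040000000000240a501680100e02110181088400000006011440400002800000000000000240709000002009108a100000010000000000000000000000000000000000000000004000400000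
set_option linter.all false
open scoped Cfsg.Agent.FastGrp

section


/-!
# The base point in LOC, LEMMA T2 (helper506, bb 22310), from the blocks `Blk0` (helper255, bb 22738)

* `exists_of_sq` : a `K`-linear `g` with `(g - 1)² = 0` is induced by `Y`;
* `smul_hom` : `k ∈ KV` acts on the block `V₁` as `kA k ⊗ 1`;
* **`exists_y`** : `t ∈ M` with `[V₁, t] ≤ X ≤ C(t)` and `r ∈ KV` which fixes `X` but not `V₁`: `t` acts on `V₁` as an
  element of `Y`;
* `fc B D` : `C_V(C_{YM}(D))`; `bad B D` : the sum of the blocks which are not contained in `fc D`;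
* **`t2`** : `t ∈ M`, `[V, t] ≤ D ≤ C_V(t)`: some `m ∈ M` is trivial on `bad D` and equal to `t` on `fc D`;
* `fc_fx` : `fc (C_V(S)) = C_V(S ∩ YM)`; `fc_F` : `fc F = F`.
-/

set_option autoImplicit false

open scoped Pointwise

namespace Cfsg.Agent.Omega.NO3b.Exit.BlkZ

open Subgroup Cfsg.Agent.Omega.NO3b.Exit Ten Descent
open Cfsg.Agent.Omega.NO3b.Exit.TBlk hiding Blk

universe u v

section one

variable {Y : Type u} {A : Type v} [Group Y] [AddCommGroup A] [DistribMulAction Y A] [Finite A]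
  [hI : IsIrr Y A]

/-- a `K`-linear `g` with `(g - 1)² = 0` is induced by `Y` -/
theorem exists_of_sq (htv : AllTv Y A) (g : A →ₗ[KK Y A] A) (hg : ∀ a, g (g a - a) = g a - a) :
    ∃ y : Y, ∀ a, y • a = g a := by
  classical
  let ν : A →ₗ[KK Y A] A := g - LinearMap.id
  have hν : ∀ a, ν a = g a - a := fun a => rfl
  have hνν : ∀ a, ν (ν a) = 0 := fun a => by rw [hν (ν a), hν a, hg, sub_self]
  let b := Module.finBasis (KK Y A) (LinearMap.range ν)
  let φ : Fin (Module.finrank (KK Y A) (LinearMap.range ν)) → Module.Dual (KK Y A) A := fun j =>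
    (b.coord j).comp ν.rangeRestrict
  have hφ : ∀ i j, φ i (b j : A) = 0 := by
    intro i j
    have h1 : ν.rangeRestrict (b j : A) = 0 := by
      apply Subtype.ext
      obtain ⟨a, ha⟩ := (b j).2
      change ν (b j : A) = 0
      rw [← ha, hνν]
    change b.coord i (ν.rangeRestrict (b j : A)) = 0
    rw [h1, map_zero]
  have hsum : ∀ a, ∑ j, φ j a • (b j : A) = ν a := by
    intro a
    have h1 := b.sum_repr (ν.rangeRestrict a)
    have h2 := congrArg (fun x : LinearMap.range ν => (x : A)) h1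
    rw [AddSubmonoidClass.coe_finsetSum] at h2
    exact h2
  have key : ∀ s : Finset (Fin (Module.finrank (KK Y A) (LinearMap.range ν))),
      ∃ y : Y, ∀ a, y • a = a + ∑ j ∈ s, φ j a • (b j : A) := by
    intro s
    induction s using Finset.induction_on with
    | empty => exact ⟨1, fun a => by rw [one_smul, Finset.sum_empty, add_zero]⟩
    | insert i s hi ih =>
      obtain ⟨y, hy⟩ := ih
      obtain ⟨y', hy'⟩ := htv (φ i) (b i : A) (hφ i i)
      refine ⟨y' * y, fun a => ?_⟩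
      have h1 : φ i (∑ j ∈ s, φ j a • (b j : A)) = 0 := by
        rw [map_sum]
        exact Finset.sum_eq_zero fun j _ => by rw [map_smul, hφ, smul_zero]
      rw [mul_smul, hy, hy', map_add, h1, add_zero, Finset.sum_insert hi]
      abel
  obtain ⟨y, hy⟩ := key Finset.univ
  refine ⟨y, fun a => ?_⟩
  rw [hy, hsum, hν]
  abel

end one

namespace Blk0

variable {H : Type u} {U : Type v} [Group H] [Finite H] [AddCommGroup U] [DistribMulAction H U] [Finite U]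
variable {Y Q BB : Subgroup H} {V F L C : AddSubgroup U} {h : H} {M KV S : Subgroup H}
variable (B : Blk0 Y Q BB V F L C h M KV S)
include B

/-- the action of `k ∈ KV` on `AA` -/
def kA {k : H} (hk : k ∈ KV) : AM B.dat →+ AM B.dat :=
  AddMonoidHom.mk' (fun a => AM.mk (k * a.val * k⁻¹) (B.AA_K k hk _ a.val_mem)) fun a b => AM.ext (by
    change k * (a.val * b.val) * k⁻¹ = (k * a.val * k⁻¹) * (k * b.val * k⁻¹)
    group)

theorem val_kA {k : H} (hk : k ∈ KV) (a : AM B.dat) : (B.kA hk a).val = k * a.val * k⁻¹ := rfl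

theorem smul_hom {k : H} (hk : k ∈ KV) (f : HomY Y (AM B.dat) U) (a : AM B.dat) :
    k • (f : AM B.dat →+ U) a = (f : AM B.dat →+ U) (B.kA hk a) := by
  obtain ⟨u, rfl⟩ := B.dat.mdl.psi_surj f
  rw [Mdl.psi_apply, Mdl.psi_apply, B.dat.bt_apply, B.dat.bt_apply, val_kA, B.br_K hk a.val_mem]

theorem kA_smul {k : H} (hk : k ∈ KV) (κ : KK Y (AM B.dat)) (a : AM B.dat) :
    B.kA hk (κ • a) = κ • B.kA hk a := by
  obtain ⟨f, hf⟩ := B.dat.mdl.exists_ne
  refine HomY.inj hf ?_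
  rw [← B.smul_hom hk f, ← HomY.smul_apply, B.smul_hom hk (κ • f), HomY.smul_apply]

/-- the elements of `V₁` -/
theorem V1_ind {P : U → Prop} (h0 : P 0) (hadd : ∀ a b, P a → P b → P (a + b)) (hneg : ∀ a, P a → P (-a))
    (hom : ∀ (f : HomY Y (AM B.dat) U) (a : AM B.dat), P ((f : AM B.dat →+ U) a)) {v : U} (hv : v ∈ V1 B.dat) : P v := by
  induction hv using AddSubgroup.closure_induction with
  | mem v hv =>
    obtain ⟨x, hx, u, rfl⟩ := hv
    have h1 := hom (B.dat.mdl.psi u) (AM.mk x hx)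
    rwa [Mdl.psi_apply, B.dat.bt_apply] at h1
  | zero => exact h0
  | add a b _ _ ha hb => exact hadd a b ha hb
  | neg a _ ha => exact hneg a ha

/-- `t ∈ M` with `[V₁, t] ≤ X ≤ C(t)` acts on `V₁` as an element of `Y`, if some `r ∈ KV` fixes `X` and moves `V₁`. -/
theorem exists_y {t : H} (ht : t ∈ M) {X : AddSubgroup U} (h1 : ∀ v ∈ V1 B.dat, br t v ∈ X)
    (h2 : ∀ x ∈ X, t • x = x) {r : H} (hr : r ∈ KV) (hrX : ∀ x ∈ X, r • x = x)
    (hrV : ∃ v ∈ V1 B.dat, r • v ≠ v) : ∃ y ∈ Y, ∀ v ∈ V1 B.dat, t • v = y • v := by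
  classical
  have hI := B.dat.isIrr
  -- `r` moves `AA`
  have hrA : ∃ a0 : AM B.dat, B.kA hr a0 ≠ a0 := by
    by_contra hcon
    push Not at hcon
    obtain ⟨v, hv, hne⟩ := hrV
    refine hne (B.V1_ind (P := fun v => r • v = v) (smul_zero _) (fun a b ha hb => by rw [smul_add, ha, hb])
      (fun a ha => by rw [smul_neg, ha]) (fun f a => by rw [B.smul_hom hr, hcon]) hv)
  obtain ⟨a0, ha0⟩ := hrA
  -- the lines
  have line : ∀ f : HomY Y (AM B.dat) U, f ≠ 0 → ∀ a : AM B.dat, ∃ a' : AM B.dat,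
      t • (f : AM B.dat →+ U) a = (f : AM B.dat →+ U) a' := by
    intro f hf
    let N : AddSubgroup (AM B.dat) :=
      { carrier := {a | ∃ a', t • (f : AM B.dat →+ U) a' = (f : AM B.dat →+ U) a}
        zero_mem' := ⟨0, by rw [map_zero, smul_zero]⟩
        add_mem' := by
          rintro a b ⟨a', ha⟩ ⟨b', hb⟩
          exact ⟨a' + b', by rw [map_add, smul_add, ha, hb, map_add]⟩
        neg_mem' := by
          rintro a ⟨a', ha⟩
          exact ⟨-a', by rw [map_neg, smul_neg, ha, map_neg]⟩ }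
    have hN : N = ⊤ := by
      rcases hI.irr N (fun k n hn => by
        obtain ⟨n', hn'⟩ := hn
        refine ⟨B.kA (B.nK' ht (B.YK k.2)) n', ?_⟩
        rw [← B.smul_hom, f.2, ← hn']
        change t • ((t⁻¹ * (k : H) * t) • (f : AM B.dat →+ U) n') = (k : H) • (t • (f : AM B.dat →+ U) n')
        rw [smul_smul, smul_smul]
        congr 1
        group) with h3 | h3
      · exfalso
        have h4 : B.kA hr a0 - a0 ∈ N := by
          refine ⟨B.kA (B.nK' ht hr) a0 - a0, ?_⟩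
          have h5 := hrX _ (h1 _ (hom_mem B f a0))
          rw [br_def, smul_sub, B.smul_hom hr] at h5
          have h6 : r • t • (f : AM B.dat →+ U) a0 = t • (f : AM B.dat →+ U) (B.kA (B.nK' ht hr) a0) := by
            rw [← B.smul_hom (B.nK' ht hr), smul_smul, smul_smul]
            congr 1
            group
          rw [h6] at h5
          rw [map_sub, map_sub, smul_sub]
          have h7 := sub_eq_sub_iff_sub_eq_sub.1 h5
          exact h7
        rw [h3, AddSubgroup.mem_bot, sub_eq_zero] at h4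
        exact ha0 h4
      · exact h3
    have h3 : ∀ a : AM B.dat, ∃ a', t • (f : AM B.dat →+ U) a' = (f : AM B.dat →+ U) a := fun a => by
      have h4 : a ∈ N := by rw [hN]; trivial
      exact h4
    choose θ hθ using h3
    have hinj : Function.Injective θ := fun a b e => HomY.inj hf (by rw [← hθ a, ← hθ b, e])
    have hbij := Finite.injective_iff_bijective.1 hinj
    intro a
    obtain ⟨c, rfl⟩ := hbij.2 a
    exact ⟨c, hθ c⟩
  -- a fixed line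
  obtain ⟨f, hf⟩ := B.dat.mdl.exists_ne
  choose g hg using line f hf
  have hfi := HomY.inj hf
  have hgadd : ∀ a b, g (a + b) = g a + g b := fun a b => hfi (by rw [← hg, map_add, smul_add, hg, hg, map_add])
  have hginj : Function.Injective g := fun a b e => hfi (smul_left_cancel t (by rw [hg, hg, e]))
  have hgsurj := (Finite.injective_iff_bijective.1 hginj).2
  -- `(g - 1) a` is fixed by `r`
  have hgr : ∀ a, B.kA hr (g a - a) = g a - a := by
    intro a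
    apply hfi
    rw [← B.smul_hom hr]
    have h5 := hrX _ (h1 _ (hom_mem B f a))
    rw [br_def, hg] at h5
    rw [map_sub]
    exact h5
  -- intertwining
  have hgk : ∀ (k : Y) (a : AM B.dat), k • g a = g (B.kA (B.nK' ht (B.YK k.2)) a) := by
    intro k a
    apply hfi
    rw [← hg, ← B.smul_hom, f.2, ← hg]
    change (k : H) • t • (f : AM B.dat →+ U) a = t • (t⁻¹ * (k : H) * t) • (f : AM B.dat →+ U) a
    rw [smul_smul, smul_smul]
    congr 1
    group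
  -- `K`-linearity
  have hglin : ∀ (κ : KK Y (AM B.dat)) (a : AM B.dat), g (κ • a) = κ • g a := by
    intro κ
    have hgs := hgsurj
    choose gi hgi using hgs
    have hgi' : ∀ a, gi (g a) = a := fun a => hginj (hgi _)
    have hgiadd : ∀ a b, gi (a + b) = gi a + gi b := fun a b => hginj (by rw [hgi, hgadd, hgi, hgi])
    let κ' : KK Y (AM B.dat) := KK.mk Y (AM B.dat)
      (AddMonoidHom.mk' (fun a => g (κ • gi a)) fun a b => by rw [hgiadd, smul_add, hgadd]) (by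
        intro k a
        change g (κ • gi (k • a)) = k • g (κ • gi a)
        have h5 := hgk k (gi a)
        rw [hgi] at h5
        rw [h5, hgi', hgk, B.kA_smul])
    have hκ' : ∀ a, κ' • g a = g (κ • a) := fun a => by
      change g (κ • gi (g a)) = g (κ • a)
      rw [hgi']
    by_cases he : κ' = κ
    · intro a
      rw [← hκ', he]
    exfalso
    have h5 : ∀ a : AM B.dat, B.kA hr ((κ' - κ) • g a) = (κ' - κ) • g a := by
      intro a
      have e : (κ' - κ) • g a = (g (κ • a) - κ • a) - κ • (g a - a) := by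
        rw [sub_smul, hκ', smul_sub]
        abel
      rw [e, map_sub, hgr, B.kA_smul, hgr]
    have h6 : κ' - κ ≠ 0 := sub_ne_zero.2 he
    apply ha0
    obtain ⟨c, hc⟩ := hgsurj ((κ' - κ)⁻¹ • a0)
    have h7 := h5 c
    rw [hc, smul_smul, mul_inv_cancel₀ h6, one_smul] at h7
    exact h7
  let gl : AM B.dat →ₗ[KK Y (AM B.dat)] AM B.dat :=
    { toFun := g
      map_add' := hgadd
      map_smul' := fun κ a => by rw [RingHom.id_apply]; exact hglin κ a }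
  -- all lines
  have all : ∀ (f' : HomY Y (AM B.dat) U) (a : AM B.dat), t • (f' : AM B.dat →+ U) a = (f' : AM B.dat →+ U) (g a) := by
    intro f' a
    by_cases hf' : ∃ κ : KK Y (AM B.dat), f' = κ • f
    · obtain ⟨κ, rfl⟩ := hf'
      rw [HomY.smul_apply, HomY.smul_apply, hg, hglin]
    have hf'0 : f' ≠ 0 := by
      rintro rfl
      exact hf' ⟨0, by rw [zero_smul]⟩
    have hsum0 : f + f' ≠ 0 := by
      intro e
      apply hf'
      refine ⟨-1, ?_⟩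
      rw [neg_smul, one_smul]
      exact (neg_eq_of_add_eq_zero_right e).symm
    obtain ⟨c, hc⟩ := line (f + f') hsum0 a
    obtain ⟨d, hd⟩ := line f' hf'0 a
    have h5 : (f : AM B.dat →+ U) (c - g a) = (f' : AM B.dat →+ U) (d - c) := by
      have h6 : ((f + f' : HomY Y (AM B.dat) U) : AM B.dat →+ U) a =
          (f : AM B.dat →+ U) a + (f' : AM B.dat →+ U) a := rfl
      have h7 : ((f + f' : HomY Y (AM B.dat) U) : AM B.dat →+ U) c =
          (f : AM B.dat →+ U) c + (f' : AM B.dat →+ U) c := rfl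
      rw [h6, smul_add, hg, hd, h7] at hc
      rw [map_sub, map_sub, sub_eq_sub_iff_add_eq_add, ← hc]
      abel
    have h8 : c - g a = 0 := by
      by_contra hne
      obtain ⟨κ, hκ⟩ := HomY.fact h5 hne
      have hκ0 : κ ≠ 0 := by
        rintro rfl
        rw [zero_smul] at hκ
        exact hf hκ
      exact hf' ⟨κ⁻¹, by rw [hκ, smul_smul, inv_mul_cancel₀ hκ0, one_smul]⟩
    rw [h8, map_zero] at h5
    have h9 : d - c = 0 := by
      by_contra hne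
      exact hf'0 (HomY.eq_zero h5.symm hne)
    rw [hd, sub_eq_zero.1 h9, sub_eq_zero.1 h8]
  obtain ⟨y, hy⟩ := exists_of_sq (allTv B.dat) gl (by
    intro a
    change g (g a - a) = g a - a
    apply hfi
    rw [← hg]
    have h5 := h2 _ (h1 _ (hom_mem B f a))
    rw [br_def, hg] at h5
    rw [map_sub]
    exact h5)
  refine ⟨y, y.2, fun v hv => ?_⟩
  refine B.V1_ind (P := fun v => t • v = (y : H) • v) (by rw [smul_zero, smul_zero])
    (fun a b ha hb => by rw [smul_add, smul_add, ha, hb]) (fun a ha => by rw [smul_neg, smul_neg, ha])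
    (fun f' a => ?_) hv
  rw [all]
  change _ = y • (f' : AM B.dat →+ U) a
  rw [← f'.2, hy]
  rfl

/-- the same for the block `m V₁` -/
theorem exists_ym {m t : H} (hm : m ∈ M) (ht : t ∈ M) {X : AddSubgroup U} (h1 : ∀ v ∈ m • V1 B.dat, br t v ∈ X)
    (h2 : ∀ x ∈ X, t • x = x) {r : H} (hr : r ∈ KV) (hrX : ∀ x ∈ X, r • x = x)
    (hrV : ∃ v ∈ m • V1 B.dat, r • v ≠ v) : ∃ y ∈ Y, ∀ v ∈ m • V1 B.dat, t • v = (m * y * m⁻¹) • v := by
  have hc : ∀ (x : H) (w : U), (m⁻¹ * x * m) • w = m⁻¹ • x • m • w := fun x w => by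
    rw [mul_smul, mul_smul]
  obtain ⟨y, hy, e⟩ := B.exists_y (t := m⁻¹ * t * m) (mul_mem (mul_mem (inv_mem hm) ht) hm) (X := m⁻¹ • X)
    (fun v hv => by
      have h3 := h1 _ (B.mem_smul.2 ⟨v, hv, rfl⟩)
      have h4 : br (m⁻¹ * t * m) v = m⁻¹ • br t (m • v) := by
        rw [br_def, br_def, hc, smul_sub, inv_smul_smul]
      rw [h4]
      exact AddSubgroup.smul_mem_pointwise_smul _ _ _ h3)
    (fun x hx => by
      obtain ⟨x', hx', rfl⟩ := (AddSubgroup.mem_smul_pointwise_iff_exists _ _ _).1 hx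
      rw [hc, smul_inv_smul, h2 _ hx'])
    (r := m⁻¹ * r * m) (B.nK' hm hr)
    (fun x hx => by
      obtain ⟨x', hx', rfl⟩ := (AddSubgroup.mem_smul_pointwise_iff_exists _ _ _).1 hx
      rw [hc, smul_inv_smul, hrX _ hx'])
    (by
      obtain ⟨v, hv, hne⟩ := hrV
      obtain ⟨w, hw, rfl⟩ := B.mem_smul.1 hv
      refine ⟨w, hw, fun h5 => hne ?_⟩
      rw [hc, inv_smul_eq_iff] at h5
      exact h5)
  refine ⟨y, hy, fun v hv => ?_⟩
  obtain ⟨w, hw, rfl⟩ := B.mem_smul.1 hv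
  have h5 := e w hw
  rw [hc, inv_smul_eq_iff] at h5
  rw [h5, mul_smul, mul_smul, inv_smul_smul]

/-- `C_V(C_{YM}(D))` -/
def fc (D : AddSubgroup U) : AddSubgroup U where
  carrier := {v | v ∈ V ∧ ∀ r ∈ B.YM, (∀ d ∈ D, r • d = d) → r • v = v}
  zero_mem' := ⟨zero_mem _, fun r _ _ => smul_zero r⟩
  add_mem' := by
    rintro a b ⟨ha, ha'⟩ ⟨hb, hb'⟩
    exact ⟨add_mem ha hb, fun r hr hD => by rw [smul_add, ha' r hr hD, hb' r hr hD]⟩
  neg_mem' := by
    rintro a ⟨ha, ha'⟩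
    exact ⟨neg_mem ha, fun r hr hD => by rw [smul_neg, ha' r hr hD]⟩

/-- `m V₁` is bad: not contained in `fc D` -/
def Bad (D : AddSubgroup U) (m : H) : Prop := ∃ w ∈ m • V1 B.dat, w ∉ B.fc D

/-- the sum of the bad blocks -/
def bad (D : AddSubgroup U) : AddSubgroup U :=
  AddSubgroup.closure {v | ∃ m ∈ M, B.Bad D m ∧ v ∈ m • V1 B.dat}

omit [Finite H] [Finite U] in
theorem Bad_congr {D : AddSubgroup U} {m m' : H} (e : m • V1 B.dat = m' • V1 B.dat) (h : B.Bad D m) : B.Bad D m' := by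
  unfold Bad at *
  rwa [← e]

omit [Finite H] [Finite U] in
theorem bad_le_all (D : AddSubgroup U) : B.bad D ≤ B.all := by
  refine (AddSubgroup.closure_le _).2 ?_
  rintro v ⟨m, hm, -, hv⟩
  exact B.le_all hm hv

omit [Finite H] [Finite U] in
theorem bad_le (D : AddSubgroup U) : B.bad D ≤ V := (B.bad_le_all D).trans B.all_le

variable {D : AddSubgroup U} {t : H}

/-- the product of the elements `m y m⁻¹` over a set of bad blocks -/
theorem exists_ys (ht : t ∈ M) (h1 : ∀ v ∈ V, br t v ∈ D) (h2 : ∀ d ∈ D, t • d = d) (s : Finset H) :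
    ∃ y ∈ B.YM,
      (∀ m ∈ M, (∃ m' ∈ s, m' ∈ M ∧ m' • V1 B.dat = m • V1 B.dat) → B.Bad D m → ∀ v ∈ m • V1 B.dat, y • v = t • v) ∧
      ∀ m ∈ M, ((¬ ∃ m' ∈ s, m' ∈ M ∧ m' • V1 B.dat = m • V1 B.dat) ∨ ¬ B.Bad D m) →
        ∀ v ∈ m • V1 B.dat, y • v = v := by
  classical
  induction s using Finset.induction_on with
  | empty =>
    refine ⟨1, one_mem _, ?_, fun _ _ _ _ _ => one_smul _ _⟩
    rintro m hm ⟨m', hm', -⟩
    simp at hm'
  | insert m0 s hm0s ih =>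
    obtain ⟨y, hy, hy1, hy2⟩ := ih
    by_cases hc : m0 ∈ M ∧ B.Bad D m0 ∧ ¬ ∃ m' ∈ s, m' ∈ M ∧ m' • V1 B.dat = m0 • V1 B.dat
    · obtain ⟨hm0, hb0, hn0⟩ := hc
      obtain ⟨w, hw, hwn⟩ := hb0
      have hwV := B.smul_V1_le hm0 hw
      have h3 : ∃ r ∈ B.YM, (∀ d ∈ D, r • d = d) ∧ r • w ≠ w := by
        by_contra hcon
        push Not at hcon
        exact hwn ⟨hwV, hcon⟩
      obtain ⟨r, hr, hrD, hrw⟩ := h3
      obtain ⟨y0, hy0, e0⟩ := B.exists_ym hm0 ht (fun v hv => h1 v (B.smul_V1_le hm0 hv)) h2 (B.YM_le hr) hrD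
        ⟨w, hw, hrw⟩
      refine ⟨m0 * y0 * m0⁻¹ * y, mul_mem (B.conj_mem_YM hm0 hy0) hy, ?_, ?_⟩
      · rintro m hm ⟨m', hm', hm'M, e'⟩ hbm v hv
        by_cases e : m0 • V1 B.dat = m • V1 B.dat
        · rw [mul_smul, hy2 m hm (Or.inl (by rwa [← e])) v hv, ← e0 v (by rwa [e])]
        · have h4 : m' ∈ s := by
            rcases Finset.mem_insert.1 hm' with rfl | h5
            · exact absurd e' e
            · exact h5
          rw [mul_smul, hy1 m hm ⟨m', h4, hm'M, e'⟩ hbm v hv]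
          refine B.cent hm0 hm e hy0 ?_
          rw [← hy1 m hm ⟨m', h4, hm'M, e'⟩ hbm v hv]
          exact B.smul_V1_K hm (B.YM_le hy) hv
      · intro m hm hor v hv
        have e : m0 • V1 B.dat ≠ m • V1 B.dat := by
          intro e
          rcases hor with h5 | h5
          · exact h5 ⟨m0, Finset.mem_insert_self _ _, hm0, e⟩
          · exact h5 (B.Bad_congr e ⟨w, hw, hwn⟩)
        have h6 : (¬ ∃ m' ∈ s, m' ∈ M ∧ m' • V1 B.dat = m • V1 B.dat) ∨ ¬ B.Bad D m := by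
          rcases hor with h5 | h5
          · left
            rintro ⟨m', h7, h8⟩
            exact h5 ⟨m', Finset.mem_insert_of_mem h7, h8⟩
          · exact Or.inr h5
        rw [mul_smul, hy2 m hm h6 v hv]
        exact B.cent hm0 hm e hy0 hv
    · refine ⟨y, hy, ?_, ?_⟩
      · rintro m hm ⟨m', hm', hm'M, e'⟩ hbm v hv
        rcases Finset.mem_insert.1 hm' with rfl | h5
        · have h6 : ∃ m'' ∈ s, m'' ∈ M ∧ m'' • V1 B.dat = m • V1 B.dat := by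
            by_contra hcon
            exact hc ⟨hm'M, B.Bad_congr e'.symm hbm, by rwa [e']⟩
          exact hy1 m hm h6 hbm v hv
        · exact hy1 m hm ⟨m', h5, hm'M, e'⟩ hbm v hv
      · intro m hm hor v hv
        refine hy2 m hm ?_ v hv
        rcases hor with h5 | h5
        · left
          rintro ⟨m', h7, h8⟩
          exact h5 ⟨m', Finset.mem_insert_of_mem h7, h8⟩
        · exact Or.inr h5

/-- an element of `m V₁` in `rest m + C(YM)` is zero -/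
theorem block_sep {m : H} (hm : m ∈ M) {x b c : U} (hx : x ∈ m • V1 B.dat) (hb : b ∈ B.rest m)
    (hc : ∀ r ∈ B.YM, r • c = c) (e : x = b + c) : x = 0 := by
  have h1 : c ∈ B.all := by
    have e1 : c = x - b := by rw [e]; abel
    rw [e1]
    exact sub_mem (B.le_all hm hx) (B.rest_le_all m hb)
  have h2 : c = 0 := B.all_sep h1 fun m' hm' k hk => hc _ (B.conj_mem_YM hm' hk)
  rw [h2, add_zero] at e
  have h3 : x ∈ m • V1 B.dat ⊓ B.rest m := AddSubgroup.mem_inf.2 ⟨hx, e ▸ hb⟩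
  rwa [B.indep hm, AddSubgroup.mem_bot] at h3

/-- `t` agrees on the bad blocks with an element of `YM` which fixes `D` and the good blocks -/
theorem exists_yD (ht : t ∈ M) (h1 : ∀ v ∈ V, br t v ∈ D) (h2 : ∀ d ∈ D, t • d = d) (hD : D ≤ V) :
    ∃ y ∈ B.YM, (∀ v ∈ B.bad D, y • v = t • v) ∧ (∀ d ∈ D, y • d = d) ∧ ∀ v ∈ B.bad D, y⁻¹ • v ∈ B.bad D := by
  classical
  have := Fintype.ofFinite H
  obtain ⟨y, hy, hy1, hy2⟩ := B.exists_ys ht h1 h2 Finset.univ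
  have hyK := B.YM_le hy
  have hy1' : ∀ m ∈ M, B.Bad D m → ∀ v ∈ m • V1 B.dat, y • v = t • v := fun m hm hb =>
    hy1 m hm ⟨m, Finset.mem_univ _, hm, rfl⟩ hb
  have hy2' : ∀ m ∈ M, ¬ B.Bad D m → ∀ v ∈ m • V1 B.dat, y • v = v := fun m hm hb => hy2 m hm (Or.inr hb)
  refine ⟨y, hy, ?_, ?_, ?_⟩
  · intro v hv
    induction hv using AddSubgroup.closure_induction with
    | mem v hv =>
      obtain ⟨m, hm, hb, hv⟩ := hv
      exact hy1' m hm hb v hv
    | zero => rw [smul_zero, smul_zero]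
    | add a b _ _ ha hb => rw [smul_add, smul_add, ha, hb]
    | neg a _ ha => rw [smul_neg, smul_neg, ha]
  · intro d hd
    obtain ⟨a, ha, c, hc, hx, rfl⟩ := B.gen_dec (hD hd)
    have h3 : y • a - a = 0 := by
      refine B.all_sep' (sub_mem (B.all_M (B.KM hyK) ha) ha) fun m hm => ?_
      obtain ⟨a1, ha1, b1, hb1, rfl⟩ := B.mem_all ha m
      have h4 : y • a1 = a1 := by
        by_cases hb : B.Bad D m
        swap
        · exact hy2' m hm hb a1 ha1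
        have h5 := hy1' m hm hb a1 ha1
        have h6 : (t * m) • V1 B.dat = m • V1 B.dat := by
          rw [mul_smul]
          refine AddSubgroup.eq_of_le_of_card_ge ?_ (card_smul t _).ge
          intro v hv
          obtain ⟨w, hw, rfl⟩ := (AddSubgroup.mem_smul_pointwise_iff_exists _ _ _).1 hv
          rw [← hy1' m hm hb w hw]
          exact B.smul_V1_K hm hyK hw
        have h7 : t • b1 ∈ B.rest m := by
          have h8 := B.smul_rest ht hb1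
          rwa [B.rest_congr h6] at h8
        have h9 : ∀ r ∈ B.YM, r • (t • c) = t • c := by
          intro r hr
          have h10 := hx _ (B.YM_conj (inv_mem ht) hr)
          rw [inv_inv, mul_smul, mul_smul, inv_smul_eq_iff] at h10
          exact h10
        have h11 := h2 _ hd
        rw [smul_add, smul_add] at h11
        have h12 : t • a1 - a1 = 0 := by
          refine B.block_sep hm (x := t • a1 - a1) (b := b1 - t • b1) (c := c - t • c) (sub_mem ?_ ha1)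
            (sub_mem hb1 h7) (fun r hr => by rw [smul_sub, hx r hr, h9 r hr]) ?_
          · rw [← h5]
            exact B.smul_V1_K hm hyK ha1
          · have h13 : t • a1 = a1 + b1 + c - t • b1 - t • c := by
              rw [← h11]
              abel
            rw [h13]
            abel
        rw [h5]
        exact sub_eq_zero.1 h12
      have e : y • (a1 + b1) - (a1 + b1) = y • b1 - b1 := by
        rw [smul_add, h4]
        abel
      rw [e]
      exact sub_mem (B.rest_K hm hyK hb1) hb1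
    rw [smul_add, hx y hy, sub_eq_zero.1 h3]
  · intro v hv
    induction hv using AddSubgroup.closure_induction with
    | mem v hv =>
      obtain ⟨m, hm, hb, hv⟩ := hv
      exact AddSubgroup.subset_closure ⟨m, hm, hb, B.smul_V1_K hm (inv_mem hyK) hv⟩
    | zero => rw [smul_zero]; exact zero_mem _
    | add a b _ _ ha hb => rw [smul_add]; exact add_mem ha hb
    | neg a _ ha => rw [smul_neg]; exact neg_mem ha

/-- **LEMMA T2**, the local part -/
theorem t2 (ht : t ∈ M) (h1 : ∀ v ∈ V, br t v ∈ D) (h2 : ∀ d ∈ D, t • d = d) (hD : D ≤ V) :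
    (∀ v ∈ B.bad D, v ∈ B.fc D → t • v = v) ∧
      ∃ m ∈ M, (∀ v ∈ B.bad D, m • v = v) ∧ ∀ v ∈ B.fc D, m • v = t • v := by
  obtain ⟨y, hy, hy1, hyD, hy3⟩ := B.exists_yD ht h1 h2 hD
  refine ⟨fun v hv hv' => ?_, t * y⁻¹, mul_mem ht (inv_mem (B.KM (B.YM_le hy))), fun v hv => ?_, fun v hv => ?_⟩
  · rw [← hy1 v hv]
    exact hv'.2 y hy hyD
  · rw [mul_smul, ← hy1 _ (hy3 v hv), smul_inv_smul]
  · rw [mul_smul]
    congr 1
    rw [inv_smul_eq_iff]
    exact (hv.2 y hy hyD).symm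

/-- `C_V(Q) = F` -/
theorem mem_F {v : U} (hv : v ∈ V) (hQ : ∀ d ∈ Q, d • v = v) : v ∈ F := by
  obtain ⟨a, f, haf⟩ := B.dat.mdl.V_span hv
  by_cases ha : a ∈ B.dat.AZM
  · obtain ⟨u, rfl⟩ := B.dat.mdl.psi_surj f
    have h3 := B.dat.mdl.inF a ha u
    rw [Mdl.psi_apply] at haf
    have e : v = (v - B.dat.bt a u) + B.dat.bt a u := by abel
    rw [e]
    exact add_mem haf h3
  obtain ⟨s, hs, hs0⟩ := B.dat.mdl.ne
  obtain ⟨d, hd, e⟩ := B.dat.mdl.surj a ha s hs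
  have hdQ : (d : H) ∈ Q := mem_subgroupOf.1 hd
  have h3 : (f : AM B.dat →+ U) s = 0 := by
    rw [← e, map_sub, f.2]
    have h4 := B.dat.mdl.qF d hd _ haf
    have h5 : d • v = v := hQ _ hdQ
    rw [smul_sub, h5] at h4
    have h6 : d • (f : AM B.dat →+ U) a = (f : AM B.dat →+ U) a := by
      have h7 := congrArg (fun x => v - x) h4
      simpa using h7
    rw [h6, sub_self]
  have h4 : f = 0 := HomY.eq_zero h3 hs0
  rw [h4] at haf
  have h5 : ((0 : HomY Y (AM B.dat) U) : AM B.dat →+ U) a = 0 := rfl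
  rwa [h5, sub_zero] at haf

end Blk0

end Cfsg.Agent.Omega.NO3b.Exit.BlkZ

end

section


/-!
# NotFFG, the base point: LEMMA T2 over a family of blocks (helper255, bb 23362)

`Fa : Fam W M 𝒴` (helper957) and `gas` : `W = sm W 𝒴 + C_W(RR 𝒴)`.

* `sm W 𝒴 = Σ [W, Y]`, `rst W 𝒴 Y = Σ_{Y' ≠ Y} [W, Y']`; `Fam.sep`, `Fam.comp_ne`;
* `fcl 𝒴 D` : `C_W(C_{RR}(D))`; `bd 𝒴 D` : the sum of the blocks which are not contained in `fcl 𝒴 D`;
* **`Fam.tt`** : `t ∈ M`, `[W, t] ≤ D ≤ C_W(t)`: some `y ∈ RR 𝒴` is equal to `t` on `bd 𝒴 D` and trivial on `D`;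
* **`Fam.fcl_fx`** : `fcl (C_W(S)) = C_W(S ∩ RR 𝒴)`; `fcl_flat` : `fcl F = F` for `F = C_W(Q)`, `Q ≤ Y`.
-/

set_option autoImplicit false
set_option linter.unusedSectionVars false

namespace Cfsg.Agent.Omega.NO3b.BasePt

open Subgroup
open Cfsg.Agent.Omega.NO3b.Exit Cfsg.Agent.Omega.NO3b.Exit.Ten Cfsg.Agent.Omega.NO3b.Exit.Descent
open Cfsg.Agent.Omega.NO3b.Exit.TBlk (Sn)
open Cfsg.Agent.Omega.NO3b.Exit.BlkZ (exists_of_sq sn_odd)
open Cfsg.Agent.Omega.FF.Basic (fx mem_fx)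
open scoped Pointwise

universe u v w

section one

variable {Γ : Type u} [Group Γ] {W : Type v} [AddCommGroup W] [DistribMulAction Γ W]
variable {Y : Subgroup Γ} {A : Type w} [AddCommGroup A] [Finite A] [DistribMulAction Y A] [hI : IsIrr Y A]

theorem img_ind {P : W → Prop} (h0 : P 0) (hadd : ∀ a b, P a → P b → P (a + b)) (hneg : ∀ a, P a → P (-a))
    (hom : ∀ (f : HomY Y A W) (a : A), P ((f : A →+ W) a)) {v : W} (hv : v ∈ img Y A W) : P v := by
  induction hv using AddSubgroup.closure_induction with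
  | mem v hv =>
    obtain ⟨f, a, rfl⟩ := hv
    exact hom f a
  | zero => exact h0
  | add a b _ _ ha hb => exact hadd a b ha hb
  | neg a _ ha => exact hneg a ha

/-- One block: `t` normalises `Y`, `[A ⊗ E, t] ≤ X ≤ C(t)` and some `r ∈ Y` fixes `X` and moves `A`: `t` acts on
`A ⊗ E` as an element of `Y`. -/
theorem exists_blkT [Finite W] (htv : AllTv Y A) (hne : ∃ f : HomY Y A W, f ≠ 0) {t : Γ}
    (hn : ∀ k ∈ Y, t⁻¹ * k * t ∈ Y) {X : AddSubgroup W} (h1 : ∀ v ∈ img Y A W, t • v - v ∈ X)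
    (h2 : ∀ x ∈ X, t • x = x) {r : Y} (hrX : ∀ x ∈ X, r • x = x) (hrA : ∃ a : A, r • a ≠ a) :
    ∃ y : Y, ∀ v ∈ img Y A W, t • v = y • v := by
  classical
  obtain ⟨a0, ha0⟩ := hrA
  let tk : Y → Y := fun k => ⟨t⁻¹ * (k : Γ) * t, hn k k.2⟩
  have htk : ∀ (k : Y) (w : W), k • t • w = t • tk k • w := fun k w => by
    change (k : Γ) • t • w = t • (t⁻¹ * (k : Γ) * t) • w
    rw [smul_smul, smul_smul]
    congr 1
    group
  -- the lines
  have line : ∀ f : HomY Y A W, f ≠ 0 → ∀ a : A, ∃ a' : A, t • (f : A →+ W) a = (f : A →+ W) a' := by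
    intro f hf
    let N : AddSubgroup A :=
      { carrier := {a | ∃ a', t • (f : A →+ W) a' = (f : A →+ W) a}
        zero_mem' := ⟨0, by rw [map_zero, smul_zero]⟩
        add_mem' := by
          rintro a b ⟨a', ha⟩ ⟨b', hb⟩
          exact ⟨a' + b', by rw [map_add, smul_add, ha, hb, map_add]⟩
        neg_mem' := by
          rintro a ⟨a', ha⟩
          exact ⟨-a', by rw [map_neg, smul_neg, ha, map_neg]⟩ }
    have hN : N = ⊤ := by
      rcases hI.irr N (fun k n hn' => by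
        obtain ⟨n', hn'⟩ := hn'
        exact ⟨tk k • n', by rw [f.2, f.2, ← hn', htk]⟩) with h3 | h3
      · exfalso
        have h4 : r • a0 - a0 ∈ N := by
          refine ⟨tk r • a0 - a0, ?_⟩
          have h5 := hrX _ (h1 _ (mem_img f a0))
          rw [smul_sub, ← f.2, htk, ← f.2] at h5
          rw [map_sub, map_sub, smul_sub]
          exact sub_eq_sub_iff_sub_eq_sub.1 h5
        rw [h3, AddSubgroup.mem_bot, sub_eq_zero] at h4
        exact ha0 h4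
      · exact h3
    have h3 : ∀ a : A, ∃ a', t • (f : A →+ W) a' = (f : A →+ W) a := fun a => by
      have h4 : a ∈ N := by rw [hN]; trivial
      exact h4
    choose θ hθ using h3
    have hinj : Function.Injective θ := fun a b e => HomY.inj hf (by rw [← hθ a, ← hθ b, e])
    have hbij := Finite.injective_iff_bijective.1 hinj
    intro a
    obtain ⟨c, rfl⟩ := hbij.2 a
    exact ⟨c, hθ c⟩
  -- a fixed line
  obtain ⟨f, hf⟩ := hne
  choose g hg using line f hf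
  have hfi := HomY.inj hf
  have hgadd : ∀ a b, g (a + b) = g a + g b := fun a b => hfi (by rw [← hg, map_add, smul_add, hg, hg, map_add])
  have hginj : Function.Injective g := fun a b e => hfi (smul_left_cancel t (by rw [hg, hg, e]))
  have hgsurj := (Finite.injective_iff_bijective.1 hginj).2
  have hgr : ∀ a, r • (g a - a) = g a - a := by
    intro a
    apply hfi
    have h5 := hrX _ (h1 _ (mem_img f a))
    rw [hg, ← map_sub, ← f.2] at h5
    exact h5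
  have hgk : ∀ (k : Y) (a : A), k • g a = g (tk k • a) := by
    intro k a
    apply hfi
    rw [← hg, f.2, ← hg, htk, ← f.2]
  have hglin : ∀ (κ : KK Y A) (a : A), g (κ • a) = κ • g a := by
    intro κ
    have hgs := hgsurj
    choose gi hgi using hgs
    have hgi' : ∀ a, gi (g a) = a := fun a => hginj (hgi _)
    have hgiadd : ∀ a b, gi (a + b) = gi a + gi b := fun a b => hginj (by rw [hgi, hgadd, hgi, hgi])
    let κ' : KK Y A := KK.mk Y A
      (AddMonoidHom.mk' (fun a => g (κ • gi a)) fun a b => by rw [hgiadd, smul_add, hgadd]) (by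
        intro k a
        change g (κ • gi (k • a)) = k • g (κ • gi a)
        have h5 := hgk k (gi a)
        rw [hgi] at h5
        rw [h5, hgi', hgk, KK.smul_smul_comm])
    have hκ' : ∀ a, κ' • g a = g (κ • a) := fun a => by
      change g (κ • gi (g a)) = g (κ • a)
      rw [hgi']
    by_cases he : κ' = κ
    · intro a
      rw [← hκ', he]
    exfalso
    have h5 : ∀ a : A, r • ((κ' - κ) • g a) = (κ' - κ) • g a := by
      intro a
      have e : (κ' - κ) • g a = (g (κ • a) - κ • a) - κ • (g a - a) := by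
        rw [sub_smul, hκ', smul_sub]
        abel
      rw [e, smul_sub, hgr, ← KK.smul_smul_comm, hgr]
    have h6 : κ' - κ ≠ 0 := sub_ne_zero.2 he
    apply ha0
    obtain ⟨c, hc⟩ := hgsurj ((κ' - κ)⁻¹ • a0)
    have h7 := h5 c
    rw [hc, smul_smul, mul_inv_cancel₀ h6, one_smul] at h7
    exact h7
  let gl : A →ₗ[KK Y A] A :=
    { toFun := g
      map_add' := hgadd
      map_smul' := fun κ a => by rw [RingHom.id_apply]; exact hglin κ a }
  have all : ∀ (f' : HomY Y A W) (a : A), t • (f' : A →+ W) a = (f' : A →+ W) (g a) := by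
    intro f' a
    by_cases hf' : ∃ κ : KK Y A, f' = κ • f
    · obtain ⟨κ, rfl⟩ := hf'
      rw [HomY.smul_apply, HomY.smul_apply, hg, hglin]
    have hf'0 : f' ≠ 0 := by
      rintro rfl
      exact hf' ⟨0, by rw [zero_smul]⟩
    have hsum0 : f + f' ≠ 0 := by
      intro e
      apply hf'
      refine ⟨-1, ?_⟩
      rw [neg_smul, one_smul]
      exact (neg_eq_of_add_eq_zero_right e).symm
    obtain ⟨c, hc⟩ := line (f + f') hsum0 a
    obtain ⟨d, hd⟩ := line f' hf'0 a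
    have h5 : (f : A →+ W) (c - g a) = (f' : A →+ W) (d - c) := by
      have h6 : ((f + f' : HomY Y A W) : A →+ W) a = (f : A →+ W) a + (f' : A →+ W) a := rfl
      have h7 : ((f + f' : HomY Y A W) : A →+ W) c = (f : A →+ W) c + (f' : A →+ W) c := rfl
      rw [h6, smul_add, hg, hd, h7] at hc
      rw [map_sub, map_sub, sub_eq_sub_iff_add_eq_add, ← hc]
      abel
    have h8 : c - g a = 0 := by
      by_contra hne
      obtain ⟨κ, hκ⟩ := HomY.fact h5 hne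
      have hκ0 : κ ≠ 0 := by
        rintro rfl
        rw [zero_smul] at hκ
        exact hf hκ
      exact hf' ⟨κ⁻¹, by rw [hκ, smul_smul, inv_mul_cancel₀ hκ0, one_smul]⟩
    rw [h8, map_zero] at h5
    have h9 : d - c = 0 := by
      by_contra hne
      exact hf'0 (HomY.eq_zero h5.symm hne)
    rw [hd, sub_eq_zero.1 h9, sub_eq_zero.1 h8]
  obtain ⟨y, hy⟩ := exists_of_sq htv gl (by
    intro a
    change g (g a - a) = g a - a
    apply hfi
    rw [← hg]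
    have h5 := h2 _ (h1 _ (mem_img f a))
    rw [hg, ← map_sub] at h5
    exact h5)
  refine ⟨y, fun v hv => ?_⟩
  refine img_ind (P := fun v => t • v = y • v) (by rw [smul_zero, smul_zero])
    (fun a b ha hb => by rw [smul_add, smul_add, ha, hb]) (fun a ha => by rw [smul_neg, smul_neg, ha])
    (fun f' a => ?_) hv
  rw [all, ← f'.2, hy]
  rfl

/-- `Y` moves `A` -/
theorem exists_move (htv : AllTv Y A) (hd : 2 ≤ Module.finrank (KK Y A) A) : ∃ (y : Y) (a : A), y • a ≠ a := by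
  classical
  have : Module.Finite (KK Y A) A := Module.Finite.of_finite
  let b := Module.finBasis (KK Y A) A
  let i : Fin (Module.finrank (KK Y A) A) := ⟨0, by omega⟩
  let j : Fin (Module.finrank (KK Y A) A) := ⟨1, by omega⟩
  have hij : i ≠ j := by simp [i, j, Fin.ext_iff]
  obtain ⟨y, hy⟩ := htv (b.coord i) (b j) (by
    rw [Module.Basis.coord_apply, Module.Basis.repr_self, Finsupp.single_apply, if_neg hij.symm])
  refine ⟨y, b i, fun h => ?_⟩
  rw [hy, Module.Basis.coord_apply, Module.Basis.repr_self, Finsupp.single_apply, if_pos rfl, one_smul] at h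
  exact b.ne_zero j (left_eq_add.1 h.symm)

/-- an element of `A ⊗ E` fixed by `Y` is zero -/
theorem img_fix [Finite W] (htv : AllTv Y A) (hd : 2 ≤ Module.finrank (KK Y A) A) {v : W} (hv : v ∈ img Y A W)
    (hf : ∀ y : Y, y • v = v) : v = 0 := by
  classical
  obtain ⟨d, f, hfi, hco⟩ := exists_coord (Y := Y) (A := A) (U := W)
  obtain ⟨a, rfl⟩ := hco v hv
  have h1 : ∀ y : Y, ∀ i, y • a i = a i := by
    intro y i
    have h2 := hf y
    rw [Finset.smul_sum] at h2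
    have h3 := HomY.ind hfi Finset.univ (fun i => y • a i - a i) (by
      rw [← sub_eq_zero.2 h2, ← Finset.sum_sub_distrib]
      exact Finset.sum_congr rfl fun i _ => by rw [map_sub, (f i).2]) i (Finset.mem_univ _)
    exact sub_eq_zero.1 h3
  refine Finset.sum_eq_zero fun i _ => ?_
  let N : AddSubgroup A :=
    { carrier := {x | ∀ y : Y, y • x = x}
      zero_mem' := fun y => smul_zero y
      add_mem' := fun {x z} hx hz y => by rw [smul_add, hx y, hz y]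
      neg_mem' := fun {x} hx y => by rw [smul_neg, hx y] }
  rcases hI.irr N (fun k n hn y => by rw [hn k, hn y]) with h | h
  · have h3 : a i ∈ N := fun y => h1 y i
    rw [h, AddSubgroup.mem_bot] at h3
    rw [h3, map_zero]
  · exfalso
    obtain ⟨y, x, hx⟩ := exists_move htv hd
    have h3 : x ∈ N := by rw [h]; trivial
    exact hx (h3 y)

end one

/-! ### the family -/

variable {Γ : Type u} [Group Γ] {W : Type v} [AddCommGroup W] [DistribMulAction Γ W]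

variable (W) in
/-- the sum of the blocks -/
def sm (𝒴 : Set (Subgroup Γ)) : AddSubgroup W := AddSubgroup.closure {v | ∃ Y ∈ 𝒴, v ∈ cm W Y}

variable (W) in
/-- the sum of the blocks different from `[W, Y]` -/
def rst (𝒴 : Set (Subgroup Γ)) (Y : Subgroup Γ) : AddSubgroup W :=
  AddSubgroup.closure {v | ∃ Y' ∈ 𝒴, Y' ≠ Y ∧ v ∈ cm W Y'}

theorem br_mem_cm {Y : Subgroup Γ} {y : Γ} (hy : y ∈ Y) (w : W) : y • w - w ∈ cm W Y :=
  AddSubgroup.subset_closure ⟨y, hy, w, rfl⟩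

/-- `m [W, Y] = [W, m Y m⁻¹]` -/
theorem smul_cm {Y : Subgroup Γ} (m : Γ) {v : W} (hv : v ∈ cm W Y) :
    m • v ∈ cm W (Y.map (MulAut.conj m).toMonoidHom) := by
  induction hv using AddSubgroup.closure_induction with
  | mem v hv =>
    obtain ⟨y, hy, w, rfl⟩ := hv
    refine AddSubgroup.subset_closure ⟨m * y * m⁻¹, ⟨y, hy, rfl⟩, m • w, ?_⟩
    rw [smul_sub, smul_smul, smul_smul, inv_mul_cancel_right]
  | zero => rw [smul_zero]; exact zero_mem _
  | add a b _ _ ha hb => rw [smul_add]; exact add_mem ha hb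
  | neg a _ ha => rw [smul_neg]; exact neg_mem ha

theorem smul_cm_self {Y : Subgroup Γ} {y : Γ} (hy : y ∈ Y) {v : W} (hv : v ∈ cm W Y) : y • v ∈ cm W Y := by
  have e : y • v = (y • v - v) + v := by abel
  rw [e]
  exact add_mem (br_mem_cm hy v) hv

theorem cm_le_sm {𝒴 : Set (Subgroup Γ)} {Y : Subgroup Γ} (hY : Y ∈ 𝒴) : cm W Y ≤ sm W 𝒴 :=
  fun _ hv => AddSubgroup.subset_closure ⟨Y, hY, hv⟩

theorem cm_le_rst {𝒴 : Set (Subgroup Γ)} {Y Y' : Subgroup Γ} (hY : Y' ∈ 𝒴) (hne : Y' ≠ Y) :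
    cm W Y' ≤ rst W 𝒴 Y := fun _ hv => AddSubgroup.subset_closure ⟨Y', hY, hne, hv⟩

theorem rst_le_sm (𝒴 : Set (Subgroup Γ)) (Y : Subgroup Γ) : rst W 𝒴 Y ≤ sm W 𝒴 :=
  AddSubgroup.closure_mono (by rintro v ⟨Y', hY', -, hv⟩; exact ⟨Y', hY', hv⟩)

theorem sm_dec {𝒴 : Set (Subgroup Γ)} (Y : Subgroup Γ) {v : W} (hv : v ∈ sm W 𝒴) :
    ∃ a ∈ cm W Y, ∃ b ∈ rst W 𝒴 Y, v = a + b := by
  classical
  induction hv using AddSubgroup.closure_induction with
  | mem v hv =>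
    obtain ⟨Y', hY', hv⟩ := hv
    by_cases e : Y' = Y
    · exact ⟨v, e ▸ hv, 0, zero_mem _, (add_zero v).symm⟩
    · exact ⟨0, zero_mem _, v, cm_le_rst hY' e hv, (zero_add v).symm⟩
  | zero => exact ⟨0, zero_mem _, 0, zero_mem _, (add_zero 0).symm⟩
  | add a b _ _ ha hb =>
    obtain ⟨a1, ha1, a2, ha2, rfl⟩ := ha
    obtain ⟨b1, hb1, b2, hb2, rfl⟩ := hb
    exact ⟨a1 + b1, add_mem ha1 hb1, a2 + b2, add_mem ha2 hb2, by abel⟩
  | neg a _ ha =>
    obtain ⟨a1, ha1, a2, ha2, rfl⟩ := ha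
    exact ⟨-a1, neg_mem ha1, -a2, neg_mem ha2, by abel⟩

theorem IsBlk.fix [Finite W] {Y : Subgroup Γ} (b : IsBlk W Y) {v : W} (hv : v ∈ cm W Y)
    (hf : ∀ y ∈ Y, y • v = v) : v = 0 := by
  obtain ⟨A, _, _, _, _, htv, -, e, h2, -⟩ := b.ex
  rw [e] at hv
  exact img_fix htv h2 hv fun y => hf y y.2

namespace Fam

variable {M : Subgroup Γ} {𝒴 : Set (Subgroup Γ)} (Fa : Fam W M 𝒴)
include Fa

theorem triv_rst {Y : Subgroup Γ} (hY : Y ∈ 𝒴) {y : Γ} (hy : y ∈ Y) {v : W} (hv : v ∈ rst W 𝒴 Y) : y • v = v := by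
  induction hv using AddSubgroup.closure_induction with
  | mem v hv =>
    obtain ⟨Y', hY', hne, hv⟩ := hv
    exact Fa.triv Y hY Y' hY' (Ne.symm hne) y hy v hv
  | zero => exact smul_zero y
  | add a b _ _ ha hb => rw [smul_add, ha, hb]
  | neg a _ ha => rw [smul_neg, ha]

/-- an element of `RR` acts on a block as an element of `Y` -/
theorem RR_cm {r : Γ} (hr : r ∈ RR 𝒴) : ∀ Y ∈ 𝒴, ∃ y ∈ Y, ∀ v ∈ cm W Y, r • v = y • v := by
  let K : Subgroup Γ :=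
    { carrier := {r | ∀ Y ∈ 𝒴, ∃ y ∈ Y, ∀ v ∈ cm W Y, r • v = y • v}
      one_mem' := fun Y _ => ⟨1, one_mem _, fun v _ => rfl⟩
      mul_mem' := by
        intro a b ha hb Y hY
        obtain ⟨x, hx, hxv⟩ := ha Y hY
        obtain ⟨y, hy, hyv⟩ := hb Y hY
        exact ⟨x * y, mul_mem hx hy, fun v hv => by rw [mul_smul, hyv v hv, hxv _ (smul_cm_self hy hv), mul_smul]⟩
      inv_mem' := by
        intro a ha Y hY
        obtain ⟨x, hx, hxv⟩ := ha Y hY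
        refine ⟨x⁻¹, inv_mem hx, fun v hv => ?_⟩
        rw [inv_smul_eq_iff, hxv _ (smul_cm_self (inv_mem hx) hv), smul_inv_smul] }
  have h1 : RR 𝒴 ≤ K := by
    refine sSup_le fun Y' hY' r hr Y hY => ?_
    by_cases e : Y' = Y
    · subst e
      exact ⟨r, hr, fun v _ => rfl⟩
    · exact ⟨1, one_mem _, fun v hv => by rw [one_smul, Fa.triv Y' hY' Y hY e r hr v hv]⟩
  exact h1 hr

theorem smul_cm_RR {r : Γ} (hr : r ∈ RR 𝒴) {Y : Subgroup Γ} (hY : Y ∈ 𝒴) {v : W} (hv : v ∈ cm W Y) :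
    r • v ∈ cm W Y := by
  obtain ⟨y, hy, hyv⟩ := Fa.RR_cm hr Y hY
  rw [hyv v hv]
  exact smul_cm_self hy hv

theorem smul_rst_RR {r : Γ} (hr : r ∈ RR 𝒴) {Y : Subgroup Γ} {v : W} (hv : v ∈ rst W 𝒴 Y) :
    r • v ∈ rst W 𝒴 Y := by
  induction hv using AddSubgroup.closure_induction with
  | mem v hv =>
    obtain ⟨Y', hY', hne, hv⟩ := hv
    exact AddSubgroup.subset_closure ⟨Y', hY', hne, Fa.smul_cm_RR hr hY' hv⟩
  | zero => rw [smul_zero]; exact zero_mem _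
  | add a b _ _ ha hb => rw [smul_add]; exact add_mem ha hb
  | neg a _ ha => rw [smul_neg]; exact neg_mem ha

theorem smul_sm_RR {r : Γ} (hr : r ∈ RR 𝒴) {v : W} (hv : v ∈ sm W 𝒴) : r • v ∈ sm W 𝒴 := by
  induction hv using AddSubgroup.closure_induction with
  | mem v hv =>
    obtain ⟨Y', hY', hv⟩ := hv
    exact AddSubgroup.subset_closure ⟨Y', hY', Fa.smul_cm_RR hr hY' hv⟩
  | zero => rw [smul_zero]; exact zero_mem _
  | add a b _ _ ha hb => rw [smul_add]; exact add_mem ha hb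
  | neg a _ ha => rw [smul_neg]; exact neg_mem ha

theorem RR_le : RR 𝒴 ≤ M := sSup_le Fa.le

theorem smul_rst {t : Γ} (ht : t ∈ M) {Y : Subgroup Γ} (hn : Y.map (MulAut.conj t).toMonoidHom = Y) {v : W}
    (hv : v ∈ rst W 𝒴 Y) : t • v ∈ rst W 𝒴 Y := by
  induction hv using AddSubgroup.closure_induction with
  | mem v hv =>
    obtain ⟨Y', hY', hne, hv⟩ := hv
    refine AddSubgroup.subset_closure ⟨_, Fa.conj Y' hY' t ht, fun e => hne ?_, smul_cm t hv⟩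
    exact Subgroup.map_injective (MulAut.conj t).injective (e.trans hn.symm)
  | zero => rw [smul_zero]; exact zero_mem _
  | add a b _ _ ha hb => rw [smul_add]; exact add_mem ha hb
  | neg a _ ha => rw [smul_neg]; exact neg_mem ha

theorem RR_conj {m r : Γ} (hm : m ∈ M) (hr : r ∈ RR 𝒴) : m * r * m⁻¹ ∈ RR 𝒴 := by
  have h1 : RR 𝒴 ≤ (RR 𝒴).comap (MulAut.conj m).toMonoidHom := by
    refine sSup_le fun Y hY y hy => ?_
    exact (le_sSup (Fa.conj Y hY m hm) : _ ≤ RR 𝒴) ⟨y, hy, rfl⟩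
  exact h1 hr

theorem indep [Finite W] {Y : Subgroup Γ} (hY : Y ∈ 𝒴) {v : W} (hv : v ∈ cm W Y) (hv' : v ∈ rst W 𝒴 Y) : v = 0 :=
  (Fa.blk Y hY).fix hv fun _ hy => Fa.triv_rst hY hy hv'

/-- an element of `sm` fixed by all `Y` is zero -/
theorem sep [Finite Γ] [Finite W] {v : W} (hv : v ∈ sm W 𝒴) (hf : ∀ Y ∈ 𝒴, ∀ y ∈ Y, y • v = v) : v = 0 := by
  classical
  have hfin : Finite (Subgroup Γ) := inferInstance
  let A : Finset (Subgroup Γ) → AddSubgroup W := fun T =>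
    AddSubgroup.closure {v | ∃ Y ∈ T, Y ∈ 𝒴 ∧ v ∈ cm W Y}
  have key : ∀ T : Finset (Subgroup Γ), ∀ v ∈ A T, (∀ Y ∈ 𝒴, ∀ y ∈ Y, y • v = v) → v = 0 := by
    intro T
    induction T using Finset.induction with
    | empty =>
      intro v hv _
      have h1 : A ∅ ≤ ⊥ := (AddSubgroup.closure_le _).2 (by
        rintro v ⟨Y, hY, -⟩
        exact absurd hY (Finset.notMem_empty _))
      exact AddSubgroup.mem_bot.1 (h1 hv)
    | insert Y T hYT ih =>
      intro v hv hf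
      have hdec : ∀ v ∈ A (insert Y T), ∃ w v', v = w + v' ∧ v' ∈ A T ∧ w ∈ cm W Y ∧ (w ≠ 0 → Y ∈ 𝒴) := by
        intro y hy
        induction hy using AddSubgroup.closure_induction with
        | mem y hy =>
          obtain ⟨Y', hY', hm, hyW⟩ := hy
          rcases Finset.mem_insert.1 hY' with hY' | hY'
          · rw [hY'] at hm hyW
            exact ⟨y, 0, (add_zero y).symm, zero_mem _, hyW, fun _ => hm⟩
          · exact ⟨0, y, (zero_add y).symm, AddSubgroup.subset_closure ⟨Y', hY', hm, hyW⟩, zero_mem _,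
              fun h => absurd rfl h⟩
        | zero => exact ⟨0, 0, (add_zero 0).symm, zero_mem _, zero_mem _, fun h => absurd rfl h⟩
        | add a b _ _ ha hb =>
          obtain ⟨a1, a2, rfl, ha2, ha1, ha3⟩ := ha
          obtain ⟨b1, b2, rfl, hb2, hb1, hb3⟩ := hb
          refine ⟨a1 + b1, a2 + b2, by abel, add_mem ha2 hb2, add_mem ha1 hb1, fun h => ?_⟩
          by_cases h0 : a1 = 0
          · exact hb3 fun h4 => h (by rw [h0, h4, add_zero])
          · exact ha3 h0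
        | neg a _ ha =>
          obtain ⟨a1, a2, rfl, ha2, ha1, ha3⟩ := ha
          exact ⟨-a1, -a2, by abel, neg_mem ha2, neg_mem ha1, fun h => ha3 fun h4 => h (by rw [h4, neg_zero])⟩
      obtain ⟨w, v', rfl, hv', hw, hwY⟩ := hdec v hv
      have hw0 : w = 0 := by
        by_contra h0
        have hY := hwY h0
        have h1 : v' ∈ rst W 𝒴 Y := by
          have h2 : A T ≤ rst W 𝒴 Y := (AddSubgroup.closure_le _).2 (by
            rintro x ⟨Y', hY', hY'', hx⟩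
            exact AddSubgroup.subset_closure ⟨Y', hY'', fun e => hYT (e ▸ hY'), hx⟩)
          exact h2 hv'
        refine h0 ((Fa.blk Y hY).fix hw fun k hk => ?_)
        have h2 := hf Y hY k hk
        rw [smul_add, Fa.triv_rst hY hk h1] at h2
        exact add_right_cancel h2
      subst hw0
      rw [zero_add] at hf ⊢
      exact ih v' hv' hf
  have := Fintype.ofFinite (Subgroup Γ)
  refine key Finset.univ v ?_ hf
  have h2 : sm W 𝒴 ≤ A Finset.univ := (AddSubgroup.closure_le _).2 (by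
    rintro x ⟨Y, hY, hx⟩
    exact AddSubgroup.subset_closure ⟨Y, Finset.mem_univ _, hY, hx⟩)
  exact h2 hv

theorem sep' [Finite Γ] [Finite W] {v : W} (hv : v ∈ sm W 𝒴) (hf : ∀ Y ∈ 𝒴, v ∈ rst W 𝒴 Y) : v = 0 :=
  Fa.sep hv fun Y hY _ hy => Fa.triv_rst hY hy (hf Y hY)

theorem mem_RR {Y : Subgroup Γ} (hY : Y ∈ 𝒴) {y : Γ} (hy : y ∈ Y) : y ∈ RR 𝒴 := (le_sSup hY : Y ≤ RR 𝒴) hy

/-- an element of a block in `rst + C(RR)` is zero -/
theorem block_sep [Finite Γ] [Finite W] {Y : Subgroup Γ} (hY : Y ∈ 𝒴) {x b c : W} (hx : x ∈ cm W Y)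
    (hb : b ∈ rst W 𝒴 Y) (hc : ∀ r ∈ RR 𝒴, r • c = c) (e : x = b + c) : x = 0 := by
  have h1 : c ∈ sm W 𝒴 := by
    have e1 : c = x - b := by rw [e]; abel
    rw [e1]
    exact sub_mem (cm_le_sm hY hx) (rst_le_sm _ _ hb)
  have h2 : c = 0 := Fa.sep h1 fun Y' hY' y hy => hc _ (Fa.mem_RR hY' hy)
  rw [h2, add_zero] at e
  exact Fa.indep hY hx (e ▸ hb)

end Fam

/-! ### the closure -/

/-- `C_W(C_{RR}(D))` -/
def fcl (𝒴 : Set (Subgroup Γ)) (D : AddSubgroup W) : AddSubgroup W where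
  carrier := {v | ∀ r ∈ RR 𝒴, (∀ d ∈ D, r • d = d) → r • v = v}
  zero_mem' := fun r _ _ => smul_zero r
  add_mem' := fun {a b} ha hb r hr hD => by rw [smul_add, ha r hr hD, hb r hr hD]
  neg_mem' := fun {a} ha r hr hD => by rw [smul_neg, ha r hr hD]

theorem mem_fcl {𝒴 : Set (Subgroup Γ)} {D : AddSubgroup W} {v : W} :
    v ∈ fcl 𝒴 D ↔ ∀ r ∈ RR 𝒴, (∀ d ∈ D, r • d = d) → r • v = v := Iff.rfl

theorem le_fcl {𝒴 : Set (Subgroup Γ)} (D : AddSubgroup W) : D ≤ fcl 𝒴 D := fun _ hv _ _ h => h _ hv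

/-- `fcl F = F` for a flat `F = C_W(Q)`, `Q ≤ Y ∈ 𝒴` -/
theorem fcl_flat {𝒴 : Set (Subgroup Γ)} {Y Q : Subgroup Γ} (hY : Y ∈ 𝒴) (hQ : Q ≤ Y) :
    fcl 𝒴 (fx W Q) = fx W Q :=
  le_antisymm (fun _ hv d hd => hv d ((le_sSup hY : Y ≤ RR 𝒴) (hQ hd)) fun _ hf => hf d hd) (le_fcl _)

/-- the block `[W, Y]` is bad: not contained in `fcl D` -/
def Bd (𝒴 : Set (Subgroup Γ)) (D : AddSubgroup W) (Y : Subgroup Γ) : Prop := ∃ w ∈ cm W Y, w ∉ fcl 𝒴 D

/-- the sum of the bad blocks -/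
def bd (𝒴 : Set (Subgroup Γ)) (D : AddSubgroup W) : AddSubgroup W :=
  AddSubgroup.closure {v | ∃ Y ∈ 𝒴, Bd 𝒴 D Y ∧ v ∈ cm W Y}

namespace Fam

variable [Finite Γ] [Finite W] {M : Subgroup Γ} {𝒴 : Set (Subgroup Γ)} (Fa : Fam W M 𝒴)
variable (gas : ∀ w : W, ∃ a ∈ sm W 𝒴, ∃ c : W, (∀ r ∈ RR 𝒴, r • c = c) ∧ w = a + c)
include Fa gas

omit Fa [Finite Γ] [Finite W] in
theorem le_bd_sup (D : AddSubgroup W) (v : W) : v ∈ bd 𝒴 D ⊔ fcl 𝒴 D := by
  obtain ⟨a, ha, c, hc, rfl⟩ := gas v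
  refine add_mem ?_ (le_sup_right (a := bd 𝒴 D) (show c ∈ fcl 𝒴 D from fun r hr _ => hc r hr))
  have h1 : sm W 𝒴 ≤ bd 𝒴 D ⊔ fcl 𝒴 D := by
    refine (AddSubgroup.closure_le _).2 ?_
    rintro w ⟨Y, hY, hw⟩
    by_cases hb : Bd 𝒴 D Y
    · exact le_sup_left (a := bd 𝒴 D) (AddSubgroup.subset_closure ⟨Y, hY, hb, hw⟩)
    · refine le_sup_right (a := bd 𝒴 D) ?_
      by_contra hcon
      exact hb ⟨w, hw, hcon⟩
  exact h1 ha

/-- the components of a fixed vector are fixed -/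
theorem fix_comp {r : Γ} (hr : r ∈ RR 𝒴) {Y : Subgroup Γ} (hY : Y ∈ 𝒴) {a b c : W} (ha : a ∈ cm W Y)
    (hb : b ∈ rst W 𝒴 Y) (hc : ∀ r ∈ RR 𝒴, r • c = c) (h : r • (a + b + c) = a + b + c) : r • a = a := by
  rw [smul_add, smul_add, hc r hr] at h
  have h1 : r • a - a = 0 := by
    refine Fa.indep hY (sub_mem (Fa.smul_cm_RR hr hY ha) ha) ?_
    have e : r • a - a = b - r • b := by
      have h2 : r • a = a + b + c - r • b - c := by rw [← h]; abel
      rw [h2]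
      abel
    rw [e]
    exact sub_mem hb (Fa.smul_rst_RR hr hb)
  exact sub_eq_zero.1 h1

/-- if `r ∈ RR` fixes `D` then its component in `Y` fixes `D` -/
theorem fix_part {r : Γ} (hr : r ∈ RR 𝒴) {D : AddSubgroup W} (hD : ∀ d ∈ D, r • d = d) {Y : Subgroup Γ} (hY : Y ∈ 𝒴)
    {y : Γ} (hy : y ∈ Y) (hyr : ∀ v ∈ cm W Y, r • v = y • v) {d : W} (hd : d ∈ D) : y • d = d := by
  obtain ⟨a0, ha0, c, hc, e⟩ := gas d
  obtain ⟨a, ha, b, hb, rfl⟩ := sm_dec Y ha0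
  have h1 := hD d hd
  rw [e] at h1
  have h2 := Fa.fix_comp gas hr hY ha hb hc h1
  rw [e, smul_add, smul_add, ← hyr a ha, h2, Fa.triv_rst hY hy hb, hc y (Fa.mem_RR hY hy)]

/-- **One bad block** -/
theorem exists_y {t : Γ} (ht : t ∈ M) {D : AddSubgroup W} (h1 : ∀ w : W, t • w - w ∈ D) (h2 : ∀ d ∈ D, t • d = d)
    {Y : Subgroup Γ} (hY : Y ∈ 𝒴) (hb : Bd 𝒴 D Y) : ∃ y ∈ Y, ∀ v ∈ cm W Y, t • v = y • v := by
  obtain ⟨w, hw, hwn⟩ := hb
  have h3 : ∃ r ∈ RR 𝒴, (∀ d ∈ D, r • d = d) ∧ r • w ≠ w := by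
    by_contra hcon
    push Not at hcon
    exact hwn hcon
  obtain ⟨r0, hr0, hrD0, hrw⟩ := h3
  obtain ⟨r, hr, hrr⟩ := Fa.RR_cm hr0 Y hY
  have hrD : ∀ d ∈ D, r • d = d := fun d hd => Fa.fix_part gas hr0 hrD0 hY hr hrr hd
  rw [hrr w hw] at hrw
  -- `t` normalises `Y`
  have hn : Y.map (MulAut.conj t⁻¹).toMonoidHom = Y := by
    by_contra hne
    apply hrw
    have h4 : t⁻¹ * r * t ∈ Y.map (MulAut.conj t⁻¹).toMonoidHom := ⟨r, hr, by
      change t⁻¹ * r * t⁻¹⁻¹ = _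
      rw [inv_inv]⟩
    have h5 := Fa.triv _ (Fa.conj Y hY t⁻¹ (inv_mem ht)) Y hY hne _ h4 w hw
    have h6 : r • t • w = t • w := by
      conv_rhs => rw [← h5]
      rw [smul_smul, smul_smul]
      congr 1
      group
    have h7 := hrD _ (h1 w)
    rw [smul_sub, h6] at h7
    exact (sub_right_inj.1 h7)
  obtain ⟨A, _, _, _, _, htv, -, e, hd, hd'⟩ := (Fa.blk Y hY).ex
  have hne : ∃ f : HomY Y A W, f ≠ 0 := by
    have : Nontrivial (HomY Y A W) := Module.nontrivial_of_finrank_pos (R := KK Y A) (by omega)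
    exact exists_ne 0
  obtain ⟨y, hy⟩ := exists_blkT (W := W) htv hne (t := t) (fun k hk => by
      have h4 : t⁻¹ * k * t ∈ Y.map (MulAut.conj t⁻¹).toMonoidHom := ⟨k, hk, by
        change t⁻¹ * k * t⁻¹⁻¹ = _
        rw [inv_inv]⟩
      rwa [hn] at h4) (X := D) (fun v _ => h1 v) h2 (r := ⟨r, hr⟩) hrD (by
      by_contra hcon
      push Not at hcon
      apply hrw
      rw [e] at hw
      exact img_ind (P := fun v => r • v = v) (smul_zero _) (fun a b ha hb => by rw [smul_add, ha, hb])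
        (fun a ha => by rw [smul_neg, ha]) (fun f a => by
          have h4 := f.2 ⟨r, hr⟩ a
          rw [hcon] at h4
          exact h4.symm) hw)
  exact ⟨y, y.2, fun v hv => hy v (e ▸ hv)⟩

/-- the product over a set of bad blocks -/
theorem exists_ys {t : Γ} (ht : t ∈ M) {D : AddSubgroup W} (h1 : ∀ w : W, t • w - w ∈ D)
    (h2 : ∀ d ∈ D, t • d = d) (s : Finset (Subgroup Γ)) :
    ∃ y ∈ RR 𝒴, (∀ Y ∈ 𝒴, Y ∈ s → Bd 𝒴 D Y → ∀ v ∈ cm W Y, y • v = t • v) ∧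
      ∀ Y ∈ 𝒴, (Y ∉ s ∨ ¬ Bd 𝒴 D Y) → ∀ v ∈ cm W Y, y • v = v := by
  classical
  induction s using Finset.induction_on with
  | empty => exact ⟨1, one_mem _, fun Y _ h => absurd h (Finset.notMem_empty _), fun _ _ _ _ _ => one_smul _ _⟩
  | insert Y0 s hs ih =>
    obtain ⟨y, hy, hy1, hy2⟩ := ih
    by_cases hc : Y0 ∈ 𝒴 ∧ Bd 𝒴 D Y0
    · obtain ⟨hY0, hb0⟩ := hc
      obtain ⟨y0, hy0, e0⟩ := Fa.exists_y gas ht h1 h2 hY0 hb0
      refine ⟨y0 * y, mul_mem (Fa.mem_RR hY0 hy0) hy, fun Y hY hYs hb v hv => ?_, fun Y hY hor v hv => ?_⟩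
      · by_cases e : Y0 = Y
        · subst e
          rw [mul_smul, hy2 Y0 hY (Or.inl hs) v hv, ← e0 v hv]
        · have h4 : Y ∈ s := (Finset.mem_insert.1 hYs).resolve_left (Ne.symm e)
          have h5 := hy1 Y hY h4 hb v hv
          rw [mul_smul, Fa.triv Y0 hY0 Y hY e y0 hy0 _ (Fa.smul_cm_RR hy hY hv), h5]
      · have e : Y0 ≠ Y := by
          rintro rfl
          rcases hor with h5 | h5
          · exact h5 (Finset.mem_insert_self _ _)
          · exact h5 hb0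
        have h6 : Y ∉ s ∨ ¬ Bd 𝒴 D Y := hor.imp (fun h h' => h (Finset.mem_insert_of_mem h')) id
        rw [mul_smul, hy2 Y hY h6 v hv, Fa.triv Y0 hY0 Y hY e y0 hy0 v hv]
    · refine ⟨y, hy, fun Y hY hYs hb v hv => ?_, fun Y hY hor v hv => ?_⟩
      · rcases Finset.mem_insert.1 hYs with rfl | h5
        · exact absurd ⟨hY, hb⟩ hc
        · exact hy1 Y hY h5 hb v hv
      · refine hy2 Y hY (hor.imp (fun h h' => h (Finset.mem_insert_of_mem h')) id) v hv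

/-- **LEMMA T2**: `t` agrees on the bad blocks with an element of `RR` which fixes `D` -/
theorem tt {t : Γ} (ht : t ∈ M) {D : AddSubgroup W} (h1 : ∀ w : W, t • w - w ∈ D) (h2 : ∀ d ∈ D, t • d = d) :
    ∃ y ∈ RR 𝒴, (∀ v ∈ bd 𝒴 D, y • v = t • v) ∧ (∀ d ∈ D, y • d = d) ∧ ∀ v ∈ bd 𝒴 D, y⁻¹ • v ∈ bd 𝒴 D := by
  classical
  have := Fintype.ofFinite (Subgroup Γ)
  obtain ⟨y, hy, hy1, hy2⟩ := Fa.exists_ys gas ht h1 h2 Finset.univ
  have hy1' : ∀ Y ∈ 𝒴, Bd 𝒴 D Y → ∀ v ∈ cm W Y, y • v = t • v := fun Y hY => hy1 Y hY (Finset.mem_univ _)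
  have hy2' : ∀ Y ∈ 𝒴, ¬ Bd 𝒴 D Y → ∀ v ∈ cm W Y, y • v = v := fun Y hY hb => hy2 Y hY (Or.inr hb)
  refine ⟨y, hy, ?_, ?_, ?_⟩
  · intro v hv
    induction hv using AddSubgroup.closure_induction with
    | mem v hv =>
      obtain ⟨Y, hY, hb, hv⟩ := hv
      exact hy1' Y hY hb v hv
    | zero => rw [smul_zero, smul_zero]
    | add a b _ _ ha hb => rw [smul_add, smul_add, ha, hb]
    | neg a _ ha => rw [smul_neg, smul_neg, ha]
  · intro d hd
    obtain ⟨a, ha, c, hc, e⟩ := gas d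
    have h3 : y • a - a = 0 := by
      refine Fa.sep' (sub_mem (Fa.smul_sm_RR hy ha) ha) fun Y hY => ?_
      obtain ⟨a1, ha1, b1, hb1, rfl⟩ := sm_dec Y ha
      have h4 : y • a1 = a1 := by
        by_cases hb : Bd 𝒴 D Y
        swap
        · exact hy2' Y hY hb a1 ha1
        have h5 := hy1' Y hY hb a1 ha1
        -- `t` normalises `Y`
        have hn : Y.map (MulAut.conj t).toMonoidHom = Y := by
          by_contra hne
          obtain ⟨v, hv, hv0⟩ : ∃ v ∈ cm W Y, v ≠ 0 := by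
            obtain ⟨w, hw, hwn⟩ := hb
            exact ⟨w, hw, fun h0 => hwn (h0 ▸ zero_mem _)⟩
          have h6 : t • v ∈ cm W Y := by
            rw [← hy1' Y hY hb v hv]
            exact Fa.smul_cm_RR hy hY hv
          have h7 : t • v ∈ rst W 𝒴 Y := cm_le_rst (Fa.conj Y hY t ht) hne (smul_cm t hv)
          have h8 := Fa.indep hY h6 h7
          exact hv0 (by rw [← inv_smul_smul t v, h8, smul_zero])
        have h7 : t • b1 ∈ rst W 𝒴 Y := Fa.smul_rst ht hn hb1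
        have h9 : ∀ r ∈ RR 𝒴, r • (t • c) = t • c := by
          intro r hr
          have h10 := hc _ (Fa.RR_conj (inv_mem ht) hr)
          rw [inv_inv, mul_smul, mul_smul, inv_smul_eq_iff] at h10
          exact h10
        have h11 := h2 _ hd
        rw [e, smul_add, smul_add] at h11
        have h12 : t • a1 - a1 = 0 := by
          refine Fa.block_sep hY (x := t • a1 - a1) (b := b1 - t • b1) (c := c - t • c) (sub_mem ?_ ha1)
            (sub_mem hb1 h7) (fun r hr => by rw [smul_sub, hc r hr, h9 r hr]) ?_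
          · rw [← h5]
            exact Fa.smul_cm_RR hy hY ha1
          · have h13 : t • a1 = a1 + b1 + c - t • b1 - t • c := by
              rw [← h11]
              abel
            rw [h13]
            abel
        rw [h5]
        exact sub_eq_zero.1 h12
      have e : y • (a1 + b1) - (a1 + b1) = y • b1 - b1 := by
        rw [smul_add, h4]
        abel
      rw [e]
      exact sub_mem (Fa.smul_rst_RR hy hb1) hb1
    rw [e, smul_add, hc y hy, sub_eq_zero.1 h3]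
  · intro v hv
    induction hv using AddSubgroup.closure_induction with
    | mem v hv =>
      obtain ⟨Y, hY, hb, hv⟩ := hv
      exact AddSubgroup.subset_closure ⟨Y, hY, hb, Fa.smul_cm_RR (inv_mem hy) hY hv⟩
    | zero => rw [smul_zero]; exact zero_mem _
    | add a b _ _ ha hb => rw [smul_add]; exact add_mem ha hb
    | neg a _ ha => rw [smul_neg]; exact neg_mem ha

/-- **LEMMA T2**, second form -/
theorem tt' {t : Γ} (ht : t ∈ M) {D : AddSubgroup W} (h1 : ∀ w : W, t • w - w ∈ D) (h2 : ∀ d ∈ D, t • d = d) :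
    (∀ v ∈ bd 𝒴 D, v ∈ fcl 𝒴 D → t • v = v) ∧
      ∃ m ∈ M, (∀ v ∈ bd 𝒴 D, m • v = v) ∧ ∀ v ∈ fcl 𝒴 D, m • v = t • v := by
  obtain ⟨y, hy, hy1, hyD, hy3⟩ := Fa.tt gas ht h1 h2
  refine ⟨fun v hv hv' => ?_, t * y⁻¹, mul_mem ht (inv_mem (Fa.RR_le hy)), fun v hv => ?_, fun v hv => ?_⟩
  · rw [← hy1 v hv]
    exact hv' y hy hyD
  · rw [mul_smul, ← hy1 _ (hy3 v hv), smul_inv_smul]
  · rw [mul_smul]
    congr 1
    rw [inv_smul_eq_iff]
    exact (hv y hy hyD).symm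

end Fam

end Cfsg.Agent.Omega.NO3b.BasePt

end

section


/-!
# The base point (#22310 LEMMA T2, helper506; #22211 (4), helper16), the count

`V` elementary abelian and NotFF, `W ≤ V`, `Fc ≤ V`, `V = W Fc`; `A ≤ N(V) ∩ N(Fc)`, `[V, A, A] = 1`; for `a ∈ A` some
`m ∈ N(V)` is trivial on `W` and acts on `Fc` as `a`.  Then `A` centralises `Fc` or `|A : C_A(Fc)| < |Fc : C_Fc(A)|`.
-/

set_option autoImplicit false

namespace Cfsg.Agent.Omega.NO3b.BasePt.Count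

open Subgroup
open Cfsg.Agent.Omega.NO3b.EZero (NotFF)

universe u

variable {G : Type u} [Group G]

/-- the action of `a` on `W` -/
def rs (W : Subgroup G) (a : G) : W → G := fun w => a * w * a⁻¹

theorem rs_eq_iff {W : Subgroup G} {a b : G} : rs W a = rs W b ↔ b⁻¹ * a ∈ centralizer (W : Set G) := by
  constructor
  · intro h
    rw [mem_centralizer_iff]
    intro w hw
    have h1 : a * w * a⁻¹ = b * w * b⁻¹ := congrFun h ⟨w, hw⟩
    calc w * (b⁻¹ * a) = b⁻¹ * (b * w * b⁻¹) * a := by group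
      _ = b⁻¹ * (a * w * a⁻¹) * a := by rw [h1]
      _ = b⁻¹ * a * w := by group
  · intro h
    funext w
    have h1 := mem_centralizer_iff.1 h w w.2
    change a * w * a⁻¹ = b * w * b⁻¹
    calc a * (w : G) * a⁻¹ = b * (b⁻¹ * a * w) * a⁻¹ := by group
      _ = b * (w * (b⁻¹ * a)) * a⁻¹ := by rw [h1]
      _ = b * w * b⁻¹ := by group

/-- `|A : C_A(W)|` is the number of restrictions -/
theorem relIndex_eq (A W : Subgroup G) :
    (centralizer (W : Set G)).relIndex A = Nat.card (rs W '' (A : Set G)) := by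
  have e : (centralizer (W : Set G)).relIndex A = Nat.card (A ⧸ (centralizer (W : Set G)).subgroupOf A) := rfl
  rw [e]
  refine Nat.card_congr (Equiv.ofBijective (fun q => Quotient.liftOn' q
    (fun a => (⟨rs W (a : G), Set.mem_image_of_mem _ a.2⟩ : rs W '' (A : Set G))) fun a b hab => ?_) ⟨?_, ?_⟩)
  · rw [QuotientGroup.leftRel_apply, mem_subgroupOf] at hab
    exact Subtype.ext (rs_eq_iff.2 hab).symm
  · intro p q
    refine Quotient.inductionOn₂' p q fun a b hab => ?_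
    have h1 : rs W (a : G) = rs W (b : G) := congrArg Subtype.val hab
    refine Quotient.sound' ?_
    rw [QuotientGroup.leftRel_apply, mem_subgroupOf]
    exact rs_eq_iff.1 h1.symm
  · rintro ⟨_, a, ha, rfl⟩
    exact ⟨Quotient.mk'' ⟨a, ha⟩, rfl⟩

/-- a group which acts on `V` as an elementary abelian 2-group acts there as a 2-subgroup. -/
theorem exists_two [Finite G] {A V : Subgroup G} (hAV : A ≤ normalizer (V : Set G))
    (h2 : ∀ a ∈ A, a * a ∈ centralizer (V : Set G)) : ∃ P ≤ A, IsPGroup 2 P ∧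
      ∀ a ∈ A, ∃ p ∈ P, p⁻¹ * a ∈ centralizer (V : Set G) := by
  have hf : Fact (Nat.Prime 2) := ⟨Nat.prime_two⟩
  let N : Subgroup A := (centralizer (V : Set G)).subgroupOf A
  have hN : N.Normal := ⟨fun n hn g => by
    have h1 : (n : G) ∈ centralizer (V : Set G) := mem_subgroupOf.1 hn
    have h3 := hAV g.2
    refine mem_subgroupOf.2 (mem_centralizer_iff.2 fun v hv => ?_)
    change v * ((g : G) * n * (g : G)⁻¹) = (g : G) * n * (g : G)⁻¹ * v
    have h4 : (g : G)⁻¹ * v * g ∈ V := (mem_normalizer_iff''.1 h3 v).1 hv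
    have h5 := mem_centralizer_iff.1 h1 _ h4
    calc v * ((g : G) * n * (g : G)⁻¹) = g * ((g : G)⁻¹ * v * g * n) * (g : G)⁻¹ := by group
      _ = g * (n * ((g : G)⁻¹ * v * g)) * (g : G)⁻¹ := by rw [h5]
      _ = (g : G) * n * (g : G)⁻¹ * v := by group⟩
  obtain ⟨P⟩ : Nonempty (Sylow 2 A) := inferInstance
  have hq : IsPGroup 2 (A ⧸ N) := by
    intro q
    refine ⟨1, ?_⟩
    obtain ⟨a, rfl⟩ := QuotientGroup.mk_surjective q
    rw [pow_one, ← QuotientGroup.mk_pow, QuotientGroup.eq_one_iff, pow_two]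
    exact mem_subgroupOf.2 (h2 a a.2)
  obtain ⟨n, hn⟩ := IsPGroup.iff_card.1 hq
  have hn' : N.index = 2 ^ n := hn
  have h3 : ((P : Subgroup A) ⊔ N).index ∣ 2 ^ n := hn' ▸ index_dvd_of_le le_sup_right
  have h4 : ¬ 2 ∣ ((P : Subgroup A) ⊔ N).index := fun h =>
    P.not_dvd_index (h.trans (index_dvd_of_le le_sup_left))
  obtain ⟨k, -, hk⟩ := (Nat.dvd_prime_pow Nat.prime_two).1 h3
  have h5 : ((P : Subgroup A) ⊔ N).index = 1 := by
    rcases Nat.eq_zero_or_pos k with h0 | h0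
    · rw [hk, h0, pow_zero]
    · exact absurd (hk ▸ dvd_pow_self 2 h0.ne') h4
  have h6 : (P : Subgroup A) ⊔ N = ⊤ := index_eq_one.1 h5
  refine ⟨(P : Subgroup A).map A.subtype, map_subtype_le _, P.isPGroup'.map _, fun a ha => ?_⟩
  have h7 : (⟨a, ha⟩ : A) ∈ (P : Subgroup A) ⊔ N := by rw [h6]; trivial
  obtain ⟨p, hp, c, hc, e⟩ := mem_sup_of_normal_right.1 h7
  refine ⟨p, ⟨p, hp, rfl⟩, ?_⟩
  have e' : (p : G) * c = a := congrArg Subtype.val e
  rw [← e', inv_mul_cancel_left]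
  exact mem_subgroupOf.1 hc

/-- `|V : C_V(P)| = |Fc : C_Fc(P)|` if `V = W Fc` and `P` centralises `W`. -/
theorem relIndex_sup {V W Fc : Subgroup G} (ab : ∀ v ∈ V, ∀ w ∈ V, v * w = w * v) (hW : W ≤ V) (hF : Fc ≤ V)
    (hV : V ≤ W ⊔ Fc) {C : Subgroup G} (hC : W ≤ C) : C.relIndex V = C.relIndex Fc := by
  have hn : ∀ X : Subgroup V, X.Normal := fun X => ⟨fun n hn g => by
    have e : g * n * g⁻¹ = n := by
      apply Subtype.ext
      change (g : G) * n * (g : G)⁻¹ = n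
      rw [ab g g.2 n n.2]
      group
    rw [e]; exact hn⟩
  let X : Subgroup V := C.subgroupOf V
  let N : Subgroup V := Fc.subgroupOf V
  have hX := hn X
  have h1 : N ⊔ X = ⊤ := by
    rw [eq_top_iff]
    intro v _
    have h2 : W.subgroupOf V ⊔ Fc.subgroupOf V = ⊤ := by
      rw [← subgroupOf_sup hW hF, subgroupOf_eq_top]
      exact hV
    have h3 : W.subgroupOf V ⊔ Fc.subgroupOf V ≤ N ⊔ X :=
      sup_le ((subgroupOf_mono V hC).trans le_sup_right) le_sup_left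
    exact h3 (by rw [h2]; trivial)
  have h2 : X.relIndex (N ⊔ X) = X.relIndex N := relIndex_sup_right N X
  rw [h1, relIndex_top_right] at h2
  have h3 : X.relIndex N = C.relIndex Fc := relIndex_subgroupOf hF
  change X.index = _
  rw [h2, h3]

/-- **The count.** -/
theorem count [Finite G] {V W Fc A D : Subgroup G} (ab : ∀ v ∈ V, ∀ w ∈ V, v * w = w * v)
    (sq : ∀ v ∈ V, v * v = 1) (hW : W ≤ V) (hF : Fc ≤ V) (hV : V ≤ W ⊔ Fc) (hAV : A ≤ normalizer (V : Set G))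
    (hAF : A ≤ normalizer (Fc : Set G))
    (hm : ∀ a ∈ A, ∃ m ∈ normalizer (V : Set G), (∀ w ∈ W, m * w = w * m) ∧
      ∀ v ∈ Fc, m * v * m⁻¹ = a * v * a⁻¹)
    (hVD : ∀ a ∈ A, ∀ v ∈ V, a * v * a⁻¹ * v⁻¹ ∈ D) (hDA : ∀ a ∈ A, ∀ d ∈ D, a * d = d * a) (hNF : NotFF V)
    (hne : ¬ A ≤ centralizer (Fc : Set G)) :
    (centralizer (Fc : Set G)).relIndex A < (centralizer (A : Set G)).relIndex Fc := by
  -- `Â`
  let Ah : Subgroup G :=
    { carrier := {m | m ∈ normalizer (V : Set G) ∧ (∀ w ∈ W, m * w = w * m) ∧ ∃ a ∈ A, ∀ v ∈ Fc, m * v * m⁻¹ = a * v * a⁻¹}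
      one_mem' := ⟨one_mem _, fun w _ => by rw [one_mul, mul_one], 1, one_mem _, fun _ _ => rfl⟩
      mul_mem' := by
        rintro m n ⟨h1, h2, a, ha, h3⟩ ⟨h1', h2', b, hb, h3'⟩
        refine ⟨mul_mem h1 h1', fun w hw => ?_, a * b, mul_mem ha hb, fun v hv => ?_⟩
        · rw [mul_assoc, h2' w hw, ← mul_assoc, h2 w hw, mul_assoc]
        · have h4 : b * v * b⁻¹ ∈ Fc := (mem_normalizer_iff.1 (hAF hb) v).1 hv
          calc m * n * v * (m * n)⁻¹ = m * (n * v * n⁻¹) * m⁻¹ := by group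
            _ = m * (b * v * b⁻¹) * m⁻¹ := by rw [h3' v hv]
            _ = a * (b * v * b⁻¹) * a⁻¹ := h3 _ h4
            _ = a * b * v * (a * b)⁻¹ := by group
      inv_mem' := by
        rintro m ⟨h1, h2, a, ha, h3⟩
        refine ⟨inv_mem h1, fun w hw => ?_, a⁻¹, inv_mem ha, fun v hv => ?_⟩
        · have := h2 w hw
          calc m⁻¹ * w = m⁻¹ * (w * m) * m⁻¹ := by group
            _ = m⁻¹ * (m * w) * m⁻¹ := by rw [this]
            _ = w * m⁻¹ := by group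
        · have h4 : a⁻¹ * v * a⁻¹⁻¹ ∈ Fc := (mem_normalizer_iff.1 (hAF (inv_mem ha)) v).1 hv
          have h5 := h3 _ h4
          calc m⁻¹ * v * m⁻¹⁻¹ = m⁻¹ * (a * (a⁻¹ * v * a⁻¹⁻¹) * a⁻¹) * m := by group
            _ = m⁻¹ * (m * (a⁻¹ * v * a⁻¹⁻¹) * m⁻¹) * m := by rw [h5]
            _ = a⁻¹ * v * a⁻¹⁻¹ := by group }
  have hAhV : Ah ≤ normalizer (V : Set G) := fun m hm => hm.1
  -- elements acting equally on `W` and `Fc` act equally on `V`
  have hcen : ∀ x : G, (∀ w ∈ W, x * w = w * x) → (∀ v ∈ Fc, x * v = v * x) → x ∈ centralizer (V : Set G) := by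
    intro x h1 h2
    have h3 : V ≤ centralizer ({x} : Set G) := hV.trans (sup_le
      (fun w hw => mem_centralizer_iff.2 fun y hy => by rw [Set.mem_singleton_iff.1 hy]; exact h1 w hw)
      (fun w hw => mem_centralizer_iff.2 fun y hy => by rw [Set.mem_singleton_iff.1 hy]; exact h2 w hw))
    exact mem_centralizer_iff.2 fun v hv => (mem_centralizer_iff.1 (h3 hv) x rfl).symm
  have hsqA : ∀ a ∈ A, ∀ v ∈ V, a * (a * v * a⁻¹) * a⁻¹ = v := by
    intro a ha v hv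
    have h1 := hDA a ha _ (hVD a ha v hv)
    have h2 : a * v * a⁻¹ ∈ V := (mem_normalizer_iff.1 (hAV ha) v).1 hv
    have h3 : a * v * a⁻¹ * v⁻¹ * (a * v * a⁻¹ * v⁻¹) = 1 := sq _ (mul_mem h2 (inv_mem hv))
    calc a * (a * v * a⁻¹) * a⁻¹ = a * (a * v * a⁻¹ * v⁻¹) * a⁻¹ * (a * v * a⁻¹) := by group
      _ = a * v * a⁻¹ * v⁻¹ * a * a⁻¹ * (a * v * a⁻¹) := by rw [h1]
      _ = a * v * a⁻¹ * v⁻¹ * (a * v * a⁻¹ * v⁻¹) * v := by group
      _ = v := by rw [h3, one_mul]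
  have hsq : ∀ m ∈ Ah, m * m ∈ centralizer (V : Set G) := by
    rintro m ⟨h1, h2, a, ha, h3⟩
    refine hcen _ (fun w hw => ?_) fun v hv => ?_
    · rw [mul_assoc, h2 w hw, ← mul_assoc, h2 w hw, mul_assoc]
    · have h4 : a * v * a⁻¹ ∈ Fc := (mem_normalizer_iff.1 (hAF ha) v).1 hv
      have h5 : m * (m * v * m⁻¹) * m⁻¹ = v := by
        rw [h3 v hv, h3 _ h4]
        exact hsqA a ha v (hF hv)
      calc m * m * v = m * (m * v * m⁻¹) * m⁻¹ * (m * m) := by group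
        _ = v * (m * m) := by rw [h5]
  obtain ⟨P, hPA, hP2, hP⟩ := exists_two hAhV hsq
  -- the restrictions to `Fc`
  have himg : rs Fc '' (P : Set G) = rs Fc '' (A : Set G) := by
    ext f
    constructor
    · rintro ⟨p, hp, rfl⟩
      obtain ⟨-, -, a, ha, h3⟩ := hPA hp
      exact ⟨a, ha, funext fun v => (h3 v v.2).symm⟩
    · rintro ⟨a, ha, rfl⟩
      obtain ⟨m, h1, h2, h3⟩ := hm a ha
      obtain ⟨p, hp, h4⟩ := hP m ⟨h1, h2, a, ha, h3⟩
      refine ⟨p, hp, ?_⟩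
      have h5 : rs Fc m = rs Fc p := rs_eq_iff.2 (centralizer_le hF h4)
      rw [← h5]
      exact funext fun v => h3 v v.2
  have e1 : (centralizer (Fc : Set G)).relIndex A = (centralizer (V : Set G)).relIndex P := by
    rw [relIndex_eq A Fc, ← himg, ← relIndex_eq P Fc, ← inf_relIndex_right (centralizer (Fc : Set G)) P,
      ← inf_relIndex_right (centralizer (V : Set G)) P]
    congr 1
    refine le_antisymm (fun x hx => ⟨hcen x (hPA hx.2).2.1 fun v hv =>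
      (mem_centralizer_iff.1 hx.1 v hv).symm, hx.2⟩) (inf_le_inf_right _ (centralizer_le hF))
  have e2 : (centralizer (A : Set G)).relIndex Fc = (centralizer (P : Set G)).relIndex V := by
    rw [relIndex_sup ab hW hF hV (C := centralizer (P : Set G)) fun w hw =>
      mem_centralizer_iff.2 fun p hp => (hPA hp).2.1 w hw,
      ← inf_relIndex_right (centralizer (A : Set G)) Fc, ← inf_relIndex_right (centralizer (P : Set G)) Fc]
    congr 1
    ext v
    simp only [mem_inf]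
    constructor
    · rintro ⟨h1, h2⟩
      refine ⟨mem_centralizer_iff.2 fun p hp => ?_, h2⟩
      obtain ⟨-, -, a, ha, h3⟩ := hPA hp
      have h4 := mem_centralizer_iff.1 h1 a ha
      have h5 := h3 v h2
      rw [h4, mul_inv_cancel_right] at h5
      rw [← mul_inv_eq_iff_eq_mul]
      exact h5
    · rintro ⟨h1, h2⟩
      refine ⟨mem_centralizer_iff.2 fun a ha => ?_, h2⟩
      have h6 : rs Fc a ∈ rs Fc '' (P : Set G) := by rw [himg]; exact ⟨a, ha, rfl⟩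
      obtain ⟨p, hp, h3⟩ := h6
      have h4 := mem_centralizer_iff.1 h1 p hp
      have h5 : p * v * p⁻¹ = a * v * a⁻¹ := congrFun h3 ⟨v, h2⟩
      rw [h4, mul_inv_cancel_right] at h5
      rw [← mul_inv_eq_iff_eq_mul]
      exact h5.symm
  rw [e1, e2]
  refine hNF P hP2 (hPA.trans hAhV) (fun a ha => by rw [pow_two]; exact hsq a (hPA ha)) (fun a ha b hb => ?_) ?_
  · -- commutators
    have h1 := hsq _ (mul_mem (hPA ha) (hPA hb))
    have h2 := hsq _ (inv_mem (hPA ha))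
    have h3 := hsq _ (inv_mem (hPA hb))
    -- `a b a⁻¹ b⁻¹ = (a b)² b⁻¹ a⁻² b · b⁻²`
    have e : a * b * a⁻¹ * b⁻¹ = a * b * (a * b) * (b⁻¹ * (a⁻¹ * a⁻¹) * b) * (b⁻¹ * b⁻¹) := by group
    rw [e]
    refine mul_mem (mul_mem h1 ?_) h3
    have hnor' : ∀ x ∈ centralizer (V : Set G), b⁻¹ * x * b ∈ centralizer (V : Set G) := by
      intro x hx
      have hb' := hAhV (hPA hb)
      refine mem_centralizer_iff.2 fun v hv => ?_
      have h4 : b * v * b⁻¹ ∈ V := (mem_normalizer_iff.1 hb' v).1 hv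
      have h5 := mem_centralizer_iff.1 hx _ h4
      calc v * (b⁻¹ * x * b) = b⁻¹ * (b * v * b⁻¹ * x) * b := by group
        _ = b⁻¹ * (x * (b * v * b⁻¹)) * b := by rw [h5]
        _ = b⁻¹ * x * b * v := by group
    exact hnor' _ h2
  · intro hPC
    apply hne
    intro a ha
    have h6 : rs Fc a ∈ rs Fc '' (P : Set G) := by rw [himg]; exact ⟨a, ha, rfl⟩
    obtain ⟨p, hp, h3⟩ := h6
    refine mem_centralizer_iff.2 fun v hv => ?_
    have h4 := mem_centralizer_iff.1 (hPC hp) v (hF hv)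
    have h5 : p * v * p⁻¹ = a * v * a⁻¹ := congrFun h3 ⟨v, hv⟩
    rw [← h4, mul_inv_cancel_right] at h5
    rw [eq_comm, ← mul_inv_eq_iff_eq_mul]
    exact h5.symm

end Cfsg.Agent.Omega.NO3b.BasePt.Count

end

private theorem dce_40ce542b3173 : _root_.True := by
  try have : _root_.True := by simp only [_root_.Cfsg.Agent.Omega.NO3b.Exit.BlkZ.Blk0.kA.congr_simp]
  exact _root_.True.intro
end

-- part: Mrg/Omega/NO3b/BasePt/BlkOne
section
prune_inst 0xd0002704152200000018000030000040300000020040000000000000084000402041080130702112101008c060000060135c0400422800000a000000002007090001000080080100000000000800000000000000000000000000000000000000000400000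
set_option linter.all false
open scoped Cfsg.Agent.FastGrp

section


/-!
# One block `V = img Y A W = A ⊗_K E`, `E = Hom_Y(A, W)` (NotFFG, base point, (B1); helper25)

* `exists_coef` : for `0 ≠ f ∈ E` there is a `Y`-map `c : V → A` with `c (f a) = a`;
* `exists_act` : `k` normalising `V` and commuting with `End_Y(V)` acts on `V` as `θ ⊗ 1`, `θ` `K`-linear;
* `prod_tv` : a group inducing all transvections induces every `1 + δ`, `δ² = 0`;
* `ns` : a group acting through `A`, normalised by `Y`, containing an involution moving `V`, induces all transvections;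
* `contr`, `fix_eq_zero`, `exists_sub`.
-/

set_option autoImplicit false

namespace Cfsg.Agent.Omega.NO3b.BasePt.Pr

open Subgroup
open Cfsg.Agent.Omega.NO3b.Exit Cfsg.Agent.Omega.NO3b.Exit.Ten Cfsg.Agent.Omega.NO3b.Exit.Descent
open Cfsg.Agent.Omega.NO3b.OneR (all_tv exists_first exists_dual_one)
open Cfsg.Agent.Omega.FF.Basic (fx)
open scoped Pointwise

universe u v w

variable {Γ : Type u} [Group Γ] {W : Type v} [AddCommGroup W] [DistribMulAction Γ W]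
variable {Y : Subgroup Γ} {A : Type w} [AddCommGroup A] [Finite A] [DistribMulAction Y A] [hI : IsIrr Y A]

/-- `k` acts on `A ⊗ E` as `θ ⊗ 1` -/
def Ac (W : Type v) [AddCommGroup W] [DistribMulAction Γ W] {Y : Subgroup Γ} {A : Type w} [AddCommGroup A] [Finite A]
    [DistribMulAction Y A] [IsIrr Y A] (k : Γ) (θ : A →ₗ[KK Y A] A) : Prop :=
  ∀ (f : HomY Y A W) (a : A), k • (f : A →+ W) a = (f : A →+ W) (θ a)

/-- `1 + φ ⊗ a` -/
noncomputable def tm (φ : Module.Dual (KK Y A) A) (a : A) : A →ₗ[KK Y A] A := LinearMap.id + φ.smulRight a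

theorem tm_apply (φ : Module.Dual (KK Y A) A) (a x : A) : tm φ a x = x + φ x • a := rfl

/-- `N` induces all transvections of `A` -/
def AllT (W : Type v) [AddCommGroup W] [DistribMulAction Γ W] (N : Subgroup Γ) (Y : Subgroup Γ) (A : Type w)
    [AddCommGroup A] [Finite A] [DistribMulAction Y A] [IsIrr Y A] : Prop :=
  ∀ (φ : Module.Dual (KK Y A) A) (a : A), φ a = 0 → ∃ n ∈ N, Ac W n (tm φ a)

theorem Ac.mul {k l : Γ} {θ η : A →ₗ[KK Y A] A} (hk : Ac W k θ) (hl : Ac W l η) : Ac W (k * l) (θ ∘ₗ η) := by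
  intro f a
  rw [mul_smul, hl, hk]
  rfl

theorem Ac.congr {k : Γ} {θ η : A →ₗ[KK Y A] A} (hk : Ac W k θ) (h : ∀ a, θ a = η a) : Ac W k η := by
  intro f a
  rw [hk, h]

theorem allT_self (tv : AllTv Y A) : AllT W Y Y A := by
  intro φ a ha
  obtain ⟨k, hk⟩ := tv φ a ha
  exact ⟨k, k.2, fun f x => by rw [tm_apply, ← hk]; exact (f.2 k x).symm⟩

theorem AllT.mono {N N' : Subgroup Γ} (h : AllT W N Y A) (hN : N ≤ N') : AllT W N' Y A := fun φ a ha => by
  obtain ⟨n, hn, h1⟩ := h φ a ha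
  exact ⟨n, hN hn, h1⟩

omit [DistribMulAction Γ W] in
theorem kk_two (two : ∀ a : A, a + a = 0) (x : KK Y A) : x + x = 0 := by
  by_contra hne
  obtain ⟨a, ha⟩ := hI.ne
  apply ha
  have h3 : (x + x) • a = 0 := by rw [add_smul, two]
  rw [← one_smul (KK Y A) a, ← inv_mul_cancel₀ hne, mul_smul, h3, smul_zero]

/-- a nonzero vector in the kernel of a functional -/
theorem exists_ker (dA : 2 ≤ Module.finrank (KK Y A) A) (φ : Module.Dual (KK Y A) A) : ∃ a : A, a ≠ 0 ∧ φ a = 0 := by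
  have hfin : Module.Finite (KK Y A) A := Module.Finite.of_finite
  have h : LinearMap.ker φ ≠ ⊥ := by
    refine LinearMap.ker_ne_bot_of_finrank_lt ?_
    rw [Module.finrank_self]
    omega
  obtain ⟨a, ha, ha0⟩ := Submodule.exists_mem_ne_zero_of_ne_bot h
  exact ⟨a, ha0, ha⟩

theorem exists_indep (dA : 2 ≤ Module.finrank (KK Y A) A) (a : A) : ∃ b : A, ∀ κ : KK Y A, κ • a ≠ b := by
  by_contra hcon
  push Not at hcon
  have hfin : Module.Finite (KK Y A) A := Module.Finite.of_finite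
  have h1 : Submodule.span (KK Y A) ({a} : Set A) = ⊤ := by
    rw [eq_top_iff]
    intro b _
    obtain ⟨κ, hκ⟩ := hcon b
    exact Submodule.mem_span_singleton.2 ⟨κ, hκ⟩
  have h2 := finrank_span_le_card (R := KK Y A) ({a} : Set A)
  rw [h1, finrank_top] at h2
  have h3 : ({a} : Set A).toFinset.card = 1 := by simp
  omega

section fin

variable [Finite W]

/-- coordinates -/
theorem exists_crd : ∃ (d : ℕ) (b : Module.Basis (Fin d) (KK Y A) (HomY Y A W)), ∀ w ∈ img Y A W, ∃ a : Fin d → A,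
    w = ∑ i, (((b i : HomY Y A W) : A →+ W) (a i) :) := by
  have hfin3 : Module.Finite (KK Y A) (HomY Y A W) := Module.Finite.of_finite
  let b := Module.finBasis (KK Y A) (HomY Y A W)
  refine ⟨_, b, fun w hw => ?_⟩
  let N : AddSubgroup W :=
    { carrier := {w | ∃ a : Fin (Module.finrank (KK Y A) (HomY Y A W)) → A, w = ∑ i, (((b i : HomY Y A W) : A →+ W) (a i) :)}
      zero_mem' := ⟨0, by simp only [_root_.Pi.zero_apply, _root_.map_zero, _root_.Finset.sum_const_zero]⟩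
      add_mem' := by
        rintro x y ⟨a, rfl⟩ ⟨c, rfl⟩
        refine ⟨a + c, ?_⟩
        rw [← Finset.sum_add_distrib]
        exact Finset.sum_congr rfl fun i _ => by rw [Pi.add_apply, map_add]
      neg_mem' := by
        rintro x ⟨a, rfl⟩
        refine ⟨-a, ?_⟩
        rw [← Finset.sum_neg_distrib]
        exact Finset.sum_congr rfl fun i _ => by rw [Pi.neg_apply, map_neg] }
  have h : img Y A W ≤ N := by
    refine (AddSubgroup.closure_le _).2 ?_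
    rintro _ ⟨f, a, rfl⟩
    refine ⟨fun i => b.repr f i • a, ?_⟩
    conv_lhs => rw [← b.sum_repr f]
    rw [AddSubgroup.val_finsetSum, AddMonoidHom.finsetSum_apply]
    exact Finset.sum_congr rfl fun i _ => by rw [HomY.smul_apply]
  exact h hw

/-- the projection to one coordinate -/
theorem exists_coef {V : AddSubgroup W} (hV : V = img Y A W) {f : HomY Y A W} (hf : f ≠ 0) :
    ∃ c : V →+ A, (∀ y (hy : y ∈ Y), ∀ v v' : V, (v' : W) = y • (v : W) → c v' = (⟨y, hy⟩ : Y) • c v) ∧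
      ∀ (a : A) (v : V), (v : W) = (f : A →+ W) a → c v = a := by
  subst hV
  obtain ⟨d, b, hb⟩ := exists_crd (Y := Y) (A := A) (W := W)
  have hfin3 : Module.Finite (KK Y A) (HomY Y A W) := Module.Finite.of_finite
  obtain ⟨l0, hl0, -⟩ := Submodule.exists_dual_map_eq_bot_of_notMem (p := (⊥ : Submodule (KK Y A) (HomY Y A W)))
    (x := f) (fun h => hf (((Submodule.mem_bot _).1 h :))) inferInstance
  let l : Module.Dual (KK Y A) (HomY Y A W) := (l0 f)⁻¹ • l0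
  have hl : l f = 1 := by
    change (l0 f)⁻¹ * l0 f = 1
    exact inv_mul_cancel₀ hl0
  choose co hco using hb
  have huniq : ∀ a a' : Fin d → A, ∑ i, (((b i : HomY Y A W) : A →+ W) (a i) :) = ∑ i, (((b i : HomY Y A W) : A →+ W) (a' i) :) →
      a = a' := by
    intro a a' h
    funext i
    have h1 := HomY.ind b.linearIndependent Finset.univ (a - a') (by
      have e : ∑ i, (((b i : HomY Y A W) : A →+ W) ((a - a') i) :) =
          ∑ i, (((b i : HomY Y A W) : A →+ W) (a i) :) - ∑ i, (((b i : HomY Y A W) : A →+ W) (a' i) :) := by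
        rw [← Finset.sum_sub_distrib]
        exact Finset.sum_congr rfl fun i _ => by rw [Pi.sub_apply, map_sub]
      rw [e, h, sub_self]) i (Finset.mem_univ i)
    exact sub_eq_zero.1 h1
  refine ⟨AddMonoidHom.mk' (fun v => ∑ i, l (b i) • co v.1 v.2 i) ?_, ?_, ?_⟩
  · intro x y
    have h1 : co (x + y : img Y A W).1 (x + y).2 = co x.1 x.2 + co y.1 y.2 := by
      apply huniq
      rw [← hco]
      have e : ∑ i, (((b i : HomY Y A W) : A →+ W) ((co x.1 x.2 + co y.1 y.2) i) :) =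
          ∑ i, (((b i : HomY Y A W) : A →+ W) (co x.1 x.2 i) :) + ∑ i, (((b i : HomY Y A W) : A →+ W) (co y.1 y.2 i) :) := by
        rw [← Finset.sum_add_distrib]
        exact Finset.sum_congr rfl fun i _ => by rw [Pi.add_apply, map_add]
      rw [e, ← hco, ← hco]
      rfl
    rw [h1, ← Finset.sum_add_distrib]
    exact Finset.sum_congr rfl fun i _ => by rw [Pi.add_apply, smul_add]
  · intro y hy v v' h
    have h1 : co v'.1 v'.2 = fun i => (⟨y, hy⟩ : Y) • co v.1 v.2 i := by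
      apply huniq
      rw [← hco, h]
      conv_lhs => rw [hco v.1 v.2]
      rw [Finset.smul_sum]
      exact Finset.sum_congr rfl fun i _ => ((b i : HomY Y A W).2 ⟨y, hy⟩ _).symm
    change ∑ i, l (b i) • co v'.1 v'.2 i = (⟨y, hy⟩ : Y) • ∑ i, l (b i) • co v.1 v.2 i
    rw [h1, Finset.smul_sum]
    exact Finset.sum_congr rfl fun i _ => KK.smul_smul_comm _ _ _
  · intro a v h
    have h1 : co v.1 v.2 = fun i => b.repr f i • a := by
      apply huniq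
      rw [← hco, h]
      conv_lhs => rw [← b.sum_repr f]
      rw [AddSubgroup.val_finsetSum, AddMonoidHom.finsetSum_apply]
      exact Finset.sum_congr rfl fun i _ => by rw [HomY.smul_apply]
    change ∑ i, l (b i) • co v.1 v.2 i = a
    rw [h1]
    have h2 : ∑ i, l (b i) • b.repr f i • a = (∑ i, b.repr f i * l (b i)) • a := by
      rw [Finset.sum_smul]
      exact Finset.sum_congr rfl fun i _ => by rw [smul_smul, mul_comm]
    have h3 : ∑ i, b.repr f i * l (b i) = l f := by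
      conv_rhs => rw [← b.sum_repr f, map_sum]
      exact Finset.sum_congr rfl fun i _ => by rw [map_smul, smul_eq_mul]
    rw [h2, h3, hl, one_smul]

/-- **(lin) ⇒ `θ ⊗ 1`** -/
theorem exists_act {V : AddSubgroup W} (hV : V = img Y A W) (hE : ∃ f : HomY Y A W, f ≠ 0) {k : Γ}
    (kV : ∀ v ∈ V, k • v ∈ V)
    (lin : ∀ e : V →+ V, (∀ y ∈ Y, ∀ v v' : V, (v' : W) = y • (v : W) → (e v' : W) = y • (e v : W)) →
      ∀ v v' : V, (v' : W) = k • (v : W) → (e v' : W) = k • (e v : W)) : ∃ θ : A →ₗ[KK Y A] A, Ac W k θ := by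
  obtain ⟨f₀, hf₀⟩ := hE
  obtain ⟨c, hc1, hc2⟩ := exists_coef hV hf₀
  have hmem : ∀ (g : HomY Y A W) (a : A), ((g : A →+ W) a :) ∈ V := fun g a => by rw [hV]; exact mem_img g a
  let θ : A → A := fun a => (c ⟨k • (f₀ : A →+ W) a, kV _ (hmem f₀ a)⟩ :)
  have key : ∀ (g : HomY Y A W) (a : A), k • (g : A →+ W) a = (g : A →+ W) (θ a) := by
    intro g a
    let e : V →+ V :=
      { toFun := fun v => ⟨((g : A →+ W) (c v) :), hmem g _⟩
        map_zero' := Subtype.ext (by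
          change (g : A →+ W) (c 0) = 0
          rw [map_zero, map_zero])
        map_add' := fun x y => Subtype.ext (by
          change (g : A →+ W) (c (x + y)) = (g : A →+ W) (c x) + (g : A →+ W) (c y)
          rw [map_add, map_add]) }
    have he : ∀ v, (e v : W) = (g : A →+ W) (c v) := fun _ => rfl
    have h1 := lin e (fun y hy v v' h => by rw [he, he, hc1 y hy v v' h]; exact g.2 ⟨y, hy⟩ _)
      ⟨((f₀ : A →+ W) a :), hmem f₀ a⟩ ⟨k • (f₀ : A →+ W) a, kV _ (hmem f₀ a)⟩ rfl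
    rw [he, he, hc2 a ⟨(f₀ : A →+ W) a, hmem f₀ a⟩ rfl] at h1
    exact h1.symm
  have hadd : ∀ a b, θ (a + b) = θ a + θ b := fun a b =>
    HomY.inj hf₀ (by rw [← key, map_add, smul_add, key, key, ← map_add])
  refine ⟨{ toFun := θ, map_add' := hadd, map_smul' := fun κ a => ?_ }, key⟩
  apply HomY.inj hf₀
  rw [RingHom.id_apply, ← key, ← HomY.smul_apply, key, HomY.smul_apply]

/-- `w = ∑ f_i(a_i)`: the contraction with a functional -/
theorem contr {w : W} (hw : w ∈ img Y A W) (hw0 : w ≠ 0) : ∃ (φ : Module.Dual (KK Y A) A) (f : HomY Y A W), f ≠ 0 ∧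
    ∀ (a : A) (n : Γ), Ac W n (tm φ a) → n • w = w + (f : A →+ W) a := by
  obtain ⟨d, b, hb⟩ := exists_crd (Y := Y) (A := A) (W := W)
  obtain ⟨a, rfl⟩ := hb w hw
  obtain ⟨j, hj⟩ : ∃ j, a j ≠ 0 := by
    by_contra hcon
    push Not at hcon
    apply hw0
    exact Finset.sum_eq_zero fun i _ => by rw [hcon, map_zero]
  have hfin : Module.Finite (KK Y A) A := Module.Finite.of_finite
  obtain ⟨φ, hφ, -⟩ := Submodule.exists_dual_map_eq_bot_of_notMem (p := (⊥ : Submodule (KK Y A) A))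
    (x := a j) (fun h => hj ((Submodule.mem_bot _).1 h)) inferInstance
  refine ⟨φ, ∑ i, φ (a i) • b i, ?_, ?_⟩
  · intro h0
    have h1 := Fintype.linearIndependent_iff.1 b.linearIndependent (fun i => φ (a i)) h0 j
    exact hφ h1
  · intro x n hn
    rw [Finset.smul_sum, AddSubgroup.val_finsetSum, AddMonoidHom.finsetSum_apply, ← Finset.sum_add_distrib]
    refine Finset.sum_congr rfl fun i _ => ?_
    rw [hn, tm_apply, map_add, HomY.smul_apply]

/-- a subgroup of `A` invariant under all transvections -/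
theorem irr_tv (dA : 2 ≤ Module.finrank (KK Y A) A) {B : AddSubgroup A}
    (hB : ∀ (φ : Module.Dual (KK Y A) A) (c : A), φ c = 0 → ∀ x ∈ B, φ x • c ∈ B) {a : A} (ha : a ∈ B) (ha0 : a ≠ 0)
    (x : A) : x ∈ B := by
  have hfin : Module.Finite (KK Y A) A := Module.Finite.of_finite
  have key : ∀ x : A, (∀ κ : KK Y A, κ • a ≠ x) → x ∈ B := by
    intro x hx
    obtain ⟨φ, h1, h2⟩ := exists_dual_one hx ha0
    have h3 := hB φ x h2 a ha
    rwa [h1, one_smul] at h3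
  by_cases hx : ∀ κ : KK Y A, κ • a ≠ x
  · exact key x hx
  · push Not at hx
    obtain ⟨κ, rfl⟩ := hx
    obtain ⟨y, hy⟩ := exists_indep dA a
    have h1 := key y hy
    have h2 := key (y + κ • a) (fun l e => hy (l - κ) (by rw [sub_smul, e]; abel))
    have e : κ • a = (y + κ • a) - y := by abel
    rw [e]
    exact B.sub_mem h2 h1

/-- **An `N`-invariant subgroup meeting `V` contains some `f A`.** -/
theorem exists_sub (dA : 2 ≤ Module.finrank (KK Y A) A) {N : Subgroup Γ} (hN : AllT W N Y A) {X : AddSubgroup W}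
    (hX : ∀ n ∈ N, ∀ x ∈ X, n • x ∈ X) {w : W} (hwX : w ∈ X) (hw : w ∈ img Y A W) (hw0 : w ≠ 0) :
    ∃ f : HomY Y A W, f ≠ 0 ∧ ∀ a, ((f : A →+ W) a :) ∈ X := by
  obtain ⟨φ, f, hf, h1⟩ := contr hw hw0
  obtain ⟨a, ha0, ha⟩ := exists_ker dA φ
  obtain ⟨n, hn, hn'⟩ := hN φ a ha
  have h2 : ((f : A →+ W) a :) ∈ X := by
    have e : (f : A →+ W) a = n • w - w := by rw [h1 a n hn']; abel
    rw [e]
    exact X.sub_mem (hX n hn w hwX) hwX
  refine ⟨f, hf, fun x => ?_⟩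
  let B : AddSubgroup A := (X.comap (f : A →+ W) :)
  refine (irr_tv dA (B := B) (fun ψ c hc x hx => ?_) (a := a) h2 ha0 x : x ∈ B)
  obtain ⟨m, hm, hm'⟩ := hN ψ c hc
  change (f : A →+ W) (ψ x • c) ∈ X
  have e : (f : A →+ W) (ψ x • c) = m • (f : A →+ W) x - (f : A →+ W) x := by
    rw [hm', tm_apply, map_add]; abel
  rw [e]
  exact X.sub_mem (hX m hm _ hx) hx

/-- no fixed points -/
theorem fix_eq_zero (dA : 2 ≤ Module.finrank (KK Y A) A) {N : Subgroup Γ} (hN : AllT W N Y A) {w : W}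
    (hw : w ∈ img Y A W) (hfix : ∀ n ∈ N, n • w = w) : w = 0 := by
  by_contra hw0
  obtain ⟨φ, f, hf, h1⟩ := contr hw hw0
  obtain ⟨a, ha0, ha⟩ := exists_ker dA φ
  obtain ⟨n, hn, hn'⟩ := hN φ a ha
  have h2 := h1 a n hn'
  rw [hfix n hn] at h2
  exact hf (HomY.eq_zero (left_eq_add.1 h2) ha0)

end fin

/-- **products of commuting transvections** -/
theorem prod_tv {N : Subgroup Γ} (hN : AllT W N Y A) (δ : A →ₗ[KK Y A] A) (h2 : ∀ x, δ (δ x) = 0) :
    ∃ n ∈ N, Ac W n (LinearMap.id + δ) := by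
  classical
  have hfin : Module.Finite (KK Y A) A := Module.Finite.of_finite
  let b := Module.finBasis (KK Y A) (LinearMap.range δ)
  let φ : Fin (Module.finrank (KK Y A) (LinearMap.range δ)) → Module.Dual (KK Y A) A := fun i =>
    (b.coord i) ∘ₗ δ.rangeRestrict
  have hφ : ∀ i x, φ i x = b.repr (δ.rangeRestrict x) i := fun i x => rfl
  have hφb : ∀ i j, φ i ((b j : LinearMap.range δ) : A) = 0 := by
    intro i j
    obtain ⟨x, hx⟩ := (b j).2
    have h3 : δ.rangeRestrict ((b j : LinearMap.range δ) : A) = 0 := Subtype.ext (by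
      change δ ((b j : LinearMap.range δ) : A) = 0
      rw [← hx, h2])
    rw [hφ, h3, map_zero]; rfl
  have key : ∀ s : Finset (Fin (Module.finrank (KK Y A) (LinearMap.range δ))),
      ∃ n ∈ N, Ac W n (LinearMap.id + ∑ i ∈ s, (φ i).smulRight ((b i : LinearMap.range δ) : A)) := by
    intro s
    induction s using Finset.induction_on with
    | empty => exact ⟨1, one_mem _, fun f a => by rw [Finset.sum_empty, add_zero, one_smul]; rfl⟩
    | insert j s hj ih =>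
      obtain ⟨n, hn, h3⟩ := ih
      obtain ⟨m, hm, h4⟩ := hN (φ j) ((b j : LinearMap.range δ) : A) (hφb j j)
      refine ⟨m * n, mul_mem hm hn, (h4.mul h3).congr fun a => ?_⟩
      rw [LinearMap.comp_apply, tm_apply, LinearMap.add_apply, LinearMap.id_apply, LinearMap.sum_apply,
        Finset.sum_insert hj, LinearMap.add_apply, LinearMap.id_apply, LinearMap.add_apply, LinearMap.sum_apply]
      have h5 : φ j (a + ∑ i ∈ s, ((φ i).smulRight ((b i : LinearMap.range δ) : A)) a) = φ j a := by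
        rw [map_add, map_sum]
        have : ∑ i ∈ s, φ j (((φ i).smulRight ((b i : LinearMap.range δ) : A)) a) = 0 :=
          Finset.sum_eq_zero fun i _ => by
            rw [LinearMap.smulRight_apply, map_smul, hφb, smul_zero]
        rw [this, add_zero]
      rw [h5, LinearMap.smulRight_apply]
      abel
  obtain ⟨n, hn, h3⟩ := key Finset.univ
  refine ⟨n, hn, h3.congr fun a => ?_⟩
  rw [LinearMap.add_apply, LinearMap.add_apply, LinearMap.id_apply, LinearMap.sum_apply]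
  congr 1
  have h4 := congrArg Subtype.val (b.sum_repr (δ.rangeRestrict a))
  have h5 : ((δ.rangeRestrict a : LinearMap.range δ) : A) = δ a := rfl
  rw [h5] at h4
  rw [← h4, AddSubmonoidClass.coe_finsetSum]
  rfl

/-- **LEMMA NS** -/
theorem ns (two : ∀ a : A, a + a = 0) (tv : AllTv Y A) {N : Subgroup Γ}
    (hY : ∀ y ∈ Y, ∀ n ∈ N, y * n * y⁻¹ ∈ N) {t : Γ} (ht : t ∈ N) {θ : A →ₗ[KK Y A] A} (hθ : Ac W t θ)
    (h2 : ∀ a, θ (θ a) = a) (h0 : ∃ a, θ a ≠ a) : AllT W N Y A := by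
  have hK := kk_two (Y := Y) two
  have neg : ∀ a : A, -a = a := fun a => neg_eq_of_add_eq_zero_left (two a)
  have hinv : ∀ {y : Γ} {η : A →ₗ[KK Y A] A}, Ac W y η → (∀ a, η (η a) = a) → Ac W y⁻¹ η := by
    intro y η hy hη f a
    rw [inv_smul_eq_iff, hy, hη]
  have htm : ∀ (φ : Module.Dual (KK Y A) A) (a : A), φ a = 0 → ∀ x, tm φ a (tm φ a x) = x := by
    intro φ a ha x
    rw [tm_apply, tm_apply, map_add, map_smul, ha, smul_zero, add_zero, add_assoc, two, add_zero]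
  have hAY := allT_self (W := W) tv
  refine all_tv hK two (fun φ a => ∃ n ∈ N, Ac W n (tm φ a)) ?_ ?_ ?_ ?_ ?_
  · rintro φ a b ha hb ⟨n, hn, h3⟩ ⟨m, hm, h4⟩
    refine ⟨n * m, mul_mem hn hm, (h3.mul h4).congr fun x => ?_⟩
    rw [LinearMap.comp_apply, tm_apply, tm_apply, tm_apply, map_add, map_smul, hb, smul_zero, add_zero, smul_add]
    abel
  · rintro κ φ a ⟨n, hn, h3⟩
    refine ⟨n, hn, h3.congr fun x => ?_⟩
    rw [tm_apply, tm_apply, LinearMap.smul_apply, smul_eq_mul, mul_comm, mul_smul]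
  · rintro κ φ a ⟨n, hn, h3⟩
    refine ⟨n, hn, h3.congr fun x => ?_⟩
    rw [tm_apply, tm_apply, LinearMap.smul_apply, smul_eq_mul, mul_comm, mul_smul]
  · rintro φ a χ b ha hb ⟨n, hn, h3⟩
    obtain ⟨y, hy, h4⟩ := hAY χ b hb
    refine ⟨y * n * y⁻¹, hY y hy n hn, ((h4.mul h3).mul (hinv h4 (htm χ b hb))).congr fun x => ?_⟩
    have hs : φ (x + χ x • b) = (φ + φ b • χ) x := by
      rw [map_add, map_smul, LinearMap.add_apply, LinearMap.smul_apply, smul_eq_mul, smul_eq_mul, mul_comm]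
    rw [LinearMap.comp_apply, LinearMap.comp_apply, tm_apply χ b x, tm_apply φ a, hs, tm_apply χ b, tm_apply]
    have h5 : ∀ s : KK Y A, χ (x + χ x • b + s • a) = χ x + s * χ a := fun s => by
      rw [map_add, map_add, map_smul, map_smul, hb, smul_zero, add_zero, smul_eq_mul]
    rw [h5, add_smul, mul_smul, smul_add]
    calc x + χ x • b + (φ + φ b • χ) x • a + (χ x • b + (φ + φ b • χ) x • χ a • b)
        = (x + ((φ + φ b • χ) x • a + (φ + φ b • χ) x • χ a • b)) + (χ x • b + χ x • b) := by abel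
      _ = _ := by rw [two, add_zero]
  · let δ : A →ₗ[KK Y A] A := θ - LinearMap.id
    have hδ : ∀ x, δ x = θ x - x := fun x => rfl
    have hθδ : ∀ x, θ x = x + δ x := fun x => by rw [hδ]; abel
    have hδ2 : ∀ x, δ (δ x) = 0 := fun x => by
      rw [hδ, hδ, map_sub, h2]
      have e : x - θ x - (θ x - x) = (x + x) - (θ x + θ x) := by abel
      rw [e, two, two, sub_zero]
    rcases exists_first δ hδ2 (by
      obtain ⟨a, ha⟩ := h0
      exact ⟨a, fun h => ha (by rw [hθδ, h, add_zero])⟩) with ⟨φ, a, h3, h4, h5, h6⟩ | ⟨φ, a, h3, h4, h5, h6⟩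
    · refine ⟨φ, a, h3, h4, h5, t, ht, hθ.congr fun x => ?_⟩
      rw [hθδ, h6, tm_apply]
    · obtain ⟨y, hy, h7⟩ := hAY φ a h5
      refine ⟨φ, δ a, h3, h4, h6 a, t * (y * t⁻¹ * y⁻¹), mul_mem ht (hY y hy _ (inv_mem ht)),
        (hθ.mul ((h7.mul (hinv hθ h2)).mul (hinv h7 (htm φ a h5)))).congr fun x => ?_⟩
      rw [LinearMap.comp_apply, LinearMap.comp_apply, LinearMap.comp_apply, tm_apply φ a x, hθδ (x + φ x • a),
        map_add δ, map_smul δ, tm_apply φ a]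
      have h8 : φ (x + φ x • a + (δ x + φ x • δ a)) = φ x := by
        rw [map_add, map_add, map_add, map_smul, map_smul, h5, h6, h6, smul_zero, add_zero, add_zero, add_zero]
      have h9 : δ (x + φ x • a + (δ x + φ x • δ a) + φ x • a) = δ x + (φ x • δ a + φ x • δ a) := by
        simp only [map_add, map_smul, hδ2, smul_zero, add_zero]
        abel
      rw [h8, hθδ, h9, tm_apply, two, add_zero]
      calc x + φ x • a + (δ x + φ x • δ a) + φ x • a + δ x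
          = (x + φ x • δ a) + ((φ x • a + φ x • a) + (δ x + δ x)) := by abel
        _ = _ := by rw [two, two, add_zero, add_zero]

end Cfsg.Agent.Omega.NO3b.BasePt.Pr

end

section


/-!
# Two panels (NotFFG, base point, (B1); helper25, helper957): the core

`Ya ≤ Ka`, `Yb ≤ Kb` blocks on `V`, `Ka ≤ Kb` normal in `M`, `O₂(M) = 1`.

* `pair_core` : if `Ya` moves `[W, Yb]` then `Ya = Yb`;
* `pair_triv` : if all conjugates of `Ya` centralise `[W, Yb]` then all conjugates of `Yb` centralise `[W, Ya]`.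
-/

set_option autoImplicit false

namespace Cfsg.Agent.Omega.NO3b.BasePt.Pr

open Subgroup
open Cfsg.Agent.Omega.NO3b.Exit Cfsg.Agent.Omega.NO3b.Exit.Ten Cfsg.Agent.Omega.NO3b.Exit.Descent
open Cfsg.Agent.Omega.NO3b.Exit.TDat (Red)
open Cfsg.Agent.Omega.NO3b.OneR (exists_dual_one)
open Cfsg.Agent.Omega.FF.Basic (fx)
open scoped Pointwise

universe u v w

variable {Γ : Type u} [Group Γ] {W : Type v} [AddCommGroup W] [DistribMulAction Γ W]

theorem br_mem_cm {Y : Subgroup Γ} {y : Γ} (hy : y ∈ Y) (w : W) : y • w - w ∈ cm W Y :=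
  AddSubgroup.subset_closure ⟨y, hy, w, rfl⟩

theorem smul_cm {Y : Subgroup Γ} {y : Γ} (hy : y ∈ Y) {v : W} (hv : v ∈ cm W Y) : y • v ∈ cm W Y := by
  have e : y • v = (y • v - v) + v := by abel
  rw [e]
  exact add_mem (br_mem_cm hy v) hv

/-- an element of a normal subgroup `K` of `M` trivial on `V` and `W / V` is trivial if `O₂(M) = 1` -/
theorem eq_one_of_red [Finite Γ] {M K : Subgroup Γ} (faith : ∀ g : Γ, (∀ w : W, g • w = w) → g = 1)
    (two : ∀ w : W, w + w = 0) (red : Red M (⊤ : AddSubgroup W)) (KM : K ≤ M)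
    (nK : ∀ m ∈ M, ∀ k ∈ K, m * k * m⁻¹ ∈ K) {V : AddSubgroup W} (KV : ∀ k ∈ K, ∀ v ∈ V, k • v ∈ V) {k : Γ}
    (hk : k ∈ K) (h1 : ∀ v ∈ V, k • v = v) (h2 : ∀ w : W, k • w - w ∈ V) : k = 1 := by
  have hred : Red K (⊤ : AddSubgroup W) := red.normal (fun _ _ _ _ => trivial) KM nK
  let N : Subgroup Γ :=
    { carrier := {g | g ∈ K ∧ (∀ v ∈ V, g • v = v) ∧ ∀ w : W, g • w - w ∈ V}
      one_mem' := ⟨one_mem _, fun v _ => one_smul _ v, fun w => by rw [one_smul, sub_self]; exact zero_mem _⟩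
      mul_mem' := by
        rintro a b ⟨ha, ha1, ha2⟩ ⟨hb, hb1, hb2⟩
        refine ⟨mul_mem ha hb, fun v hv => by rw [mul_smul, hb1 v hv, ha1 v hv], fun w => ?_⟩
        have e : (a * b) • w - w = a • (b • w - w) + (a • w - w) := by rw [mul_smul, smul_sub]; abel
        rw [e, ha1 _ (hb2 w)]
        exact add_mem (hb2 w) (ha2 w)
      inv_mem' := by
        rintro a ⟨ha, ha1, ha2⟩
        have h3 : ∀ v ∈ V, a⁻¹ • v = v := fun v hv => by rw [inv_smul_eq_iff, ha1 v hv]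
        refine ⟨inv_mem ha, h3, fun w => ?_⟩
        have e : a⁻¹ • w - w = - (a⁻¹ • (a • w - w)) := by rw [smul_sub, inv_smul_smul]; abel
        rw [e, h3 _ (ha2 w)]
        exact neg_mem (ha2 w) }
  refine faith k fun w => hred N (fun g hg => hg.1) ?_ ?_ k ⟨hk, h1, h2⟩ w trivial
  · rintro g hg n ⟨hn, hn1, hn2⟩
    refine ⟨mul_mem (mul_mem hg hn) (inv_mem hg), fun v hv => ?_, fun w => ?_⟩
    · rw [mul_smul, mul_smul, hn1 _ (KV _ (inv_mem hg) v hv), smul_inv_smul]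
    · have e : (g * n * g⁻¹) • w - w = g • (n • (g⁻¹ • w) - g⁻¹ • w) := by
        rw [smul_sub, smul_inv_smul, mul_smul, mul_smul]
      rw [e]
      exact KV g hg _ (hn2 _)
  · rintro n ⟨hn, hn1, hn2⟩
    refine ⟨1, fun w _ => ?_⟩
    have e : n ^ 2 ^ 1 • w = w + ((n • w - w) + (n • w - w)) := by
      have e1 : n • (n • w) = n • (n • w - w) + n • w := by rw [smul_sub]; abel
      rw [pow_one, sq, mul_smul, e1, hn1 _ (hn2 w)]
      abel
    rw [e, two, add_zero]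

section

variable {Y : Subgroup Γ} {A : Type w} [AddCommGroup A] [Finite A] [DistribMulAction Y A] [hI : IsIrr Y A]

theorem exists_hom_ne (dE : 2 ≤ Module.finrank (KK Y A) (HomY Y A W)) : ∃ f : HomY Y A W, f ≠ 0 := by
  by_contra hcon
  push Not at hcon
  have : Subsingleton (HomY Y A W) := ⟨fun a b => by rw [hcon a, hcon b]⟩
  rw [Module.finrank_zero_of_subsingleton] at dE
  omega

/-- `k`, `l` acting in the same way on `A` agree on `img` -/
theorem eq_on {k l : Γ} {θ η : A →ₗ[KK Y A] A} (hk : Ac W k θ) (hl : Ac W l η) (h : ∀ a, θ a = η a) {v : W}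
    (hv : v ∈ img Y A W) : k • v = l • v := by
  induction hv using AddSubgroup.closure_induction with
  | mem v hv =>
    obtain ⟨f, a, rfl⟩ := hv
    rw [hk, hl, h]
  | zero => rw [smul_zero, smul_zero]
  | add a b _ _ ha hb => rw [smul_add, smul_add, ha, hb]
  | neg a _ ha => rw [smul_neg, smul_neg, ha]

/-- an involution acting as `θ ⊗ 1` acts like an element of `N`, if `N` induces all transvections -/
theorem exists_of_invol (two : ∀ a : A, a + a = 0) (hE : ∃ f : HomY Y A W, f ≠ 0) {N : Subgroup Γ} (hN : AllT W N Y A)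
    {k : Γ} {θ : A →ₗ[KK Y A] A} (hk : Ac W k θ) (h2 : k * k = 1) :
    ∃ n ∈ N, Ac W n θ ∧ ∀ v ∈ img Y A W, k • v = n • v := by
  obtain ⟨f, hf⟩ := hE
  have hθ : ∀ a, θ (θ a) = a := fun a => HomY.inj hf (by rw [← hk, ← hk, smul_smul, h2, one_smul])
  obtain ⟨n, hn, h3⟩ := prod_tv hN (θ - LinearMap.id) (fun x => by
    rw [LinearMap.sub_apply, LinearMap.sub_apply, map_sub, hθ, LinearMap.id_apply, LinearMap.id_apply]
    have e : x - θ x - (θ x - x) = (x + x) - (θ x + θ x) := by abel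
    rw [e, two, two, sub_zero])
  have h4 : Ac W n θ := h3.congr fun a => by
    rw [LinearMap.add_apply, LinearMap.sub_apply, LinearMap.id_apply]; abel
  exact ⟨n, hn, h4, fun v hv => eq_on hk h4 (fun _ => rfl) hv⟩

end

section core

variable [Finite Γ] [Finite W] {M : Subgroup Γ} {Fa Fb : AddSubgroup W} {Ya Ka Yb Kb : Subgroup Γ}

omit [Finite Γ] [Finite W] in
theorem pb_KV {F : AddSubgroup W} {Y K : Subgroup Γ} (p : PB W M F Y K) : ∀ k ∈ K, ∀ v ∈ cm W Y, k • v ∈ cm W Y := by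
  intro k hk v hv
  rw [← p.stab k hk]
  exact AddSubgroup.smul_mem_pointwise_smul _ _ _ hv

/-- **The core.** -/
theorem pair_core (faith : ∀ g : Γ, (∀ w : W, g • w = w) → g = 1) (two : ∀ w : W, w + w = 0)
    (red : Red M (⊤ : AddSubgroup W)) (pa : PB W M Fa Ya Ka) (pb : PB W M Fb Yb Kb) (hK : Ka ≤ Kb)
    (hne : ∃ y ∈ Ya, ∃ v ∈ cm W Yb, y • v ≠ v) : Ya = Yb := by
  classical
  obtain ⟨A, _, _, _, hIA, tvA, twoA, hVA, dA, dEA⟩ := pa.blk.ex
  obtain ⟨B, _, _, _, hIB, tvB, twoB, hVB, dB, dEB⟩ := pb.blk.ex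
  have hEA := exists_hom_ne dEA
  have hEB := exists_hom_ne dEB
  have actA : ∀ k ∈ Ka, ∃ θ : A →ₗ[KK Ya A] A, Ac W k θ := fun k hk =>
    exists_act hVA hEA ((pb_KV pa) k hk) (pa.lin k hk)
  have actB : ∀ k ∈ Kb, ∃ θ : B →ₗ[KK Yb B] B, Ac W k θ := fun k hk =>
    exists_act hVB hEB ((pb_KV pb) k hk) (pb.lin k hk)
  have hYaKb : Ya ≤ Kb := pa.YK.trans hK
  -- an involution
  obtain ⟨t, htY, ht2, v₀, hv₀, htv⟩ : ∃ t ∈ Ya, t * t = 1 ∧ ∃ v ∈ cm W Yb, t • v ≠ v := by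
    by_contra hcon
    push Not at hcon
    obtain ⟨y, hy, v, hv, hne⟩ := hne
    apply hne
    have h1 := pa.blk.gen hy
    clear hy hne
    induction h1 using closure_induction with
    | mem x hx => exact hcon x hx.1 hx.2 v hv
    | one => exact one_smul _ _
    | mul a b _ _ ha hb => rw [mul_smul, hb, ha]
    | inv a _ ha => rw [inv_smul_eq_iff, ha]
  obtain ⟨θt, hθt⟩ := actB t (hYaKb htY)
  obtain ⟨fB, hfB⟩ := hEB
  have hKb : AllT W Ka Yb B := by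
    refine ns twoB tvB (fun y hy n hn => pa.nK y (pb.KM (pb.YK hy)) n hn) (pa.YK htY) hθt ?_ ?_
    · exact fun a => HomY.inj hfB (by rw [← hθt, ← hθt, smul_smul, ht2, one_smul])
    · by_contra hcon
      push Not at hcon
      apply htv
      rw [hVB] at hv₀
      have h1 : Ac W (1 : Γ) (LinearMap.id : B →ₗ[KK Yb B] B) := fun f a => by rw [one_smul]; rfl
      have h2 := eq_on hθt h1 hcon hv₀
      rwa [one_smul] at h2
  have hKa : AllT W Ka Ya A := (allT_self tvA).mono pa.YK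
  -- `V_a ∩ V_b ≠ 0`
  have hKXa : ∀ n ∈ Ka, ∀ x ∈ cm W Ya ⊓ cm W Yb, n • x ∈ cm W Ya ⊓ cm W Yb := fun n hn x hx =>
    ⟨(pb_KV pa) n hn x hx.1, (pb_KV pb) n (hK hn) x hx.2⟩
  have hw : t • v₀ - v₀ ∈ cm W Ya ⊓ cm W Yb :=
    ⟨br_mem_cm htY v₀, (cm W Yb).sub_mem ((pb_KV pb) t (hYaKb htY) v₀ hv₀) hv₀⟩
  obtain ⟨f, hf, hfX⟩ := exists_sub dB hKb hKXa hw (by rw [← hVB]; exact hw.2) (sub_ne_zero.2 htv)
  have hKf : ∀ n ∈ Ka, ∀ x ∈ ((f : B →+ W).range :), n • x ∈ (f : B →+ W).range := by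
    rintro n hn _ ⟨b, rfl⟩
    obtain ⟨η, hη⟩ := actB n (hK hn)
    exact ⟨η b, (hη f b).symm⟩
  obtain ⟨b₁, hb₁⟩ := hIB.ne
  obtain ⟨g, hg, hgf⟩ := exists_sub dA hKa hKf (w := (f : B →+ W) b₁) ⟨b₁, rfl⟩
    (by rw [← hVA]; exact (hfX b₁).1) (fun h0 => hb₁ (HomY.inj hf (h0.trans (map_zero _).symm)))
  -- `τ`
  have hτ : ∀ a : A, ∃ b : B, (f : B →+ W) b = (g : A →+ W) a := fun a => hgf a
  choose τ hτ using hτ
  have hτ0 : ∀ a, a ≠ 0 → τ a ≠ 0 := fun a ha h0 => ha (HomY.inj hg (by rw [← hτ, h0, map_zero, map_zero]))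
  have hτa : ∀ a a', τ (a + a') = τ a + τ a' := fun a a' => HomY.inj hf (by
    rw [hτ, map_add, map_add, hτ, hτ])
  have hτs : ∀ b : B, ∃ a : A, τ a = b := by
    obtain ⟨a₁, ha₁⟩ := hIA.ne
    intro b
    have h1 : ∀ b : B, b ∈ ((g : A →+ W).range.comap (f : B →+ W)) := by
      refine irr_tv dB (fun ψ c hc x hx => ?_) (a := τ a₁) (show (f : B →+ W) (τ a₁) ∈ (g : A →+ W).range from
        ⟨a₁, (hτ a₁).symm⟩) (hτ0 a₁ ha₁)
      obtain ⟨n, hn, hn'⟩ := hKb ψ c hc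
      obtain ⟨a, ha⟩ := hx
      obtain ⟨θ, hθ⟩ := actA n hn
      change (f : B →+ W) (ψ x • c) ∈ (g : A →+ W).range
      have e : (f : B →+ W) (ψ x • c) = n • (f : B →+ W) x - (f : B →+ W) x := by
        rw [hn', tm_apply, map_add]; abel
      rw [e, ← ha, hθ, ← map_sub]
      exact ⟨_, rfl⟩
    obtain ⟨a, ha⟩ := h1 b
    exact ⟨a, HomY.inj hf (by rw [hτ, ha])⟩
  -- `τ` intertwines `Ka`
  have hτK : ∀ n ∈ Ka, ∀ {θ : A →ₗ[KK Ya A] A} {η : B →ₗ[KK Yb B] B}, Ac W n θ → Ac W n η → ∀ a, η (τ a) = τ (θ a) := by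
    intro n _ θ η h1 h2 a
    apply HomY.inj hf
    rw [← h2, hτ, hτ, h1]
  -- `V_b ≤ V_a`
  have hba : cm W Yb ≤ cm W Ya := by
    rw [hVB]
    refine (AddSubgroup.closure_le _).2 ?_
    rintro _ ⟨h, b, rfl⟩
    obtain ⟨a, rfl⟩ := hτs b
    have hh : ∀ (y : Ya) (a : A), (h : B →+ W) (τ (y • a)) = y • (h : B →+ W) (τ a) := by
      intro y a
      obtain ⟨η, hη⟩ := actB y (hYaKb y.2)
      have h1 : η (τ a) = τ (y • a) := HomY.inj hf (by rw [← hη, hτ, hτ, g.2]; rfl)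
      rw [← h1]
      exact (hη h (τ a)).symm
    let h' : HomY Ya A W := ⟨AddMonoidHom.mk' (fun a => (h : B →+ W) (τ a)) fun a a' => by rw [hτa, map_add], hh⟩
    have e : (h : B →+ W) (τ a) = (h' : A →+ W) a := rfl
    change (h : B →+ W) (τ a) ∈ cm W Ya
    rw [e, hVA]
    exact mem_img h' a
  -- `V_a ≤ V_b`
  have hab : cm W Ya ≤ cm W Yb := by
    by_contra hcon
    obtain ⟨g', a', hg'⟩ : ∃ (g' : HomY Ya A W) (a : A), ((g' : A →+ W) a :) ∉ cm W Yb := by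
      by_contra h0
      push Not at h0
      apply hcon
      rw [hVA]
      refine (AddSubgroup.closure_le _).2 ?_
      rintro _ ⟨h, a, rfl⟩
      exact h0 h a
    have hno : ∀ x : A, ((g' : A →+ W) x :) ∈ cm W Yb → x = 0 := by
      intro x hx
      by_contra hx0
      apply hg'
      refine (irr_tv dA (B := (cm W Yb).comap (g' : A →+ W)) (fun ψ c hc x hx => ?_) (a := x) hx hx0 a' :
        a' ∈ (cm W Yb).comap (g' : A →+ W))
      obtain ⟨n, hn, hn'⟩ := hKa ψ c hc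
      change (g' : A →+ W) (ψ x • c) ∈ cm W Yb
      have e : (g' : A →+ W) (ψ x • c) = n • (g' : A →+ W) x - (g' : A →+ W) x := by
        rw [hn', tm_apply, map_add]; abel
      rw [e]
      exact (cm W Yb).sub_mem ((pb_KV pb) n (hK hn) _ hx) hx
    -- `Yb` commutes with `Ka` on `V_b`
    have hcomm : ∀ y ∈ Yb, ∀ n ∈ Ka, ∀ v ∈ cm W Yb, y • n • v = n • y • v := by
      intro y hy n hn v hv
      have hn' : y * n * y⁻¹ ∈ Ka := pa.nK y (pb.KM (pb.YK hy)) n hn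
      obtain ⟨θ, hθ⟩ := actA n hn
      obtain ⟨θ', hθ'⟩ := actA _ hn'
      obtain ⟨η, hη⟩ := actB n (hK hn)
      obtain ⟨η', hη'⟩ := actB _ (hK hn')
      have h1 : ∀ x, θ x = θ' x := by
        intro x
        rw [← sub_eq_zero]
        apply hno
        have h2 : y • n • (g' : A →+ W) x = (y * n * y⁻¹) • y • (g' : A →+ W) x := by
          rw [smul_smul, smul_smul, inv_mul_cancel_right]
        have h3 : y • (g' : A →+ W) x = (g' : A →+ W) x + (y • (g' : A →+ W) x - (g' : A →+ W) x) := by abel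
        rw [hθ, h3, smul_add, hθ'] at h2
        have h4 : (g' : A →+ W) (θ x - θ' x) =
            (y * n * y⁻¹) • (y • (g' : A →+ W) x - (g' : A →+ W) x) - (y • (g' : A →+ W) (θ x) - (g' : A →+ W) (θ x)) := by
          rw [h2, map_sub]; abel
        rw [h4]
        exact (cm W Yb).sub_mem ((pb_KV pb) _ (hK hn') _ (br_mem_cm hy _)) (br_mem_cm hy _)
      have h5 : ∀ b, η b = η' b := by
        intro b
        obtain ⟨a, rfl⟩ := hτs b
        rw [hτK n hn hθ hη, hτK _ hn' hθ' hη', h1]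
      have h6 := eq_on hη hη' h5 (v := y • v) (by rw [← hVB]; exact smul_cm hy hv)
      rw [h6, smul_smul, smul_smul, inv_mul_cancel_right]
    -- two transvections which do not commute
    obtain ⟨c, hc0⟩ := hIB.ne
    obtain ⟨b₀, hb₀⟩ := exists_indep dB c
    have hb₀0 : b₀ ≠ 0 := fun h => hb₀ 0 (by rw [zero_smul, h])
    obtain ⟨φ, hφ1, hφ2⟩ := exists_dual_one (K := KK Yb B) (a := b₀) (b := c) (fun κ e => by
      have hκ : κ ≠ 0 := by
        rintro rfl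
        rw [zero_smul] at e
        exact hc0 e.symm
      exact hb₀ κ⁻¹ (by rw [← e, smul_smul, inv_mul_cancel₀ hκ, one_smul])) hb₀0
    obtain ⟨χ, hχ1, hχ2⟩ := exists_dual_one (K := KK Yb B) (a := c) (b := b₀) hb₀ hc0
    obtain ⟨n, hn, hn'⟩ := hKb φ c hφ2
    obtain ⟨y, hy, hy'⟩ := (allT_self (W := W) tvB) χ b₀ hχ2
    have h1 := hcomm y hy n hn (((f : B →+ W) b₀ :)) (hfX b₀).2
    have e1 : tm φ c b₀ = b₀ + c := by rw [tm_apply, hφ1, one_smul]
    have e2 : tm χ b₀ (b₀ + c) = c := by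
      rw [tm_apply, map_add, hχ2, hχ1, zero_add, one_smul]
      calc b₀ + c + b₀ = c + (b₀ + b₀) := by abel
        _ = c := by rw [twoB, add_zero]
    have e3 : tm χ b₀ b₀ = b₀ := by rw [tm_apply, hχ2, zero_smul, add_zero]
    rw [hn', hy', hy', hn', e1, e2, e3, e1] at h1
    have h2 := HomY.inj hf h1
    exact hb₀0 (right_eq_add.1 h2)
  have hVab : cm W Ya = cm W Yb := le_antisymm hab hba
  -- elements of `Ya`, `Yb` which agree on `V`
  have heq : ∀ x ∈ Ya, ∀ y ∈ Yb, (∀ v ∈ cm W Yb, y • v = x • v) → x = y := by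
    intro x hx y hy h
    have h1 : x⁻¹ * y = 1 := by
      refine eq_one_of_red faith two red pb.KM pb.nK (pb_KV pb) (mul_mem (inv_mem (hYaKb hx)) (pb.YK hy)) ?_ ?_
      · intro v hv
        rw [mul_smul, h v hv, inv_smul_smul]
      · intro w
        have e : (x⁻¹ * y) • w - w = x⁻¹ • (y • w - w) + (x⁻¹ • w - w) := by rw [mul_smul, smul_sub]; abel
        rw [e]
        refine add_mem ((pb_KV pb) _ (inv_mem (hYaKb hx)) _ (br_mem_cm hy w)) ?_
        rw [← hVab]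
        exact br_mem_cm (inv_mem hx) w
    exact inv_mul_eq_one.1 h1
  refine le_antisymm ?_ ?_
  · refine pa.blk.gen.trans ((closure_le _).2 ?_)
    rintro x ⟨hx, hx2⟩
    obtain ⟨η, hη⟩ := actB x (hYaKb hx)
    obtain ⟨y, hy, -, h1⟩ := exists_of_invol twoB ⟨fB, hfB⟩ (allT_self tvB) hη hx2
    have h2 := heq x hx y hy fun v hv => by
      rw [hVB] at hv
      exact (h1 v hv).symm
    rw [h2]
    exact hy
  · refine pb.blk.gen.trans ((closure_le _).2 ?_)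
    rintro y ⟨hy, hy2⟩
    obtain ⟨η, hη⟩ := actB y (pb.YK hy)
    obtain ⟨n, hn, -, h1⟩ := exists_of_invol twoB ⟨fB, hfB⟩ hKb hη hy2
    rw [← hVB] at h1
    obtain ⟨θ, hθ⟩ := exists_act (k := y) hVA hEA (fun v hv => by
      rw [hVab] at hv ⊢
      exact smul_cm hy hv) (fun e he v v' h => by
        have h2 : (v' : W) = n • (v : W) := by rw [h, h1 v (hVab ▸ v.2)]
        have h3 := pa.lin n hn e he v v' h2
        rw [h3, h1 _ (hVab ▸ (e v).2)])
    obtain ⟨x, hx, -, h2⟩ := exists_of_invol twoA hEA (allT_self tvA) hθ hy2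
    have h3 := heq x hx y hy fun v hv => by
      rw [← hVab, hVA] at hv
      exact h2 v hv
    rw [← h3]
    exact hx

omit [Finite Γ] in
/-- **The disjoint case.** -/
theorem pair_triv (pa : PB W M Fa Ya Ka) (hYM : Yb ≤ M)
    (h : ∀ m ∈ M, ∀ y ∈ Ya, ∀ v ∈ m • cm W Yb, y • v = v) : ∀ m ∈ M, ∀ y ∈ Yb, ∀ v ∈ m • cm W Ya, y • v = v := by
  obtain ⟨A, _, _, _, hIA, tvA, twoA, hVA, dA, dEA⟩ := pa.blk.ex
  have hsm : ∀ (m : Γ) (X : AddSubgroup W) (v : W), v ∈ m • X ↔ m⁻¹ • v ∈ X := fun m X v =>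
    AddSubgroup.mem_pointwise_smul_iff_inv_smul_mem
  -- conjugates of `Ya` centralise `V_b`
  have h' : ∀ m ∈ M, ∀ y ∈ Ya, ∀ v ∈ cm W Yb, (m * y * m⁻¹) • v = v := by
    intro m hm y hy v hv
    have h1 := h m⁻¹ (inv_mem hm) y hy (m⁻¹ • v) ((hsm _ _ _).2 (by rwa [inv_inv, smul_inv_smul]))
    rw [mul_smul, mul_smul, h1, smul_inv_smul]
  intro m hm y hy v hv
  have hv' := (hsm _ _ _).1 hv
  -- `y m V_a = m V_a`
  have hst : (m⁻¹ * y * m) • cm W Ya = cm W Ya := by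
    by_contra hcon
    have hmM : m⁻¹ * y * m ∈ M := mul_mem (mul_mem (inv_mem hm) (hYM hy)) hm
    -- `m Ya m⁻¹` centralises `m V_a`
    have h2 : ∀ x ∈ Ya, ∀ u ∈ cm W Ya, x • u = u := by
      intro x hx u hu
      have h3 := h' m hm x hx (y • m • u - m • u) (br_mem_cm hy _)
      have h4 : (m * x * m⁻¹) • (y • m • u) = y • m • u := by
        have h5 := pa.cen _ hmM hcon x hx ((m⁻¹ * y * m) • u) (AddSubgroup.smul_mem_pointwise_smul _ _ _ hu)
        have e : m⁻¹ • (y • m • u) = (m⁻¹ * y * m) • u := by rw [mul_smul, mul_smul]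
        rw [mul_smul, mul_smul, e, h5, ← e, smul_inv_smul]
      rw [smul_sub, h4] at h3
      have h5 : (m * x * m⁻¹) • (m • u) = m • u := sub_right_injective h3
      rw [mul_smul, inv_smul_smul, mul_smul] at h5
      exact smul_left_cancel m h5
    obtain ⟨f, hf⟩ := exists_hom_ne dEA
    obtain ⟨a, ha⟩ := hIA.ne
    have h6 : ((f : A →+ W) a :) ∈ img Ya A W := mem_img f a
    have h7 := fix_eq_zero dA (allT_self tvA) h6 fun x hx => h2 x hx _ (by rw [hVA]; exact h6)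
    exact ha (HomY.inj hf (h7.trans (map_zero _).symm))
  have h1 : m⁻¹ • (y • v - v) ∈ cm W Ya := by
    have e : m⁻¹ • (y • v - v) = (m⁻¹ * y * m) • (m⁻¹ • v) - m⁻¹ • v := by
      rw [smul_sub, mul_smul, mul_smul, smul_inv_smul]
    rw [e]
    refine (cm W Ya).sub_mem ?_ hv'
    have h2 : (m⁻¹ * y * m) • (m⁻¹ • v) ∈ (m⁻¹ * y * m) • cm W Ya := AddSubgroup.smul_mem_pointwise_smul _ _ _ hv'
    rwa [hst] at h2
  have h2 : m⁻¹ • (y • v - v) = 0 := by
    rw [hVA] at h1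
    refine fix_eq_zero dA (allT_self tvA) h1 fun x hx => ?_
    have h3 := h' m hm x hx (y • v - v) (br_mem_cm hy v)
    rw [mul_smul, mul_smul] at h3
    conv_rhs => rw [← h3]
    rw [inv_smul_smul]
  have h3 : y • v - v = 0 := by rw [← smul_inv_smul m (y • v - v), h2, smul_zero]
  exact sub_eq_zero.1 h3

end core

end Cfsg.Agent.Omega.NO3b.BasePt.Pr

end

section


/-!
# Two panels (NotFFG, base point, (B1); helper25, helper957)

* `isBlk_conj`, `pb_conj` : conjugation with `m ∈ M`;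
* **`pair`** : for two panels with `Ka ≤ Kb`: `Yb` is conjugate to `Ya` in `M`, or all conjugates of `Ya`, `Yb`
  centralise the blocks of each other.
-/

set_option autoImplicit false

namespace Cfsg.Agent.Omega.NO3b.BasePt.Pr

open Subgroup
open Cfsg.Agent.Omega.NO3b.Exit Cfsg.Agent.Omega.NO3b.Exit.Ten Cfsg.Agent.Omega.NO3b.Exit.Descent
open Cfsg.Agent.Omega.NO3b.Exit.TDat (Red)
open Cfsg.Agent.Omega.FF.Basic (fx)
open scoped Pointwise

universe u v w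

variable {Γ : Type u} [Group Γ] {W : Type v} [AddCommGroup W] [DistribMulAction Γ W]

/-- `m Y m⁻¹` -/
abbrev cj (m : Γ) (Y : Subgroup Γ) : Subgroup Γ := Y.map (MulAut.conj m).toMonoidHom

theorem mem_cj {m : Γ} {Y : Subgroup Γ} {x : Γ} : x ∈ cj m Y ↔ m⁻¹ * x * m ∈ Y := by
  constructor
  · rintro ⟨y, hy, rfl⟩
    have e : m⁻¹ * (m * y * m⁻¹) * m = y := by group
    change m⁻¹ * (m * y * m⁻¹) * m ∈ Y
    rwa [e]
  · intro h
    refine ⟨m⁻¹ * x * m, h, ?_⟩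
    change m * (m⁻¹ * x * m) * m⁻¹ = x
    group

theorem cj_cj (m n : Γ) (Y : Subgroup Γ) : cj m (cj n Y) = cj (m * n) Y := by
  ext x
  rw [mem_cj, mem_cj, mem_cj]
  have e : n⁻¹ * (m⁻¹ * x * m) * n = (m * n)⁻¹ * x * (m * n) := by group
  rw [e]

theorem cj_one (Y : Subgroup Γ) : cj 1 Y = Y := by
  ext x
  rw [mem_cj, inv_one, one_mul, mul_one]

theorem cj_mem {m : Γ} {Y : Subgroup Γ} {y : Γ} (hy : y ∈ Y) : m * y * m⁻¹ ∈ cj m Y := ⟨y, hy, rfl⟩

theorem cm_cj (m : Γ) (Y : Subgroup Γ) : cm W (cj m Y) = m • cm W Y := by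
  apply le_antisymm
  · refine (AddSubgroup.closure_le _).2 ?_
    rintro _ ⟨_, ⟨y, hy, rfl⟩, w, rfl⟩
    have e : (MulAut.conj m).toMonoidHom y • w - w = m • (y • (m⁻¹ • w) - m⁻¹ • w) := by
      change (m * y * m⁻¹) • w - w = _
      rw [smul_sub, smul_inv_smul, mul_smul, mul_smul]
    rw [e]
    exact AddSubgroup.smul_mem_pointwise_smul _ _ _ (br_mem_cm hy _)
  · intro v hv
    obtain ⟨w, hw, rfl⟩ := (AddSubgroup.mem_smul_pointwise_iff_exists _ _ _).1 hv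
    clear hv
    change w ∈ AddSubgroup.closure _ at hw
    induction hw using AddSubgroup.closure_induction with
    | mem w hw =>
      obtain ⟨y, hy, w, rfl⟩ := hw
      have e : m • (y • w - w) = (m * y * m⁻¹) • (m • w) - m • w := by
        rw [smul_sub, mul_smul, mul_smul, inv_smul_smul]
      rw [e]
      exact br_mem_cm (cj_mem hy) _
    | zero => rw [smul_zero]; exact zero_mem _
    | add a b _ _ ha hb => rw [smul_add]; exact add_mem ha hb
    | neg a _ ha => rw [smul_neg]; exact neg_mem ha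

/-- `m Y m⁻¹ → Y` -/
def rho (m : Γ) (Y : Subgroup Γ) : cj m Y →* Y where
  toFun x := ⟨m⁻¹ * x * m, mem_cj.1 x.2⟩
  map_one' := Subtype.ext (by change m⁻¹ * 1 * m = 1; group)
  map_mul' x y := Subtype.ext (by
    change m⁻¹ * ((x : Γ) * (y : Γ)) * m = m⁻¹ * x * m * (m⁻¹ * y * m)
    group)

theorem rho_surj (m : Γ) (Y : Subgroup Γ) (y : Y) : ∃ x, rho m Y x = y :=
  ⟨⟨m * y * m⁻¹, cj_mem y.2⟩, Subtype.ext (by change m⁻¹ * (m * (y : Γ) * m⁻¹) * m = y; group)⟩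

section tr

variable {Y : Subgroup Γ} {A : Type w} [AddCommGroup A] [Finite A] [iA : DistribMulAction Y A] [hI : IsIrr Y A]

/-- `A` with the action of `m Y m⁻¹` -/
@[reducible] def actCj (m : Γ) (Y : Subgroup Γ) (A : Type w) [AddCommGroup A] [DistribMulAction Y A] :
    DistribMulAction (cj m Y) A := DistribMulAction.compHom A (rho m Y)

omit [Finite A] in
theorem isIrr_cj (m : Γ) : letI := actCj m Y A; IsIrr (cj m Y) A := by
  let _ := actCj m Y A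
  refine ⟨hI.ne, fun N hN => hI.irr N fun k n hn => ?_⟩
  obtain ⟨x, rfl⟩ := rho_surj m Y k
  exact hN x n hn

/-- `End_Y(A) = End_{mYm⁻¹}(A)` -/
def kkEquiv (m : Γ) : letI := actCj m Y A; letI := isIrr_cj (A := A) (Y := Y) m; KK Y A ≃+* KK (cj m Y) A :=
  letI := actCj m Y A
  letI := isIrr_cj (A := A) (Y := Y) m
  let F : KK Y A → KK (cj m Y) A := fun κ => ⟨κ.1, fun x a => κ.2 (rho m Y x) a⟩
  { toFun := F
    invFun := fun κ => ⟨κ.1, fun k a => by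
      obtain ⟨x, rfl⟩ := rho_surj m Y k
      exact κ.2 x a⟩
    left_inv := fun κ => rfl
    right_inv := fun κ => rfl
    map_mul' := fun x y => Subtype.ext ((KK.val_mul x y).trans (KK.val_mul (F x) (F y)).symm)
    map_add' := fun x y => Subtype.ext ((KK.val_add x y).trans (KK.val_add (F x) (F y)).symm) }

/-- `Hom_Y(A, W) = Hom_{mYm⁻¹}(A, W)` -/
def homEquiv (m : Γ) : letI := actCj m Y A; HomY Y A W ≃+ HomY (cj m Y) A W := by
  letI := actCj m Y A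
  have key : ∀ (l : Γ) (x : Γ) (w : W), (l * x * l⁻¹) • l • w = l • x • w := fun l x w => by
    rw [mul_smul, mul_smul, inv_smul_smul]
  exact
    { toFun := fun f => ⟨((DistribSMul.toAddMonoidHom W m).comp (f : A →+ W) :), fun x a => by
        change m • (f : A →+ W) (rho m Y x • a) = (x : Γ) • m • (f : A →+ W) a
        rw [f.2]
        change m • (m⁻¹ * (x : Γ) * m) • (f : A →+ W) a = _
        rw [← key m]
        congr 1
        group⟩
      invFun := fun f => ⟨((DistribSMul.toAddMonoidHom W m⁻¹).comp (f : A →+ W) :), fun k a => by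
        obtain ⟨x, rfl⟩ := rho_surj m Y k
        change m⁻¹ • (f : A →+ W) (x • a) = (m⁻¹ * (x : Γ) * m) • m⁻¹ • (f : A →+ W) a
        rw [f.2, mul_smul, mul_smul, smul_inv_smul]
        rfl⟩
      left_inv := fun f => Subtype.ext (by ext a; exact inv_smul_smul m _)
      right_inv := fun f => Subtype.ext (by ext a; exact smul_inv_smul m _)
      map_add' := fun f g => Subtype.ext (by ext a; exact smul_add m _ _) }

theorem allTv_cj (m : Γ) (tv : AllTv Y A) :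
    letI := actCj m Y A; letI := isIrr_cj (A := A) (Y := Y) m; AllTv (cj m Y) A := by
  let _ := actCj m Y A
  let _ := isIrr_cj (A := A) (Y := Y) m
  intro φ a ha
  let r := kkEquiv (A := A) (Y := Y) m
  let ψ : Module.Dual (KK Y A) A :=
    { toFun := fun x => r.symm (φ x)
      map_add' := fun x y => by rw [map_add, map_add]
      map_smul' := fun κ x => by
        have h1 : φ (κ • x) = r κ * φ x := by
          have h2 := φ.map_smul (r κ) x
          rw [smul_eq_mul] at h2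
          exact h2
        rw [h1, map_mul, RingEquiv.symm_apply_apply]
        rfl }
  obtain ⟨k, hk⟩ := tv ψ a (by change r.symm (φ a) = 0; rw [ha, map_zero])
  obtain ⟨x, rfl⟩ := rho_surj m Y k
  exact ⟨x, fun b => (hk b).trans rfl⟩

theorem finrank_cj (m : Γ) : letI := actCj m Y A; letI := isIrr_cj (A := A) (Y := Y) m;
    Module.finrank (KK (cj m Y) A) A = Module.finrank (KK Y A) A := by
  let _ := actCj m Y A
  let _ := isIrr_cj (A := A) (Y := Y) m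
  let r := kkEquiv (A := A) (Y := Y) m
  have h := rank_eq_of_equiv_equiv (R := KK Y A) (R' := KK (cj m Y) A) (M := A) (M₁ := A) r (AddEquiv.refl A) r.bijective
    (fun κ a => rfl)
  unfold Module.finrank
  rw [h]

theorem finrank_hom_cj (m : Γ) : letI := actCj m Y A; letI := isIrr_cj (A := A) (Y := Y) m;
    Module.finrank (KK (cj m Y) A) (HomY (cj m Y) A W) = Module.finrank (KK Y A) (HomY Y A W) := by
  let _ := actCj m Y A
  let _ := isIrr_cj (A := A) (Y := Y) m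
  let r := kkEquiv (A := A) (Y := Y) m
  have h := rank_eq_of_equiv_equiv (R := KK Y A) (R' := KK (cj m Y) A) (M := HomY Y A W) (M₁ := HomY (cj m Y) A W) r
    (homEquiv m) r.bijective (fun κ a => rfl)
  unfold Module.finrank
  rw [h]

end tr

theorem isBlk_conj {Y : Subgroup Γ} (h : IsBlk W Y) (m : Γ) : IsBlk W (cj m Y) := by
  obtain ⟨A, iA1, iA2, iA3, iA4, tv, two, hV, dA, dE⟩ := h.ex
  refine ⟨?_, A, iA1, iA2, actCj m Y A, isIrr_cj m, allTv_cj m tv, two, ?_, ?_, ?_⟩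
  · rintro _ ⟨y, hy, rfl⟩
    have h1 := h.gen hy
    clear hy
    induction h1 using closure_induction with
    | mem y hy =>
      refine subset_closure ⟨cj_mem hy.1, ?_⟩
      change m * y * m⁻¹ * (m * y * m⁻¹) = 1
      have e : m * y * m⁻¹ * (m * y * m⁻¹) = m * (y * y) * m⁻¹ := by group
      rw [e, hy.2]
      group
    | one => rw [map_one]; exact one_mem _
    | mul a b _ _ ha hb => rw [map_mul]; exact mul_mem ha hb
    | inv a _ ha => rw [map_inv]; exact inv_mem ha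
  · let _ := actCj m Y A
    rw [cm_cj, hV]
    apply le_antisymm
    · intro v hv
      obtain ⟨w, hw, rfl⟩ := (AddSubgroup.mem_smul_pointwise_iff_exists _ _ _).1 hv
      clear hv
      change w ∈ AddSubgroup.closure _ at hw
      induction hw using AddSubgroup.closure_induction with
      | mem w hw =>
        obtain ⟨f, a, rfl⟩ := hw
        exact mem_img (homEquiv m f) a
      | zero => rw [smul_zero]; exact zero_mem _
      | add a b _ _ ha hb => rw [smul_add]; exact add_mem ha hb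
      | neg a _ ha => rw [smul_neg]; exact neg_mem ha
    · refine (AddSubgroup.closure_le _).2 ?_
      rintro _ ⟨f, a, rfl⟩
      obtain ⟨g, rfl⟩ := (homEquiv (W := W) (A := A) (Y := Y) m).surjective f
      exact AddSubgroup.smul_mem_pointwise_smul _ _ _ (mem_img g a)
  · rw [finrank_cj]; exact dA
  · rw [finrank_hom_cj]; exact dE

theorem pb_conj {M Y K : Subgroup Γ} {F : AddSubgroup W} (p : PB W M F Y K) {m : Γ} (hm : m ∈ M) :
    PB W M (m • F) (cj m Y) K := by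
  have hsm : ∀ (m : Γ) (X : AddSubgroup W) (v : W), v ∈ m • X ↔ m⁻¹ • v ∈ X := fun m X v =>
    AddSubgroup.mem_pointwise_smul_iff_inv_smul_mem
  have hcm := cm_cj (W := W) m Y
  have hK : ∀ k ∈ K, m⁻¹ * k * m ∈ K := fun k hk => by
    have := p.nK m⁻¹ (inv_mem hm) k hk
    rwa [inv_inv] at this
  refine
    { blk := isBlk_conj p.blk m
      YK := fun x hx => by
        obtain ⟨y, hy, rfl⟩ := hx
        exact p.nK m hm y (p.YK hy)
      KM := p.KM
      nK := p.nK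
      flat := ?_
      dich := ?_
      cen := ?_
      stab := ?_
      lin := ?_ }
  · obtain ⟨Q, hQ, hQF⟩ := p.flat
    refine ⟨cj m Q, Subgroup.map_mono hQ, ?_⟩
    rw [← hQF]
    ext v
    rw [hsm]
    constructor
    · intro hv q hq
      have h1 := hv (m * q * m⁻¹) (cj_mem hq)
      rw [mul_smul, mul_smul] at h1
      rw [← inv_smul_smul m (q • m⁻¹ • v), h1]
    · rintro hv _ ⟨q, hq, rfl⟩
      change (m * q * m⁻¹) • v = v
      rw [mul_smul, mul_smul, hv q hq, smul_inv_smul]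
  · intro l hl
    rw [hcm]
    have e : l • m • cm W Y = m • ((m⁻¹ * l * m) • cm W Y) := by
      rw [smul_smul, smul_smul]; congr 1; group
    rcases p.dich (m⁻¹ * l * m) (mul_mem (mul_mem (inv_mem hm) hl) hm) with h1 | h1
    · left; rw [e, h1]
    · right
      rw [e, eq_bot_iff]
      rintro v ⟨h2, h3⟩
      have h4 : m⁻¹ • v ∈ (m⁻¹ * l * m) • cm W Y ⊓ cm W Y := ⟨(hsm _ _ _).1 h2, (hsm _ _ _).1 h3⟩
      rw [h1, AddSubgroup.mem_bot] at h4
      rw [AddSubgroup.mem_bot, ← smul_inv_smul m v, h4, smul_zero]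
  · intro l hl hne y hy v hv
    rw [hcm] at hne hv
    have e : l • m • cm W Y = m • ((m⁻¹ * l * m) • cm W Y) := by
      rw [smul_smul, smul_smul]; congr 1; group
    rw [e] at hne hv
    have h1 := p.cen (m⁻¹ * l * m) (mul_mem (mul_mem (inv_mem hm) hl) hm) (fun h => hne (by rw [h]))
      (m⁻¹ * y * m) (mem_cj.1 hy) (m⁻¹ • v) ((hsm _ _ _).1 hv)
    rw [mul_smul, mul_smul, smul_inv_smul] at h1
    exact smul_left_cancel m⁻¹ h1
  · intro k hk
    rw [hcm]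
    have e : k • m • cm W Y = m • ((m⁻¹ * k * m) • cm W Y) := by
      rw [smul_smul, smul_smul]; congr 1; group
    rw [e, p.stab _ (hK k hk)]
  · intro k hk e he v v' h
    -- transport `e`
    have hm1 : ∀ v ∈ cm W Y, m • v ∈ cm W (cj m Y) := fun v hv => by
      rw [hcm]; exact AddSubgroup.smul_mem_pointwise_smul _ _ _ hv
    have hm2 : ∀ v ∈ cm W (cj m Y), m⁻¹ • v ∈ cm W Y := fun v hv => by
      rw [hcm] at hv; exact (hsm _ _ _).1 hv
    let e' : cm W Y →+ cm W Y :=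
      { toFun := fun v => ⟨m⁻¹ • (e ⟨m • (v : W), hm1 _ v.2⟩ : W), hm2 _ (e _).2⟩
        map_zero' := Subtype.ext (by
          have h1 : (⟨m • ((0 : cm W Y) : W), hm1 _ (0 : cm W Y).2⟩ : cm W (cj m Y)) = 0 := Subtype.ext (smul_zero m)
          change m⁻¹ • (e ⟨m • ((0 : cm W Y) : W), hm1 _ (0 : cm W Y).2⟩ : W) = 0
          rw [h1, map_zero]
          exact smul_zero _)
        map_add' := fun x y => Subtype.ext (by
          have h1 : (⟨m • ((x + y : cm W Y) : W), hm1 _ (x + y).2⟩ : cm W (cj m Y)) =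
              ⟨m • (x : W), hm1 _ x.2⟩ + ⟨m • (y : W), hm1 _ y.2⟩ := Subtype.ext (smul_add m _ _)
          change m⁻¹ • (e ⟨m • ((x + y : cm W Y) : W), hm1 _ (x + y).2⟩ : W) = _
          rw [h1, map_add]
          exact smul_add _ _ _) }
    have he' : ∀ (v : cm W Y) (w : cm W (cj m Y)), (w : W) = m • (v : W) → (e' v : W) = m⁻¹ • (e w : W) := by
      intro v w hw
      have h1 : w = ⟨m • (v : W), hm1 _ v.2⟩ := Subtype.ext hw
      rw [h1]
      rfl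
    have h1 := p.lin (m⁻¹ * k * m) (hK k hk) e' (fun y hy w w' hw => by
      rw [he' w ⟨m • (w : W), hm1 _ w.2⟩ rfl, he' w' ⟨m • (w' : W), hm1 _ w'.2⟩ rfl]
      have h2 := he (m * y * m⁻¹) (cj_mem hy) ⟨m • (w : W), hm1 _ w.2⟩ ⟨m • (w' : W), hm1 _ w'.2⟩ (by
        change m • (w' : W) = (m * y * m⁻¹) • m • (w : W)
        rw [hw, mul_smul, mul_smul, inv_smul_smul])
      rw [h2, mul_smul, mul_smul, inv_smul_smul])
      ⟨m⁻¹ • (v : W), hm2 _ v.2⟩ ⟨m⁻¹ • (v' : W), hm2 _ v'.2⟩ (by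
        change m⁻¹ • (v' : W) = (m⁻¹ * k * m) • m⁻¹ • (v : W)
        rw [h, mul_smul, mul_smul, smul_inv_smul])
    have h2 := he' ⟨m⁻¹ • (v : W), hm2 _ v.2⟩ v (smul_inv_smul m (v : W)).symm
    have h3 := he' ⟨m⁻¹ • (v' : W), hm2 _ v'.2⟩ v' (smul_inv_smul m (v' : W)).symm
    rw [h2, h3, mul_smul, mul_smul, smul_inv_smul] at h1
    exact smul_left_cancel m⁻¹ h1

end Cfsg.Agent.Omega.NO3b.BasePt.Pr

namespace Cfsg.Agent.Omega.NO3b.BasePt

open Subgroup Pr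
open Cfsg.Agent.Omega.NO3b.Exit.TDat (Red)
open scoped Pointwise

universe u v

variable {Γ : Type u} [Group Γ] {W : Type v} [AddCommGroup W] [DistribMulAction Γ W]

/-- **Two panels.** -/
theorem pair [Finite Γ] [Finite W] {M : Subgroup Γ} {Fa Fb : AddSubgroup W} {Ya Ka Yb Kb : Subgroup Γ}
    (faith : ∀ g : Γ, (∀ w : W, g • w = w) → g = 1) (two : ∀ w : W, w + w = 0)
    (red : Red M (⊤ : AddSubgroup W)) (pa : PB W M Fa Ya Ka) (pb : PB W M Fb Yb Kb) (hK : Ka ≤ Kb) :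
    (∃ m ∈ M, Yb = cj m Ya) ∨
      ∀ m ∈ M, (∀ y ∈ Ya, ∀ v ∈ m • cm W Yb, y • v = v) ∧ ∀ y ∈ Yb, ∀ v ∈ m • cm W Ya, y • v = v := by
  by_cases h : ∀ m ∈ M, ∀ y ∈ Ya, ∀ v ∈ m • cm W Yb, y • v = v
  · exact Or.inr fun m hm => ⟨h m hm, pair_triv pa (pb.YK.trans pb.KM) h m hm⟩
  · left
    push Not at h
    obtain ⟨m, hm, y, hy, v, hv, hne⟩ := h
    have hv' : m⁻¹ • v ∈ cm W Yb := AddSubgroup.mem_pointwise_smul_iff_inv_smul_mem.1 hv
    refine ⟨m⁻¹, inv_mem hm, (pair_core faith two red (pb_conj pa (inv_mem hm)) pb hK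
      ⟨m⁻¹ * y * m⁻¹⁻¹, cj_mem hy, m⁻¹ • v, hv', fun h1 => hne ?_⟩).symm⟩
    rw [inv_inv, mul_smul, mul_smul, smul_inv_smul] at h1
    exact smul_left_cancel m⁻¹ h1

end Cfsg.Agent.Omega.NO3b.BasePt

end
end

-- part: Mrg/Omega/NO3b/BasePt/TFix
section
set_option linter.all false
open scoped Cfsg.Agent.FastGrp

section


/-!
# NotFFG, the base point: the fixed points of `S` over a family of blocks (helper255, bb 23362)

`Fa : Fam W M 𝒴`, `gas`, `S ≤ M` a 2-group of odd index in `M`.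

* `Fam.norm_RR` : `RR 𝒴` normalises every `Y ∈ 𝒴`; `Fam.odd_Y` : `S ∩ Y` has odd index in `Y`;
* `Fam.exists_comp` : every block carries a component `≠ 0` of some fixed point of `S`;
* **`Fam.fcl_fx`** : `fcl (C_W(S)) = C_W(S ∩ RR 𝒴)`.
-/

set_option autoImplicit false
set_option linter.unusedSectionVars false

namespace Cfsg.Agent.Omega.NO3b.BasePt

open Subgroup
open Cfsg.Agent.Omega.NO3b.Exit Cfsg.Agent.Omega.NO3b.Exit.Ten Cfsg.Agent.Omega.NO3b.Exit.Descent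
open Cfsg.Agent.Omega.NO3b.Exit.TBlk (Sn)
open Cfsg.Agent.Omega.NO3b.Exit.BlkZ (exists_of_sq sn_odd)
open Cfsg.Agent.Omega.FF.Basic (fx mem_fx)
open scoped Pointwise

universe u v w

variable {Γ : Type u} [Group Γ] {W : Type v} [AddCommGroup W] [DistribMulAction Γ W]

theorem IsBlk.exists_ne [Finite W] {Y : Subgroup Γ} (b : IsBlk W Y) : ∃ v ∈ cm W Y, v ≠ 0 := by
  obtain ⟨A, _, _, _, _, htv, -, e, h2, h3⟩ := b.ex
  obtain ⟨y, a, ha⟩ := exists_move htv h2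
  have : Nontrivial (HomY Y A W) := Module.nontrivial_of_finrank_pos (R := KK Y A) (by omega)
  obtain ⟨f, hf⟩ := _root_.exists_ne (0 : HomY Y A W)
  refine ⟨(f : A →+ W) (y • a - a), e ▸ mem_img f _, fun h0 => ha ?_⟩
  exact sub_eq_zero.1 (HomY.inj hf (h0.trans (map_zero _).symm))

namespace Fam

variable [Finite Γ] [Finite W] {M : Subgroup Γ} {𝒴 : Set (Subgroup Γ)} (Fa : Fam W M 𝒴)
include Fa

/-- `RR` normalises every block group -/
theorem norm_RR {Y : Subgroup Γ} (hY : Y ∈ 𝒴) {r : Γ} (hr : r ∈ RR 𝒴) : Y.map (MulAut.conj r).toMonoidHom = Y := by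
  by_contra hne
  obtain ⟨v, hv, hv0⟩ := (Fa.blk Y hY).exists_ne
  have h1 : r • v ∈ rst W 𝒴 Y := cm_le_rst (Fa.conj Y hY r (Fa.RR_le hr)) hne (smul_cm r hv)
  have h2 := Fa.indep hY (Fa.smul_cm_RR hr hY hv) h1
  exact hv0 (by rw [← inv_smul_smul r v, h2, smul_zero])

theorem sn {Y : Subgroup Γ} (hY : Y ∈ 𝒴) : Sn Y M := by
  refine Sn.step (Sn.step (Sn.refl) (le_sSup hY : Y ≤ RR 𝒴) fun k hk n hn => ?_) Fa.RR_le fun k hk n hn =>
    Fa.RR_conj hk hn
  have h1 := Fa.norm_RR hY hk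
  rw [← h1]
  exact ⟨n, hn, rfl⟩

variable {S : Subgroup Γ}

theorem odd_Y (syl : ¬ 2 ∣ S.relIndex M) {Y : Subgroup Γ} (hY : Y ∈ 𝒴) : ¬ 2 ∣ S.relIndex Y :=
  sn_odd (Fa.sn hY) syl

theorem smul_rst' {m : Γ} (hm : m ∈ M) {Y : Subgroup Γ} {v : W} (hv : v ∈ rst W 𝒴 Y) :
    m • v ∈ rst W 𝒴 (Y.map (MulAut.conj m).toMonoidHom) := by
  induction hv using AddSubgroup.closure_induction with
  | mem v hv =>
    obtain ⟨Y', hY', hne, hv⟩ := hv
    exact AddSubgroup.subset_closure ⟨_, Fa.conj Y' hY' m hm,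
      fun e => hne (Subgroup.map_injective (MulAut.conj m).injective e), smul_cm m hv⟩
  | zero => rw [smul_zero]; exact zero_mem _
  | add a b _ _ ha hb => rw [smul_add]; exact add_mem ha hb
  | neg a _ ha => rw [smul_neg]; exact neg_mem ha

/-- every block carries a component `≠ 0` of some fixed point of `S` -/
theorem exists_comp (SM : S ≤ M) (S2 : IsPGroup 2 S) {Y : Subgroup Γ} (hY : Y ∈ 𝒴) :
    ∃ z ∈ sm W 𝒴, (∀ s ∈ S, s • z = z) ∧ z ∉ rst W 𝒴 Y := by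
  let O : AddSubgroup W := AddSubgroup.closure {v | ∃ s ∈ S, v ∈ cm W (Y.map (MulAut.conj s).toMonoidHom)}
  have hOsm : O ≤ sm W 𝒴 := (AddSubgroup.closure_le _).2 (by
    rintro v ⟨s, hs, hv⟩
    exact cm_le_sm (Fa.conj Y hY s (SM hs)) hv)
  obtain ⟨z, hz, hz0, hzS⟩ := exists_fix S2 Fa.two (A := O) (fun s hs v hv => by
      induction hv using AddSubgroup.closure_induction with
      | mem v hv =>
        obtain ⟨t, ht, hv⟩ := hv
        refine AddSubgroup.subset_closure ⟨s * t, mul_mem hs ht, ?_⟩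
        have h1 := smul_cm s hv
        have e : (Y.map (MulAut.conj t).toMonoidHom).map (MulAut.conj s).toMonoidHom =
            Y.map (MulAut.conj (s * t)).toMonoidHom := by
          rw [Subgroup.map_map, map_mul]
          rfl
        rwa [e] at h1
      | zero => rw [smul_zero]; exact zero_mem _
      | add a b _ _ ha hb => rw [smul_add]; exact add_mem ha hb
      | neg a _ ha => rw [smul_neg]; exact neg_mem ha) (by
    intro h0
    obtain ⟨v, hv, hv0⟩ := (Fa.blk Y hY).exists_ne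
    have h1 : v ∈ O := AddSubgroup.subset_closure ⟨1, one_mem _, by
      have h2 := smul_cm (1 : Γ) hv
      rwa [one_smul] at h2⟩
    rw [h0, AddSubgroup.mem_bot] at h1
    exact hv0 h1)
  refine ⟨z, hOsm hz, hzS, fun h1 => hz0 (Fa.sep' (hOsm hz) fun Y' hY' => ?_)⟩
  by_cases hex : ∃ s ∈ S, Y.map (MulAut.conj s).toMonoidHom = Y'
  · obtain ⟨s, hs, e⟩ := hex
    have h2 := Fa.smul_rst' (SM hs) h1
    rwa [hzS s hs, e] at h2
  · push Not at hex
    have h2 : O ≤ rst W 𝒴 Y' := (AddSubgroup.closure_le _).2 (by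
      rintro v ⟨s, hs, hv⟩
      exact cm_le_rst (Fa.conj Y hY s (SM hs)) (hex s hs) hv)
    exact h2 hz

/-- **`fcl (C_W(S)) = C_W(S ∩ RR 𝒴)`** -/
theorem fcl_fx (gas : ∀ w : W, ∃ a ∈ sm W 𝒴, ∃ c : W, (∀ r ∈ RR 𝒴, r • c = c) ∧ w = a + c) (SM : S ≤ M)
    (S2 : IsPGroup 2 S) (syl : ¬ 2 ∣ S.relIndex M) {v : W} :
    v ∈ fcl 𝒴 (fx W S) ↔ ∀ s ∈ S, s ∈ RR 𝒴 → s • v = v := by
  constructor
  · intro hv s hs hsR
    exact hv s hsR fun d hd => hd s hs
  intro hv r hr hrZ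
  obtain ⟨a0, ha0, c, hc, rfl⟩ := gas v
  have h3 : r • a0 - a0 = 0 := by
    refine Fa.sep' (sub_mem (Fa.smul_sm_RR hr ha0) ha0) fun Y hY => ?_
    obtain ⟨a, ha, b, hb, rfl⟩ := sm_dec Y ha0
    have h4 : r • a = a := by
      obtain ⟨z, hz, hzS, hzn⟩ := Fa.exists_comp SM S2 hY
      obtain ⟨az, haz, bz, hbz, rfl⟩ := sm_dec Y hz
      have haz0 : az ≠ 0 := by
        rintro rfl
        rw [zero_add] at hzn
        exact hzn hbz
      have hz0 : ∀ r' ∈ RR 𝒴, r' • (az + bz) = az + bz → r' • az = az := fun r' hr' h => by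
        refine Fa.fix_comp gas hr' hY haz hbz (c := 0) (fun _ _ => smul_zero _) ?_
        rw [add_zero]
        exact h
      obtain ⟨A, _, _, _, _, htv, two, e, hd, hd'⟩ := (Fa.blk Y hY).ex
      have hT : ¬ 2 ∣ (S.subgroupOf Y).index := Fa.odd_Y syl hY
      have hT2 : IsPGroup 2 (S.subgroupOf Y) := S2.comap_of_injective _ (subtype_injective Y)
      obtain ⟨n, -, hn0, hn⟩ := exists_fix (V := A) (H := Y) hT2 two (A := ⊤)
        (fun _ _ _ _ => trivial) (by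
          intro h
          obtain ⟨y, a, ha⟩ := exists_move htv hd
          have h5 : ∀ x : A, x = 0 := fun x => by
            have h6 : x ∈ (⊤ : AddSubgroup A) := trivial
            rwa [h, AddSubgroup.mem_bot] at h6
          exact ha (by rw [h5 a, smul_zero]))
      rw [e] at ha haz
      obtain ⟨f, rfl⟩ := exists_of_fix htv two hT hn0 hn ha (fun t ht => by
        have ht' : (t : Γ) ∈ S := mem_subgroupOf.1 ht
        have htR := Fa.mem_RR hY t.2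
        exact Fa.fix_comp gas htR hY (by rw [e]; exact ha) hb hc (hv _ ht' htR))
      obtain ⟨f', rfl⟩ := exists_of_fix htv two hT hn0 hn haz (fun t ht => by
        have ht' : (t : Γ) ∈ S := mem_subgroupOf.1 ht
        exact hz0 _ (Fa.mem_RR hY t.2) (hzS _ ht'))
      have hf0 : f' ≠ 0 := by
        rintro rfl
        exact haz0 rfl
      obtain ⟨y, hy, hyr⟩ := Fa.RR_cm hr Y hY
      have h5 := hz0 r hr (hrZ _ fun s hs => hzS s hs)
      rw [hyr _ (by rw [e]; exact haz)] at h5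
      have h6 : (⟨y, hy⟩ : Y) • n = n := by
        apply HomY.inj hf0
        rw [f'.2]
        exact h5
      rw [hyr _ (by rw [e]; exact ha)]
      change (⟨y, hy⟩ : Y) • (f : A →+ W) n = _
      rw [← f.2, h6]
    have e2 : r • (a + b) - (a + b) = r • b - b := by
      rw [smul_add, h4]
      abel
    rw [e2]
    exact sub_mem (Fa.smul_rst_RR hr hb) hb
  rw [smul_add, hc r hr, sub_eq_zero.1 h3]

end Fam

end Cfsg.Agent.Omega.NO3b.BasePt

end

section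


/-!
# The tensor-free line `Fc D = C_V(C_R(D))` (helper255, bb 22738)

`R` is normalised by `N_G(V)` (the elements of `N_G(V)` which act on `V` as elements of `R^`). The free fields of
helper826's `MPt S B V Lb` for `Lb := Fc R V`:

* `le_Fc`, `Fc_le`, `Fc_mono` : `D ≤ Fc D ≤ V`, `D ≤ D' → Fc D ≤ Fc D'`;
* `Fc_cj` : `Fc (D^m) = (Fc D)^m` for `m` in `N_G(V) ∩ N_G(R)`;
* `Fc_stab` : `C_G(D) ∩ N_G(V) ≤ N_G(Fc D)`.
-/

set_option autoImplicit false

namespace Cfsg.Agent.Omega.NO3b.BasePt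

open Subgroup
open Cfsg.Agent.ZN.ChoiceBase (cj mem_cj cj_mono cj_inf cj_centralizer cj_eq_of_mem_normalizer mem_normalizer_iff_cj)

universe u

variable {G : Type u} [Group G]

/-- `Fc R V D = C_V(C_R(D))` -/
def Fc (R V D : Subgroup G) : Subgroup G :=
  V ⊓ centralizer ((R ⊓ centralizer (D : Set G) : Subgroup G) : Set G)

variable {R V D D' : Subgroup G}

theorem mem_Fc {v : G} : v ∈ Fc R V D ↔ v ∈ V ∧ ∀ r ∈ R, r ∈ centralizer (D : Set G) → r * v = v * r := by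
  unfold Fc
  rw [mem_inf, mem_centralizer_iff]
  exact ⟨fun h => ⟨h.1, fun r hr hc => h.2 r ⟨hr, hc⟩⟩, fun h => ⟨h.1, fun r hr => h.2 r hr.1 hr.2⟩⟩

theorem Fc_le : Fc R V D ≤ V := inf_le_left

theorem le_Fc (h : D ≤ V) : D ≤ Fc R V D := fun d hd =>
  mem_Fc.2 ⟨h hd, fun _ _ hc => (mem_centralizer_iff.1 hc d hd).symm⟩

theorem Fc_mono (h : D ≤ D') : Fc R V D ≤ Fc R V D' := fun _ hv =>
  mem_Fc.2 ⟨(mem_Fc.1 hv).1, fun r hr hc => (mem_Fc.1 hv).2 r hr (centralizer_le h hc)⟩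

theorem cj_Fc (m : G) : cj m (Fc R V D) = Fc (cj m R) (cj m V) (cj m D) := by
  unfold Fc
  rw [cj_inf, cj_centralizer, cj_inf, cj_centralizer]

/-- **eqv** -/
theorem Fc_cj {m : G} (hV : m ∈ normalizer (V : Set G)) (hR : m ∈ normalizer (R : Set G)) :
    Fc R V (cj m D) = cj m (Fc R V D) := by
  rw [cj_Fc, cj_eq_of_mem_normalizer hV, cj_eq_of_mem_normalizer hR]

end Cfsg.Agent.Omega.NO3b.BasePt

end
end

-- part: Mrg/Omega/IId/Big/RedK
section
prune_inst 0xd11023440522000000000580110000447400009000000000d0400244020612000500600144a028021808820020000060125c0400001000000000000040240729802a42009308a10404001180b087180c00000000000000000000000000041004000400000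
set_option linter.all false
open scoped Cfsg.Agent.FastGrp

section


/-!
# (RED) (bb OMEGA 17245 (2)): THEOREM C, `q = 2`, for a functor

`Fn S Z z o L F` : `F ≤ L` normal subgroups of `C_G(z o)`, `L / F` a 2-group, `F` centralises `E = Ω₁Z(S⁰)`.
THEOREM C is the case `F = 1`, `L = O₂(C_G(z o))`.

`K = L ∩ S`, `FK = F K`, `FKQ = F K Q`, the module `Ω₁Z(FKQ)`, `Lp = N_L(FKQ)`
(generalisation of helper732's `ThmC/TwoK`).
-/

set_option autoImplicit false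
set_option linter.unusedSectionVars false

namespace Cfsg.Agent.Omega.IId.Big.Red

open scoped Pointwise
open Subgroup Cfsg Cfsg.Agent.MinSimple.VModule Cfsg.Agent.Omega.ThmC
open Cfsg.Agent.ZN (zc o2)
open Cfsg.Agent.Omega.IITwo.Count (conj_mem conj_mem' mem_norm)

universe u

variable {G : Type u} [Group G]

/-- The functor. -/
structure Fn (S : Subgroup G) {ι : Type} (Z : ι → Subgroup G) (z : ι → G) (o : ι) (L F : Subgroup G) : Prop where
  LC : L ≤ centralizer ({z o} : Set G)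
  nL : centralizer ({z o} : Set G) ≤ normalizer (L : Set G)
  nF : centralizer ({z o} : Set G) ≤ normalizer (F : Set G)
  FL : F ≤ L
  two : ∀ w ∈ L, ∃ n : ℕ, w ^ 2 ^ n ∈ F
  FE : F ≤ centralizer (zc (S0 S Z) : Set G)

/-- `F K`, `K = L ∩ S`. -/
def FK (S L F : Subgroup G) : Subgroup G := F ⊔ (L ⊓ S)

/-- `F K Q`. -/
def FKQ (S L F Q : Subgroup G) : Subgroup G := FK S L F ⊔ Q

/-- `N_L(FKQ)`. -/
def Lp (S L F Q : Subgroup G) : Subgroup G := L ⊓ normalizer (FKQ S L F Q : Set G)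

theorem pow_mul_mem {L : Subgroup G} {q w : G} (hq : q ∈ normalizer (L : Set G)) (hw : w ∈ L) (n : ℕ) :
    ∃ w' ∈ L, (q * w) ^ n = q ^ n * w' := by
  induction n with
  | zero => exact ⟨1, one_mem _, by simp⟩
  | succ n ih =>
    obtain ⟨w', hw', e⟩ := ih
    have h1 : q⁻¹ * w' * q ∈ L := by
      have := (mem_normalizer_iff.1 (inv_mem hq) w').1 hw'
      rwa [inv_inv] at this
    refine ⟨q⁻¹ * w' * q * w, mul_mem h1 hw, ?_⟩
    rw [pow_succ, e, pow_succ]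
    group

section
variable {S : Sylow 2 G} {Q : Subgroup G} {ι : Type} {Z : ι → Subgroup G} {x z : ι → G} {L F : Subgroup G}
variable [Finite G] [Finite ι] (D : Dat S Q Z x z) {o : ι} (h : Fn (S : Subgroup G) Z z o L F)

include D

theorem X_z_ne (l : ι) : D.X l • Md.mk (z l) (D.le l (D.zm l)) ≠ Md.mk (z l) (D.le l (D.zm l)) := by
  intro e
  set a : Md Q := Md.mk (z l) (D.le l (D.zm l)) with ha
  have h1 := D.X_three (l := l) (a := a) (D.zm l)
  rw [e, e, Md.two, zero_add] at h1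
  exact D.z1 l (by simpa [ha] using congrArg Md.val h1)

include h

/-- `w ∈ L ∩ S` commutes with `x l`, `l ≠ o`, on `Ω₁Z(Q)`. -/
theorem comm_x {w : G} (hw : w ∈ L) (hs : w ∈ (S : Subgroup G)) {l : ι} (hl : l ≠ o) :
    Md.cjE (D.SN hs) * D.X l = D.X l * Md.cjE (D.SN hs) := by
  set A : MulAut ↥(zc Q) := Md.cjE (D.SN hs) with hA
  have h1 : A * D.X l * A⁻¹ = D.X (D.sg w l) ∨ A * D.X l * A⁻¹ = (D.X (D.sg w l))⁻¹ := by
    have hval : ∀ a : Md Q, ((A * D.X l * A⁻¹) • a).val = (w * x l * w⁻¹) * a.val * (w * x l * w⁻¹)⁻¹ := by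
      intro a
      have h0 : A • A⁻¹ • a = a := smul_inv_smul _ _
      have h2 : (A⁻¹ • a).val = w⁻¹ * a.val * w := by
        have h3 : w * (A⁻¹ • a).val * w⁻¹ = a.val := congrArg Md.val h0
        rw [← h3]
        generalize (A⁻¹ • a).val = b
        group
      have h4 : ((A * D.X l * A⁻¹) • a).val = w * (x l * (A⁻¹ • a).val * (x l)⁻¹) * w⁻¹ := by
        rw [mul_smul, mul_smul]; rfl
      rw [h4, h2]
      group
    rcases (D.sg_spec hs l).2 with h | h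
    · left
      apply Md.ext_smul
      intro a
      exact Md.ext (by rw [hval, h _ a.val_mem, Dat.val_X])
    · right
      apply Md.ext_smul
      intro a
      apply Md.ext
      rw [hval, h _ a.val_mem]
      have h0 : D.X (D.sg w l) • (D.X (D.sg w l))⁻¹ • a = a := smul_inv_smul _ _
      have h3 : x (D.sg w l) * ((D.X (D.sg w l))⁻¹ • a).val * (x (D.sg w l))⁻¹ = a.val := congrArg Md.val h0
      rw [← h3]
      generalize ((D.X (D.sg w l))⁻¹ • a).val = b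
      group
  have hcube : ∀ m, (D.X m) ^ 3 = 1 := fun m => Md.faith (fun a => by
    rw [pow_succ, pow_two, mul_smul, mul_smul]; exact D.X_cube m a)
  have hC3 : ((D.X l)⁻¹ * (A * D.X l * A⁻¹)) ^ 3 = 1 := by
    rcases h1 with h | h
    · rw [h]
      have hc0 : Commute (D.X l) (D.X (D.sg w l)) := D.X_comm l _
      have hc : Commute (D.X l)⁻¹ (D.X (D.sg w l)) := hc0.inv_left
      rw [hc.mul_pow, inv_pow, hcube, hcube, inv_one, one_mul]
    · rw [h]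
      have hc0 : Commute (D.X l) (D.X (D.sg w l)) := D.X_comm l _
      have hc : Commute (D.X l)⁻¹ (D.X (D.sg w l))⁻¹ := hc0.inv_left.inv_right
      rw [hc.mul_pow, inv_pow, inv_pow, hcube, hcube, inv_one, one_mul]
  have hwl : (x l)⁻¹ * w * x l ∈ L := conj_mem' (h.nL (D.x_mem_C hl)) hw
  have hc : (x l)⁻¹ * w * x l * w⁻¹ ∈ L := mul_mem hwl (inv_mem hw)
  obtain ⟨n, hn⟩ := h.two _ hc
  have hcN : (x l)⁻¹ * w * x l * w⁻¹ ∈ normalizer (zc Q : Set G) :=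
    mul_mem (mul_mem (mul_mem (inv_mem (D.xN l)) (D.SN hs)) (D.xN l)) (inv_mem (D.SN hs))
  have hCe : (D.X l)⁻¹ * (A * D.X l * A⁻¹) = Md.cjE hcN := by
    have e1 : (⟨(x l)⁻¹ * w * x l * w⁻¹, hcN⟩ : normalizer (zc Q : Set G)) =
        (⟨x l, D.xN l⟩ : normalizer (zc Q : Set G))⁻¹ * (⟨w, D.SN hs⟩ * ⟨x l, D.xN l⟩ * ⟨w, D.SN hs⟩⁻¹) := by
      apply Subtype.ext
      simp only [mul_assoc, _root_.MulMemClass.mk_mul_mk, _root_.Subgroup.coe_mul, _root_.InvMemClass.coe_inv]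
    have e2 := congrArg (zc Q).normalizerMonoidHom e1
    simp only [map_mul, map_inv] at e2
    exact e2.symm
  -- `C ^ 2 ^ n` fixes `z l`
  set a : Md Q := Md.mk (z l) (D.le l (D.zm l)) with ha
  set C : MulAut ↥(zc Q) := (D.X l)⁻¹ * (A * D.X l * A⁻¹) with hC
  have hCn : (C ^ 2 ^ n) • a = a := by
    have e0 : C ^ 2 ^ n = Md.cjE (pow_mem hcN (2 ^ n)) := by
      rw [hCe]
      exact ((zc Q).normalizerMonoidHom.map_pow ⟨_, hcN⟩ _).symm
    rw [e0]
    refine Md.ext ?_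
    rw [Md.val_cjE]
    have e1 := mem_centralizer_iff.1 (h.FE hn) _ (D.z_mem_E l)
    rw [mul_inv_eq_iff_eq_mul]
    exact e1.symm
  have hCa : C • a = a := by
    have e1 : C = (C ^ 2 ^ n) ^ 2 ^ n := by
      rw [← pow_mul, ← Nat.mul_pow]
      have e2 : (2 * 2) ^ n = 3 * (((2 * 2) ^ n - 1) / 3) + 1 := by
        have e3 : 3 ∣ (2 * 2) ^ n - 1 := by
          have := Nat.sub_dvd_pow_sub_pow 4 1 n
          simpa only [_root_.Nat.reduceMul, _root_.Nat.add_one_sub_one, _root_.one_pow] using this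
        have e4 : 0 < (2 * 2) ^ n := by positivity
        rw [Nat.mul_div_cancel' e3]
        omega
      rw [e2, pow_succ, pow_mul, hC3, one_pow, one_mul]
    have e3 : ∀ k : ℕ, ((C ^ 2 ^ n) ^ k) • a = a := by
      intro k
      induction k with
      | zero => rw [pow_zero, one_smul]
      | succ k ih => rw [pow_succ, mul_smul, hCn, ih]
    rw [e1]
    exact e3 _
  have hXa : (A * D.X l * A⁻¹) • a = D.X l • a := by
    rw [hC, mul_smul, inv_smul_eq_iff] at hCa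
    exact hCa
  have hne := X_z_ne D l
  rw [← ha] at hne
  have hAX : A * D.X l * A⁻¹ = D.X l := by
    rcases h1 with h1 | h1
    · rcases eq_or_ne (D.sg w l) l with h2 | h2
      · rw [h1, h2]
      · rw [h1, D.X_other (a := a) h2 (D.zm l)] at hXa
        exact absurd hXa.symm hne
    · rw [h1] at hXa
      exfalso
      rcases eq_or_ne (D.sg w l) l with h2 | h2
      · rw [h2, inv_smul_eq_iff] at hXa
        -- `a = X X a`
        have h3 := D.X_cube l a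
        rw [← hXa] at h3
        exact hne h3
      · have h3 : (D.X (D.sg w l))⁻¹ • a = a := by
          rw [inv_smul_eq_iff]
          exact (D.X_other (a := a) h2 (D.zm l)).symm
        rw [h3] at hXa
        exact hne hXa.symm
  rw [mul_inv_eq_iff_eq_mul] at hAX
  exact hAX

theorem comm_x' {w : G} (hw : w ∈ L) (hs : w ∈ (S : Subgroup G)) {l : ι} (hl : l ≠ o) {v : G}
    (hv : v ∈ zc Q) : w * (x l * v * (x l)⁻¹) * w⁻¹ = x l * (w * v * w⁻¹) * (x l)⁻¹ := by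
  have h := comm_x D h hw hs hl
  have h1 : (Md.cjE (D.SN hs) * D.X l) • Md.mk v hv = (D.X l * Md.cjE (D.SN hs)) • Md.mk v hv := by rw [h]
  rw [mul_smul, mul_smul] at h1
  exact congrArg Md.val h1

/-- `L ∩ S ≤ S⁰`. -/
theorem inf_le_S0 : L ⊓ (S : Subgroup G) ≤ S0 (S : Subgroup G) Z := by
  intro w hw
  rw [mem_inf] at hw
  rw [D.mem_S0_iff hw.2]
  intro l
  rcases eq_or_ne l o with rfl | hl
  · exact D.sg_of_z hw.2 (mem_cs.mp (h.LC hw.1))
  · refine D.sg_eq' hw.2 fun v hv => ?_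
    have h1 := comm_x' D h hw.1 hw.2 hl (D.le l hv)
    have h2 := comm_x' D h hw.1 hw.2 hl (conj_mem (D.xN l) (D.le l hv))
    have h3 : pr (x l) (w * v * w⁻¹) = w * pr (x l) v * w⁻¹ := by
      unfold pr
      rw [← h1, ← h2]; group
    rw [D.pr_self hv] at h3
    have h4 := D.pi_mem l (Md.mk (w * v * w⁻¹) (conj_mem (D.SN hw.2) (D.le l hv)))
    rw [D.val_pi, Md.val_mk, h3] at h4
    exact h4

omit [Finite ι] h in
theorem not_dvd_S0 : ¬ 2 ∣ (S0 (S : Subgroup G) Z).relIndex (centralizer (zc (S0 (S : Subgroup G) Z) : Set G)) := by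
  have h1 : centralizer (zc (S0 (S : Subgroup G) Z) : Set G) ≤
      normalizer (zc (S0 (S : Subgroup G) Z) : Set G) := centralizer_le_normalizer _
  have h2 : (S : Subgroup G) ≤ normalizer (centralizer (zc (S0 (S : Subgroup G) Z) : Set G) : Set G) := by
    intro g hg
    refine mem_norm fun c hc => ?_
    rw [mem_centralizer_iff]
    intro v hv
    have h3 := mem_centralizer_iff.mp hc _ (conj_mem' (D.S_le_nor_E hg) hv)
    calc v * (g * c * g⁻¹) = g * ((g⁻¹ * v * g) * c) * g⁻¹ := by group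
      _ = g * (c * (g⁻¹ * v * g)) * g⁻¹ := by rw [h3]
      _ = g * c * g⁻¹ * v := by group
  have h3 := odd_inf (P := (S : Subgroup G)) D.S_le_nor_E h1 h2
    (Cfsg.Agent.MinSimple.Basic.not_dvd_relIndex S D.S_le_nor_E)
  rwa [inf_comm, D.inf_cE] at h3

/-- `C_L(E) = F K`. -/
theorem cent_E : L ⊓ centralizer (zc (S0 (S : Subgroup G) Z) : Set G) ≤ FK (S : Subgroup G) L F := by
  have h1 : S0 (S : Subgroup G) Z ≤
      normalizer ((L ⊓ centralizer (zc (S0 (S : Subgroup G) Z) : Set G) : Subgroup G) : Set G) := by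
    intro s hs
    refine mem_norm fun w hw => ?_
    rw [mem_inf] at hw ⊢
    refine ⟨conj_mem (h.nL (D.S0_le_C hs)) hw.1, ?_⟩
    exact mul_mem (mul_mem (le_centralizer_zc _ hs) hw.2) (inv_mem (le_centralizer_zc _ hs))
  have h2 := le_sup_inf (P := S0 (S : Subgroup G) Z) (F := F) (le_centralizer_zc _) inf_le_right h1
    (not_dvd_S0 D) (le_inf h.FL h.FE) (inf_le_left.trans (h.LC.trans h.nF)) (fun m hm => h.two m (mem_inf.1 hm).1)
  exact h2.trans (sup_le_sup_left (le_inf (inf_le_left.trans inf_le_left) (inf_le_right.trans Dat.S0_le)) F)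

omit D [Finite G] [Finite ι] in
theorem FK_le : FK (S : Subgroup G) L F ≤ L := sup_le h.FL inf_le_left

omit h D [Finite G] [Finite ι] in
theorem F_le_FK : F ≤ FK (S : Subgroup G) L F := le_sup_left

omit h D [Finite G] [Finite ι] in
theorem K_le_FK : L ⊓ (S : Subgroup G) ≤ FK (S : Subgroup G) L F := le_sup_right

omit h D [Finite G] [Finite ι] in
theorem FK_le_FKQ : FK (S : Subgroup G) L F ≤ FKQ (S : Subgroup G) L F Q := le_sup_left

omit h D [Finite G] [Finite ι] in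
theorem Q_le_FKQ : Q ≤ FKQ (S : Subgroup G) L F Q := le_sup_right

omit h in
theorem ZK_le : zc (FKQ (S : Subgroup G) L F Q) ≤ zc Q := zc_le_of_le D.CQ Q_le_FKQ

omit h in
theorem mem_ZK {v : G} : v ∈ zc (FKQ (S : Subgroup G) L F Q) ↔
    v ∈ zc Q ∧ ∀ s ∈ FKQ (S : Subgroup G) L F Q, s * v = v * s :=
  mem_zc_iff_of_le D.CQ Q_le_FKQ

theorem E_le_ZK : zc (S0 (S : Subgroup G) Z) ≤ zc (FKQ (S : Subgroup G) L F Q) := by
  intro v hv
  rw [mem_ZK D]
  refine ⟨D.E_le hv, ?_⟩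
  have key : FKQ (S : Subgroup G) L F Q ≤ centralizer ({v} : Set G) := by
    refine sup_le (sup_le (fun f hf => ?_) fun k hk => ?_) fun q hq => ?_
    · exact mem_cs.2 (mem_centralizer_iff.1 (h.FE hf) v hv).symm
    · exact mem_cs.2 ((D.mem_E.1 hv).2 _ (inf_le_S0 D h hk))
    · exact mem_cs.2 ((D.mem_E.1 hv).2 _ (D.Q_le_S0 hq))
  exact fun s hs => mem_cs.1 (key hs)

/-- `x l` normalises `F K`. -/
theorem x_nor_FK {l : ι} (hl : l ≠ o) : x l ∈ normalizer (FK (S : Subgroup G) L F : Set G) := by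
  refine mem_norm fun k hk => ?_
  have key : FK (S : Subgroup G) L F ≤ (FK (S : Subgroup G) L F).comap (MulAut.conj (x l)).toMonoidHom := by
    refine sup_le (fun k hk => ?_) (fun w hw => ?_)
    · exact F_le_FK (conj_mem (h.nF (D.x_mem_C hl)) hk)
    · have hw' := mem_inf.1 hw
      have h1 : x l * w * (x l)⁻¹ ∈ L := conj_mem (h.nL (D.x_mem_C hl)) hw'.1
      have h2 : x l * w * (x l)⁻¹ * w⁻¹ ∈ L ⊓ centralizer (zc (S0 (S : Subgroup G) Z) : Set G) := by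
        refine mem_inf.mpr ⟨mul_mem h1 (inv_mem hw'.1), ?_⟩
        refine centralizer_le D.E_le ?_
        rw [mem_centralizer_iff]
        intro v hv
        have hv1 : (x l)⁻¹ * (w⁻¹ * v * w) * x l ∈ zc Q := conj_mem' (D.xN l) (conj_mem' (D.SN hw'.2) hv)
        have h3 := comm_x' D h hw'.1 hw'.2 hl hv1
        have h4 : x l * ((x l)⁻¹ * (w⁻¹ * v * w) * x l) * (x l)⁻¹ = w⁻¹ * v * w := by group
        rw [h4] at h3
        have h5 : v = x l * (w * ((x l)⁻¹ * (w⁻¹ * v * w) * x l) * w⁻¹) * (x l)⁻¹ := by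
          rw [← h3]; group
        have h6 : v = (x l * w * (x l)⁻¹ * w⁻¹) * v * (x l * w * (x l)⁻¹ * w⁻¹)⁻¹ := by
          calc v = x l * (w * ((x l)⁻¹ * (w⁻¹ * v * w) * x l) * w⁻¹) * (x l)⁻¹ := h5
            _ = _ := by group
        exact (mul_inv_eq_iff_eq_mul.mp h6.symm).symm
      have h3 := cent_E D h h2
      have h4 : x l * w * (x l)⁻¹ = (x l * w * (x l)⁻¹ * w⁻¹) * w := by group
      change x l * w * (x l)⁻¹ ∈ FK (S : Subgroup G) L F
      rw [h4]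
      exact mul_mem h3 (K_le_FK hw)
  exact key hk

theorem x_nor_FKQ {l : ι} (hl : l ≠ o) : x l ∈ normalizer (FKQ (S : Subgroup G) L F Q : Set G) := by
  refine mem_norm fun k hk => ?_
  have h1 := x_nor_FK D h hl
  have h2 := D.xQ l
  have key : FKQ (S : Subgroup G) L F Q ≤
      (FKQ (S : Subgroup G) L F Q).comap (MulAut.conj (x l)).toMonoidHom := by
    refine sup_le (fun k hk => ?_) (fun k hk => ?_)
    · exact FK_le_FKQ (conj_mem h1 hk)
    · exact Q_le_FKQ (conj_mem h2 hk)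
  exact key hk

theorem S0_nor_FK : S0 (S : Subgroup G) Z ≤ normalizer (FK (S : Subgroup G) L F : Set G) := by
  intro s hs
  refine mem_norm fun k hk => ?_
  have key : FK (S : Subgroup G) L F ≤ (FK (S : Subgroup G) L F).comap (MulAut.conj s).toMonoidHom := by
    refine sup_le (fun k hk => ?_) (fun k hk => ?_)
    · exact F_le_FK (conj_mem (h.nF (D.S0_le_C hs)) hk)
    · rw [mem_inf] at hk
      exact K_le_FK (mem_inf.mpr ⟨conj_mem (h.nL (D.S0_le_C hs)) hk.1,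
        mul_mem (mul_mem (Dat.S0_le hs) hk.2) (inv_mem (Dat.S0_le hs))⟩)
  exact key hk

theorem S0_nor_FKQ : S0 (S : Subgroup G) Z ≤ normalizer (FKQ (S : Subgroup G) L F Q : Set G) := by
  intro s hs
  refine mem_norm fun k hk => ?_
  have key : FKQ (S : Subgroup G) L F Q ≤ (FKQ (S : Subgroup G) L F Q).comap (MulAut.conj s).toMonoidHom := by
    refine sup_le (fun k hk => ?_) (fun k hk => ?_)
    · exact FK_le_FKQ (conj_mem (S0_nor_FK D h hs) hk)
    · exact Q_le_FKQ (conj_mem (D.SQ (Dat.S0_le hs)) hk)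
  exact key hk

theorem x_nor_ZK {l : ι} (hl : l ≠ o) : x l ∈ normalizer (zc (FKQ (S : Subgroup G) L F Q) : Set G) :=
  normalizer_le_normalizer_zc _ (x_nor_FKQ D h hl)

theorem S0_nor_ZK : S0 (S : Subgroup G) Z ≤ normalizer (zc (FKQ (S : Subgroup G) L F Q) : Set G) :=
  fun _ hs => normalizer_le_normalizer_zc _ (S0_nor_FKQ D h hs)

theorem pr_ZK (l : ι) : ∀ v ∈ zc (FKQ (S : Subgroup G) L F Q), pr (x l) v ∈ zc (FKQ (S : Subgroup G) L F Q) := by
  classical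
  have := Fintype.ofFinite ι
  have key : ∀ l, l ≠ o → ∀ v ∈ zc (FKQ (S : Subgroup G) L F Q), pr (x l) v ∈ zc (FKQ (S : Subgroup G) L F Q) :=
    fun l hl v hv => pr_mem (x_nor_ZK D h hl) hv
  rcases eq_or_ne l o with rfl | hl
  · intro v hv
    let A : AddSubgroup (Md Q) :=
      { carrier := {a | a.val ∈ zc (FKQ (S : Subgroup G) L F Q)}
        zero_mem' := by
          change (0 : Md Q).val ∈ zc (FKQ (S : Subgroup G) L F Q)
          rw [Md.val_zero]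
          exact one_mem _
        add_mem' := fun {a b} ha hb => by
          change (a + b).val ∈ zc (FKQ (S : Subgroup G) L F Q)
          rw [Md.val_add]
          exact mul_mem ha hb
        neg_mem' := fun {a} ha => by
          change (-a).val ∈ zc (FKQ (S : Subgroup G) L F Q)
          rw [Md.neg_eq]
          exact ha }
    set a : Md Q := Md.mk v (ZK_le D hv) with ha
    have h1 : D.pi l a = a - ∑ m ∈ Finset.univ.erase l, D.pi m a := by
      rw [eq_sub_iff_add_eq]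
      exact (Finset.add_sum_erase Finset.univ (fun m => D.pi m a) (Finset.mem_univ l)).trans (D.pi_sum a)
    have h2 : D.pi l a ∈ A := by
      rw [h1]
      refine sub_mem (show a ∈ A from hv) (sum_mem fun m hm => ?_)
      exact key m (Finset.ne_of_mem_erase hm) v hv
    exact h2
  · exact key l hl

omit D h [Finite G] [Finite ι] in
theorem Lp_le : Lp (S : Subgroup G) L F Q ≤ L := inf_le_left

omit D h [Finite G] [Finite ι] in
theorem Lp_nor_ZK : Lp (S : Subgroup G) L F Q ≤ normalizer (zc (FKQ (S : Subgroup G) L F Q) : Set G) :=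
  fun _ hs => normalizer_le_normalizer_zc _ hs.2

theorem x_conj_Lp {l : ι} (hl : l ≠ o) {w : G} (hw : w ∈ Lp (S : Subgroup G) L F Q) :
    x l * w * (x l)⁻¹ ∈ Lp (S : Subgroup G) L F Q :=
  mem_inf.mpr ⟨conj_mem (h.nL (D.x_mem_C hl)) (mem_inf.mp hw).1,
    mul_mem (mul_mem (x_nor_FKQ D h hl) (mem_inf.mp hw).2) (inv_mem (x_nor_FKQ D h hl))⟩

theorem S0_conj_Lp {s : G} (hs : s ∈ S0 (S : Subgroup G) Z) {w : G} (hw : w ∈ Lp (S : Subgroup G) L F Q) :
    s * w * s⁻¹ ∈ Lp (S : Subgroup G) L F Q :=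
  mem_inf.mpr ⟨conj_mem (h.nL (D.S0_le_C hs)) (mem_inf.mp hw).1,
    mul_mem (mul_mem (S0_nor_FKQ D h hs) (mem_inf.mp hw).2) (inv_mem (S0_nor_FKQ D h hs))⟩

/-- `N_L(FKQ) > FK` if `L` is not contained in `F S`. -/
theorem exists_Lp (hL : ¬ L ≤ FK (S : Subgroup G) L F) :
    ∃ w ∈ Lp (S : Subgroup G) L F Q, w ∉ FK (S : Subgroup G) L F := by
  have hQC : Q ≤ centralizer ({z o} : Set G) := D.Q_le_C
  have hQn : Q ≤ normalizer (L : Set G) := hQC.trans h.nL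
  have hQF : Q ≤ normalizer (F : Set G) := hQC.trans h.nF
  have hFR : F ≤ FKQ (S : Subgroup G) L F Q := F_le_FK.trans FK_le_FKQ
  have hRY : FKQ (S : Subgroup G) L F Q ≤ Q ⊔ L := sup_le ((FK_le h).trans le_sup_right) le_sup_left
  have hYC : Q ⊔ L ≤ centralizer ({z o} : Set G) := sup_le hQC h.LC
  have hcoe : ∀ {y : G}, y ∈ Q ⊔ L → ∃ q ∈ Q, ∃ w ∈ L, q * w = y := by
    intro y hy
    have h1 : y ∈ (Q : Set G) * (L : Set G) := by
      rw [← coe_mul_of_left_le_normalizer_right Q L hQn]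
      exact hy
    exact Set.mem_mul.1 h1
  have hne : ¬ Q ⊔ L ≤ FKQ (S : Subgroup G) L F Q := by
    intro hle
    refine hL fun w hw => ?_
    have h1 : w ∈ FKQ (S : Subgroup G) L F Q := hle (le_sup_right (α := Subgroup G) hw)
    have h2 : FKQ (S : Subgroup G) L F Q = F ⊔ ((L ⊓ (S : Subgroup G)) ⊔ Q) := by
      rw [FKQ, FK, sup_assoc]
    rw [h2] at h1
    have hKC : (L ⊓ (S : Subgroup G)) ⊔ Q ≤ normalizer (F : Set G) :=
      sup_le ((inf_le_left.trans h.LC).trans h.nF) hQF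
    have h3 : w ∈ (((L ⊓ (S : Subgroup G)) ⊔ Q : Subgroup G) : Set G) * (F : Set G) := by
      rw [← coe_mul_of_left_le_normalizer_right _ F hKC, sup_comm]
      exact h1
    obtain ⟨s, hs, f, hf, rfl⟩ := Set.mem_mul.1 h3
    have hsS : s ∈ (S : Subgroup G) := (sup_le inf_le_right D.QS : (L ⊓ (S : Subgroup G)) ⊔ Q ≤ S) hs
    have hsL : s ∈ L := by
      have := mul_mem hw (inv_mem (h.FL hf))
      rwa [mul_inv_cancel_right] at this
    exact mul_mem (K_le_FK (mem_inf.2 ⟨hsL, hsS⟩)) (F_le_FK hf)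
  have hY2 : ∀ y ∈ Q ⊔ L, ∃ n : ℕ, y ^ 2 ^ n ∈ F := by
    intro y hy
    obtain ⟨q, hq, w, hw, rfl⟩ := hcoe hy
    obtain ⟨a, ha⟩ := (S.2.to_le D.QS : IsPGroup 2 Q) ⟨q, hq⟩
    have ha' : q ^ 2 ^ a = 1 := congrArg Subtype.val ha
    obtain ⟨w', hw', e⟩ := pow_mul_mem (hQn hq) hw (2 ^ a)
    rw [ha', one_mul] at e
    obtain ⟨b, hb⟩ := h.two w' hw'
    refine ⟨a + b, ?_⟩
    rw [pow_add, pow_mul, e]
    exact hb
  obtain ⟨n, hn, hn1, hn2⟩ := Red.exists_normalizer hFR hRY hne (hYC.trans h.nF) hY2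
  obtain ⟨q, hq, w, hw, rfl⟩ := hcoe hn
  have hq1 : q ∈ FKQ (S : Subgroup G) L F Q := Q_le_FKQ hq
  have hw2 : w ∈ normalizer (FKQ (S : Subgroup G) L F Q : Set G) := by
    have := mul_mem (inv_mem (le_normalizer hq1)) hn2
    simpa using this
  refine ⟨w, mem_inf.2 ⟨hw, hw2⟩, fun hwK => hn1 ?_⟩
  exact mul_mem hq1 (FK_le_FKQ hwK)

/-- `C_{N_L(FKQ)}(ZK) ≤ FK`. -/
theorem Lp_faith {w : G} (hw : w ∈ L) (hc : w ∈ centralizer (zc (FKQ (S : Subgroup G) L F Q) : Set G)) :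
    w ∈ FK (S : Subgroup G) L F :=
  cent_E D h (mem_inf.2 ⟨hw, centralizer_le (E_le_ZK D h) hc⟩)

omit h D [Finite G] [Finite ι] in
theorem FK_le_C : FK (S : Subgroup G) L F ≤ centralizer (zc (FKQ (S : Subgroup G) L F Q) : Set G) :=
  FK_le_FKQ.trans (le_centralizer_zc _)

end

end Cfsg.Agent.Omega.IId.Big.Red

end

section


/-!
# (RED) (bb OMEGA 17245 (2)): THEOREM C, `q = 2`, for a functor: the weights (generalisation of helper732's `ThmC/TwoStep`)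
-/

set_option autoImplicit false
set_option linter.unusedSectionVars false

namespace Cfsg.Agent.Omega.IId.Big.Red

open scoped Pointwise
open Subgroup Cfsg Cfsg.Agent.MinSimple.VModule Cfsg.Agent.Omega.ThmC
open Cfsg.Agent.ZN (zc o2)
open Cfsg.Agent.Omega.IITwo.Count (conj_mem conj_mem' mem_norm)

universe u

variable {G : Type u} [Group G]

theorem img_isPGroup' {X Y F : Subgroup G} (hF : F ≤ centralizer (zc X : Set G))
    (h2 : ∀ y ∈ Y, ∃ n : ℕ, y ^ 2 ^ n ∈ F) : IsPGroup 2 (img X Y) := by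
  rintro ⟨n, hn⟩
  obtain ⟨g, hg, hgY, rfl⟩ := mem_img.mp hn
  obtain ⟨k, hk⟩ := h2 g hgY
  refine ⟨k, Subtype.ext ?_⟩
  change (phi hg) ^ 2 ^ k = 1
  rw [pow_phi, phi_eq_one_iff]
  exact hF hk

theorem exists_conj_in [Finite G] {M P Y : Subgroup G} (hP : IsPGroup 2 P) (hind : ¬ 2 ∣ P.relIndex M)
    (hY : IsPGroup 2 Y) (YM : Y ≤ M) : ∃ m ∈ M, ∀ y ∈ Y, m * y * m⁻¹ ∈ P := by
  have : Fact (Nat.Prime 2) := ⟨Nat.prime_two⟩
  have h1 : IsPGroup 2 (P.subgroupOf M) := hP.comap_of_injective M.subtype M.subtype_injective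
  let P' : Sylow 2 M := h1.toSylow (by exact hind)
  obtain ⟨m, hm⟩ := TwoN.exists_conj P' (hY.comap_of_injective M.subtype M.subtype_injective)
  refine ⟨m, m.2, fun y hy => ?_⟩
  have h2 := hm ⟨y, YM hy⟩ hy
  exact mem_subgroupOf.1 h2

section
variable {S : Sylow 2 G} {Q : Subgroup G} {ι : Type} {Z : ι → Subgroup G} {x z : ι → G} {L F : Subgroup G}
variable [Finite G] [Finite ι] (D : Dat S Q Z x z) {o : ι} (h : Fn (S : Subgroup G) Z z o L F)

open Classical in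
/-- `x l` on `Ω₁Z(FKQ)`. -/
noncomputable def xh (l : ι) : ↥(NG (FKQ (S : Subgroup G) L F Q)) :=
  if hl : l ≠ o then phi (x_nor_ZK D h hl) else 1

theorem xh_eq {l : ι} (hl : l ≠ o) : xh D h l = phi (x_nor_ZK D h hl) := dif_pos hl

/-- the projections on `Ω₁Z(FKQ)`. -/
abbrev pK (l : ι) : Md (FKQ (S : Subgroup G) L F Q) →+ Md (FKQ (S : Subgroup G) L F Q) :=
  D.pX (ZK_le D) (pr_ZK D h) l

theorem Ux {u : ↥(NG (FKQ (S : Subgroup G) L F Q))}
    (hu : u ∈ img (FKQ (S : Subgroup G) L F Q) (S0 (S : Subgroup G) Z)) {l : ι}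
    (hl : l ≠ o) : u * xh D h l * u⁻¹ = xh D h l ∨ u * xh D h l * u⁻¹ = (xh D h l)⁻¹ := by
  obtain ⟨s, hsN, hs, rfl⟩ := mem_img.mp hu
  rw [xh_eq D h hl, phi_mul, phi_inv, phi_mul, phi_inv, phi_eq_iff, phi_eq_iff]
  have h1 := (D.sg_spec (Dat.S0_le hs) l).2
  rw [(D.mem_S0_iff (Dat.S0_le hs)).mp hs l] at h1
  rcases h1 with h1 | h1
  · exact Or.inl fun v hv => h1 v (ZK_le D hv)
  · exact Or.inr fun v hv => by rw [inv_inv]; exact h1 v (ZK_le D hv)

/-- the elements of the image of `Lp` commuting with all `x l`, `l ≠ o`. -/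
def CX : Subgroup ↥(NG (FKQ (S : Subgroup G) L F Q)) where
  carrier := {g | g ∈ img (FKQ (S : Subgroup G) L F Q) (Lp (S : Subgroup G) L F Q) ∧
    ∀ l, l ≠ o → Commute g (xh D h l)}
  one_mem' := ⟨one_mem _, fun _ _ => Commute.one_left _⟩
  mul_mem' := fun ha hb => ⟨mul_mem ha.1 hb.1, fun l hl => (ha.2 l hl).mul_left (hb.2 l hl)⟩
  inv_mem' := fun ha => ⟨inv_mem ha.1, fun l hl => (ha.2 l hl).inv_left⟩

include D h

theorem H2 : IsPGroup 2 (img (FKQ (S : Subgroup G) L F Q) (Lp (S : Subgroup G) L F Q)) :=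
  img_isPGroup' (F := F) (F_le_FK.trans FK_le_C) fun y hy => h.two y (Lp_le hy)

omit h in
theorem U2 : IsPGroup 2 (img (FKQ (S : Subgroup G) L F Q) (S0 (S : Subgroup G) Z)) :=
  img_isPGroup (S.2.to_le Dat.S0_le)

theorem UH {u : ↥(NG (FKQ (S : Subgroup G) L F Q))}
    (hu : u ∈ img (FKQ (S : Subgroup G) L F Q) (S0 (S : Subgroup G) Z)) {g : ↥(NG (FKQ (S : Subgroup G) L F Q))}
    (hg : g ∈ img (FKQ (S : Subgroup G) L F Q) (Lp (S : Subgroup G) L F Q)) :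
    u * g * u⁻¹ ∈ img (FKQ (S : Subgroup G) L F Q) (Lp (S : Subgroup G) L F Q) := by
  obtain ⟨w, hwN, hw, rfl⟩ := mem_img.mp hg
  obtain ⟨s, hsN, hs, rfl⟩ := mem_img.mp hu
  rw [phi_mul, phi_inv, phi_mul]
  exact phi_mem_img _ (S0_conj_Lp D h hs hw)

/-- a lift of an element of the image of `Lp` commuting with `S⁰` normalises `E`. -/
theorem nor_E_of {w : G} (hw : w ∈ Lp (S : Subgroup G) L F Q)
    (hc : ∀ u : ↥(NG (FKQ (S : Subgroup G) L F Q)), u ∈ img (FKQ (S : Subgroup G) L F Q) (S0 (S : Subgroup G) Z) →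
      u * phi (Lp_nor_ZK hw) * u⁻¹ = phi (Lp_nor_ZK hw)) :
    w ∈ normalizer (zc (S0 (S : Subgroup G) Z) : Set G) := by
  refine mem_norm fun v hv => ?_
  have hvK := E_le_ZK D h hv
  have h1 : w * v * w⁻¹ ∈ zc (FKQ (S : Subgroup G) L F Q) := conj_mem (Lp_nor_ZK hw) hvK
  rw [D.mem_E]
  refine ⟨ZK_le D h1, fun s hs => ?_⟩
  have hsN := S0_nor_ZK D h hs
  have h2 := hc _ (phi_mem_img hsN hs)
  rw [mul_inv_eq_iff_eq_mul, phi_mul, phi_mul, phi_eq_iff] at h2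
  have h3 := h2 v hvK
  have h4 : s * v * s⁻¹ = v := by rw [(D.mem_E.1 hv).2 s hs]; group
  have h5 : s * (w * v * w⁻¹) * s⁻¹ = w * v * w⁻¹ := by
    calc s * (w * v * w⁻¹) * s⁻¹ = s * w * v * (s * w)⁻¹ := by group
      _ = w * s * v * (w * s)⁻¹ := h3
      _ = w * (s * v * s⁻¹) * w⁻¹ := by group
      _ = _ := by rw [h4]
  exact mul_inv_eq_iff_eq_mul.mp h5

theorem CX_bot : CX D h = ⊥ := by
  classical
  have := Fintype.ofFinite ι
  by_contra hne
  have hU : img (FKQ (S : Subgroup G) L F Q) (S0 (S : Subgroup G) Z) ≤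
      normalizer (CX D h : Set ↥(NG (FKQ (S : Subgroup G) L F Q))) := by
    intro u hu
    refine mem_norm fun c hc => ?_
    refine ⟨UH D h hu hc.1, fun l hl => ?_⟩
    have h2 : Commute c (u⁻¹ * xh D h l * u⁻¹⁻¹) := by
      rcases Ux D h (inv_mem hu) hl with h1 | h1
      · rw [h1]; exact hc.2 l hl
      · rw [h1]; exact (hc.2 l hl).inv_right
    have h3 := (Commute.conj_iff u).mpr h2
    have h4 : u * (u⁻¹ * xh D h l * u⁻¹⁻¹) * u⁻¹ = xh D h l := by group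
    rw [h4] at h3
    exact h3
  obtain ⟨c, hc, hc1, hcU⟩ := Half.exists_fixed (V := CX D h) ((H2 D h).to_le fun g hg => hg.1) hne (U2 D) hU
  obtain ⟨hcH, hcx⟩ := hc
  obtain ⟨w, hwK, hw, rfl⟩ := mem_img.mp hcH
  have hwE : w ∈ normalizer (zc (S0 (S : Subgroup G) Z) : Set G) := nor_E_of D h hw hcU
  apply hc1
  rw [phi_eq_one_iff]
  refine FK_le_C (cent_E D h (mem_inf.2 ⟨Lp_le hw, ?_⟩))
  rw [← phi_eq_one_iff hwE]
  have hcomm : ∀ l, l ≠ o → ∀ v ∈ zc (FKQ (S : Subgroup G) L F Q), w * pr (x l) v * w⁻¹ = pr (x l) (w * v * w⁻¹) := by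
    intro l hl v hv
    have h1 : ∀ v ∈ zc (FKQ (S : Subgroup G) L F Q), w * (x l * v * (x l)⁻¹) * w⁻¹ = x l * (w * v * w⁻¹) * (x l)⁻¹ := by
      have h2 := (hcx l hl).eq
      rw [xh_eq D h hl, phi_mul, phi_mul, phi_eq_iff] at h2
      intro v hv
      calc w * (x l * v * (x l)⁻¹) * w⁻¹ = w * x l * v * (w * x l)⁻¹ := by group
        _ = _ := h2 v hv
        _ = _ := by group
    have h2 := h1 v hv
    have h3 := h1 _ (conj_mem (x_nor_ZK D h hl) hv)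
    unfold pr
    rw [← h2, ← h3]; group
  obtain ⟨n, hn⟩ := h.two w (Lp_le hw)
  refine TwoN.eq_one D.ndat ⟨n, ?_⟩ ?_
  · rw [pow_phi, phi_eq_one_iff]; exact h.FE hn
  · have hl0 : ∀ l, l ≠ o → ∀ a, phi hwE • D.pE l a = D.pE l (phi hwE • a) := by
      intro l hl a
      apply Md.ext
      rw [val_phi, Dat.val_pX, Dat.val_pX, val_phi]
      exact hcomm l hl _ (E_le_ZK D h a.val_mem)
    intro l a
    rcases eq_or_ne l o with rfl | hl
    · have h1 := D.pX_sum (hX := D.E_le) (h := D.pr_E) a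
      have h2 := D.pX_sum (hX := D.E_le) (h := D.pr_E) (phi hwE • a)
      rw [← Finset.add_sum_erase _ _ (Finset.mem_univ l)] at h1 h2
      have h3 := congrArg (fun b => phi hwE • b) h1
      simp only [smul_add, Finset.smul_sum] at h3
      have h4 : ∑ m ∈ Finset.univ.erase l, phi hwE • D.pE m a = ∑ m ∈ Finset.univ.erase l, D.pE m (phi hwE • a) :=
        Finset.sum_congr rfl fun m hm => hl0 m (Finset.ne_of_mem_erase hm) a
      rw [h4] at h3
      exact add_right_cancel (h3.trans h2.symm)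
    · exact hl0 l hl a

theorem wdat [Fintype ι] : TwoW.WDat o (pK D h) (xh D h)
    (img (FKQ (S : Subgroup G) L F Q) (Lp (S : Subgroup G) L F Q))
    (img (FKQ (S : Subgroup G) L F Q) (S0 (S : Subgroup G) Z)) where
  two := Md.two
  faith _ h := NG_faith h
  idem l a := D.pX_idem l a
  orth l m h a := D.pX_orth h a
  sum a := D.pX_sum a
  px := by
    intro l hl a
    rw [xh_eq D h hl]
    exact Md.ext rfl
  xt := by
    intro l hl m hm a
    rw [xh_eq D h hl]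
    apply Md.ext
    rw [val_phi]
    exact D.triv l m hm.symm _ (D.pX_mem m a)
  H2 := H2 D h
  U2 := U2 D
  xH := by
    intro l hl g hh
    obtain ⟨w, hwN, hw, rfl⟩ := mem_img.mp hh
    rw [xh_eq D h hl, phi_mul, phi_inv, phi_mul]
    exact phi_mem_img _ (x_conj_Lp D h hl hw)
  UH := fun u hu g hg => UH D h hu hg
  Ux := fun u hu l hl => Ux D h hu hl
  Uπ := by
    intro u hu l a
    obtain ⟨s, hsN, hs, rfl⟩ := mem_img.mp hu
    apply Md.ext
    rw [val_phi, Dat.val_pX, Dat.val_pX, val_phi]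
    exact D.pr_comm_S0 hs l (ZK_le D a.val_mem)
  CH := by
    intro g hg hc
    have h1 : g ∈ CX D h := ⟨hg, fun l hl => hc l hl⟩
    rw [CX_bot D h] at h1
    exact h1

/-- an element of `Lp` commuting with `S⁰` on `Ω₁Z(FKQ)` acts as an element of `L ∩ N(S⁰)`. -/
theorem nor_S0_of {w : G} (hw : w ∈ Lp (S : Subgroup G) L F Q)
    (hc : ∀ u : ↥(NG (FKQ (S : Subgroup G) L F Q)), u ∈ img (FKQ (S : Subgroup G) L F Q) (S0 (S : Subgroup G) Z) →
      u * phi (Lp_nor_ZK hw) * u⁻¹ = phi (Lp_nor_ZK hw)) :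
    ∃ (w' : G) (hw' : w' ∈ Lp (S : Subgroup G) L F Q), w' ∈ normalizer (S0 (S : Subgroup G) Z : Set G) ∧
      phi (Lp_nor_ZK hw') = phi (Lp_nor_ZK hw) := by
  have hL := Lp_le hw
  have hwF : w ∈ normalizer (F : Set G) := h.nF (h.LC hL)
  have hSF : S0 (S : Subgroup G) Z ≤ normalizer (F : Set G) := D.S0_le_C.trans h.nF
  have hK : FK (S : Subgroup G) L F ≤ S0 (S : Subgroup G) Z ⊔ F :=
    sup_le le_sup_right ((inf_le_S0 D h).trans le_sup_left)
  have hS : ∀ s ∈ S0 (S : Subgroup G) Z, w * s * w⁻¹ ∈ S0 (S : Subgroup G) Z ⊔ F := by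
    intro s hs
    have hsN := S0_nor_ZK D h hs
    have h1 := hc _ (phi_mem_img hsN hs)
    have h2 : w * s * w⁻¹ * s⁻¹ ∈ Lp (S : Subgroup G) L F Q := by
      have := mul_mem hw (S0_conj_Lp D h hs (inv_mem hw))
      have e : w * (s * w⁻¹ * s⁻¹) = w * s * w⁻¹ * s⁻¹ := by group
      rwa [e] at this
    have h3 : w * s * w⁻¹ * s⁻¹ ∈ centralizer (zc (FKQ (S : Subgroup G) L F Q) : Set G) := by
      rw [← phi_eq_one_iff (Lp_nor_ZK h2)]
      have h4 : phi (Lp_nor_ZK h2) = phi (Lp_nor_ZK hw) * (phi hsN * phi (Lp_nor_ZK hw) * (phi hsN)⁻¹)⁻¹ := by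
        rw [phi_mul, phi_inv, phi_mul, phi_inv, phi_mul]
        rw [phi_eq_iff]
        intro v _
        group
      rw [h4, h1, mul_inv_cancel]
    have h5 := hK (Lp_faith D h (Lp_le h2) h3)
    have h6 : w * s * w⁻¹ = (w * s * w⁻¹ * s⁻¹) * s := by group
    rw [h6]
    exact mul_mem h5 (le_sup_left (α := Subgroup G) hs)
  have hME : S0 (S : Subgroup G) Z ⊔ F ≤ centralizer (zc (S0 (S : Subgroup G) Z) : Set G) :=
    sup_le (le_centralizer_zc _) h.FE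
  have hind : ¬ 2 ∣ (S0 (S : Subgroup G) Z).relIndex (S0 (S : Subgroup G) Z ⊔ F) := fun h2 =>
    not_dvd_S0 D (h2.trans (Dvd.intro _ (relIndex_mul_relIndex _ _ _ le_sup_left hME)))
  obtain ⟨m, hm, hm2⟩ := exists_conj_in (S.2.to_le Dat.S0_le : IsPGroup 2 ↥(S0 (S : Subgroup G) Z)) hind
    (Y := (S0 (S : Subgroup G) Z).map (MulAut.conj w).toMonoidHom)
    ((S.2.to_le Dat.S0_le : IsPGroup 2 ↥(S0 (S : Subgroup G) Z)).map _) (by
      rintro _ ⟨s, hs, rfl⟩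
      exact hS s hs)
  have h1 : m ∈ ((S0 (S : Subgroup G) Z : Subgroup G) : Set G) * (F : Set G) := by
    rw [← coe_mul_of_left_le_normalizer_right _ F hSF]
    exact hm
  obtain ⟨s, hs, f, hf, rfl⟩ := Set.mem_mul.1 h1
  have hfL : f ∈ Lp (S : Subgroup G) L F Q :=
    mem_inf.2 ⟨h.FL hf, le_normalizer (FK_le_FKQ (F_le_FK hf))⟩
  refine ⟨f * w, mul_mem hfL hw, mem_norm fun t ht => ?_, ?_⟩
  · have h2 := hm2 (w * t * w⁻¹) ⟨t, ht, rfl⟩
    have h3 : f * w * t * (f * w)⁻¹ = s⁻¹ * (s * f * (w * t * w⁻¹) * (s * f)⁻¹) * s := by group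
    change f * w * t * (f * w)⁻¹ ∈ S0 (S : Subgroup G) Z
    rw [h3]
    exact mul_mem (mul_mem (inv_mem hs) h2) hs
  · rw [← phi_mul (Lp_nor_ZK hfL) (Lp_nor_ZK hw), (phi_eq_one_iff (Lp_nor_ZK hfL)).2 (FK_le_C (F_le_FK hf)), one_mul]

end

end Cfsg.Agent.Omega.IId.Big.Red

end

section


/-!
# (RED) (bb OMEGA 17245 (2)): THEOREM C, `q = 2`, for a functor: the outcome (generalisation of helper732's `ThmC/TwoOut`)
-/

set_option autoImplicit false
set_option linter.unusedSectionVars false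

namespace Cfsg.Agent.Omega.IId.Big.Red

open scoped Pointwise
open Subgroup Cfsg Cfsg.Agent.MinSimple.VModule Cfsg.Agent.Omega.ThmC
open Cfsg.Agent.ZN (zc o2)
open Cfsg.Agent.Omega.IITwo.Count (conj_mem conj_mem' mem_norm)

universe u

variable {G : Type u} [Group G]

section
variable {S : Sylow 2 G} {Q : Subgroup G} {ι : Type} {Z : ι → Subgroup G} {x z : ι → G} {L F : Subgroup G}
variable [Finite G] [Finite ι] (D : Dat S Q Z x z) {o : ι} (h : Fn (S : Subgroup G) Z z o L F)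

include D h

theorem out [Fintype ι] {w : G} (hw : w ∈ L) (hwN : w ∈ normalizer (S0 (S : Subgroup G) Z : Set G))
    (h1 : phi (norE hwN) ≠ 1) (h2 : ∀ a : Md (S0 (S : Subgroup G) Z), phi (norE hwN) • phi (norE hwN) • a = a) (p q : ι) (hpq : p ≠ q)
    (hs1 : ∀ l, l ≠ p → l ≠ q → ∀ a : Md (S0 (S : Subgroup G) Z), phi (norE hwN) • D.pE l a = D.pE l a)
    (hs2 : ∀ l, l ≠ p → l ≠ q → ∀ a : Md (S0 (S : Subgroup G) Z), D.pE l (phi (norE hwN) • a) = D.pE l a)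
    (alt : p = o ∨ (p ≠ o ∧ q ≠ o ∧ ∃ a : Md (S0 (S : Subgroup G) Z), a ≠ 0 ∧ (D.pE p a = a ∨ D.pE q a = a) ∧
      phi (norE hwN) • a = a)) :
    p = o ∧ ∃ star τ, D.Res o q hwN star τ := by
  set T : Subgroup G := (S : Subgroup G) ⊓ centralizer {z o} with hT
  have hTn : T ≤ normalizer (L : Set G) := inf_le_right.trans h.nL
  have hR : ∀ y ∈ T ⊔ L, ∃ n : ℕ, y ^ 2 ^ n ∈ F := by
    intro y hy
    have h3 : y ∈ (T : Set G) * (L : Set G) := by
      rw [← coe_mul_of_left_le_normalizer_right T L hTn]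
      exact hy
    obtain ⟨t, ht, v, hv, rfl⟩ := Set.mem_mul.1 h3
    obtain ⟨a, ha⟩ := (S.2.to_le inf_le_left : IsPGroup 2 T) ⟨t, ht⟩
    have ha' : t ^ 2 ^ a = 1 := congrArg Subtype.val ha
    obtain ⟨w', hw', e⟩ := pow_mul_mem (hTn ht) hv (2 ^ a)
    rw [ha', one_mul] at e
    obtain ⟨b, hb⟩ := h.two w' hw'
    refine ⟨a + b, ?_⟩
    rw [pow_add, pow_mul, e]
    exact hb
  have hC : T ⊔ L ≤ centralizer {z o} := sup_le inf_le_right h.LC
  obtain ⟨star, τ, e1, e2, e3, e4, e5, e6, e7, e8, e9, e10, e11, e12, e13, e14, e15, e16⟩ :=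
    TwoN.main D.ndat o (img _ (T ⊔ L)) (img _ L) (img_isPGroup' h.FE hR)
      (by
        intro n hn hno
        obtain ⟨s, hs, rfl⟩ := D.mem_TT.mp hn
        rw [D.sN_phi hs] at hno
        exact phi_mem_img _ (le_sup_left (α := Subgroup G) (mem_inf.mpr ⟨hs, (D.sg_iff_z hs).mp hno⟩)))
      (Dat.img_mono le_sup_right)
      (by
        intro n hn hno m hm
        obtain ⟨s, hs, rfl⟩ := D.mem_TT.mp hn
        obtain ⟨g, hg, hgW, rfl⟩ := mem_img.mp hm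
        rw [D.sN_phi hs] at hno
        rw [phi_mul, phi_inv, phi_mul]
        exact phi_mem_img _ (conj_mem (hTn (mem_inf.mpr ⟨hs, (D.sg_iff_z hs).mp hno⟩)) hgW))
      (by
        intro r hr
        obtain ⟨g, hg, hgT, rfl⟩ := mem_img.mp hr
        apply Md.ext
        rw [val_phi, Dat.val_zE]
        exact mem_cs'.mp (hC hgT))
      (phi (norE hwN)) (phi_mem_img _ hw) h1 h2 p q hpq hs1 hs2 alt
  refine ⟨e1, star, τ, ⟨e2, e3, e4, ?_, e6, e7, e8, e10, e11, e12, e13, e14, e15, e16⟩⟩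
  intro s hs l
  have := e5 _ (D.mem_TT.mpr ⟨s, hs, rfl⟩) l
  rwa [D.sN_phi hs, D.sN_phi hs] at this

/-- a lift of `b`, a fixed point of `S⁰` in `B`. -/
theorem out_of [Fintype ι] {B : Subgroup ↥(NG (FKQ (S : Subgroup G) L F Q))}
    (hBH : B ≤ img (FKQ (S : Subgroup G) L F Q) (Lp (S : Subgroup G) L F Q)) (hB2 : ∀ b ∈ B, b * b = 1) {p q : ι}
    (hpq : p ≠ q)
    (hs1 : ∀ b ∈ B, ∀ l, l ≠ p → l ≠ q → ∀ a : Md (FKQ (S : Subgroup G) L F Q), b • pK D h l a = pK D h l a)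
    (hs2 : ∀ b ∈ B, ∀ l, l ≠ p → l ≠ q → ∀ a : Md (FKQ (S : Subgroup G) L F Q), pK D h l (b • a) = pK D h l a)
    (alt : p = o ∨ (p ≠ o ∧ q ≠ o ∧ ∃ a : Md (FKQ (S : Subgroup G) L F Q), a ≠ 0 ∧
      (pK D h p a = a ∨ pK D h q a = a) ∧
      (∀ u ∈ img (FKQ (S : Subgroup G) L F Q) (S0 (S : Subgroup G) Z), u • a = a) ∧ ∀ b ∈ B, b • a = a))
    {b : ↥(NG (FKQ (S : Subgroup G) L F Q))} (hb : b ∈ B) (hb1 : b ≠ 1)
    (hbU : ∀ u : ↥(NG (FKQ (S : Subgroup G) L F Q)), u ∈ img (FKQ (S : Subgroup G) L F Q) (S0 (S : Subgroup G) Z) →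
      u * b * u⁻¹ = b) :
    ∃ (w : G) (hw : w ∈ Lp (S : Subgroup G) L F Q) (hwN : w ∈ normalizer (S0 (S : Subgroup G) Z : Set G)),
      phi (Lp_nor_ZK hw) = b ∧ p = o ∧ ∃ star τ, D.Res o q hwN star τ := by
  obtain ⟨w0, hwK0, hw0, rfl⟩ := mem_img.mp (hBH hb)
  obtain ⟨w, hw, hwN, hwb⟩ := nor_S0_of D h hw0 hbU
  have hval : ∀ v ∈ zc (S0 (S : Subgroup G) Z), v ∈ zc (FKQ (S : Subgroup G) L F Q) := fun v hv => E_le_ZK D h hv
  have hb' : phi (Lp_nor_ZK hw) ∈ B := by rw [hwb]; exact hb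
  refine ⟨w, hw, hwN, hwb, out D h (Lp_le hw) hwN ?_ ?_ p q hpq ?_ ?_ ?_⟩
  · intro h0
    rw [phi_eq_one_iff] at h0
    apply hb1
    have h2 : phi (Lp_nor_ZK hw) = 1 := by
      rw [phi_eq_one_iff]
      exact FK_le_C (cent_E D h (mem_inf.2 ⟨Lp_le hw, h0⟩))
    rw [← h2, hwb]
  · intro a
    have h1 := hB2 _ hb'
    rw [phi_mul, phi_eq_one_iff, mem_centralizer_iff] at h1
    have h2 := h1 _ (hval _ a.val_mem)
    apply Md.ext
    rw [val_phi, val_phi]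
    calc w * (w * a.val * w⁻¹) * w⁻¹ = (w * w) * a.val * (w * w)⁻¹ := by group
      _ = a.val := by rw [← h2]; group
  · intro l hl hl' a
    apply Md.ext
    have h9 := congrArg Md.val (hs1 _ hb' l hl hl' (Md.mk a.val (hval _ a.val_mem)))
    rw [val_phi, Dat.val_pX, Md.val_mk] at h9
    rw [val_phi, Dat.val_pX]
    exact h9
  · intro l hl hl' a
    apply Md.ext
    have h9 := congrArg Md.val (hs2 _ hb' l hl hl' (Md.mk a.val (hval _ a.val_mem)))
    rw [Dat.val_pX, val_phi, Dat.val_pX, Md.val_mk] at h9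
    rw [Dat.val_pX, val_phi, Dat.val_pX]
    exact h9
  · rcases alt with h0 | ⟨h1, h2, a, ha0, ha1, ha2, ha3⟩
    · exact Or.inl h0
    · right
      refine ⟨h1, h2, ?_⟩
      have haE : a.val ∈ zc (S0 (S : Subgroup G) Z) := by
        rw [D.mem_E]
        refine ⟨ZK_le D a.val_mem, fun s hs => ?_⟩
        have h3 := congrArg Md.val (ha2 _ (phi_mem_img (S0_nor_ZK D h hs) hs))
        rw [val_phi] at h3
        exact mul_inv_eq_iff_eq_mul.mp h3
      refine ⟨Md.mk a.val haE, fun h => ha0 ?_, ?_, ?_⟩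
      · have h4 := Md.val_eq_one.mpr h
        rw [Md.val_mk] at h4
        exact Md.val_eq_one.mp h4
      · rcases ha1 with h3 | h3
        · have h4 := congrArg Md.val h3
          rw [Dat.val_pX] at h4
          exact Or.inl (Md.ext (by rw [Dat.val_pX, Md.val_mk]; exact h4))
        · have h4 := congrArg Md.val h3
          rw [Dat.val_pX] at h4
          exact Or.inr (Md.ext (by rw [Dat.val_pX, Md.val_mk]; exact h4))
      · have h4 := congrArg Md.val (ha3 _ hb')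
        rw [val_phi] at h4
        exact Md.ext (by rw [val_phi, Md.val_mk]; exact h4)

/-- **Outcome of (2)-(5).** -/
theorem step [Fintype ι] (hL : ¬ L ≤ FK (S : Subgroup G) L F) :
    ∃ (q : ι) (w : G) (_ : w ∈ L) (hwN : w ∈ normalizer (S0 (S : Subgroup G) Z : Set G))
      (star : ι → ι) (τ : ↥(NG (S0 (S : Subgroup G) Z))), D.Res o q hwN star τ ∧
      ∃ w1 ∈ L, ∃ w2 ∈ L, w1 * z q * w1⁻¹ ≠ z q ∧ w2 * z q * w2⁻¹ ≠ z q ∧
        w1 * z q * w1⁻¹ ≠ w2 * z q * w2⁻¹ := by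
  have hH : img (FKQ (S : Subgroup G) L F Q) (Lp (S : Subgroup G) L F Q) ≠ ⊥ := by
    intro h0
    obtain ⟨w, hw, hwS⟩ := exists_Lp D h hL
    have h1 : phi (Lp_nor_ZK hw) = 1 := by
      rw [← mem_bot, ← h0]
      exact phi_mem_img _ hw
    rw [phi_eq_one_iff] at h1
    exact hwS (Lp_faith D h (Lp_le hw) h1)
  obtain ⟨B, p, q, hBH, hBne, hpq, hB2, hBU, hs1, hs2, alt⟩ := TwoW.main (wdat D h) hH
  have hB : IsPGroup 2 B := fun b => ⟨1, Subtype.ext (by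
    have := hB2 b b.2
    simpa only [pow_two, _root_.pow_one, _root_.Subgroup.coe_mul, _root_.OneMemClass.coe_one] using this)⟩
  have hU := U2 (L := L) (F := F) D
  have alt' : p = o ∨ (p ≠ o ∧ q ≠ o ∧ ∃ a : Md (FKQ (S : Subgroup G) L F Q), a ≠ 0 ∧
      (pK D h p a = a ∨ pK D h q a = a) ∧
      (∀ u ∈ img (FKQ (S : Subgroup G) L F Q) (S0 (S : Subgroup G) Z), u • a = a) ∧ ∀ b ∈ B, b • a = a) := by
    rcases alt with h | h
    · exact Or.inl h.1
    · exact Or.inr h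
  obtain ⟨b, hb, hb1, hbU⟩ := Half.exists_fixed hB hBne hU (fun u hu => mem_norm (hBU u hu))
  obtain ⟨w, hw, hwN, hwb, hpo, star, τ, hres⟩ := out_of D h hBH hB2 hpq hs1 hs2 alt' hb hb1 hbU
  have hx : ∀ b ∈ B, xh D h q * b * (xh D h q)⁻¹ ∈ B ∧ (xh D h q * b * (xh D h q)⁻¹ = b → b = 1) := by
    rcases alt with h | h
    · exact h.2
    · exact absurd hpo h.1
  -- no `b ≠ 1` fixes `z q`
  set zK : Md (FKQ (S : Subgroup G) L F Q) := Md.mk (z q) (E_le_ZK D h (D.z_mem_E q)) with hzK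
  have hC : ∀ b ∈ B, b • zK = zK → b = 1 := by
    let C : Subgroup ↥(NG (FKQ (S : Subgroup G) L F Q)) := B ⊓ MulAction.stabilizer _ zK
    have hCb : C = ⊥ := by
      by_contra hne
      have hCU : img (FKQ (S : Subgroup G) L F Q) (S0 (S : Subgroup G) Z) ≤
          normalizer (C : Set ↥(NG (FKQ (S : Subgroup G) L F Q))) := by
        intro u hu
        refine mem_norm fun c hc => ?_
        rw [mem_inf] at hc ⊢
        refine ⟨hBU u hu c hc.1, ?_⟩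
        have hfix : ∀ u ∈ img (FKQ (S : Subgroup G) L F Q) (S0 (S : Subgroup G) Z), u • zK = zK := by
          intro u hu
          obtain ⟨s, hsN, hs, rfl⟩ := mem_img.mp hu
          apply Md.ext
          rw [val_phi]
          exact mem_cs'.mp (D.S0_le_C (o := q) hs)
        rw [MulAction.mem_stabilizer_iff, mul_smul, mul_smul, hfix _ (inv_mem hu),
          MulAction.mem_stabilizer_iff.mp hc.2, hfix _ hu]
      obtain ⟨c, hc, hc1, hcU⟩ := Half.exists_fixed (V := C) (hB.to_le inf_le_left) hne hU hCU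
      rw [mem_inf] at hc
      obtain ⟨w', hw', hwN', hwb', -, star', τ', r⟩ := out_of D h hBH hB2 hpq hs1 hs2 alt' hc.1 hc1 hcU
      have h1 := r.zo
      rw [r.so, mul_smul] at h1
      have h2 : τ' • D.zE o = D.zE q := by
        obtain ⟨s, hs, hsτ⟩ := D.mem_TT.mp r.mem
        have h3 := r.map
        rw [← hsτ, D.sN_phi hs, r.so] at h3
        rw [← hsτ]
        apply Md.ext
        rw [val_phi, Dat.val_zE, Dat.val_zE, D.z_conj hs, h3]
      have h4 : phi (norE hwN') • D.zE q = D.zE q := by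
        have h5 := MulAction.mem_stabilizer_iff.mp hc.2
        rw [← hwb'] at h5
        have h6 := congrArg Md.val h5
        rw [val_phi, hzK, Md.val_mk] at h6
        exact Md.ext (by rw [val_phi, Dat.val_zE]; exact h6)
      rw [h2, h4] at h1
      exact D.zE_ne o (by simpa using h1.symm)
    intro b hb hbz
    have : b ∈ C := mem_inf.mpr ⟨hb, MulAction.mem_stabilizer_iff.mpr hbz⟩
    rw [hCb] at this
    exact this
  refine ⟨q, w, Lp_le hw, hwN, star, τ, hres, ?_⟩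
  obtain ⟨hb', hb'1⟩ := hx b hb
  set b' := xh D h q * b * (xh D h q)⁻¹ with hb'd
  obtain ⟨w2, hw2K, hw2, hw2b⟩ := mem_img.mp (hBH hb')
  have hne : b' ≠ b := fun h => hb1 (hb'1 h)
  have hb'ne : b' ≠ 1 := by
    intro h0
    apply hb1
    have : b = (xh D h q)⁻¹ * b' * xh D h q := by rw [hb'd]; group
    rw [this, h0]; group
  have hv : ∀ {g : G} (hg : g ∈ normalizer (zc (FKQ (S : Subgroup G) L F Q) : Set G)), (phi hg • zK).val = g * z q * g⁻¹ :=
    fun hg => rfl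
  refine ⟨w, Lp_le hw, w2, Lp_le hw2, fun h => ?_, fun h => ?_, fun h => ?_⟩
  · apply hb1
    apply hC b hb
    rw [← hwb]
    exact Md.ext (by rw [hv, h]; rfl)
  · apply hb'ne
    apply hC b' hb'
    rw [← hw2b]
    exact Md.ext (by rw [hv, h]; rfl)
  · apply hne
    have h5 : b⁻¹ * b' = 1 := by
      apply hC _ (mul_mem (inv_mem hb) hb')
      rw [mul_smul, inv_smul_eq_iff, ← hwb, ← hw2b]
      exact Md.ext (by rw [hv, hv, h])
    exact (inv_mul_eq_one.mp h5).symm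

end

end Cfsg.Agent.Omega.IId.Big.Red

end

section


/-!
# (RED) (bb OMEGA 17245 (2)): THEOREM C, `q = 2`, for a functor

`le_FK` : `L ≤ F (L ∩ S)`.   `L_le_E` : `L` centralises `E = Ω₁Z(S⁰)`.
(generalisation of helper732's `ThmC/TwoEnd`)
-/

set_option autoImplicit false
set_option linter.unusedSectionVars false

namespace Cfsg.Agent.Omega.IId.Big.Red

open scoped Pointwise
open Subgroup Cfsg Cfsg.Agent.MinSimple.VModule Cfsg.Agent.Omega.ThmC
open Cfsg.Agent.ZN (zc o2)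
open Cfsg.Agent.Omega.IITwo.Count (conj_mem conj_mem' mem_norm)

universe u

variable {G : Type u} [Group G]

theorem map_conj_nor {M L : Subgroup G} {v g : G} (h : centralizer ({v} : Set G) ≤ normalizer (L : Set G))
    (hM : M = centralizer ({g * v * g⁻¹} : Set G)) : M ≤ normalizer ((L.map (MulAut.conj g).toMonoidHom : Subgroup G) : Set G) := by
  subst hM
  intro c hc
  have h1 : g⁻¹ * c * g ∈ centralizer ({v} : Set G) := by
    rw [mem_cs'] at hc ⊢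
    calc g⁻¹ * c * g * v * (g⁻¹ * c * g)⁻¹ = g⁻¹ * (c * (g * v * g⁻¹) * c⁻¹) * g := by group
      _ = v := by rw [hc]; group
  have key : ∀ c ∈ centralizer ({g * v * g⁻¹} : Set G), ∀ y ∈ L.map (MulAut.conj g).toMonoidHom,
      c * y * c⁻¹ ∈ L.map (MulAut.conj g).toMonoidHom := by
    rintro c hc _ ⟨y, hy, rfl⟩
    have h1 : g⁻¹ * c * g ∈ centralizer ({v} : Set G) := by
      rw [mem_cs'] at hc ⊢
      calc g⁻¹ * c * g * v * (g⁻¹ * c * g)⁻¹ = g⁻¹ * (c * (g * v * g⁻¹) * c⁻¹) * g := by group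
        _ = v := by rw [hc]; group
    refine ⟨(g⁻¹ * c * g) * y * (g⁻¹ * c * g)⁻¹, conj_mem (h h1) hy, ?_⟩
    change g * ((g⁻¹ * c * g) * y * (g⁻¹ * c * g)⁻¹) * g⁻¹ = c * (g * y * g⁻¹) * c⁻¹
    group
  rw [mem_normalizer_iff]
  intro y
  refine ⟨key c hc y, fun hy => ?_⟩
  have h2 := key c⁻¹ (inv_mem hc) _ hy
  have e : c⁻¹ * (c * y * c⁻¹) * c⁻¹⁻¹ = y := by group
  rwa [e] at h2

theorem Fn.conj {S : Sylow 2 G} {ι ι' : Type} {Z : ι → Subgroup G} {Z' : ι' → Subgroup G} {z : ι → G} {z' : ι' → G}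
    {o : ι} {o' : ι'} {L F : Subgroup G} (h : Fn (S : Subgroup G) Z z o L F) {g : G} (hg : g * z o * g⁻¹ = z' o')
    (hE : zc (S0 (S : Subgroup G) Z') ≤ zc (S0 (S : Subgroup G) Z))
    (hgN : g ∈ normalizer (zc (S0 (S : Subgroup G) Z) : Set G)) :
    Fn (S : Subgroup G) Z' z' o' (L.map (MulAut.conj g).toMonoidHom) (F.map (MulAut.conj g).toMonoidHom) where
  LC := by
    rintro _ ⟨y, hy, rfl⟩
    have h1 := mem_cs'.1 (h.LC hy)
    change g * y * g⁻¹ ∈ _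
    rw [mem_cs', ← hg]
    calc g * y * g⁻¹ * (g * z o * g⁻¹) * (g * y * g⁻¹)⁻¹ = g * (y * z o * y⁻¹) * g⁻¹ := by group
      _ = _ := by rw [h1]
  nL := map_conj_nor h.nL (by rw [hg])
  nF := map_conj_nor h.nF (by rw [hg])
  FL := map_mono h.FL
  two := by
    rintro _ ⟨y, hy, rfl⟩
    obtain ⟨n, hn⟩ := h.two y hy
    exact ⟨n, y ^ 2 ^ n, hn, map_pow _ _ _⟩
  FE := by
    rintro _ ⟨f, hf, rfl⟩
    change g * f * g⁻¹ ∈ _
    rw [mem_centralizer_iff]
    intro v hv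
    have h1 := mem_centralizer_iff.1 (h.FE hf) _ (conj_mem' hgN (hE hv))
    calc v * (g * f * g⁻¹) = g * ((g⁻¹ * v * g) * f) * g⁻¹ := by group
      _ = g * (f * (g⁻¹ * v * g)) * g⁻¹ := by rw [h1]
      _ = g * f * g⁻¹ * v := by group

/-- **THEOREM C for a functor**: `L ≤ F (L ∩ S)`. -/
theorem le_FK [Finite G] {S : Sylow 2 G} : ∀ (n : ℕ) (Q : Subgroup G) (ι : Type) (_ : Finite ι) (Z : ι → Subgroup G)
    (x z : ι → G), Nat.card ι = n → Dat S Q Z x z → ∀ (o : ι) (L F : Subgroup G),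
      Fn (S : Subgroup G) Z z o L F → L ≤ FK (S : Subgroup G) L F := by
  intro n
  induction n using Nat.strong_induction_on with
  | _ n ih =>
  intro Q ι _ Z x z hn D o L F h
  have := Fintype.ofFinite ι
  by_contra hne
  obtain ⟨q, w, hw, hwN, star, τ, r, w1, hw1, w2, hw2, n1, n2, n3⟩ := step D h hne
  obtain ⟨s, hs, hτ⟩ := D.mem_TT.mp r.mem
  have h6 := r.six hs hτ
  have hso : D.sg s o = q := by
    have := r.map
    rwa [← hτ, D.sN_phi hs, r.so] at this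
  have hsq : D.sg s q = o := by rw [← r.so, r.perm s hs, hso, ← r.so, r.inv]
  -- the conjugating element
  have ez : s * z o * s⁻¹ = z q := by rw [D.z_conj hs, hso]
  have ezq : s * z q * s⁻¹ = z o := by rw [D.z_conj hs, hsq]
  have ew : w * z o * w⁻¹ = z o := mem_cs'.mp (h.LC hw)
  have ewq : w * z q * w⁻¹ = z o * z q := by
    have h1 := r.zo
    rw [← hτ, r.so] at h1
    have h2 := congrArg Md.val h1
    rw [Md.val_add, Dat.val_zE, Dat.val_zE] at h2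
    have h3 : (((phi (norE hwN) * phi (D.S_le_nor_E hs)) • D.zE o).val : G) = w * (s * z o * s⁻¹) * w⁻¹ := by
      rw [mul_smul]; rfl
    rw [h3, ez] at h2
    exact h2
  set g := s * w * s⁻¹ with hg
  have es : s⁻¹ * z q * s = z o := by rw [← ez]; group
  have es' : s⁻¹ * z o * s = z q := by rw [← ezq]; group
  have hgq : g * z q * g⁻¹ = z q := by
    calc g * z q * g⁻¹ = s * (w * (s⁻¹ * z q * s) * w⁻¹) * s⁻¹ := by rw [hg]; group
      _ = z q := by rw [es, ew, ez]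
  have hgo : g * z o * g⁻¹ = z o * z q := by
    calc g * z o * g⁻¹ = s * (w * (s⁻¹ * z o * s) * w⁻¹) * s⁻¹ := by rw [hg]; group
      _ = s * (z o * z q) * s⁻¹ := by rw [es', ewq]
      _ = (s * z o * s⁻¹) * (s * z q * s⁻¹) := by group
      _ = z o * z q := by rw [ez, ezq, D.zz_comm]
  have hqo : q ≠ o := by
    intro h
    have h1 := r.ne o
    rw [r.so] at h1
    exact h1 h
  have hgN : g ∈ normalizer (zc (S0 (S : Subgroup G) Z) : Set G) :=
    mul_mem (mul_mem (D.S_le_nor_E hs) (norE hwN)) (inv_mem (D.S_le_nor_E hs))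
  -- induction
  have hWb : L.map (MulAut.conj g).toMonoidHom ≤
      FK (S : Subgroup G) (L.map (MulAut.conj g).toMonoidHom) (F.map (MulAut.conj g).toMonoidHom) := by
    refine ih (Nat.card {l : ι // rep h6.inv l = l}) (by rw [← hn]; exact D.card_lt h6) _ _ inferInstance _ _ _ rfl
      h6.dat ⟨rep h6.inv o, rep_rep h6.inv o⟩ _ _ (h.conj ?_ h6.dat.E_le hgN)
    change g * z o * g⁻¹ = z (rep h6.inv o) * z (star (rep h6.inv o))
    rw [hgo]
    rcases rep_or h6.inv o with h | h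
    · rw [h, r.so]
    · rw [h, r.inv, r.so, D.zz_comm]
  have hLC' : L.map (MulAut.conj g).toMonoidHom ≤ centralizer ({z o * z q} : Set G) := by
    rintro _ ⟨y, hy, rfl⟩
    have h1 := mem_cs'.1 (h.LC hy)
    change g * y * g⁻¹ ∈ _
    rw [mem_cs', ← hgo]
    calc g * y * g⁻¹ * (g * z o * g⁻¹) * (g * y * g⁻¹)⁻¹ = g * (y * z o * y⁻¹) * g⁻¹ := by group
      _ = _ := by rw [h1]
  have hnF' : L.map (MulAut.conj g).toMonoidHom ≤
      normalizer ((F.map (MulAut.conj g).toMonoidHom : Subgroup G) : Set G) :=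
    hLC'.trans (map_conj_nor h.nF (by rw [hgo]))
  have hFE' : F.map (MulAut.conj g).toMonoidHom ≤ centralizer (zc (S0 (S : Subgroup G) Z) : Set G) := by
    rintro _ ⟨f, hf, rfl⟩
    change g * f * g⁻¹ ∈ _
    rw [mem_centralizer_iff]
    intro v hv
    have h1 := mem_centralizer_iff.1 (h.FE hf) _ (conj_mem' hgN hv)
    calc v * (g * f * g⁻¹) = g * ((g⁻¹ * v * g) * f) * g⁻¹ := by group
      _ = g * (f * (g⁻¹ * v * g)) * g⁻¹ := by rw [h1]
      _ = g * f * g⁻¹ * v := by group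
  -- the orbit of `z q` under `W_b`
  have orb : ∀ u ∈ (S : Subgroup G), u * (z o * z q) * u⁻¹ = z o * z q → u * z q * u⁻¹ = z o ∨ u * z q * u⁻¹ = z q := by
    intro u hu hf
    rw [D.z_conj hu]
    by_cases h1 : D.sg u q = o
    · left; rw [h1]
    by_cases h2 : D.sg u q = q
    · right; rw [h2]
    exfalso
    have h3 : z (D.sg u o) * z (D.sg u q) = z o * z q := by
      rw [← D.z_conj hu, ← D.z_conj hu, ← hf]; group
    have h4 : D.sg u q ≠ D.sg u o := by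
      intro h
      apply hqo
      have := congrArg (D.sg u⁻¹) h
      rwa [← D.sg_mul (inv_mem hu) hu, ← D.sg_mul (inv_mem hu) hu, inv_mul_cancel, D.sg_one, D.sg_one] at this
    have h5 := congrArg (ThmC.pr (x (D.sg u q))) h3
    rw [pr_mul (D.xN _) (D.le _ (D.zm _)) (D.le _ (D.zm _)), pr_mul (D.xN _) (D.le _ (D.zm _)) (D.le _ (D.zm _)),
      D.pr_other h4 (D.zm _), D.pr_self (D.zm _), D.pr_other h1 (D.zm _), D.pr_other h2 (D.zm _), one_mul,
      one_mul] at h5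
    exact D.z1 _ h5
  have orb' : ∀ u ∈ L.map (MulAut.conj g).toMonoidHom, u * z q * u⁻¹ = z o ∨ u * z q * u⁻¹ = z q := by
    intro u hu
    have h1 : u ∈ ((L.map (MulAut.conj g).toMonoidHom ⊓ (S : Subgroup G) : Subgroup G) : Set G) *
        ((F.map (MulAut.conj g).toMonoidHom : Subgroup G) : Set G) := by
      rw [← coe_mul_of_left_le_normalizer_right _ _ (inf_le_left.trans hnF')]
      have h2 := hWb hu
      rw [FK, sup_comm] at h2
      exact h2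
    obtain ⟨k, hk, f, hf, rfl⟩ := Set.mem_mul.1 h1
    have hkS := (mem_inf.1 hk).2
    have h2 := orb k hkS (mem_cs'.1 (hLC' (mem_inf.1 hk).1))
    have h3 : f * z q * f⁻¹ = z q := by
      rw [← mem_centralizer_iff.1 (hFE' hf) _ (D.z_mem_E q)]; group
    have h4 : k * f * z q * (k * f)⁻¹ = k * z q * k⁻¹ := by
      calc k * f * z q * (k * f)⁻¹ = k * (f * z q * f⁻¹) * k⁻¹ := by group
        _ = _ := by rw [h3]
    rwa [h4]
  have key : ∀ w' ∈ L, w' * z q * w'⁻¹ ≠ z q → w' * z q * w'⁻¹ = g⁻¹ * z o * g := by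
    intro w' hw' hne'
    have h2 := orb' (g * w' * g⁻¹) ⟨w', hw', rfl⟩
    have h3 : g * w' * g⁻¹ * z q * (g * w' * g⁻¹)⁻¹ = g * (w' * z q * w'⁻¹) * g⁻¹ := by
      calc g * w' * g⁻¹ * z q * (g * w' * g⁻¹)⁻¹ = g * w' * (g⁻¹ * z q * g) * w'⁻¹ * g⁻¹ := by group
        _ = g * w' * (g⁻¹ * (g * z q * g⁻¹) * g) * w'⁻¹ * g⁻¹ := by rw [hgq]
        _ = _ := by group
    rw [h3] at h2
    rcases h2 with h2 | h2
    · rw [← h2]; group
    · exfalso
      apply hne'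
      calc w' * z q * w'⁻¹ = g⁻¹ * (g * (w' * z q * w'⁻¹) * g⁻¹) * g := by group
        _ = g⁻¹ * (g * z q * g⁻¹) * g := by rw [h2, hgq]
        _ = z q := by group
  exact n3 ((key w1 hw1 n1).trans (key w2 hw2 n2).symm)

section
variable {S : Sylow 2 G} {Q : Subgroup G} {ι : Type} {Z : ι → Subgroup G} {x z : ι → G} {L F : Subgroup G}
variable [Finite G] [Finite ι] (D : Dat S Q Z x z) {o : ι} (h : Fn (S : Subgroup G) Z z o L F)

include D h

theorem L_le_FK : L ≤ FK (S : Subgroup G) L F := le_FK _ Q ι ‹_› Z x z rfl D o L F h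

/-- `L` centralises `E = Ω₁Z(S⁰)`. -/
theorem L_le_E : L ≤ centralizer (zc (S0 (S : Subgroup G) Z) : Set G) :=
  (L_le_FK D h).trans (sup_le h.FE ((inf_le_S0 D h).trans (le_centralizer_zc _)))

/-- `L` centralises the `x l`-conjugate of `C_l`, `l ≠ o`, if `F` does. -/
theorem L_comm {l : ι} (hl : l ≠ o) {v : G} (hv : v ∈ zc (S0 (S : Subgroup G) Z))
    (hF : ∀ f ∈ F, f * (x l * v * (x l)⁻¹) = x l * v * (x l)⁻¹ * f) {w : G} (hw : w ∈ L) :
    w * (x l * v * (x l)⁻¹) = x l * v * (x l)⁻¹ * w := by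
  have key : FK (S : Subgroup G) L F ≤ centralizer ({x l * v * (x l)⁻¹} : Set G) := by
    refine sup_le (fun f hf => mem_cs.2 (hF f hf)) fun k hk => ?_
    rw [mem_inf] at hk
    rw [mem_cs', comm_x' D h hk.1 hk.2 hl (D.E_le hv)]
    have h1 := (D.mem_E.1 hv).2 _ (inf_le_S0 D h (mem_inf.2 hk))
    rw [h1]
    group
  exact mem_cs.1 (key (L_le_FK D h hw))

end

end Cfsg.Agent.Omega.IId.Big.Red

end

private theorem dce_e84748a600ed : _root_.True := by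
  try have : _root_.True := by simp only [_root_.Cfsg.Agent.Omega.IId.Big.Red.xh.congr_simp]
  try have : _root_.True := by simp only [_root_.Cfsg.Agent.Omega.IId.Big.Red.FKQ.eq_1]
  try have : _root_.True := by simp only [_root_.Cfsg.Agent.Omega.IId.Big.Red.FK.eq_1]
  exact _root_.True.intro
end

-- part: Mrg/Omega/HTwo/AlphaP
section
prune_inst 0xc11022440122000000180580110020444400009200630001f140024402061341a5056f0174e03b121918aa60200a8040125c04490018000020008a0040240729842a62c09308b104250011c0f887180c00000000000000000000000000041004000400000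
set_option linter.all false
open scoped Cfsg.Agent.FastGrp

section


/-!
# II.0h1, `q = 2`, case (α) for the small group `M' = ⟨C_{H₁}(z), X⟩` (#15368, helper481)

`MP V R o z = (N(R o) ∩ C(z)) ⊔ X`.

* `lemX`, `lemX_false` : LEMMA X;
* `alpha_two` : (2) of #14489 for every `M ≥ N(R o) ∩ C(z)`, `X`;
* `four'` : (2), (3) of #15368;
* `not_alpha'` : `⟨V^{M'}⟩` is not contained in `Q o`.
-/

set_option autoImplicit false
set_option linter.unusedSectionVars false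

namespace Cfsg.Agent.Omega.HTwo.AlphaP

open Subgroup Cfsg Cfsg.Agent.MinSimple.VModule Cfsg.Agent.Omega.BTwo
open Cfsg.Agent.Omega.HOneTwo Cfsg.Agent.Omega.HTwo.ThmA Cfsg.Agent.Omega.HTwo.Par
open Cfsg.Agent.Omega.HTwo.Hat Cfsg.Agent.Omega.HTwo.TComp Cfsg.Agent.Omega.MinPar
open Cfsg.Agent.ZN (zc o2 le_normalizer_o2)
open Cfsg.Agent.Omega.HTwo.AlphaFive (mem_C natC_two r_ne r_mem r_sq mem_N_iff cj_V_le exists_h exists_mv cl_le_zc natC_cj)
open Cfsg.Agent.Omega.HTwo.AlphaOne (exists_cj_S comm_mem_R ZQ_swap ZQ_not_RC)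

universe u

section X

variable {G : Type*} [Group G] [Finite G] {ι : Type*} {V : Subgroup G} {R : ι → Subgroup G}

/-- **LEMMA X** (#15368) -/
theorem lemX (b : BTS V R) (h : ∀ i, LE V R i) {i j : ι} (hij : i ≠ j) {r : G} (hr : ∀ x ∈ R i, x = 1 ∨ x = r)
    {W : Subgroup G} (hWQ : W ≤ QQ (R i)) (hab : ∀ a ∈ W, ∀ c ∈ W, a * c = c * a)
    (hE : ∀ e ∈ EE V R j, ∀ x ∈ W, e * x * e⁻¹ ∈ W) {w : G} (hw : w ∈ W)
    (hwV : w ∉ centralizer (V : Set G)) {n : G} (hn : n ∈ ZQ R i) :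
    ∃ u ∈ W, u ∈ ZQ R i ∧ u⁻¹ * n ∈ CC R := by
  have hwQ := hWQ hw
  -- `E i ≤ W J`
  have key : ∀ x ∈ EE V R i, ∃ u ∈ W, u⁻¹ * x ∈ CC R := by
    intro x hx
    obtain ⟨e, he, h1⟩ := EE_surj b (Ne.symm hij) hwQ hwV hx
    refine ⟨w * e * w⁻¹ * e⁻¹, ?_, h1⟩
    have e1 : w * e * w⁻¹ * e⁻¹ = w * (e * w⁻¹ * e⁻¹) := by group
    rw [e1]
    exact mul_mem hw (hE e he _ (inv_mem hw))
  obtain ⟨u, hu, hc⟩ := key n (ZQ_le_EE b.toBT i hn)
  refine ⟨u, hu, ?_, hc⟩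
  have hcQ : ∀ c ∈ CC R, c ∈ QQ (R i) := fun c hc => mem_iInf.1 hc i
  -- `u` commutes with `J`
  have huJ : ∀ c ∈ CC R, c * u = u * c := by
    intro c hc'
    have h1 : c * n = n * c := ZQ_comm hn (hcQ c hc')
    have h2 : c * (u⁻¹ * n) = u⁻¹ * n * c := C_comm_one b h hc' hc
    have e : u = n * (u⁻¹ * n)⁻¹ := by group
    have h3 : c * (u⁻¹ * n)⁻¹ = (u⁻¹ * n)⁻¹ * c := by
      rw [eq_inv_mul_iff_mul_eq, ← mul_assoc, ← h2, mul_inv_cancel_right]
    calc c * u = c * (n * (u⁻¹ * n)⁻¹) := by rw [← e]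
      _ = n * (c * (u⁻¹ * n)⁻¹) := by rw [← mul_assoc, h1, mul_assoc]
      _ = n * (u⁻¹ * n)⁻¹ * c := by rw [h3, ← mul_assoc]
      _ = u * c := by rw [← e]
  -- `E i` commutes with `u`
  have huE : ∀ x ∈ EE V R i, x * u = u * x := by
    intro x hx
    obtain ⟨v, hv, hc'⟩ := key x hx
    have h1 := huJ _ hc'
    have h2 := hab v hv u hu
    calc x * u = v * (v⁻¹ * x * u) := by group
      _ = (v * u) * (v⁻¹ * x) := by rw [h1, mul_assoc]
      _ = u * x := by rw [h2]; group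
  refine ⟨hWQ hu, mem_centralizer_iff.2 fun x hx => ?_⟩
  by_cases hxV : x ∈ centralizer (V : Set G)
  · exact huE x ⟨hx, hxV⟩
  · have h1 := ThmD.inv_mul_mem_cen b.toBT hr hwQ hwV hx hxV
    have h2 := huE (w⁻¹ * x) ⟨(QQ (R i)).mul_mem ((QQ (R i)).inv_mem hwQ) hx, h1⟩
    have h3 := hab w hw u hu
    calc x * u = w * (w⁻¹ * x * u) := by group
      _ = (w * u) * (w⁻¹ * x) := by rw [h2, mul_assoc]
      _ = u * x := by rw [h3]; group

theorem lemX_false (b : BTS V R) (h : ∀ i, LE V R i) {i j : ι} (hij : i ≠ j) {r : G}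
    (hr : ∀ x ∈ R i, x = 1 ∨ x = r)
    {W : Subgroup G} (hWQ : W ≤ QQ (R i)) (hab : ∀ a ∈ W, ∀ c ∈ W, a * c = c * a)
    (hE : ∀ e ∈ EE V R j, ∀ x ∈ W, e * x * e⁻¹ ∈ W) {w : G} (hw : w ∈ W)
    (hwV : w ∉ centralizer (V : Set G)) (hWZ : ∀ x ∈ W, x ∈ ZQ R i → x ∈ R i)
    {z : G} (hz : z ∈ CenX V R) (hz1 : z ≠ 1) : False := by
  refine ZQ_not_RC b h hz hz1 i fun l hl => ?_
  obtain ⟨u, hu, huZ, hc⟩ := lemX b h hij hr hWQ hab hE hw hwV hl
  refine ZQ_Q b hij hl ?_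
  have e : l = u * (u⁻¹ * l) := by group
  rw [e]
  exact mul_mem (b.V_Q j (b.R_le i (hWZ u hu huZ))) (mem_iInf.1 hc j)

/-- (2), (3) of #15368 -/
theorem four' (b : BTS V R) {o j : ι} (hj : j ≠ o) {r : G} (hr : ∀ x, x ∈ R o ↔ x = 1 ∨ x = r)
    {y : G} {W : Subgroup G} (hyy : y * y = 1) (hy : y ∈ ZQ R o) (hWQ : W ≤ QQ (R o))
    (sq : ∀ x ∈ W, x * x = 1)
    (hn : ∀ c, c * y = y * c → c * r = r * c → ∀ x ∈ W, c * x * c⁻¹ ∈ W)
    (hpt : ∀ w ∈ W, w ≠ 1 → ∃ k, k * y = y * k ∧ k * r * k⁻¹ = w ∧ ∀ x ∈ W, k⁻¹ * x * k ∈ W)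
    {w : G} (hw : w ∈ W) (hwV : w ∉ centralizer (V : Set G)) :
    (∃ a ∈ R o, a * y ∈ CenX V R) ∨
      ∃ w₁ ∈ W, ∃ c, c * (y * r) = y * r * c ∧ c * r * c⁻¹ * w₁ ≠ w₁ * (c * r * c⁻¹) := by
  have hwQ : w ∈ QQ (R o) := hWQ hw
  have hww : w * w = 1 := sq w hw
  obtain ⟨k, hkj, hko, hk⟩ := movesQ b.toBT hj hwQ hwV
  have hk' : cj w (R k) = R j := by
    rw [← hk, ← cj_mul, hww, cj_one]
  obtain ⟨v, hv, ev⟩ := b.trans j (Ne.symm hj) hkj
  have hvv : v * v ∈ R j := b.W_sq j hv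
  have hvX : v ∈ XX V R := W_le_X V R j hv
  have hvQ : v ∈ QQ (R j) := b.W_le_Q j hv
  have hvU : v ∉ UU V R j := by
    intro h
    have h1 : cj v (R o) = R o := cj_eq_self_iff.2 (b.cen_le_N o (UU_le_cen j h))
    exact hko (b.R_index (ev.symm.trans h1))
  obtain ⟨y₃, hy₃⟩ : ∃ y₃, y₃ = v * y * v⁻¹ := ⟨_, rfl⟩
  have z3 : y₃ ∈ ZQ R k := by
    rw [hy₃, ← cj_ZQ b.toBT ev]
    exact conj_mem_cj hy
  obtain ⟨y₂, hy₂⟩ : ∃ y₂, y₂ = w * y₃ * w⁻¹ := ⟨_, rfl⟩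
  have z2 : y₂ ∈ ZQ R j := by
    rw [hy₂, ← cj_ZQ b.toBT hk']
    exact conj_mem_cj z3
  have yV : y ∈ centralizer (V : Set G) := ZQ_le_cen b.toBT o hy
  have y3V : y₃ ∈ centralizer (V : Set G) := ZQ_le_cen b.toBT k z3
  by_cases h3j : y₃ ∈ QQ (R j)
  · left
    obtain ⟨a, ha, h⟩ := ZQ_Q b hkj z3 h3j
    refine ⟨v⁻¹ * a * v, ?_, ?_⟩
    · rw [← ev, mem_cj] at ha
      exact ha
    · have h1 := conj_inv_mem_of_normalizer (b.NV_le_NCenX (b.X_le_NV hvX)) h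
      have e : v⁻¹ * (a * y₃) * v = v⁻¹ * a * v * y := by rw [hy₃]; group
      rwa [e] at h1
  right
  -- the commutations
  have c13 : y * y₃ = y₃ * y := by
    rw [hy₃]
    exact Comm.comm_conj b (Ne.symm hj) (ZQ_le_cenW b.toBT o hy) hv hvU
  have c23 : y₂ * y₃ = y₃ * y₂ := by
    rw [hy₂]
    exact (Alpha.comm_conj_Q b hko z3 hwQ hwV).symm
  have hy3sq : y₃ * y₃ = 1 := by
    rw [hy₃]
    calc v * y * v⁻¹ * (v * y * v⁻¹) = v * (y * y) * v⁻¹ := by group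
      _ = 1 := by rw [hyy]; group
  have hrV : r ∈ V := b.R_le o ((hr r).2 (Or.inr rfl))
  have hyw : w * y = y * w := ZQ_comm hy hwQ
  have hp : y₂ * y₃ ∈ W := by
    have h1 : y₃ * w⁻¹ * y₃⁻¹ ∈ W :=
      hn y₃ c13.symm (mem_centralizer_iff.1 y3V r hrV).symm _ (inv_mem hw)
    have h2 : y₃⁻¹ = y₃ := inv_eq_of_mul_eq_one_left hy3sq
    have e : y₂ * y₃ = w * (y₃ * w⁻¹ * y₃⁻¹) := by rw [hy₂, h2]; group
    rw [e]
    exact mul_mem hw h1
  have hp1 : y₂ * y₃ ≠ 1 := by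
    intro h
    apply h3j
    have h1 : y₂ = y₃⁻¹ := eq_inv_of_mul_eq_one_left h
    rw [inv_eq_of_mul_eq_one_left hy3sq] at h1
    rw [← h1]
    exact ZQ_le j z2
  have hv3 : v * y₃ * v⁻¹ = y := by
    have h1 : v * v * y = y * (v * v) := (mem_centralizer_iff.1 yV _ (b.R_le j hvv))
    calc v * y₃ * v⁻¹ = (v * v * y) * (v * v)⁻¹ := by rw [hy₃]; group
      _ = y := by rw [h1, mul_inv_cancel_right]
  have hv2 : v * y₂ * v⁻¹ = y₂ := by
    have h1 := ZQ_comm z2 hvQ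
    rw [h1, mul_inv_cancel_right]
  obtain ⟨p, hpdef⟩ : ∃ p, p = y₂ * y₃ := ⟨_, rfl⟩
  have hvp : v * p * v⁻¹ = y₂ * y := by
    rw [hpdef]
    calc v * (y₂ * y₃) * v⁻¹ = (v * y₂ * v⁻¹) * (v * y₃ * v⁻¹) := by group
      _ = y₂ * y := by rw [hv2, hv3]
  have hyp : y * p = p * y := by
    have h1 : p ∈ QQ (R o) := by rw [hpdef]; exact hWQ hp
    exact (ZQ_comm hy h1).symm
  have hvq : v * (y * p) = y * p * v := by
    have h1 : v * (y * p) * v⁻¹ = y * p := by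
      calc v * (y * p) * v⁻¹ = (v * y * v⁻¹) * (v * p * v⁻¹) := by group
        _ = y₃ * (y₂ * y) := by rw [← hy₃, hvp]
        _ = (y₂ * y₃) * y := by rw [c23]; group
        _ = p * y := by rw [hpdef]
        _ = y * p := hyp.symm
    exact mul_inv_eq_iff_eq_mul.1 h1
  -- `w` moves `y₂ y`
  have hwp' : w * (y₂ * y) * w⁻¹ ≠ y₂ * y := by
    intro h
    apply hp1
    have h1 : w * y₂ * w⁻¹ = y₃ := by
      rw [hy₂]
      calc w * (w * y₃ * w⁻¹) * w⁻¹ = (w * w) * y₃ * (w * w)⁻¹ := by group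
        _ = y₃ := by rw [hww]; group
    have h4 : w * y * w⁻¹ = y := by rw [hyw, mul_inv_cancel_right]
    have h5 : w * (y₂ * y) * w⁻¹ = y₃ * y := by
      calc w * (y₂ * y) * w⁻¹ = (w * y₂ * w⁻¹) * (w * y * w⁻¹) := by group
        _ = y₃ * y := by rw [h1, h4]
    rw [h5] at h
    have h6 := mul_right_cancel h
    rw [h6, ← h6, hy3sq]
  -- transport
  rw [← hpdef] at hp hp1
  obtain ⟨g, hgy, hgp, hgW⟩ := hpt p hp hp1
  refine ⟨g⁻¹ * w * g, hgW w hw, g⁻¹ * v * g, ?_, ?_⟩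
  · have h1 : g * (y * r) * g⁻¹ = y * p := by
      calc g * (y * r) * g⁻¹ = (g * y) * r * g⁻¹ := by group
        _ = y * (g * r * g⁻¹) := by rw [hgy]; group
        _ = y * p := by rw [hgp]
    have h2 : y * r = g⁻¹ * (y * p) * g := by rw [← h1]; group
    rw [h2]
    calc g⁻¹ * v * g * (g⁻¹ * (y * p) * g) = g⁻¹ * (v * (y * p)) * g := by group
      _ = g⁻¹ * (y * p * v) * g := by rw [hvq]
      _ = _ := by group
  · intro h
    apply hwp'
    have h1 : r = g⁻¹ * p * g := by rw [← hgp]; group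
    have h2 : g⁻¹ * v * g * r * (g⁻¹ * v * g)⁻¹ = g⁻¹ * (y₂ * y) * g := by
      rw [h1, ← hvp]; group
    rw [h2] at h
    have e1 : g⁻¹ * (y₂ * y) * g * (g⁻¹ * w * g) = g⁻¹ * (y₂ * y * w) * g := by group
    have e2 : g⁻¹ * w * g * (g⁻¹ * (y₂ * y) * g) = g⁻¹ * (w * (y₂ * y)) * g := by group
    rw [e1, e2] at h
    have h3 := mul_left_cancel (mul_right_cancel h)
    rw [← h3, mul_inv_cancel_right]

end X

section two

variable {G : Type u} [Group G] [Finite G] {ι : Type*} {S : Sylow 2 G} {P V : Subgroup G} {R : ι → Subgroup G} {o : ι}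

/-- the small group `M' = ⟨N(R o) ∩ C(z), X⟩` -/
def MP (V : Subgroup G) (R : ι → Subgroup G) (o : ι) (z : G) : Subgroup G :=
  (normalizer (R o : Set G) ⊓ centralizer ({z} : Set G)) ⊔ XX V R

variable (b : HT S P V R o)
include b

/-- **(2)** of #14489 for every `M ≥ N(R o) ∩ C(z)`, `X` -/
theorem alpha_two {M : Subgroup G} (h : ∀ i, LE V R i) {z : G}
    (hz : z ∈ zc (S : Subgroup G) ⊓ centralizer (P : Set G)) (hz1 : z ≠ 1)
    (hM : normalizer (R o : Set G) ⊓ centralizer ({z} : Set G) ≤ M)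
    (hα : UM V M ≤ QQ (R o)) :
    ∃ a ∈ QQ (R o), ∃ c ∈ QQ (R o), a ∉ centralizer (UM V M : Set G) ∧
      c ∉ centralizer (UM V M : Set G) ∧ a * c ∉ centralizer (UM V M : Set G) := by
  by_contra hcon
  push Not at hcon
  set U := UM V M with hU
  obtain ⟨k, hk, H⟩ := b.mt o
  obtain ⟨j, m, hj, hm, hjm⟩ := b.one_lt
  obtain ⟨-, v, hv, ev⟩ := H j m hj hm
  have hzz : z * z = 1 := by rw [← pow_two]; exact (mem_zc.1 hz.1).2.2
  have hzX : z ∈ CenX V R := b.cz_le hz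
  have hzQ : z ∈ ZQ R o := cenX_le_ZQ b.toBTS h o hzX
  -- conjugate by `k⁻¹`
  have hk' : k⁻¹ ∈ normalizer (R o : Set G) := inv_mem hk
  set z₁ := k⁻¹ * z * k with hz₁
  have hz₁Q : z₁ ∈ ZQ R o := conj_inv_mem_of_normalizer (N_le_NZQ o hk) hzQ
  have hz₁z₁ : z₁ * z₁ = 1 := by
    have : z₁ * z₁ = k⁻¹ * (z * z) * k := by rw [hz₁]; group
    rw [this, hzz, mul_one, inv_mul_cancel]
  set U₁ := cj k⁻¹ U with hU₁
  have hQk : cj k⁻¹ (QQ (R o)) = QQ (R o) := cj_eq_self_iff.2 (le_normalizer_O2 _ hk')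
  have hU₁Q : U₁ ≤ QQ (R o) := by
    rw [← hQk]; exact cj_mono hα
  have hone : ∀ a ∈ QQ (R o), ∀ c ∈ QQ (R o), a ∉ centralizer (U₁ : Set G) → c ∉ centralizer (U₁ : Set G) →
      a * c ∈ centralizer (U₁ : Set G) := by
    intro a ha c hc h1 h2
    rw [hU₁, centralizer_cj, mem_cj, inv_inv] at h1 h2 ⊢
    have h3 := hcon (k * a * k⁻¹) (conj_mem_of_normalizer (le_normalizer_O2 _ hk) ha) (k * c * k⁻¹)
      (conj_mem_of_normalizer (le_normalizer_O2 _ hk) hc) h1 h2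
    have e : k * a * k⁻¹ * (k * c * k⁻¹) = k * (a * c) * k⁻¹ := by group
    rwa [e] at h3
  -- `N(R o) ∩ C(z₁)` normalises `U₁`
  have hMU : ∀ g ∈ normalizer (R o : Set G), g * z₁ = z₁ * g → g ∈ normalizer (U₁ : Set G) := by
    intro g hgN hg
    rw [hU₁, normalizer_cj, mem_cj, inv_inv]
    apply le_normalizer_cl V M
    refine hM ⟨mul_mem (mul_mem hk hgN) hk', mem_C.2 ?_⟩
    calc k * g * k⁻¹ * z = k * (g * z₁) * k⁻¹ := by rw [hz₁]; group
      _ = k * (z₁ * g) * k⁻¹ := by rw [hg]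
      _ = z * (k * g * k⁻¹) := by rw [hz₁]; group
  have hV₁ : cj k⁻¹ V ≤ U₁ := cj_mono (le_cl V M)
  -- `R j` does not centralise `U₁`
  obtain ⟨r₂, hr₂1, hr₂₂, hr₂⟩ := b.exists_gen j
  have hr₂j : r₂ ∈ R j := (hr₂ _).2 (Or.inr rfl)
  have hv₁ : k⁻¹ * v * k ∈ U₁ := by
    have := hV₁ (conj_mem_cj (g := k⁻¹) hv)
    rwa [inv_inv] at this
  have hr₂U : r₂ ∉ centralizer (U₁ : Set G) := by
    intro hc
    have h1 := mem_centralizer_iff.1 hc _ hv₁
    have h2 : k⁻¹ * v * k * r₂ * (k⁻¹ * v * k)⁻¹ ∈ R m := by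
      rw [← ev]; exact conj_mem_cj hr₂j
    rw [h1, mul_inv_cancel_right] at h2
    exact hr₂1 (b.eq_one hjm hr₂j h2)
  -- the group `B`
  have hBN : ZQ R j ≤ normalizer (R o : Set G) := (ZQ_le_cen b.toBT j).trans (b.cen_le_N o)
  set B := ZQ R j ⊓ centralizer ({z₁} : Set G) with hB
  have hBp : IsPGroup 2 B := (O2_isPGroup _).to_le (inf_le_left.trans (ZQ_le j))
  have key : ∀ x ∈ B, ∃ a ∈ R j, a * x ∈ CenX V R := by
    -- a Sylow group
    set L := normalizer (R o : Set G) ⊓ centralizer ({z₁} : Set G) with hL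
    have hSL : cj k⁻¹ (S : Subgroup G) ≤ L := by
      rintro _ ⟨s, hs, rfl⟩
      change k⁻¹ * s * k⁻¹⁻¹ ∈ L
      rw [inv_inv]
      refine ⟨mul_mem (mul_mem hk' (b.S_R hs)) hk, mem_centralizer_singleton_iff.2 ?_⟩
      have h1 : s * z = z * s := (mem_zc.1 hz.1).2.1 s hs
      calc k⁻¹ * s * k * z₁ = k⁻¹ * (s * z) * k := by rw [hz₁]; group
        _ = k⁻¹ * (z * s) * k := by rw [h1]
        _ = _ := by rw [hz₁]; group
    have hSL' : ((k⁻¹ • S : Sylow 2 G) : Subgroup G) ≤ L := hSL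
    obtain ⟨g, hg, hBg⟩ := exists_cj_S (k⁻¹ • S) hSL' (inf_le_inf_right _ hBN) hBp
    set k' := g * k⁻¹ with hk'd
    have hk'N : k' ∈ normalizer (R o : Set G) := mul_mem hg.1 hk'
    have hBS : ∀ x ∈ B, ∃ s ∈ (S : Subgroup G), x = k' * s * k'⁻¹ := by
      intro x hx
      obtain ⟨y, hy, rfl⟩ := hBg hx
      obtain ⟨s, hs, rfl⟩ : ∃ s ∈ (S : Subgroup G), k⁻¹ * s * k⁻¹⁻¹ = y := hy
      refine ⟨s, hs, ?_⟩
      change g * (k⁻¹ * s * k⁻¹⁻¹) * g⁻¹ = _
      rw [hk'd]; group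
    -- `V* = V^{k'} ≤ U₁`
    set a := k' * r₂ * k'⁻¹ with ha
    have haU : a ∈ U₁ := by
      have h1 := conj_mem_of_normalizer (hMU g hg.1 (mem_centralizer_singleton_iff.1 hg.2))
        (hV₁ (conj_mem_cj (g := k⁻¹) (b.R_le j hr₂j)))
      have e : a = g * (k⁻¹ * r₂ * k⁻¹⁻¹) * g⁻¹ := by rw [ha, hk'd]; group
      rw [e]; exact h1
    -- an element of `Q o` moving `a`
    obtain ⟨w, hw, ew⟩ := b.trans o hj hm
    have hwQ := b.W_le_Q o hw
    set q := k' * w * k'⁻¹ with hq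
    have hqQ : q ∈ QQ (R o) := conj_mem_of_normalizer (le_normalizer_O2 _ hk'N) hwQ
    have hqa : q * a * q⁻¹ ≠ a := by
      intro h1
      have e : q * a * q⁻¹ = k' * (w * r₂ * w⁻¹) * k'⁻¹ := by rw [hq, ha]; group
      rw [e, ha] at h1
      have h2 : w * r₂ * w⁻¹ = r₂ := mul_left_cancel (mul_right_cancel h1)
      have h3 : w * r₂ * w⁻¹ ∈ R m := by rw [← ew]; exact conj_mem_cj hr₂j
      rw [h2] at h3
      exact hr₂1 (b.eq_one hjm hr₂j h3)
    have hqU : q ∉ centralizer (U₁ : Set G) := by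
      intro hc
      apply hqa
      rw [← mem_centralizer_iff.1 hc a haU, mul_inv_cancel_right]
    have hr₂Q : r₂ ∈ QQ (R o) := b.V_Q o (b.R_le j hr₂j)
    have h1 := hone r₂ hr₂Q q hqQ hr₂U hqU
    have hra : ¬ r₂ * a = a * r₂ := by
      intro h2
      apply hqa
      have h3 := mem_centralizer_iff.1 h1 a haU
      -- `a (r₂ q) = r₂ q a`
      have h4 : r₂ * (a * q) = r₂ * (q * a) := by
        rw [← mul_assoc, h2, mul_assoc, h3, mul_assoc]
      have h5 := mul_left_cancel h4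
      rw [← h5, mul_inv_cancel_right]
    -- `a` maps `R j` to `R m`
    have haQ : a ∈ QQ (R o) := hU₁Q haU
    have haV : a ∈ normalizer (V : Set G) := b.Q_le_NV o haQ
    obtain ⟨l, hl⟩ := b.perm a haV j
    have hlj : l ≠ j := by
      rintro rfl
      apply hra
      have h2 : a * r₂ * a⁻¹ ∈ R l := by rw [← hl]; exact conj_mem_cj hr₂j
      have h3 : a * r₂ * a⁻¹ ≠ 1 := fun h => hr₂1 (conj_eq_one_iff.1 h)
      have h4 := eq_of_card_two (b.card_R l) hr₂j hr₂1 h2 h3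
      rw [mul_inv_eq_iff_eq_mul] at h4
      exact h4.symm
    have hlo : l ≠ o := by
      rintro rfl
      exact hj (b.R_index (cj_injective (hl.trans (cj_eq_self_iff.2 (b.Q_le l haQ)).symm)))
    intro x hx
    obtain ⟨s, hs, ex⟩ := hBS x hx
    -- `[x, a] ∈ R o`
    have h2 : x * a * x⁻¹ * a⁻¹ ∈ R o := by
      have h3 := conj_mem_of_normalizer hk'N (comm_mem_R b (b.S_V hs) (b.S_R hs) (b.R_le j hr₂j))
      have e : x * a * x⁻¹ * a⁻¹ = k' * (s * r₂ * s⁻¹ * r₂⁻¹) * k'⁻¹ := by rw [ex, ha]; group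
      rw [e]; exact h3
    have h3 : x ∈ QQ (R l) := by
      have h4 : a * x * a⁻¹ ∈ QQ (R l) := by
        have h5 : a * x * a⁻¹ ∈ ZQ R l := by
          rw [← cj_ZQ b.toBT hl]; exact conj_mem_cj hx.1
        exact ZQ_le l h5
      have e : x = (x * a * x⁻¹ * a⁻¹) * (a * x * a⁻¹) := by group
      rw [e]
      exact mul_mem (b.V_Q l (b.R_le o h2)) h4
    exact ZQ_Q b.toBTS (Ne.symm hlj) hx.1 h3
  -- `z₁^σ ∈ B`
  obtain ⟨σ, hσ, eσ⟩ := b.trans m (Ne.symm hm) hjm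
  have hσQ := b.W_le_Q m hσ
  have hσV : σ ∈ normalizer (V : Set G) := b.Q_le_NV m hσQ
  have h1 := ZQ_swap b.toBTS h (Ne.symm hj) hσQ eσ hz₁Q hz₁z₁
  have h2 : σ * z₁ * σ⁻¹ ∈ B := by
    refine ⟨?_, ?_⟩
    · rw [← cj_ZQ b.toBT eσ]; exact conj_mem_cj hz₁Q
    · exact mem_centralizer_singleton_iff.2 h1.symm
  obtain ⟨a, ha, h3⟩ := key _ h2
  -- `z₁ ∈ R o C_X`
  have h4 : σ⁻¹ * a * σ ∈ R o := by
    rw [← eσ] at ha
    exact mem_cj.1 ha
  have h5 : σ⁻¹ * a * σ * z₁ ∈ CenX V R := by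
    have h6 := conj_inv_mem_of_normalizer (b.NV_le_NCenX hσV) h3
    have e : σ⁻¹ * (a * (σ * z₁ * σ⁻¹)) * σ = σ⁻¹ * a * σ * z₁ := by group
    rwa [e] at h6
  -- `Z(Q j)` centralises `z₁`
  have h6 : ZQ R j ≤ B := by
    intro x hx
    refine ⟨hx, mem_centralizer_singleton_iff.2 ?_⟩
    have h7 : σ⁻¹ * a * σ * x = x * (σ⁻¹ * a * σ) := mem_centralizer_iff.1 (ZQ_le_cen b.toBT j hx) _ (b.R_le o h4)
    have h8 : σ⁻¹ * a * σ * z₁ * x = x * (σ⁻¹ * a * σ * z₁) := cenX_Q b.toBTS (h j) h5 (ZQ_le j hx)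
    have h9 : σ⁻¹ * a * σ * (z₁ * x) = σ⁻¹ * a * σ * (x * z₁) := by
      rw [← mul_assoc, h8, ← mul_assoc, ← h7, mul_assoc]
    exact (mul_left_cancel h9).symm
  exact ZQ_not_RC b.toBTS h hzX hz1 j fun l hl => key l (h6 hl)

variable {r : G} (hr : ∀ x, x ∈ R o ↔ x = 1 ∨ x = r)
include hr

/-- `MP ≤ C(z)` -/
theorem MP_le {z : G} (hz : z ∈ zc (S : Subgroup G) ⊓ centralizer (P : Set G)) (hz1 : z ≠ 1) :
    MP V R o z ≤ centralizer ({z} : Set G) := by
  have _ := hr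
  exact sup_le inf_le_right (b.dt hz hz1).X_M

/-- `[W, Q o] ≤ R o` forces `W ≤ Q o` -/
theorem le_Q_of_comm {W : Subgroup G} (hW : W ≤ normalizer (R o : Set G))
    (h : ∀ w ∈ W, ∀ q ∈ QQ (R o), w * q * w⁻¹ * q⁻¹ ∈ R o) : W ≤ QQ (R o) := by
  have _ := hr
  rw [← b.toBTS.K_eq o]
  exact fun w hw => ⟨hW hw, fun d hd => h w hw d (b.W_le_Q o hd)⟩

/-- elements of `V` are conjugate to `r` under `X` -/
theorem exists_conj_X {v : G} (hv : v ∈ V) (hv1 : v ≠ 1) : ∃ c ∈ XX V R, c * r * c⁻¹ = v := by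
  obtain ⟨j, hj⟩ := b.R_cov v hv
  obtain ⟨x, hx, e⟩ := b.trans_X_one o j
  refine ⟨x, hx, ?_⟩
  have h1 : x * r * x⁻¹ ∈ R j := by rw [← e]; exact conj_mem_cj (r_mem b hr)
  have h2 : x * r * x⁻¹ ≠ 1 := fun h => r_ne b hr (conj_eq_one_iff.1 h)
  exact eq_of_card_two (b.card_R j) hj hv1 h1 h2

/-- (4), (5), (6) of #15368 -/
theorem part_B (hLE : ∀ i, LE V R i) {z : G}
    (hz : z ∈ zc (S : Subgroup G) ⊓ centralizer (P : Set G)) (hz1 : z ≠ 1) {W U : Subgroup G}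
    (hW : NatC (MP V R o z) U W r) (hWQ : W ≤ QQ (R o)) (hVW : V ≤ W)
    {w₂ c₂ : G} (hw₂ : w₂ ∈ W) (hc₂ : c₂ * (z * r) = z * r * c₂)
    (hne : c₂ * r * c₂⁻¹ * w₂ ≠ w₂ * (c₂ * r * c₂⁻¹)) : False := by
  have bs := b.toBTS
  have hr1 := r_ne b hr
  have hr2 := r_sq b hr
  have hrR := r_mem b hr
  have hNr := fun g => @mem_N_iff G _ ι _ S P V R o b r hr g
  set M := MP V R o z with hM
  have hMz : M ≤ centralizer ({z} : Set G) := MP_le b hr hz hz1
  have hKM : normalizer (R o : Set G) ⊓ centralizer ({z} : Set G) ≤ M := le_sup_left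
  -- `z`
  have hz2 : z * z = 1 := by rw [← pow_two]; exact (mem_zc.1 hz.1).2.2
  have hSz : ∀ s ∈ (S : Subgroup G), s * z = z * s := (mem_zc.1 hz.1).2.1
  have hSr : ∀ s ∈ (S : Subgroup G), s * r = r * s := fun s hs => (hNr s).1 (b.S_R hs)
  have hzX : z ∈ CenX V R := b.cz_le hz
  have hzQ : z ∈ ZQ R o := cenX_le_ZQ bs hLE o hzX
  have hrQ : r ∈ ZQ R o := R_le_ZQ b.toBT o hrR
  have hrz : r * z = z * r := ZQ_comm hzQ (ZQ_le o hrQ)
  have hWc : ∀ a ∈ W, ∀ c ∈ W, a * c = c * a := fun a ha c hc => Omega.TV.EA.comm_of hW.sq ha hc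
  -- `y = z r`
  obtain ⟨y, hy⟩ : ∃ y, y = z * r := ⟨_, rfl⟩
  rw [← hy] at hc₂
  have hy2 : y * y = 1 := by
    rw [hy]
    calc z * r * (z * r) = z * (r * z) * r := by group
      _ = z * z * (r * r) := by rw [hrz]; group
      _ = 1 := by rw [hr2, hz2, mul_one]
  have hy1 : y ≠ 1 := by
    intro e
    have h5 : z = r := by
      calc z = z * (r * r) := by rw [hr2, mul_one]
        _ = (z * r) * r := by group
        _ = r := by rw [← hy, e, one_mul]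
    have h6 : r ∈ V ⊓ (zc (S : Subgroup G) ⊓ centralizer (P : Set G)) :=
      ⟨b.R_le o hrR, by rw [← h5]; exact hz⟩
    rw [b.R_inf_cz, mem_bot] at h6
    exact hr1 h6
  have hSy : ∀ s ∈ (S : Subgroup G), s * y = y * s := by
    intro s hs
    rw [hy, ← mul_assoc, hSz s hs, mul_assoc, hSr s hs, ← mul_assoc]
  have hyQ : y ∈ ZQ R o := by rw [hy]; exact mul_mem hzQ hrQ
  have hQy : ∀ q ∈ QQ (R o), q ∈ centralizer ({y} : Set G) := fun q hq => mem_C.2 (ZQ_comm hyQ hq)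
  have hzy : z = y * r := by rw [hy, mul_assoc, hr2, mul_one]
  -- `C(y) ∩ C(r) = C(z) ∩ C(r)`
  have hCzy : ∀ g : G, g * r = r * g → (g ∈ centralizer ({z} : Set G) ↔ g ∈ centralizer ({y} : Set G)) := by
    intro g hg
    rw [mem_C, mem_C]
    constructor
    · intro h5
      rw [hy, ← mul_assoc, h5, mul_assoc, hg, ← mul_assoc]
    · intro h5
      rw [hzy, ← mul_assoc, h5, mul_assoc, hg, ← mul_assoc]
  set C₁ := centralizer ({y} : Set G) with hC₁
  set U₁ := cl (R o) C₁ with hU₁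
  have hUz₁ : U₁ ≤ zc (o2 C₁) := cl_le_zc b hr hy1 hy2 hSy
  have hUsq₁ : ∀ x ∈ U₁, x * x = 1 := fun x hx => by rw [← pow_two]; exact (mem_zc.1 (hUz₁ hx)).2.2
  have hUcm₁ : ∀ x ∈ U₁, ∀ y ∈ U₁, x * y = y * x := fun x hx y hy =>
    (mem_zc.1 (hUz₁ hy)).2.1 x (zc_le _ (hUz₁ hx))
  have hrU₁ : r ∈ U₁ := le_cl _ _ hrR
  have hU₁C : ∀ n ∈ U₁, n ∈ C₁ := fun n hn => o2_le _ (zc_le _ (hUz₁ hn))
  have hU₁r : ∀ n ∈ U₁, n * r = r * n := fun n hn => hUcm₁ n hn r hrU₁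
  have hnU₁ : C₁ ≤ normalizer (U₁ : Set G) := le_normalizer_cl _ _
  have hpU₁ : c₂ * r * c₂⁻¹ ∈ U₁ := conj_mem_of_normalizer (hnU₁ (mem_C.2 hc₂)) hrU₁
  -- the group `K = N(R o) ∩ C(z)` normalises `W`
  have hKW : ∀ c : G, c * r = r * c → c ∈ C₁ → ∀ x ∈ W, c * x * c⁻¹ ∈ W := by
    intro c hcr hc
    refine hW.blk c (hKM ⟨(hNr c).2 hcr, (hCzy c hcr).2 hc⟩) r hW.mem hr1 ?_
    rw [hcr, mul_inv_cancel_right]
    exact hW.mem
  have hMC : ∀ c ∈ M, c * r = r * c → c ∈ C₁ := fun c hc hcr => (hCzy c hcr).1 (hMz hc)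
  have hWC₁ : ∀ x ∈ W, x ∈ C₁ := fun x hx => hQy x (hWQ hx)
  -- `W ∩ U₁ = ⟨r⟩`
  have hWU : ∀ x ∈ W, x ∈ U₁ → x = 1 ∨ x = r := by
    rcases hW.irr r hW.mem hr1 (W ⊓ U₁) inf_le_left ⟨hW.mem, hrU₁⟩ (by
      rintro c hc hcr a ⟨ha, ha'⟩
      exact ⟨hKW c hcr (hMC c hc hcr) a ha, conj_mem_of_normalizer (hnU₁ (hMC c hc hcr)) ha'⟩) with h5 | h5
    · exact fun x hx hx' => h5 x ⟨hx, hx'⟩
    · exact absurd (hUcm₁ _ hpU₁ _ (h5 hw₂).2) hne
  have hact : ∀ t ∈ W, ∀ n ∈ U₁, t * n * t⁻¹ = n ∨ t * n * t⁻¹ = n * r := by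
    intro t ht n hn
    have h5 : t * n * t⁻¹ ∈ U₁ := conj_mem_of_normalizer (hnU₁ (hWC₁ t ht)) hn
    have h6 : n * t⁻¹ * n⁻¹ ∈ W := hKW n (hU₁r n hn) (hU₁C n hn) _ (inv_mem ht)
    have h7 : t * n * t⁻¹ * n⁻¹ ∈ W := by
      have e : t * n * t⁻¹ * n⁻¹ = t * (n * t⁻¹ * n⁻¹) := by group
      rw [e]; exact mul_mem ht h6
    rcases hWU _ h7 (mul_mem h5 (inv_mem hn)) with h8 | h8
    · left; exact mul_inv_eq_one.1 h8
    · right
      rw [mul_inv_eq_iff_eq_mul] at h8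
      rw [h8]
      exact hUcm₁ r hrU₁ n hn
  have hcen : ∀ x ∈ W, (∀ n ∈ U₁, x * n * x⁻¹ = n) → x = 1 ∨ x = r := by
    rcases hW.irr r hW.mem hr1 (W ⊓ centralizer (U₁ : Set G)) inf_le_left
        ⟨hW.mem, mem_centralizer_iff.2 fun n hn => hU₁r n hn⟩ (by
      rintro c hc hcr a ⟨ha, ha'⟩
      exact ⟨hKW c hcr (hMC c hc hcr) a ha, conj_mem_of_normalizer
        (normalizer_le_normalizer_centralizer _ (hnU₁ (hMC c hc hcr))) ha'⟩) with h5 | h5
    · intro x hx hx'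
      exact h5 x ⟨hx, mem_centralizer_iff.2 fun n hn => (mul_inv_eq_iff_eq_mul.1 (hx' n hn)).symm⟩
    · exact absurd (mem_centralizer_iff.1 (h5 hw₂).2 _ hpU₁) hne
  have hmv : ∀ x ∈ W, (x ≠ 1 ∧ x ≠ r) → ∃ n ∈ U₁, x * n * x⁻¹ ≠ n := by
    rintro x hx ⟨hx1, hx2⟩
    by_contra hcon
    push Not at hcon
    rcases hcen x hx hcon with h5 | h5
    · exact hx1 h5
    · exact hx2 h5
  -- `W₁`
  obtain ⟨a, ha, c, hc, hna, hnc, hnac⟩ := natC_two hW hr2
  obtain ⟨W₁, hW₁⟩ := natC_of_sylow S (fun s hs => mem_C.2 (hSy s hs)) hSr hr hr1 hUsq₁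
    (hWC₁ a ha) (hWC₁ c hc) (hact a ha) (hact c hc) (hmv a ha hna) (hmv c hc hnc)
    (hmv _ (mul_mem ha hc) hnac)
  have hπW₁ : c₂ * r * c₂⁻¹ ∈ W₁ := by
    refine hW₁.adj r hW₁.mem hr1 w₂ (hWC₁ w₂ hw₂) (hact w₂ hw₂) c₂ (mem_C.2 hc₂) ?_
    intro e
    exact hne (mul_inv_eq_iff_eq_mul.1 e).symm
  have hW₁U : W₁ ≤ U₁ := hW₁.W_le
  have hW₁N : W₁ ≤ normalizer (R o : Set G) := fun x hx => (hNr x).2 (hU₁r x (hW₁U hx))
  -- `K` normalises `W₁`
  have hKW₁ : ∀ c ∈ C₁, c * r = r * c → ∀ x ∈ W₁, c * x * c⁻¹ ∈ W₁ := by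
    intro c hc hcr
    refine hW₁.blk c hc r hW₁.mem hr1 ?_
    rw [hcr, mul_inv_cancel_right]
    exact hW₁.mem
  -- (5)
  have hW₁Q : W₁ ≤ QQ (R o) := by
    rcases hW₁.irr r hW₁.mem hr1 (W₁ ⊓ QQ (R o)) inf_le_left ⟨hW₁.mem, ZQ_le o hrQ⟩ (by
      rintro c hc hcr x ⟨hx, hx'⟩
      exact ⟨hKW₁ c hc hcr x hx, conj_mem_of_normalizer (le_normalizer_O2 _ ((hNr c).2 hcr)) hx'⟩) with h5 | h5
    · refine le_Q_of_comm b hr hW₁N fun w hw q hq => ?_
      have h6 : w * q * w⁻¹ ∈ QQ (R o) := conj_mem_of_normalizer (le_normalizer_O2 _ (hW₁N hw)) hq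
      have hqr : q * r = r * q := ZQ_comm hrQ hq
      have h7 : q * w⁻¹ * q⁻¹ ∈ W₁ := hKW₁ q (hQy q hq) hqr _ (inv_mem hw)
      have h8 : w * q * w⁻¹ * q⁻¹ ∈ W₁ := by
        have e : w * q * w⁻¹ * q⁻¹ = w * (q * w⁻¹ * q⁻¹) := by group
        rw [e]; exact mul_mem hw h7
      exact (hr _).2 (h5 _ ⟨h8, (QQ (R o)).mul_mem h6 ((QQ (R o)).inv_mem hq)⟩)
    · exact h5.trans inf_le_right
  -- (6)
  have hW₁V : ∃ x ∈ W₁, x ∉ centralizer (V : Set G) := by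
    by_contra hcon
    push Not at hcon
    rcases hW.irr r hW.mem hr1 (W ⊓ centralizer (W₁ : Set G)) inf_le_left
        ⟨hW.mem, mem_centralizer_iff.2 fun n hn => hU₁r n (hW₁U hn)⟩ (by
      rintro c hc hcr a ⟨ha, ha'⟩
      refine ⟨hKW c hcr (hMC c hc hcr) a ha, mem_centralizer_iff.2 fun x hx => ?_⟩
      have hci : c⁻¹ * r = r * c⁻¹ := by
        rw [inv_mul_eq_iff_eq_mul, ← mul_assoc, hcr, mul_inv_cancel_right]
      have h1 := hKW₁ c⁻¹ (inv_mem (hMC c hc hcr)) hci x hx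
      rw [inv_inv] at h1
      have h2 := mem_centralizer_iff.1 ha' _ h1
      calc x * (c * a * c⁻¹) = c * ((c⁻¹ * x * c) * a) * c⁻¹ := by group
        _ = c * (a * (c⁻¹ * x * c)) * c⁻¹ := by rw [h2]
        _ = c * a * c⁻¹ * x := by group) with h5 | h5
    · -- `V ≤ {1, r}`
      obtain ⟨j, -, hj, -, -⟩ := b.one_lt
      obtain ⟨e, he, he1⟩ := b.exists_ne j
      have heV := b.R_le j he
      have h6 : e ∈ centralizer (W₁ : Set G) := mem_centralizer_iff.2 fun x hx =>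
        (mem_centralizer_iff.1 (hcon x hx) e heV).symm
      rcases h5 e ⟨hVW heV, h6⟩ with h7 | h7
      · exact he1 h7
      · apply he1
        refine b.eq_one (Ne.symm hj) ?_ he
        rw [h7]; exact hrR
    · exact hne (mem_centralizer_iff.1 (h5 hw₂).2 _ hπW₁)
  obtain ⟨x, hx, hxV⟩ := hW₁V
  obtain ⟨j, -, hj, -, -⟩ := b.one_lt
  have hW₁Z : ∀ x ∈ W₁, x ∈ ZQ R o → x ∈ R o := by
    rcases hW₁.irr r hW₁.mem hr1 (W₁ ⊓ ZQ R o) inf_le_left ⟨hW₁.mem, hrQ⟩ (by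
      rintro c hc hcr x ⟨hx, hx'⟩
      exact ⟨hKW₁ c hc hcr x hx, conj_mem_of_normalizer (N_le_NZQ o ((hNr c).2 hcr)) hx'⟩) with h5 | h5
    · exact fun x hx hx' => (hr x).2 (h5 x ⟨hx, hx'⟩)
    · exact absurd (ZQ_le_cen b.toBT o (h5 hx).2) hxV
  refine lemX_false bs hLE (Ne.symm hj) (fun x hx => (hr x).1 hx) hW₁Q
    (fun a ha c hc => hUcm₁ a (hW₁U ha) c (hW₁U hc)) (j := j) ?_ hx hxV hW₁Z hzX hz1
  intro e he x hx
  have her : e * r = r * e := (mem_centralizer_iff.1 (EE_le_cen j he) r (b.R_le o hrR)).symm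
  have hez : e ∈ centralizer ({z} : Set G) := mem_C.2 (cenX_Q bs (hLE j) hzX (EE_le_Q j he)).symm
  exact hKW₁ e ((hCzy e her).1 hez) her x hx

/-- **#15368**, `|T| ≥ 4` -/
theorem not_alpha_aux {z : G} (hz : z ∈ zc (S : Subgroup G) ⊓ centralizer (P : Set G)) (hz1 : z ≠ 1) :
    ¬ UM V (MP V R o z) ≤ QQ (R o) := by
  intro hα
  have hLE := Alpha.HT.le_all b
  have bs := b.toBTS
  have d := b.dt hz hz1
  have hr1 := r_ne b hr
  have hr2 := r_sq b hr
  have hrR := r_mem b hr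
  have hNr := fun g => @mem_N_iff G _ ι _ S P V R o b r hr g
  obtain ⟨M, hM⟩ : ∃ M, M = MP V R o z := ⟨_, rfl⟩
  have hMz : M ≤ centralizer ({z} : Set G) := by rw [hM]; exact MP_le b hr hz hz1
  have hKM : normalizer (R o : Set G) ⊓ centralizer ({z} : Set G) ≤ M := by rw [hM]; exact le_sup_left
  have hXM : XX V R ≤ M := by rw [hM]; exact le_sup_right
  have hz2 : z * z = 1 := by rw [← pow_two]; exact (mem_zc.1 hz.1).2.2
  have hSz : ∀ s ∈ (S : Subgroup G), s * z = z * s := (mem_zc.1 hz.1).2.1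
  have hSr : ∀ s ∈ (S : Subgroup G), s * r = r * s := fun s hs => (hNr s).1 (b.S_R hs)
  have hzX : z ∈ CenX V R := b.cz_le hz
  have hzQ : z ∈ ZQ R o := cenX_le_ZQ bs hLE o hzX
  have hrQ : r ∈ ZQ R o := R_le_ZQ b.toBT o hrR
  have hQz : ∀ q ∈ QQ (R o), q ∈ centralizer ({z} : Set G) := fun q hq => mem_C.2 (ZQ_comm hzQ hq)
  have hQM : ∀ q ∈ QQ (R o), q ∈ M := fun q hq => hKM ⟨b.Q_le o hq, hQz q hq⟩
  have hSM : (S : Subgroup G) ≤ M := fun s hs => hKM ⟨b.S_R hs, mem_C.2 (hSz s hs)⟩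
  rw [← hM] at hα
  obtain ⟨a, ha, c, hc, hna, hnc, hnac⟩ := alpha_two b hLE hz hz1 hKM hα
  have hUeq : cl (R o) M = UM V M := b.cl_R_eq (b.trans_of_X hXM)
  rw [← hUeq] at hα hna hnc hnac
  have hUz := cl_le_zc b hr hz1 hz2 hSz
  have hUle : cl (R o) M ≤ cl (R o) (centralizer ({z} : Set G)) := iSup_le fun m => cj_le_cl (hMz m.2)
  set Uf := cl (R o) (centralizer ({z} : Set G)) with hUf
  have hUfcm : ∀ x ∈ Uf, ∀ y ∈ Uf, x * y = y * x := fun x hx y hy =>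
    (mem_zc.1 (hUz hy)).2.1 x (zc_le _ (hUz hx))
  set U := cl (R o) M with hU
  have hUsq : ∀ x ∈ U, x * x = 1 := fun x hx => by
    rw [← pow_two]; exact (mem_zc.1 (hUz (hUle hx))).2.2
  -- `Q o` acts on `U` as transvections
  have hQU : ∀ q ∈ QQ (R o), ∀ n ∈ U, q * n * q⁻¹ = n ∨ q * n * q⁻¹ = n * r := by
    intro q hq n hn
    have h5 := Q_comm bs (hLE o) hq (hα hn)
    rcases (hr _).1 h5 with h6 | h6
    · left; exact mul_inv_eq_one.1 h6
    · right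
      rw [mul_inv_eq_iff_eq_mul] at h6
      rw [h6]
      exact (b.QR o n (hα hn) r hrR).symm
  have hmv : ∀ q : G, q ∉ centralizer (U : Set G) → ∃ n ∈ U, q * n * q⁻¹ ≠ n := by
    intro q hq
    by_contra hcon
    push Not at hcon
    exact hq (mem_centralizer_iff.2 fun n hn => (mul_inv_eq_iff_eq_mul.1 (hcon n hn)).symm)
  obtain ⟨W, hW⟩ := natC_of_sylow S hSM hSr hr hr1 hUsq (hQM a ha)
    (hQM c hc) (hQU a ha) (hQU c hc) (hmv a hna) (hmv c hnc) (hmv _ hnac)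
  rw [← hU] at hW
  have hWU : W ≤ U := hW.W_le
  have hWQ : W ≤ QQ (R o) := hWU.trans hα
  -- `V ≤ W`
  have hVW : V ≤ W := by
    obtain ⟨t, ht, v, hv, hne⟩ := exists_mv b hr
    have hv1 : v ≠ 1 := by
      rintro rfl
      exact hne (by rw [mul_one, one_mul])
    obtain ⟨c, hc, e⟩ := exists_conj_X b hr hv hv1
    have h1 := hW.adj r hW.mem hr1 t (hQM t ht) (hQU t ht) c (hXM hc) (by
      rw [e]
      intro h
      exact hne (mul_inv_eq_iff_eq_mul.1 h))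
    rw [e] at h1
    have h2 := cj_V_le b hr (k := 1) (one_mem _) hW.mem (v := v) (by rw [cj_one]; exact hv) (by
      intro hvo
      apply hne
      have h3 := ((hr v).1 hvo).resolve_left hv1
      rw [h3]
      exact b.QR o t ht r hrR) h1
    rwa [cj_one] at h2
  have hKW : ∀ c : G, c * r = r * c → c * z = z * c → ∀ x ∈ W, c * x * c⁻¹ ∈ W := by
    intro c hcr hc
    refine hW.blk c (hKM ⟨(hNr c).2 hcr, mem_C.2 hc⟩) r hW.mem hr1 ?_
    rw [hcr, mul_inv_cancel_right]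
    exact hW.mem
  -- `V^h`
  obtain ⟨h, hh, a₀, ha₀, c₀, hc₀, hne₀⟩ := exists_h b hr
  have hhr : h * r = r * h := (hNr h).1 hh
  have hhr' : h⁻¹ * r = r * h⁻¹ := (hNr h⁻¹).1 (inv_mem hh)
  obtain ⟨y, hy⟩ : ∃ y, y = h * z * h⁻¹ := ⟨_, rfl⟩
  have hzy : z = h⁻¹ * y * h := by rw [hy]; group
  have hyQ : y ∈ ZQ R o := by rw [hy]; exact conj_mem_of_normalizer (N_le_NZQ o hh) hzQ
  have hyy : y * y = 1 := by
    rw [hy]
    calc h * z * h⁻¹ * (h * z * h⁻¹) = h * (z * z) * h⁻¹ := by group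
      _ = 1 := by rw [hz2, mul_one, mul_inv_cancel]
  have hcV : c₀ ∉ centralizer (V : Set G) := fun hc => hne₀ (mem_centralizer_iff.1 hc a₀ ha₀)
  have hW'n : ∀ c : G, c * y = y * c → c * r = r * c → ∀ x ∈ cj h W, c * x * c⁻¹ ∈ cj h W := by
    rintro c hcy hcr _ ⟨x, hx, rfl⟩
    change c * (h * x * h⁻¹) * c⁻¹ ∈ cj h W
    have h1 : (h⁻¹ * c * h) * z = z * (h⁻¹ * c * h) := by
      rw [hzy]
      calc h⁻¹ * c * h * (h⁻¹ * y * h) = h⁻¹ * (c * y) * h := by group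
        _ = h⁻¹ * (y * c) * h := by rw [hcy]
        _ = _ := by group
    have h2 : (h⁻¹ * c * h) * r = r * (h⁻¹ * c * h) := by
      calc h⁻¹ * c * h * r = h⁻¹ * c * (h * r) := by group
        _ = h⁻¹ * (c * r) * h := by rw [hhr]; group
        _ = (h⁻¹ * r) * c * h := by rw [hcr]; group
        _ = r * (h⁻¹ * c * h) := by rw [hhr']; group
    have h3 := hKW _ h2 h1 x hx
    have e : c * (h * x * h⁻¹) * c⁻¹ = h * (h⁻¹ * c * h * x * (h⁻¹ * c * h)⁻¹) * h⁻¹ := by group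
    rw [e]
    exact conj_mem_cj h3
  have hW'Q : cj h W ≤ QQ (R o) := by
    have h1 := cj_mono (g := h) hWQ
    rwa [cj_eq_self_iff.2 (le_normalizer_O2 _ hh)] at h1
  have hW'sq : ∀ x ∈ cj h W, x * x = 1 := by
    rintro _ ⟨x, hx, rfl⟩
    change h * x * h⁻¹ * (h * x * h⁻¹) = 1
    calc h * x * h⁻¹ * (h * x * h⁻¹) = h * (x * x) * h⁻¹ := by group
      _ = 1 := by rw [hW.sq x hx, mul_one, mul_inv_cancel]
  obtain ⟨j, -, hj, -, -⟩ := b.one_lt
  rcases four' bs hj hr hyy hyQ hW'Q hW'sq hW'n (by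
    rintro _ ⟨w, hw, rfl⟩ hw1
    change h * w * h⁻¹ ≠ 1 at hw1
    have hw1' : w ≠ 1 := fun e => hw1 (by rw [e, mul_one, mul_inv_cancel])
    obtain ⟨k, hk, e⟩ := hW.pt w hw hw1'
    have hkz := mem_C.1 (hMz hk)
    refine ⟨h * k * h⁻¹, ?_, ?_, ?_⟩
    · rw [hy]
      calc h * k * h⁻¹ * (h * z * h⁻¹) = h * (k * z) * h⁻¹ := by group
        _ = h * (z * k) * h⁻¹ := by rw [hkz]
        _ = _ := by group
    · change _ = h * w * h⁻¹
      calc h * k * h⁻¹ * r * (h * k * h⁻¹)⁻¹ = h * k * (h⁻¹ * r) * h * k⁻¹ * h⁻¹ := by group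
        _ = h * (k * r * k⁻¹) * h⁻¹ := by rw [hhr']; group
        _ = h * w * h⁻¹ := by rw [e]
    · rintro _ ⟨x, hx, rfl⟩
      change (h * k * h⁻¹)⁻¹ * (h * x * h⁻¹) * (h * k * h⁻¹) ∈ cj h W
      have h1 := hW.blk k⁻¹ (inv_mem hk) w hw hw1' (by
        rw [← e]
        have e2 : k⁻¹ * (k * r * k⁻¹) * k⁻¹⁻¹ = r := by group
        rw [e2]; exact hW.mem) x hx
      have e2 : (h * k * h⁻¹)⁻¹ * (h * x * h⁻¹) * (h * k * h⁻¹) = h * (k⁻¹ * x * k⁻¹⁻¹) * h⁻¹ := by group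
      rw [e2]
      exact conj_mem_cj h1) (cj_mono hVW hc₀) hcV with ⟨a, ha, hX⟩ | ⟨w₁, hw₁, c₁, hc₁, hne₁⟩
  · rcases (hr a).1 ha with rfl | rfl
    · -- `y ∈ C_X`
      rw [one_mul] at hX
      have e1 : cl (R o) (centralizer ({y} : Set G)) = cj h Uf := by
        rw [hUf, AlphaFive.cj_cl, AlphaFive.cj_C, ← hy, cj_eq_self_iff.2 hh]
      have h1 : V ≤ cj h Uf := by
        rw [← e1]
        have := AlphaFive.cj_le_cl_of b hr (k := 1) (y := y) (one_mem _) (by rw [cj_one]; exact hX)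
        rwa [cj_one] at this
      have h2 : cj h V ≤ cj h Uf := by
        apply cj_mono
        have := AlphaFive.cj_le_cl_of b hr (k := 1) (y := z) (one_mem _) (by rw [cj_one]; exact hzX)
        rwa [cj_one] at this
      apply hne₀
      obtain ⟨x, hx, e3⟩ := h1 ha₀
      obtain ⟨x', hx', e4⟩ := h2 hc₀
      rw [← e3, ← e4]
      change h * x * h⁻¹ * (h * x' * h⁻¹) = h * x' * h⁻¹ * (h * x * h⁻¹)
      calc h * x * h⁻¹ * (h * x' * h⁻¹) = h * (x * x') * h⁻¹ := by group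
        _ = h * (x' * x) * h⁻¹ := by rw [hUfcm x hx x' hx']
        _ = _ := by group
    · -- `r y ∈ C_X`
      refine lemX_false bs hLE (Ne.symm hj) (fun x hx => (hr x).1 hx) hW'Q
        (fun a ha c hc => Omega.TV.EA.comm_of hW'sq ha hc) (j := j) ?_ (cj_mono hVW hc₀) hcV ?_ hzX hz1
      · intro e he
        have her : e * a = a * e := (mem_centralizer_iff.1 (EE_le_cen j he) a (b.R_le o hrR)).symm
        refine hW'n e ?_ her
        have h1 : a * y * e = e * (a * y) := cenX_Q bs (hLE j) hX (EE_le_Q j he)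
        have h2 : a * (y * e) = a * (e * y) := by
          rw [← mul_assoc, h1, ← mul_assoc, her, mul_assoc]
        exact (mul_left_cancel h2).symm
      · have h0 : ∀ x ∈ W, x ∈ ZQ R o → x = 1 ∨ x = a := by
          rcases hW.irr a hW.mem hr1 (W ⊓ ZQ R o) inf_le_left ⟨hW.mem, hrQ⟩ (by
            rintro c hc hcr x ⟨hx, hx'⟩
            exact ⟨hKW c hcr (mem_C.1 (hMz hc)) x hx,
              conj_mem_of_normalizer (N_le_NZQ o ((hNr c).2 hcr)) hx'⟩) with h5 | h5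
          · exact fun x hx hx' => h5 x ⟨hx, hx'⟩
          · exfalso
            obtain ⟨t, ht, v, hv, hne⟩ := exists_mv b hr
            exact hne (ZQ_comm (h5 (hVW hv)).2 ht)
        rintro _ ⟨x, hx, rfl⟩ hxZ
        change h * x * h⁻¹ ∈ ZQ R o at hxZ
        change h * x * h⁻¹ ∈ R o
        have h1 : x ∈ ZQ R o := by
          have h2 := conj_inv_mem_of_normalizer (N_le_NZQ o hh) hxZ
          have e : h⁻¹ * (h * x * h⁻¹) * h = x := by group
          rwa [e] at h2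
        exact conj_mem_of_normalizer hh ((hr x).2 (h0 x hx h1))
  · -- conjugate back
    obtain ⟨w₂, hw₂, rfl⟩ := hw₁
    change c₁ * r * c₁⁻¹ * (h * w₂ * h⁻¹) ≠ h * w₂ * h⁻¹ * (c₁ * r * c₁⁻¹) at hne₁
    rw [hM] at hW
    refine part_B b hr hLE hz hz1 hW hWQ hVW (w₂ := w₂) (c₂ := h⁻¹ * c₁ * h) hw₂ ?_ ?_
    · have e : z * r = h⁻¹ * (y * r) * h := by
        rw [hzy]
        calc h⁻¹ * y * h * r = h⁻¹ * y * (h * r) := by group
          _ = h⁻¹ * (y * r) * h := by rw [hhr]; group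
      rw [e]
      calc h⁻¹ * c₁ * h * (h⁻¹ * (y * r) * h) = h⁻¹ * (c₁ * (y * r)) * h := by group
        _ = h⁻¹ * (y * r * c₁) * h := by rw [hc₁]
        _ = _ := by group
    · intro e
      apply hne₁
      have e1 : h⁻¹ * c₁ * h * r * (h⁻¹ * c₁ * h)⁻¹ = h⁻¹ * (c₁ * r * c₁⁻¹) * h := by
        calc h⁻¹ * c₁ * h * r * (h⁻¹ * c₁ * h)⁻¹ = h⁻¹ * c₁ * (h * r) * h⁻¹ * c₁⁻¹ * h := by group
          _ = _ := by rw [hhr]; group
      rw [e1] at e
      calc c₁ * r * c₁⁻¹ * (h * w₂ * h⁻¹) = h * (h⁻¹ * (c₁ * r * c₁⁻¹) * h * w₂) * h⁻¹ := by group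
        _ = h * (w₂ * (h⁻¹ * (c₁ * r * c₁⁻¹) * h)) * h⁻¹ := by rw [e]
        _ = _ := by group

end two

/-- **(α) is dead for the small group `M' = ⟨C_{H₁}(z), X⟩`** (#14489, #15368) -/
theorem not_alpha' {G : Type u} [Group G] [Finite G] {ι : Type*} {S : Sylow 2 G} {P V : Subgroup G}
    {R : ι → Subgroup G} {o : ι} (b : HT S P V R o) {z : G}
    (hz : z ∈ zc (S : Subgroup G) ⊓ centralizer (P : Set G)) (hz1 : z ≠ 1) :
    ¬ UM V (MP V R o z) ≤ QQ (R o) := by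
  obtain ⟨r, hr1, hrr, hr⟩ := b.exists_gen o
  exact not_alpha_aux b hr hz hz1

end Cfsg.Agent.Omega.HTwo.AlphaP

end

section


/-!
# II.0h1, `q = 2`, over a 2-group `S` (`HTT`): case (α) for `M' = ⟨C_{H₁}(z), X⟩` (#15368, #18182, #18272)

* `alpha_two` : (2) of #14489;
* `part_B` : (4), (5), (6) of #15368 with an abstract module `Y` for `C(z r)`: `r ∈ Y ≤ C(z r)`, `GSysW (C(z r)) Y r`;
* `not_alpha'` : `⟨V^{M'}⟩` is not contained in `Q o`, if `O₂(M' / C(U)) = 1` and such a `Y` exists.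
-/

set_option autoImplicit false
set_option linter.unusedSectionVars false

namespace Cfsg.Agent.Omega.HT.AlphaP

open Subgroup Cfsg Cfsg.Agent.MinSimple.VModule Cfsg.Agent.Omega.BTwo
open Cfsg.Agent.Omega.HOneTwo Cfsg.Agent.Omega.HTwo Cfsg.Agent.Omega.HTwo.ThmA Cfsg.Agent.Omega.HTwo.Par
open Cfsg.Agent.Omega.HTwo.Hat Cfsg.Agent.Omega.HTwo.TComp Cfsg.Agent.Omega.HT.TComp Cfsg.Agent.Omega.MinPar
open Cfsg.Agent.ZN (zc o2 le_normalizer_o2)
open Cfsg.Agent.Omega.HTwo.AlphaFive (mem_C natC_two natC_cj)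
open Cfsg.Agent.Omega.HTwo.AlphaOne (ZQ_swap ZQ_not_RC)
open Cfsg.Agent.Omega.HTwo.AlphaP (lemX_false four' MP)

universe u

/-- a 2-subgroup of `L` is conjugate in `L` into `T`, `T ≤ L` a 2-group of odd index -/
theorem exists_cj_T {G : Type*} [Group G] [Finite G] {T L B : Subgroup G} (hT : IsPGroup 2 T)
    (hTs : ¬ 2 ∣ T.relIndex L) (hBL : B ≤ L) (hB : IsPGroup 2 B) : ∃ g ∈ L, B ≤ cj g T := by
  have hf : Fact (Nat.Prime 2) := ⟨Nat.prime_two⟩
  have h1 : IsPGroup 2 (T.subgroupOf L) := hT.comap_of_injective _ L.subtype_injective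
  have h2 : IsPGroup 2 (B.subgroupOf L) := hB.comap_of_injective _ L.subtype_injective
  obtain ⟨Q, hQ⟩ := h2.exists_le_sylow
  obtain ⟨g, hg⟩ := MulAction.exists_smul_eq L (h1.toSylow hTs : Sylow 2 L) Q
  refine ⟨g, g.2, ?_⟩
  intro x hx
  have h3 : (⟨x, hBL hx⟩ : L) ∈ (Q : Subgroup L) := hQ (mem_subgroupOf.2 hx)
  rw [← hg] at h3
  rw [mem_cj]
  have h4 : g⁻¹ * ⟨x, hBL hx⟩ * g ∈ ((h1.toSylow hTs : Sylow 2 L) : Subgroup L) := by
    rw [Sylow.coe_subgroup_smul, ← SetLike.mem_coe, Subgroup.coe_pointwise_smul,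
      Set.mem_smul_set_iff_inv_smul_mem] at h3
    have h5 : g⁻¹ * ⟨x, hBL hx⟩ * g ∈ (h1.toSylow hTs : Sylow 2 L) := by
      simpa [MulAut.smul_def] using h3
    exact h5
  exact mem_subgroupOf.1 h4

section two

variable {G : Type u} [Group G] [Finite G] {ι : Type*} {S P V : Subgroup G} {R : ι → Subgroup G} {o : ι}

variable (b : HTT S P V R o)
include b

/-- the product of elements of different points lies in the third -/
theorem mul_mem_third {i j k : ι} (hij : i ≠ j) (hik : i ≠ k) (hjk : j ≠ k) {x y : G} (hx : x ∈ R j) (hx1 : x ≠ 1)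
    (hy : y ∈ R k) (hy1 : y ≠ 1) : x * y⁻¹ ∈ R i := by
  obtain ⟨l, hl⟩ := b.R_cov (x * y⁻¹) (mul_mem (b.R_le j hx) (inv_mem (b.R_le k hy)))
  have hne : x * y⁻¹ ≠ 1 := by
    intro h
    rw [mul_inv_eq_one] at h
    subst h
    exact hx1 (b.eq_one hjk hx hy)
  rcases b.eq_of_ne hij hik hjk (l := l) with rfl | rfl | rfl
  · exact hl
  · exfalso
    have h1 : y⁻¹ ∈ R l := by
      have := mul_mem (inv_mem hx) hl
      rwa [inv_mul_cancel_left] at this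
    exact hy1 (b.eq_one hjk (by simpa using inv_mem h1) hy)
  · exfalso
    have h1 : x ∈ R l := by
      have := mul_mem hl hy
      rwa [inv_mul_cancel_right] at this
    exact hx1 (b.eq_one hjk hx h1)

/-- an element of `N(V) ∩ N(R o)` acts trivially on `V / R o` -/
theorem comm_mem_R {s v : G} (hsV : s ∈ normalizer (V : Set G)) (hsR : s ∈ normalizer (R o : Set G)) (hv : v ∈ V) :
    s * v * s⁻¹ * v⁻¹ ∈ R o := by
  obtain ⟨l, hl⟩ := b.R_cov v hv
  by_cases hlo : l = o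
  · subst hlo
    exact mul_mem (conj_mem_of_normalizer hsR hl) (inv_mem hl)
  by_cases hv1 : v = 1
  · subst hv1
    have : s * 1 * s⁻¹ * 1⁻¹ = (1 : G) := by group
    rw [this]; exact one_mem _
  obtain ⟨m, hm⟩ := b.perm s hsV l
  have h1 : s * v * s⁻¹ ∈ R m := by rw [← hm]; exact conj_mem_cj hl
  have hmo : m ≠ o := by
    rintro rfl
    exact hlo (b.R_index (cj_injective (hm.trans (cj_eq_self_iff.2 hsR).symm)))
  have hne : s * v * s⁻¹ ≠ 1 := fun h => hv1 (conj_eq_one_iff.1 h)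
  by_cases hml : m = l
  · subst hml
    have h2 : s * v * s⁻¹ = v := eq_of_card_two (b.card_R m) hl hv1 h1 hne
    rw [h2, mul_inv_cancel]; exact one_mem _
  · exact mul_mem_third b (Ne.symm hmo) (Ne.symm hlo) hml h1 hne hl hv1

/-- **(2)** of #14489 for every `M ≥ N(R o) ∩ C(z)`, `X` -/
theorem alpha_two {M : Subgroup G} (h : ∀ i, LE V R i) {z : G}
    (hz : z ∈ zc S ⊓ centralizer (P : Set G)) (hz1 : z ≠ 1)
    (hM : normalizer (R o : Set G) ⊓ centralizer ({z} : Set G) ≤ M)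
    (hα : UM V M ≤ QQ (R o)) :
    ∃ a ∈ QQ (R o), ∃ c ∈ QQ (R o), a ∉ centralizer (UM V M : Set G) ∧
      c ∉ centralizer (UM V M : Set G) ∧ a * c ∉ centralizer (UM V M : Set G) := by
  by_contra hcon
  push Not at hcon
  set U := UM V M with hU
  obtain ⟨k, hk, H⟩ := b.mt o
  obtain ⟨j, m, hj, hm, hjm⟩ := b.one_lt
  obtain ⟨-, v, hv, ev⟩ := H j m hj hm
  have hzz : z * z = 1 := by rw [← pow_two]; exact (mem_zc.1 hz.1).2.2
  have hzX : z ∈ CenX V R := b.cz_le hz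
  have hzQ : z ∈ ZQ R o := cenX_le_ZQ b.toBTS h o hzX
  -- conjugate by `k⁻¹`
  have hk' : k⁻¹ ∈ normalizer (R o : Set G) := inv_mem hk
  set z₁ := k⁻¹ * z * k with hz₁
  have hz₁Q : z₁ ∈ ZQ R o := conj_inv_mem_of_normalizer (N_le_NZQ o hk) hzQ
  have hz₁z₁ : z₁ * z₁ = 1 := by
    have : z₁ * z₁ = k⁻¹ * (z * z) * k := by rw [hz₁]; group
    rw [this, hzz, mul_one, inv_mul_cancel]
  set U₁ := cj k⁻¹ U with hU₁
  have hQk : cj k⁻¹ (QQ (R o)) = QQ (R o) := cj_eq_self_iff.2 (le_normalizer_O2 _ hk')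
  have hU₁Q : U₁ ≤ QQ (R o) := by
    rw [← hQk]; exact cj_mono hα
  have hone : ∀ a ∈ QQ (R o), ∀ c ∈ QQ (R o), a ∉ centralizer (U₁ : Set G) → c ∉ centralizer (U₁ : Set G) →
      a * c ∈ centralizer (U₁ : Set G) := by
    intro a ha c hc h1 h2
    rw [hU₁, centralizer_cj, mem_cj, inv_inv] at h1 h2 ⊢
    have h3 := hcon (k * a * k⁻¹) (conj_mem_of_normalizer (le_normalizer_O2 _ hk) ha) (k * c * k⁻¹)
      (conj_mem_of_normalizer (le_normalizer_O2 _ hk) hc) h1 h2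
    have e : k * a * k⁻¹ * (k * c * k⁻¹) = k * (a * c) * k⁻¹ := by group
    rwa [e] at h3
  -- `N(R o) ∩ C(z₁)` normalises `U₁`
  have hMU : ∀ g ∈ normalizer (R o : Set G), g * z₁ = z₁ * g → g ∈ normalizer (U₁ : Set G) := by
    intro g hgN hg
    rw [hU₁, normalizer_cj, mem_cj, inv_inv]
    apply le_normalizer_cl V M
    refine hM ⟨mul_mem (mul_mem hk hgN) hk', mem_C.2 ?_⟩
    calc k * g * k⁻¹ * z = k * (g * z₁) * k⁻¹ := by rw [hz₁]; group
      _ = k * (z₁ * g) * k⁻¹ := by rw [hg]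
      _ = z * (k * g * k⁻¹) := by rw [hz₁]; group
  have hV₁ : cj k⁻¹ V ≤ U₁ := cj_mono (le_cl V M)
  -- `R j` does not centralise `U₁`
  obtain ⟨r₂, hr₂1, hr₂₂, hr₂⟩ := b.exists_gen j
  have hr₂j : r₂ ∈ R j := (hr₂ _).2 (Or.inr rfl)
  have hv₁ : k⁻¹ * v * k ∈ U₁ := by
    have := hV₁ (conj_mem_cj (g := k⁻¹) hv)
    rwa [inv_inv] at this
  have hr₂U : r₂ ∉ centralizer (U₁ : Set G) := by
    intro hc
    have h1 := mem_centralizer_iff.1 hc _ hv₁
    have h2 : k⁻¹ * v * k * r₂ * (k⁻¹ * v * k)⁻¹ ∈ R m := by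
      rw [← ev]; exact conj_mem_cj hr₂j
    rw [h1, mul_inv_cancel_right] at h2
    exact hr₂1 (b.eq_one hjm hr₂j h2)
  -- the group `B`
  have hBN : ZQ R j ≤ normalizer (R o : Set G) := (ZQ_le_cen b.toBT j).trans (b.cen_le_N o)
  set B := ZQ R j ⊓ centralizer ({z₁} : Set G) with hB
  have hBp : IsPGroup 2 B := (O2_isPGroup _).to_le (inf_le_left.trans (ZQ_le j))
  have key : ∀ x ∈ B, ∃ a ∈ R j, a * x ∈ CenX V R := by
    -- a Sylow group
    set L := normalizer (R o : Set G) ⊓ centralizer ({z₁} : Set G) with hL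
    have hSL : cj k⁻¹ S ≤ L := by
      rintro _ ⟨s, hs, rfl⟩
      change k⁻¹ * s * k⁻¹⁻¹ ∈ L
      rw [inv_inv]
      refine ⟨mul_mem (mul_mem hk' (b.S_R hs)) hk, mem_centralizer_singleton_iff.2 ?_⟩
      have h1 : s * z = z * s := (mem_zc.1 hz.1).2.1 s hs
      calc k⁻¹ * s * k * z₁ = k⁻¹ * (s * z) * k := by rw [hz₁]; group
        _ = k⁻¹ * (z * s) * k := by rw [h1]
        _ = _ := by rw [hz₁]; group
    have hSp' : IsPGroup 2 (cj k⁻¹ S : Subgroup G) := b.S_p.map _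
    have hSo : ¬ 2 ∣ (cj k⁻¹ S).relIndex L := by
      intro h2
      apply b.S_odd
      have h3 : (cj k⁻¹ S).relIndex (normalizer (R o : Set G)) = S.relIndex (normalizer (R o : Set G)) := by
        have h4 : cj k⁻¹ (normalizer (R o : Set G)) = normalizer (R o : Set G) := cj_of_mem hk'
        conv_lhs => rw [← h4]
        exact relIndex_map_map_of_injective _ _ (MulAut.conj k⁻¹).injective
      rw [← h3, ← relIndex_mul_relIndex _ _ _ hSL inf_le_left]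
      exact Dvd.dvd.mul_right h2 _
    obtain ⟨g, hg, hBg⟩ := exists_cj_T hSp' hSo (inf_le_inf_right _ hBN) hBp
    set k' := g * k⁻¹ with hk'd
    have hk'N : k' ∈ normalizer (R o : Set G) := mul_mem hg.1 hk'
    have hBS : ∀ x ∈ B, ∃ s ∈ S, x = k' * s * k'⁻¹ := by
      intro x hx
      obtain ⟨y, hy, rfl⟩ := hBg hx
      obtain ⟨s, hs, rfl⟩ : ∃ s ∈ S, k⁻¹ * s * k⁻¹⁻¹ = y := hy
      refine ⟨s, hs, ?_⟩
      change g * (k⁻¹ * s * k⁻¹⁻¹) * g⁻¹ = _
      rw [hk'd]; group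
    -- `V* = V^{k'} ≤ U₁`
    set a := k' * r₂ * k'⁻¹ with ha
    have haU : a ∈ U₁ := by
      have h1 := conj_mem_of_normalizer (hMU g hg.1 (mem_centralizer_singleton_iff.1 hg.2))
        (hV₁ (conj_mem_cj (g := k⁻¹) (b.R_le j hr₂j)))
      have e : a = g * (k⁻¹ * r₂ * k⁻¹⁻¹) * g⁻¹ := by rw [ha, hk'd]; group
      rw [e]; exact h1
    -- an element of `Q o` moving `a`
    obtain ⟨w, hw, ew⟩ := b.trans o hj hm
    have hwQ := b.W_le_Q o hw
    set q := k' * w * k'⁻¹ with hq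
    have hqQ : q ∈ QQ (R o) := conj_mem_of_normalizer (le_normalizer_O2 _ hk'N) hwQ
    have hqa : q * a * q⁻¹ ≠ a := by
      intro h1
      have e : q * a * q⁻¹ = k' * (w * r₂ * w⁻¹) * k'⁻¹ := by rw [hq, ha]; group
      rw [e, ha] at h1
      have h2 : w * r₂ * w⁻¹ = r₂ := mul_left_cancel (mul_right_cancel h1)
      have h3 : w * r₂ * w⁻¹ ∈ R m := by rw [← ew]; exact conj_mem_cj hr₂j
      rw [h2] at h3
      exact hr₂1 (b.eq_one hjm hr₂j h3)
    have hqU : q ∉ centralizer (U₁ : Set G) := by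
      intro hc
      apply hqa
      rw [← mem_centralizer_iff.1 hc a haU, mul_inv_cancel_right]
    have hr₂Q : r₂ ∈ QQ (R o) := b.V_Q o (b.R_le j hr₂j)
    have h1 := hone r₂ hr₂Q q hqQ hr₂U hqU
    have hra : ¬ r₂ * a = a * r₂ := by
      intro h2
      apply hqa
      have h3 := mem_centralizer_iff.1 h1 a haU
      -- `a (r₂ q) = r₂ q a`
      have h4 : r₂ * (a * q) = r₂ * (q * a) := by
        rw [← mul_assoc, h2, mul_assoc, h3, mul_assoc]
      have h5 := mul_left_cancel h4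
      rw [← h5, mul_inv_cancel_right]
    -- `a` maps `R j` to `R m`
    have haQ : a ∈ QQ (R o) := hU₁Q haU
    have haV : a ∈ normalizer (V : Set G) := b.Q_le_NV o haQ
    obtain ⟨l, hl⟩ := b.perm a haV j
    have hlj : l ≠ j := by
      rintro rfl
      apply hra
      have h2 : a * r₂ * a⁻¹ ∈ R l := by rw [← hl]; exact conj_mem_cj hr₂j
      have h3 : a * r₂ * a⁻¹ ≠ 1 := fun h => hr₂1 (conj_eq_one_iff.1 h)
      have h4 := eq_of_card_two (b.card_R l) hr₂j hr₂1 h2 h3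
      rw [mul_inv_eq_iff_eq_mul] at h4
      exact h4.symm
    have hlo : l ≠ o := by
      rintro rfl
      exact hj (b.R_index (cj_injective (hl.trans (cj_eq_self_iff.2 (b.Q_le l haQ)).symm)))
    intro x hx
    obtain ⟨s, hs, ex⟩ := hBS x hx
    -- `[x, a] ∈ R o`
    have h2 : x * a * x⁻¹ * a⁻¹ ∈ R o := by
      have h3 := conj_mem_of_normalizer hk'N (comm_mem_R b (b.S_V hs) (b.S_R hs) (b.R_le j hr₂j))
      have e : x * a * x⁻¹ * a⁻¹ = k' * (s * r₂ * s⁻¹ * r₂⁻¹) * k'⁻¹ := by rw [ex, ha]; group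
      rw [e]; exact h3
    have h3 : x ∈ QQ (R l) := by
      have h4 : a * x * a⁻¹ ∈ QQ (R l) := by
        have h5 : a * x * a⁻¹ ∈ ZQ R l := by
          rw [← cj_ZQ b.toBT hl]; exact conj_mem_cj hx.1
        exact ZQ_le l h5
      have e : x = (x * a * x⁻¹ * a⁻¹) * (a * x * a⁻¹) := by group
      rw [e]
      exact mul_mem (b.V_Q l (b.R_le o h2)) h4
    exact ZQ_Q b.toBTS (Ne.symm hlj) hx.1 h3
  -- `z₁^σ ∈ B`
  obtain ⟨σ, hσ, eσ⟩ := b.trans m (Ne.symm hm) hjm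
  have hσQ := b.W_le_Q m hσ
  have hσV : σ ∈ normalizer (V : Set G) := b.Q_le_NV m hσQ
  have h1 := ZQ_swap b.toBTS h (Ne.symm hj) hσQ eσ hz₁Q hz₁z₁
  have h2 : σ * z₁ * σ⁻¹ ∈ B := by
    refine ⟨?_, ?_⟩
    · rw [← cj_ZQ b.toBT eσ]; exact conj_mem_cj hz₁Q
    · exact mem_centralizer_singleton_iff.2 h1.symm
  obtain ⟨a, ha, h3⟩ := key _ h2
  -- `z₁ ∈ R o C_X`
  have h4 : σ⁻¹ * a * σ ∈ R o := by
    rw [← eσ] at ha
    exact mem_cj.1 ha
  have h5 : σ⁻¹ * a * σ * z₁ ∈ CenX V R := by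
    have h6 := conj_inv_mem_of_normalizer (b.NV_le_NCenX hσV) h3
    have e : σ⁻¹ * (a * (σ * z₁ * σ⁻¹)) * σ = σ⁻¹ * a * σ * z₁ := by group
    rwa [e] at h6
  -- `Z(Q j)` centralises `z₁`
  have h6 : ZQ R j ≤ B := by
    intro x hx
    refine ⟨hx, mem_centralizer_singleton_iff.2 ?_⟩
    have h7 : σ⁻¹ * a * σ * x = x * (σ⁻¹ * a * σ) := mem_centralizer_iff.1 (ZQ_le_cen b.toBT j hx) _ (b.R_le o h4)
    have h8 : σ⁻¹ * a * σ * z₁ * x = x * (σ⁻¹ * a * σ * z₁) := cenX_Q b.toBTS (h j) h5 (ZQ_le j hx)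
    have h9 : σ⁻¹ * a * σ * (z₁ * x) = σ⁻¹ * a * σ * (x * z₁) := by
      rw [← mul_assoc, h8, ← mul_assoc, ← h7, mul_assoc]
    exact (mul_left_cancel h9).symm
  exact ZQ_not_RC b.toBTS h hzX hz1 j fun l hl => key l (h6 hl)

variable {r : G} (hr : ∀ x, x ∈ R o ↔ x = 1 ∨ x = r)
include hr

theorem r_ne : r ≠ 1 := by
  rintro rfl
  refine b.R_ne o ((eq_bot_iff_forall _).2 fun x hx => ?_)
  rcases (hr x).1 hx with h | h <;> exact h

theorem r_mem : r ∈ R o := (hr r).2 (Or.inr rfl)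

theorem r_sq : r * r = 1 := b.V_sq r (b.R_le o (r_mem b hr))

/-- `N(R o) = C(r)` -/
theorem mem_N_iff {g : G} : g ∈ normalizer (R o : Set G) ↔ g * r = r * g := by
  constructor
  · intro hg
    exact (mem_centralizer_iff.1 (normalizer_le_cen_of_card (b.card_R o) hg) r (r_mem b hr)).symm
  · intro hg
    refine mem_normalizer_of_conj fun x hx => ?_
    rcases (hr x).1 hx with rfl | rfl
    · rw [mul_one, mul_inv_cancel]; exact one_mem _
    · rw [hg, mul_inv_cancel_right]; exact hx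

/-- a conjugate of `V` under `N(R o)` is determined by one element outside `R o` -/
theorem cj_V_le {k : G} (hk : k ∈ normalizer (R o : Set G)) {W : Subgroup G} (hrW : r ∈ W) {v : G}
    (hv : v ∈ cj k V) (hv1 : v ∉ R o) (hvW : v ∈ W) : cj k V ≤ W := by
  obtain ⟨v, hv, rfl⟩ := hv
  change k * v * k⁻¹ ∉ R o at hv1
  change k * v * k⁻¹ ∈ W at hvW
  obtain ⟨j, hj⟩ := b.R_cov v hv
  have hjo : o ≠ j := by
    rintro rfl
    exact hv1 (conj_mem_of_normalizer hk hj)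
  have hv' : v ≠ 1 := by
    rintro rfl
    apply hv1
    rw [mul_one, mul_inv_cancel]
    exact one_mem _
  rw [← b.R_sup o j hjo, cj_sup]
  refine sup_le ?_ ?_
  · rw [cj_eq_self_iff.2 hk]
    intro x hx
    rcases (hr x).1 hx with rfl | rfl
    · exact one_mem _
    · exact hrW
  · rintro _ ⟨x, hx, rfl⟩
    change k * x * k⁻¹ ∈ W
    by_cases hx1 : x = 1
    · rw [hx1, mul_one, mul_inv_cancel]; exact one_mem _
    · rw [eq_of_card_two (b.card_R j) hj hv' hx hx1]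
      exact hvW

/-- elements of `V^k` are conjugate to `r` under `C(y)` if `y` centralises `X^k` -/
theorem exists_conj {k y : G} (hk : k ∈ normalizer (R o : Set G))
    (hy : y ∈ centralizer (cj k (XX V R) : Set G)) {v : G} (hv : v ∈ cj k V) (hv1 : v ≠ 1) :
    ∃ c ∈ centralizer ({y} : Set G), c * r * c⁻¹ = v := by
  obtain ⟨v, hv, rfl⟩ := hv
  change k * v * k⁻¹ ≠ 1 at hv1
  obtain ⟨j, hj⟩ := b.R_cov v hv
  obtain ⟨x, hx, e⟩ := b.trans_X_one o j
  rw [← e, mem_cj] at hj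
  have h2 := mem_centralizer_iff.1 hy _ (conj_mem_cj hx)
  refine ⟨k * x * k⁻¹, mem_C.2 h2, ?_⟩
  have hkr := (mem_N_iff b hr).1 hk
  rcases (hr _).1 hj with h0 | h0
  · exfalso
    apply hv1
    have h1 : v = 1 := by
      calc v = x * (x⁻¹ * v * x) * x⁻¹ := by group
        _ = 1 := by rw [h0, mul_one, mul_inv_cancel]
    rw [h1, mul_one, mul_inv_cancel]
  · change _ = k * v * k⁻¹
    have h3 : k⁻¹ * r * k = r := by rw [mul_assoc, ← hkr]; group
    calc k * x * k⁻¹ * r * (k * x * k⁻¹)⁻¹ = k * x * (k⁻¹ * r * k) * x⁻¹ * k⁻¹ := by group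
      _ = k * (x * (x⁻¹ * v * x) * x⁻¹) * k⁻¹ := by rw [h3, h0]; group
      _ = k * v * k⁻¹ := by group

/-- `V^k ≤ ⟨r^{C(y)}⟩` if `y` centralises `X^k` -/
theorem cj_le_cl_of {k y : G} (hk : k ∈ normalizer (R o : Set G))
    (hy : y ∈ centralizer (cj k (XX V R) : Set G)) : cj k V ≤ cl (R o) (centralizer ({y} : Set G)) := by
  intro v hv
  by_cases hv1 : v = 1
  · rw [hv1]; exact one_mem _
  obtain ⟨c, hc, rfl⟩ := exists_conj b hr hk hy hv hv1
  exact cj_le_cl hc (conj_mem_cj (r_mem b hr))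

/-- there is `h ∈ N(R o)` with `[V, V^h] ≠ 1` -/
theorem exists_h : ∃ h ∈ normalizer (R o : Set G), ∃ a ∈ V, ∃ c ∈ cj h V, a * c ≠ c * a := by
  have _ := hr
  obtain ⟨h, hh, H⟩ := b.mt o
  refine ⟨h, hh, ?_⟩
  by_contra hcon
  push Not at hcon
  refine b.false_of_comm (h := h) (fun j k hj hk => (H j k hj hk).1) fun v hv => ?_
  rw [mem_centralizer_iff]
  exact fun w hw => hcon w hw _ (conj_mem_cj hv)

/-- there is an element of `Q o` moving an element of `V` -/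
theorem exists_mv : ∃ t ∈ QQ (R o), ∃ v ∈ V, t * v ≠ v * t := by
  obtain ⟨h, hh, a, ha, c, hc, hne⟩ := exists_h b hr
  exact ⟨c, b.W_le_Q o (cj_le_WW hh hc), a, ha, fun e => hne e.symm⟩

/-- for `z ∈ C_Z(P)`: `⟨r^{C(z)}⟩ ≤ Ω₁(Z(O₂(C(z))))` -/
theorem cl_le_zc {z : G} (hz : z ∈ zc S ⊓ centralizer (P : Set G)) (hz1 : z ≠ 1) :
    cl (R o) (centralizer ({z} : Set G)) ≤ zc (o2 (centralizer ({z} : Set G))) := by
  have _ := hr
  rw [b.cl_R_eq (b.trans_of_X (b.X_le_cen hz))]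
  exact b.cl_V_le (b.isLoc_cen hz.1 hz1) (b.X_le_cen hz)

/-- `MP ≤ C(z)` -/
theorem MP_le {z : G} (hz : z ∈ zc S ⊓ centralizer (P : Set G)) (hz1 : z ≠ 1) :
    MP V R o z ≤ centralizer ({z} : Set G) := by
  have _ := hr
  exact sup_le inf_le_right (b.dt hz hz1).X_M

/-- `[W, Q o] ≤ R o` forces `W ≤ Q o` -/
theorem le_Q_of_comm {W : Subgroup G} (hW : W ≤ normalizer (R o : Set G))
    (h : ∀ w ∈ W, ∀ q ∈ QQ (R o), w * q * w⁻¹ * q⁻¹ ∈ R o) : W ≤ QQ (R o) := by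
  have _ := hr
  rw [← b.toBTS.K_eq o]
  exact fun w hw => ⟨hW hw, fun d hd => h w hw d (b.W_le_Q o hd)⟩

/-- elements of `V` are conjugate to `r` under `X` -/
theorem exists_conj_X {v : G} (hv : v ∈ V) (hv1 : v ≠ 1) : ∃ c ∈ XX V R, c * r * c⁻¹ = v := by
  obtain ⟨j, hj⟩ := b.R_cov v hv
  obtain ⟨x, hx, e⟩ := b.trans_X_one o j
  refine ⟨x, hx, ?_⟩
  have h1 : x * r * x⁻¹ ∈ R j := by rw [← e]; exact conj_mem_cj (r_mem b hr)
  have h2 : x * r * x⁻¹ ≠ 1 := fun h => r_ne b hr (conj_eq_one_iff.1 h)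
  exact eq_of_card_two (b.card_R j) hj hv1 h1 h2

/-- (4), (5), (6) of #15368 -/
theorem part_B (hLE : ∀ i, LE V R i) {z : G}
    (hz : z ∈ zc S ⊓ centralizer (P : Set G)) (hz1 : z ≠ 1) {W U : Subgroup G}
    (hW : NatC (MP V R o z) U W r) (hWQ : W ≤ QQ (R o)) (hVW : V ≤ W)
    {U₁ : Subgroup G} (hUle₁ : U₁ ≤ centralizer ({z * r} : Set G))
    (hsys : GSysW (centralizer ({z * r} : Set G)) U₁ r)
    {w₂ c₂ : G} (hw₂ : w₂ ∈ W) (hc₂ : c₂ * (z * r) = z * r * c₂)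
    (hne : c₂ * r * c₂⁻¹ * w₂ ≠ w₂ * (c₂ * r * c₂⁻¹)) : False := by
  have bs := b.toBTS
  have hr1 := r_ne b hr
  have hr2 := r_sq b hr
  have hrR := r_mem b hr
  have hNr := fun g => mem_N_iff b hr (g := g)
  set M := MP V R o z with hM
  have hMz : M ≤ centralizer ({z} : Set G) := MP_le b hr hz hz1
  have hKM : normalizer (R o : Set G) ⊓ centralizer ({z} : Set G) ≤ M := le_sup_left
  -- `z`
  have hz2 : z * z = 1 := by rw [← pow_two]; exact (mem_zc.1 hz.1).2.2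
  have hSz : ∀ s ∈ S, s * z = z * s := (mem_zc.1 hz.1).2.1
  have hSr : ∀ s ∈ S, s * r = r * s := fun s hs => (hNr s).1 (b.S_R hs)
  have hzX : z ∈ CenX V R := b.cz_le hz
  have hzQ : z ∈ ZQ R o := cenX_le_ZQ bs hLE o hzX
  have hrQ : r ∈ ZQ R o := R_le_ZQ b.toBT o hrR
  have hrz : r * z = z * r := ZQ_comm hzQ (ZQ_le o hrQ)
  have hWc : ∀ a ∈ W, ∀ c ∈ W, a * c = c * a := fun a ha c hc => Omega.TV.EA.comm_of hW.sq ha hc
  -- `y = z r`
  obtain ⟨y, hy⟩ : ∃ y, y = z * r := ⟨_, rfl⟩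
  rw [← hy] at hc₂ hsys hUle₁
  have hy2 : y * y = 1 := by
    rw [hy]
    calc z * r * (z * r) = z * (r * z) * r := by group
      _ = z * z * (r * r) := by rw [hrz]; group
      _ = 1 := by rw [hr2, hz2, mul_one]
  have hy1 : y ≠ 1 := by
    intro e
    have h5 : z = r := by
      calc z = z * (r * r) := by rw [hr2, mul_one]
        _ = (z * r) * r := by group
        _ = r := by rw [← hy, e, one_mul]
    have h6 : r ∈ V ⊓ (zc S ⊓ centralizer (P : Set G)) :=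
      ⟨b.R_le o hrR, by rw [← h5]; exact hz⟩
    rw [b.R_inf_cz, mem_bot] at h6
    exact hr1 h6
  have hSy : ∀ s ∈ S, s * y = y * s := by
    intro s hs
    rw [hy, ← mul_assoc, hSz s hs, mul_assoc, hSr s hs, ← mul_assoc]
  have hyQ : y ∈ ZQ R o := by rw [hy]; exact mul_mem hzQ hrQ
  have hQy : ∀ q ∈ QQ (R o), q ∈ centralizer ({y} : Set G) := fun q hq => mem_C.2 (ZQ_comm hyQ hq)
  have hzy : z = y * r := by rw [hy, mul_assoc, hr2, mul_one]
  -- `C(y) ∩ C(r) = C(z) ∩ C(r)`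
  have hCzy : ∀ g : G, g * r = r * g → (g ∈ centralizer ({z} : Set G) ↔ g ∈ centralizer ({y} : Set G)) := by
    intro g hg
    rw [mem_C, mem_C]
    constructor
    · intro h5
      rw [hy, ← mul_assoc, h5, mul_assoc, hg, ← mul_assoc]
    · intro h5
      rw [hzy, ← mul_assoc, h5, mul_assoc, hg, ← mul_assoc]
  set C₁ := centralizer ({y} : Set G) with hC₁
  have hUsq₁ : ∀ x ∈ U₁, x * x = 1 := hsys.sq
  have hUcm₁ : ∀ x ∈ U₁, ∀ y ∈ U₁, x * y = y * x := fun x hx y hy => Omega.TV.EA.comm_of hUsq₁ hx hy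
  have hrU₁ : r ∈ U₁ := hsys.mem
  have hU₁C : ∀ n ∈ U₁, n ∈ C₁ := fun n hn => hUle₁ hn
  have hU₁r : ∀ n ∈ U₁, n * r = r * n := fun n hn => hUcm₁ n hn r hrU₁
  have hnU₁ : C₁ ≤ normalizer (U₁ : Set G) := fun c hc => mem_normalizer_of_conj (fun x hx => hsys.nor c hc x hx)
  have hpU₁ : c₂ * r * c₂⁻¹ ∈ U₁ := conj_mem_of_normalizer (hnU₁ (mem_C.2 hc₂)) hrU₁
  -- the group `K = N(R o) ∩ C(z)` normalises `W`
  have hKW : ∀ c : G, c * r = r * c → c ∈ C₁ → ∀ x ∈ W, c * x * c⁻¹ ∈ W := by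
    intro c hcr hc
    refine hW.blk c (hKM ⟨(hNr c).2 hcr, (hCzy c hcr).2 hc⟩) r hW.mem hr1 ?_
    rw [hcr, mul_inv_cancel_right]
    exact hW.mem
  have hMC : ∀ c ∈ M, c * r = r * c → c ∈ C₁ := fun c hc hcr => (hCzy c hcr).1 (hMz hc)
  have hWC₁ : ∀ x ∈ W, x ∈ C₁ := fun x hx => hQy x (hWQ hx)
  -- `W ∩ U₁ = ⟨r⟩`
  have hWU : ∀ x ∈ W, x ∈ U₁ → x = 1 ∨ x = r := by
    rcases hW.irr r hW.mem hr1 (W ⊓ U₁) inf_le_left ⟨hW.mem, hrU₁⟩ (by
      rintro c hc hcr a ⟨ha, ha'⟩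
      exact ⟨hKW c hcr (hMC c hc hcr) a ha, conj_mem_of_normalizer (hnU₁ (hMC c hc hcr)) ha'⟩) with h5 | h5
    · exact fun x hx hx' => h5 x ⟨hx, hx'⟩
    · exact absurd (hUcm₁ _ hpU₁ _ (h5 hw₂).2) hne
  have hact : ∀ t ∈ W, ∀ n ∈ U₁, t * n * t⁻¹ = n ∨ t * n * t⁻¹ = n * r := by
    intro t ht n hn
    have h5 : t * n * t⁻¹ ∈ U₁ := conj_mem_of_normalizer (hnU₁ (hWC₁ t ht)) hn
    have h6 : n * t⁻¹ * n⁻¹ ∈ W := hKW n (hU₁r n hn) (hU₁C n hn) _ (inv_mem ht)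
    have h7 : t * n * t⁻¹ * n⁻¹ ∈ W := by
      have e : t * n * t⁻¹ * n⁻¹ = t * (n * t⁻¹ * n⁻¹) := by group
      rw [e]; exact mul_mem ht h6
    rcases hWU _ h7 (mul_mem h5 (inv_mem hn)) with h8 | h8
    · left; exact mul_inv_eq_one.1 h8
    · right
      rw [mul_inv_eq_iff_eq_mul] at h8
      rw [h8]
      exact hUcm₁ r hrU₁ n hn
  have hcen : ∀ x ∈ W, (∀ n ∈ U₁, x * n * x⁻¹ = n) → x = 1 ∨ x = r := by
    rcases hW.irr r hW.mem hr1 (W ⊓ centralizer (U₁ : Set G)) inf_le_left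
        ⟨hW.mem, mem_centralizer_iff.2 fun n hn => hU₁r n hn⟩ (by
      rintro c hc hcr a ⟨ha, ha'⟩
      exact ⟨hKW c hcr (hMC c hc hcr) a ha, conj_mem_of_normalizer
        (normalizer_le_normalizer_centralizer _ (hnU₁ (hMC c hc hcr))) ha'⟩) with h5 | h5
    · intro x hx hx'
      exact h5 x ⟨hx, mem_centralizer_iff.2 fun n hn => (mul_inv_eq_iff_eq_mul.1 (hx' n hn)).symm⟩
    · exact absurd (mem_centralizer_iff.1 (h5 hw₂).2 _ hpU₁) hne
  have hmv : ∀ x ∈ W, (x ≠ 1 ∧ x ≠ r) → ∃ n ∈ U₁, x * n * x⁻¹ ≠ n := by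
    rintro x hx ⟨hx1, hx2⟩
    by_contra hcon
    push Not at hcon
    rcases hcen x hx hcon with h5 | h5
    · exact hx1 h5
    · exact hx2 h5
  -- `W₁`
  obtain ⟨a, ha, c, hc, hna, hnc, hnac⟩ := natC_two hW hr2
  obtain ⟨W₁, hW₁, -⟩ := natC_of' hsys
    (hWC₁ a ha) (hWC₁ c hc) (hact a ha) (hact c hc) (hmv a ha hna) (hmv c hc hnc)
    (hmv _ (mul_mem ha hc) hnac)
  have hπW₁ : c₂ * r * c₂⁻¹ ∈ W₁ := by
    refine hW₁.adj r hW₁.mem hr1 w₂ (hWC₁ w₂ hw₂) (hact w₂ hw₂) c₂ (mem_C.2 hc₂) ?_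
    intro e
    exact hne (mul_inv_eq_iff_eq_mul.1 e).symm
  have hW₁U : W₁ ≤ U₁ := hW₁.W_le
  have hW₁N : W₁ ≤ normalizer (R o : Set G) := fun x hx => (hNr x).2 (hU₁r x (hW₁U hx))
  -- `K` normalises `W₁`
  have hKW₁ : ∀ c ∈ C₁, c * r = r * c → ∀ x ∈ W₁, c * x * c⁻¹ ∈ W₁ := by
    intro c hc hcr
    refine hW₁.blk c hc r hW₁.mem hr1 ?_
    rw [hcr, mul_inv_cancel_right]
    exact hW₁.mem
  -- (5)
  have hW₁Q : W₁ ≤ QQ (R o) := by
    rcases hW₁.irr r hW₁.mem hr1 (W₁ ⊓ QQ (R o)) inf_le_left ⟨hW₁.mem, ZQ_le o hrQ⟩ (by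
      rintro c hc hcr x ⟨hx, hx'⟩
      exact ⟨hKW₁ c hc hcr x hx, conj_mem_of_normalizer (le_normalizer_O2 _ ((hNr c).2 hcr)) hx'⟩) with h5 | h5
    · refine le_Q_of_comm b hr hW₁N fun w hw q hq => ?_
      have h6 : w * q * w⁻¹ ∈ QQ (R o) := conj_mem_of_normalizer (le_normalizer_O2 _ (hW₁N hw)) hq
      have hqr : q * r = r * q := ZQ_comm hrQ hq
      have h7 : q * w⁻¹ * q⁻¹ ∈ W₁ := hKW₁ q (hQy q hq) hqr _ (inv_mem hw)
      have h8 : w * q * w⁻¹ * q⁻¹ ∈ W₁ := by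
        have e : w * q * w⁻¹ * q⁻¹ = w * (q * w⁻¹ * q⁻¹) := by group
        rw [e]; exact mul_mem hw h7
      exact (hr _).2 (h5 _ ⟨h8, (QQ (R o)).mul_mem h6 ((QQ (R o)).inv_mem hq)⟩)
    · exact h5.trans inf_le_right
  -- (6)
  have hW₁V : ∃ x ∈ W₁, x ∉ centralizer (V : Set G) := by
    by_contra hcon
    push Not at hcon
    rcases hW.irr r hW.mem hr1 (W ⊓ centralizer (W₁ : Set G)) inf_le_left
        ⟨hW.mem, mem_centralizer_iff.2 fun n hn => hU₁r n (hW₁U hn)⟩ (by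
      rintro c hc hcr a ⟨ha, ha'⟩
      refine ⟨hKW c hcr (hMC c hc hcr) a ha, mem_centralizer_iff.2 fun x hx => ?_⟩
      have hci : c⁻¹ * r = r * c⁻¹ := by
        rw [inv_mul_eq_iff_eq_mul, ← mul_assoc, hcr, mul_inv_cancel_right]
      have h1 := hKW₁ c⁻¹ (inv_mem (hMC c hc hcr)) hci x hx
      rw [inv_inv] at h1
      have h2 := mem_centralizer_iff.1 ha' _ h1
      calc x * (c * a * c⁻¹) = c * ((c⁻¹ * x * c) * a) * c⁻¹ := by group
        _ = c * (a * (c⁻¹ * x * c)) * c⁻¹ := by rw [h2]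
        _ = c * a * c⁻¹ * x := by group) with h5 | h5
    · -- `V ≤ {1, r}`
      obtain ⟨j, -, hj, -, -⟩ := b.one_lt
      obtain ⟨e, he, he1⟩ := b.exists_ne j
      have heV := b.R_le j he
      have h6 : e ∈ centralizer (W₁ : Set G) := mem_centralizer_iff.2 fun x hx =>
        (mem_centralizer_iff.1 (hcon x hx) e heV).symm
      rcases h5 e ⟨hVW heV, h6⟩ with h7 | h7
      · exact he1 h7
      · apply he1
        refine b.eq_one (Ne.symm hj) ?_ he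
        rw [h7]; exact hrR
    · exact hne (mem_centralizer_iff.1 (h5 hw₂).2 _ hπW₁)
  obtain ⟨x, hx, hxV⟩ := hW₁V
  obtain ⟨j, -, hj, -, -⟩ := b.one_lt
  have hW₁Z : ∀ x ∈ W₁, x ∈ ZQ R o → x ∈ R o := by
    rcases hW₁.irr r hW₁.mem hr1 (W₁ ⊓ ZQ R o) inf_le_left ⟨hW₁.mem, hrQ⟩ (by
      rintro c hc hcr x ⟨hx, hx'⟩
      exact ⟨hKW₁ c hc hcr x hx, conj_mem_of_normalizer (N_le_NZQ o ((hNr c).2 hcr)) hx'⟩) with h5 | h5
    · exact fun x hx hx' => (hr x).2 (h5 x ⟨hx, hx'⟩)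
    · exact absurd (ZQ_le_cen b.toBT o (h5 hx).2) hxV
  refine lemX_false bs hLE (Ne.symm hj) (fun x hx => (hr x).1 hx) hW₁Q
    (fun a ha c hc => hUcm₁ a (hW₁U ha) c (hW₁U hc)) (j := j) ?_ hx hxV hW₁Z hzX hz1
  intro e he x hx
  have her : e * r = r * e := (mem_centralizer_iff.1 (EE_le_cen j he) r (b.R_le o hrR)).symm
  have hez : e ∈ centralizer ({z} : Set G) := mem_C.2 (cenX_Q bs (hLE j) hzX (EE_le_Q j he)).symm
  exact hKW₁ e ((hCzy e her).1 hez) her x hx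

/-- **#15368**, `|T| ≥ 4` -/
theorem not_alpha_aux (hLE : ∀ i, LE V R i) {z : G} (hz : z ∈ zc S ⊓ centralizer (P : Set G)) (hz1 : z ≠ 1)
    (hsysM : GSysW (MP V R o z) (cl (R o) (MP V R o z)) r)
    (hY : ∃ Y ≤ centralizer ({z * r} : Set G), GSysW (centralizer ({z * r} : Set G)) Y r) :
    ¬ UM V (MP V R o z) ≤ QQ (R o) := by
  intro hα
  have bs := b.toBTS
  have d := b.dt hz hz1
  have hr1 := r_ne b hr
  have hr2 := r_sq b hr
  have hrR := r_mem b hr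
  have hNr := fun g => mem_N_iff b hr (g := g)
  obtain ⟨M, hM⟩ : ∃ M, M = MP V R o z := ⟨_, rfl⟩
  have hMz : M ≤ centralizer ({z} : Set G) := by rw [hM]; exact MP_le b hr hz hz1
  have hKM : normalizer (R o : Set G) ⊓ centralizer ({z} : Set G) ≤ M := by rw [hM]; exact le_sup_left
  have hXM : XX V R ≤ M := by rw [hM]; exact le_sup_right
  have hz2 : z * z = 1 := by rw [← pow_two]; exact (mem_zc.1 hz.1).2.2
  have hSz : ∀ s ∈ S, s * z = z * s := (mem_zc.1 hz.1).2.1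
  have hSr : ∀ s ∈ S, s * r = r * s := fun s hs => (hNr s).1 (b.S_R hs)
  have hzX : z ∈ CenX V R := b.cz_le hz
  have hzQ : z ∈ ZQ R o := cenX_le_ZQ bs hLE o hzX
  have hrQ : r ∈ ZQ R o := R_le_ZQ b.toBT o hrR
  have hQz : ∀ q ∈ QQ (R o), q ∈ centralizer ({z} : Set G) := fun q hq => mem_C.2 (ZQ_comm hzQ hq)
  have hQM : ∀ q ∈ QQ (R o), q ∈ M := fun q hq => hKM ⟨b.Q_le o hq, hQz q hq⟩
  have hSM : S ≤ M := fun s hs => hKM ⟨b.S_R hs, mem_C.2 (hSz s hs)⟩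
  rw [← hM] at hα hsysM
  obtain ⟨a, ha, c, hc, hna, hnc, hnac⟩ := alpha_two b hLE hz hz1 hKM hα
  have hUeq : cl (R o) M = UM V M := b.cl_R_eq (b.trans_of_X hXM)
  rw [← hUeq] at hα hna hnc hnac
  have hUz := cl_le_zc b hr hz hz1
  have hUle : cl (R o) M ≤ cl (R o) (centralizer ({z} : Set G)) := iSup_le fun m => cj_le_cl (hMz m.2)
  set Uf := cl (R o) (centralizer ({z} : Set G)) with hUf
  have hUfcm : ∀ x ∈ Uf, ∀ y ∈ Uf, x * y = y * x := fun x hx y hy =>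
    (mem_zc.1 (hUz hy)).2.1 x (zc_le _ (hUz hx))
  set U := cl (R o) M with hU
  have hUsq : ∀ x ∈ U, x * x = 1 := fun x hx => by
    rw [← pow_two]; exact (mem_zc.1 (hUz (hUle hx))).2.2
  -- `Q o` acts on `U` as transvections
  have hQU : ∀ q ∈ QQ (R o), ∀ n ∈ U, q * n * q⁻¹ = n ∨ q * n * q⁻¹ = n * r := by
    intro q hq n hn
    have h5 := Q_comm bs (hLE o) hq (hα hn)
    rcases (hr _).1 h5 with h6 | h6
    · left; exact mul_inv_eq_one.1 h6
    · right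
      rw [mul_inv_eq_iff_eq_mul] at h6
      rw [h6]
      exact (b.QR o n (hα hn) r hrR).symm
  have hmv : ∀ q : G, q ∉ centralizer (U : Set G) → ∃ n ∈ U, q * n * q⁻¹ ≠ n := by
    intro q hq
    by_contra hcon
    push Not at hcon
    exact hq (mem_centralizer_iff.2 fun n hn => (mul_inv_eq_iff_eq_mul.1 (hcon n hn)).symm)
  obtain ⟨W, hW, -⟩ := natC_of' hsysM (hQM a ha)
    (hQM c hc) (hQU a ha) (hQU c hc) (hmv a hna) (hmv c hnc) (hmv _ hnac)
  have hWU : W ≤ U := hW.W_le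
  have hWQ : W ≤ QQ (R o) := hWU.trans hα
  -- `V ≤ W`
  have hVW : V ≤ W := by
    obtain ⟨t, ht, v, hv, hne⟩ := exists_mv b hr
    have hv1 : v ≠ 1 := by
      rintro rfl
      exact hne (by rw [mul_one, one_mul])
    obtain ⟨c, hc, e⟩ := exists_conj_X b hr hv hv1
    have h1 := hW.adj r hW.mem hr1 t (hQM t ht) (hQU t ht) c (hXM hc) (by
      rw [e]
      intro h
      exact hne (mul_inv_eq_iff_eq_mul.1 h))
    rw [e] at h1
    have h2 := cj_V_le b hr (k := 1) (one_mem _) hW.mem (v := v) (by rw [cj_one]; exact hv) (by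
      intro hvo
      apply hne
      have h3 := ((hr v).1 hvo).resolve_left hv1
      rw [h3]
      exact b.QR o t ht r hrR) h1
    rwa [cj_one] at h2
  have hKW : ∀ c : G, c * r = r * c → c * z = z * c → ∀ x ∈ W, c * x * c⁻¹ ∈ W := by
    intro c hcr hc
    refine hW.blk c (hKM ⟨(hNr c).2 hcr, mem_C.2 hc⟩) r hW.mem hr1 ?_
    rw [hcr, mul_inv_cancel_right]
    exact hW.mem
  -- `V^h`
  obtain ⟨h, hh, a₀, ha₀, c₀, hc₀, hne₀⟩ := exists_h b hr
  have hhr : h * r = r * h := (hNr h).1 hh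
  have hhr' : h⁻¹ * r = r * h⁻¹ := (hNr h⁻¹).1 (inv_mem hh)
  obtain ⟨y, hy⟩ : ∃ y, y = h * z * h⁻¹ := ⟨_, rfl⟩
  have hzy : z = h⁻¹ * y * h := by rw [hy]; group
  have hyQ : y ∈ ZQ R o := by rw [hy]; exact conj_mem_of_normalizer (N_le_NZQ o hh) hzQ
  have hyy : y * y = 1 := by
    rw [hy]
    calc h * z * h⁻¹ * (h * z * h⁻¹) = h * (z * z) * h⁻¹ := by group
      _ = 1 := by rw [hz2, mul_one, mul_inv_cancel]
  have hcV : c₀ ∉ centralizer (V : Set G) := fun hc => hne₀ (mem_centralizer_iff.1 hc a₀ ha₀)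
  have hW'n : ∀ c : G, c * y = y * c → c * r = r * c → ∀ x ∈ cj h W, c * x * c⁻¹ ∈ cj h W := by
    rintro c hcy hcr _ ⟨x, hx, rfl⟩
    change c * (h * x * h⁻¹) * c⁻¹ ∈ cj h W
    have h1 : (h⁻¹ * c * h) * z = z * (h⁻¹ * c * h) := by
      rw [hzy]
      calc h⁻¹ * c * h * (h⁻¹ * y * h) = h⁻¹ * (c * y) * h := by group
        _ = h⁻¹ * (y * c) * h := by rw [hcy]
        _ = _ := by group
    have h2 : (h⁻¹ * c * h) * r = r * (h⁻¹ * c * h) := by
      calc h⁻¹ * c * h * r = h⁻¹ * c * (h * r) := by group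
        _ = h⁻¹ * (c * r) * h := by rw [hhr]; group
        _ = (h⁻¹ * r) * c * h := by rw [hcr]; group
        _ = r * (h⁻¹ * c * h) := by rw [hhr']; group
    have h3 := hKW _ h2 h1 x hx
    have e : c * (h * x * h⁻¹) * c⁻¹ = h * (h⁻¹ * c * h * x * (h⁻¹ * c * h)⁻¹) * h⁻¹ := by group
    rw [e]
    exact conj_mem_cj h3
  have hW'Q : cj h W ≤ QQ (R o) := by
    have h1 := cj_mono (g := h) hWQ
    rwa [cj_eq_self_iff.2 (le_normalizer_O2 _ hh)] at h1
  have hW'sq : ∀ x ∈ cj h W, x * x = 1 := by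
    rintro _ ⟨x, hx, rfl⟩
    change h * x * h⁻¹ * (h * x * h⁻¹) = 1
    calc h * x * h⁻¹ * (h * x * h⁻¹) = h * (x * x) * h⁻¹ := by group
      _ = 1 := by rw [hW.sq x hx, mul_one, mul_inv_cancel]
  obtain ⟨j, -, hj, -, -⟩ := b.one_lt
  rcases four' bs hj hr hyy hyQ hW'Q hW'sq hW'n (by
    rintro _ ⟨w, hw, rfl⟩ hw1
    change h * w * h⁻¹ ≠ 1 at hw1
    have hw1' : w ≠ 1 := fun e => hw1 (by rw [e, mul_one, mul_inv_cancel])
    obtain ⟨k, hk, e⟩ := hW.pt w hw hw1'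
    have hkz := mem_C.1 (hMz hk)
    refine ⟨h * k * h⁻¹, ?_, ?_, ?_⟩
    · rw [hy]
      calc h * k * h⁻¹ * (h * z * h⁻¹) = h * (k * z) * h⁻¹ := by group
        _ = h * (z * k) * h⁻¹ := by rw [hkz]
        _ = _ := by group
    · change _ = h * w * h⁻¹
      calc h * k * h⁻¹ * r * (h * k * h⁻¹)⁻¹ = h * k * (h⁻¹ * r) * h * k⁻¹ * h⁻¹ := by group
        _ = h * (k * r * k⁻¹) * h⁻¹ := by rw [hhr']; group
        _ = h * w * h⁻¹ := by rw [e]
    · rintro _ ⟨x, hx, rfl⟩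
      change (h * k * h⁻¹)⁻¹ * (h * x * h⁻¹) * (h * k * h⁻¹) ∈ cj h W
      have h1 := hW.blk k⁻¹ (inv_mem hk) w hw hw1' (by
        rw [← e]
        have e2 : k⁻¹ * (k * r * k⁻¹) * k⁻¹⁻¹ = r := by group
        rw [e2]; exact hW.mem) x hx
      have e2 : (h * k * h⁻¹)⁻¹ * (h * x * h⁻¹) * (h * k * h⁻¹) = h * (k⁻¹ * x * k⁻¹⁻¹) * h⁻¹ := by group
      rw [e2]
      exact conj_mem_cj h1) (cj_mono hVW hc₀) hcV with ⟨a, ha, hX⟩ | ⟨w₁, hw₁, c₁, hc₁, hne₁⟩
  · rcases (hr a).1 ha with rfl | rfl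
    · -- `y ∈ C_X`
      rw [one_mul] at hX
      have e1 : cl (R o) (centralizer ({y} : Set G)) = cj h Uf := by
        rw [hUf, AlphaFive.cj_cl, AlphaFive.cj_C, ← hy, cj_eq_self_iff.2 hh]
      have h1 : V ≤ cj h Uf := by
        rw [← e1]
        have := cj_le_cl_of b hr (k := 1) (y := y) (one_mem _) (by rw [cj_one]; exact hX)
        rwa [cj_one] at this
      have h2 : cj h V ≤ cj h Uf := by
        apply cj_mono
        have := cj_le_cl_of b hr (k := 1) (y := z) (one_mem _) (by rw [cj_one]; exact hzX)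
        rwa [cj_one] at this
      apply hne₀
      obtain ⟨x, hx, e3⟩ := h1 ha₀
      obtain ⟨x', hx', e4⟩ := h2 hc₀
      rw [← e3, ← e4]
      change h * x * h⁻¹ * (h * x' * h⁻¹) = h * x' * h⁻¹ * (h * x * h⁻¹)
      calc h * x * h⁻¹ * (h * x' * h⁻¹) = h * (x * x') * h⁻¹ := by group
        _ = h * (x' * x) * h⁻¹ := by rw [hUfcm x hx x' hx']
        _ = _ := by group
    · -- `r y ∈ C_X`
      refine lemX_false bs hLE (Ne.symm hj) (fun x hx => (hr x).1 hx) hW'Q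
        (fun a ha c hc => Omega.TV.EA.comm_of hW'sq ha hc) (j := j) ?_ (cj_mono hVW hc₀) hcV ?_ hzX hz1
      · intro e he
        have her : e * a = a * e := (mem_centralizer_iff.1 (EE_le_cen j he) a (b.R_le o hrR)).symm
        refine hW'n e ?_ her
        have h1 : a * y * e = e * (a * y) := cenX_Q bs (hLE j) hX (EE_le_Q j he)
        have h2 : a * (y * e) = a * (e * y) := by
          rw [← mul_assoc, h1, ← mul_assoc, her, mul_assoc]
        exact (mul_left_cancel h2).symm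
      · have h0 : ∀ x ∈ W, x ∈ ZQ R o → x = 1 ∨ x = a := by
          rcases hW.irr a hW.mem hr1 (W ⊓ ZQ R o) inf_le_left ⟨hW.mem, hrQ⟩ (by
            rintro c hc hcr x ⟨hx, hx'⟩
            exact ⟨hKW c hcr (mem_C.1 (hMz hc)) x hx,
              conj_mem_of_normalizer (N_le_NZQ o ((hNr c).2 hcr)) hx'⟩) with h5 | h5
          · exact fun x hx hx' => h5 x ⟨hx, hx'⟩
          · exfalso
            obtain ⟨t, ht, v, hv, hne⟩ := exists_mv b hr
            exact hne (ZQ_comm (h5 (hVW hv)).2 ht)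
        rintro _ ⟨x, hx, rfl⟩ hxZ
        change h * x * h⁻¹ ∈ ZQ R o at hxZ
        change h * x * h⁻¹ ∈ R o
        have h1 : x ∈ ZQ R o := by
          have h2 := conj_inv_mem_of_normalizer (N_le_NZQ o hh) hxZ
          have e : h⁻¹ * (h * x * h⁻¹) * h = x := by group
          rwa [e] at h2
        exact conj_mem_of_normalizer hh ((hr x).2 (h0 x hx h1))
  · -- conjugate back
    obtain ⟨w₂, hw₂, rfl⟩ := hw₁
    change c₁ * r * c₁⁻¹ * (h * w₂ * h⁻¹) ≠ h * w₂ * h⁻¹ * (c₁ * r * c₁⁻¹) at hne₁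
    rw [hM] at hW
    obtain ⟨Y, hYle, hYs⟩ := hY
    refine part_B b hr hLE hz hz1 hW hWQ hVW hYle hYs (w₂ := w₂) (c₂ := h⁻¹ * c₁ * h) hw₂ ?_ ?_
    · have e : z * r = h⁻¹ * (y * r) * h := by
        rw [hzy]
        calc h⁻¹ * y * h * r = h⁻¹ * y * (h * r) := by group
          _ = h⁻¹ * (y * r) * h := by rw [hhr]; group
      rw [e]
      calc h⁻¹ * c₁ * h * (h⁻¹ * (y * r) * h) = h⁻¹ * (c₁ * (y * r)) * h := by group
        _ = h⁻¹ * (y * r * c₁) * h := by rw [hc₁]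
        _ = _ := by group
    · intro e
      apply hne₁
      have e1 : h⁻¹ * c₁ * h * r * (h⁻¹ * c₁ * h)⁻¹ = h⁻¹ * (c₁ * r * c₁⁻¹) * h := by
        calc h⁻¹ * c₁ * h * r * (h⁻¹ * c₁ * h)⁻¹ = h⁻¹ * c₁ * (h * r) * h⁻¹ * c₁⁻¹ * h := by group
          _ = _ := by rw [hhr]; group
      rw [e1] at e
      calc c₁ * r * c₁⁻¹ * (h * w₂ * h⁻¹) = h * (h⁻¹ * (c₁ * r * c₁⁻¹) * h * w₂) * h⁻¹ := by group
        _ = h * (w₂ * (h⁻¹ * (c₁ * r * c₁⁻¹) * h)) * h⁻¹ := by rw [e]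
        _ = _ := by group

end two

/-- **(α) is dead for the small group `M' = ⟨C_{H₁}(z), X⟩`**, over `S` -/
theorem not_alpha' {G : Type u} [Group G] [Finite G] {ι : Type*} {S P V : Subgroup G}
    {R : ι → Subgroup G} {o : ι} (b : HTT S P V R o) (hLE : ∀ i, LE V R i) {r : G}
    (hr : ∀ x, x ∈ R o ↔ x = 1 ∨ x = r) {z : G}
    (hz : z ∈ zc S ⊓ centralizer (P : Set G)) (hz1 : z ≠ 1)
    (hsysM : GSysW (MP V R o z) (cl (R o) (MP V R o z)) r)
    (hY : ∃ Y ≤ centralizer ({z * r} : Set G), GSysW (centralizer ({z * r} : Set G)) Y r) :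
    ¬ UM V (MP V R o z) ≤ QQ (R o) :=
  not_alpha_aux b hr hLE hz hz1 hsysM hY

end Cfsg.Agent.Omega.HT.AlphaP

end

section


/-!
# `HTT`: `O₂(M / C_M(U)) = 1` if `|S|` is at least half the order of every 2-subgroup

* `core_X` : for `M ≥ S, X`, `U = ⟨(R o)^M⟩` elementary abelian (703's `FillA` for `HTT`);
* `core_Y` : two situations `b`, `b₂` over the same `S`; `M ≥ S, X₂`: for `⟨(R o)^M⟩ ⟨(R₂ o₂)^M⟩`;
* `gsys_X`, `gsys_MP`, `exists_Y` : the structures `GSysW`; `not_alpha_two`.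
-/

set_option autoImplicit false
set_option linter.unusedSectionVars false

namespace Cfsg.Agent.Omega.HT.Core

open Subgroup Cfsg Cfsg.Agent.ZN Cfsg.Agent.Omega.BTwo
open Cfsg.Agent.Omega.MinPar Cfsg.Agent.Omega.HOneTwo Cfsg.Agent.Omega.HT.TComp
open Cfsg.Agent.Omega.HTwo.AlphaFive (mem_C)
open Cfsg.Agent.Omega.HTwo.AlphaP (MP)
open Cfsg.Agent.Omega.HTwo.ThmA (LE)

universe u

variable {G : Type u} [Group G] [Finite G] {ι : Type*} {S P V : Subgroup G} {R : ι → Subgroup G} {o : ι}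

/-- a 2-group `U ≤ N` normalised by `S`, `S` of odd index in `N` -/
theorem le_of_odd {S U N : Subgroup G} (hS : IsPGroup 2 S) (hSN : S ≤ N) (hodd : ¬ 2 ∣ S.relIndex N)
    (hU : IsPGroup 2 U) (hUN : U ≤ N) (hSU : S ≤ normalizer (U : Set G)) : U ≤ S := by
  have h1 : IsPGroup 2 (U ⊔ S : Subgroup G) := IsPGroup.to_sup_of_normal_left' hU hS hSU
  have h2 := card_dvd_card hSN hodd h1 (sup_le hUN hSN)
  have h3 : S = U ⊔ S := eq_of_le_of_card_ge le_sup_right (Nat.le_of_dvd Nat.card_pos h2)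
  rw [h3]
  exact le_sup_left

/-- squares 1 -/
theorem comm_of_sq {N : Subgroup G} (sq : ∀ x ∈ N, x * x = 1) {x y : G} (hx : x ∈ N) (hy : y ∈ N) :
    x * y = y * x := by
  have e1 := sq _ (N.mul_mem hx hy)
  calc x * y = x * (x * y * (x * y)) * y := by rw [e1, mul_one]
    _ = (x * x) * (y * x) * (y * y) := by group
    _ = y * x := by rw [sq x hx, sq y hy, one_mul, mul_one]

theorem isPGroup_of_sq {N : Subgroup G} (sq : ∀ x ∈ N, x * x = 1) : IsPGroup 2 N := by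
  intro x
  refine ⟨1, ?_⟩
  rw [pow_one, pow_two]
  exact Subtype.ext (sq _ x.2)

variable (b : HTT S P V R o)
include b

/-- `⟨(R o)^M⟩ ≤ S` if it is elementary abelian -/
theorem cl_le_S {M : Subgroup G} (hSM : S ≤ M) (sq : ∀ x ∈ cl (R o) M, x * x = 1) : cl (R o) M ≤ S := by
  refine le_of_odd b.S_p b.S_R b.S_odd (isPGroup_of_sq sq) ?_ (hSM.trans (le_normalizer_cl _ _))
  refine le_trans ?_ (centralizer_le_normalizer _)
  intro x hx
  rw [mem_centralizer_iff]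
  intro y hy
  exact comm_of_sq sq (le_cl _ _ hy) hx

/-- **FILL-IN (a)** for `HTT`: `O₂(M / C_M(U)) = 1`, `U = ⟨(R o)^M⟩` -/
theorem core_X (hcard : ∀ Q : Subgroup G, IsPGroup 2 Q → Nat.card Q ≤ 2 * Nat.card S) {M : Subgroup G}
    (hSM : S ≤ M) (hXM : XX V R ≤ M) (sq : ∀ x ∈ cl (R o) M, x * x = 1)
    (B : Subgroup G) (hB : B ≤ M) (hn : ∀ m ∈ M, ∀ b ∈ B, m * b * m⁻¹ ∈ B)
    (h2 : ∀ b ∈ B, ∀ u ∈ cl (R o) M, b * b * u = u * (b * b)) : ∀ b ∈ B, ∀ u ∈ cl (R o) M, b * u = u * b := by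
  obtain ⟨r, hr1, hrr, hr⟩ := b.exists_gen o
  have hrR : r ∈ R o := (hr r).2 (Or.inr rfl)
  have hrV : r ∈ V := b.R_le o hrR
  have hSr : ∀ s ∈ S, s * r = r * s := fun s hs =>
    (mem_centralizer_iff.1 (normalizer_le_cen_of_card (b.card_R o) (b.S_R hs)) r hrR).symm
  have hVU : V ≤ cl (R o) M := by
    rw [b.cl_R_eq (fun i => b.trans_of_X hXM i)]
    exact le_cl V M
  obtain ⟨j, -, hj, -, -⟩ := b.one_lt
  obtain ⟨a, haj, ha1⟩ := b.exists_ne j
  refine FillA.fillA (M := M) (T := S) (U := cl (R o) M) (A := ⊥) (V := V) (D := zc S ⊓ centralizer (P : Set G))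
    (p := r) (a := a) b.S_p hSM hSr ?_ hcard ?_ sq (cl_le_S b hSM sq) ?_ hVU hrV hr1 (b.R_le j haj) ha1 ?_ ?_ ?_ ?_ ?_ ?_
    B hB hn h2
  · intro h
    apply b.S_odd
    have h1 : S ≤ M ⊓ centralizer ({r} : Set G) := fun s hs => ⟨hSM hs, mem_C.2 (hSr s hs)⟩
    have h3 : M ⊓ centralizer ({r} : Set G) ≤ normalizer (R o : Set G) := by
      rintro g ⟨-, hg⟩
      refine centralizer_le_normalizer _ (mem_centralizer_iff.2 fun x hx => ?_)
      rcases (hr x).1 hx with rfl | rfl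
      · rw [one_mul, mul_one]
      · exact (mem_C.1 hg).symm
    rw [← relIndex_mul_relIndex _ _ _ h1 h3]
    exact Dvd.dvd.mul_right h _
  · intro m hm u hu
    exact conj_mem_of_normalizer (le_normalizer_cl _ _ hm) hu
  · refine cl_le ?_ ?_
    · intro x hx
      rcases (hr x).1 hx with rfl | rfl
      · exact one_mem _
      · exact subset_closure ⟨1, one_mem _, by group⟩
    · intro m hm
      refine HOne.TvHSide.le_normalizer_of (A := M) (fun m hm x hx => ?_) hm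
      have h1 : closure {x | ∃ m ∈ M, x = m * r * m⁻¹} ≤
          (closure {x | ∃ m ∈ M, x = m * r * m⁻¹}).comap (MulAut.conj m).toMonoidHom := by
        rw [closure_le]
        rintro _ ⟨k, hk, rfl⟩
        refine subset_closure ⟨m * k, mul_mem hm hk, ?_⟩
        change m * (k * r * k⁻¹) * m⁻¹ = _
        group
      exact h1 hx
  · rintro rfl
    exact hr1 (b.eq_one (Ne.symm hj) hrR haj)
  · intro t ht v hv
    exact conj_mem_of_normalizer (b.S_V ht) hv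
  · intro v hv hv1
    obtain ⟨i, hi⟩ := b.R_cov v hv
    obtain ⟨x, hx, e⟩ := b.trans_X_one o i
    refine ⟨x, hXM hx, fun d hd => ?_, fun w hw => conj_mem_of_normalizer (b.P_V (b.X_le_P hx)) hw, ?_⟩
    · exact mem_centralizer_iff.1 hd.2 x (b.X_le_P hx)
    · have h1 : x * r * x⁻¹ ∈ R i := by rw [← e]; exact conj_mem_cj hrR
      exact (eq_of_card_two (b.card_R i) hi hv1 h1 (fun h => hr1 (conj_eq_one_iff.1 h)))
  · intro d hd hdV
    have h1 : d ∈ V ⊓ (zc S ⊓ centralizer (P : Set G)) := ⟨hdV, hd⟩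
    rw [b.R_inf_cz] at h1
    exact mem_bot.1 h1
  · intro y hy
    rw [mem_bot.1 hy]
    exact ⟨one_mem _, by rw [one_mul, mul_one]⟩
  · intro c hc hcc hcS _
    have h1 : c ∈ zc S := mem_zc.2 ⟨hc, fun s hs => hcS s hs, by rw [pow_two]; exact hcc⟩
    obtain ⟨ρ, hρ, d, hd, rfl⟩ := b.exists_zc h1
    refine ⟨d, hd, ?_⟩
    rcases (hr ρ).1 hρ with rfl | rfl
    · exact Or.inl (one_mul _)
    · exact Or.inr rfl

/-- the closure is elementary abelian for `X, S ≤ M ≤ C(z)` -/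
theorem sq_of_le {M : Subgroup G} {z : G} (hz : z ∈ zc S ⊓ centralizer (P : Set G)) (hz1 : z ≠ 1)
    (hM : M ≤ centralizer ({z} : Set G)) : ∀ x ∈ cl (R o) M, x * x = 1 := by
  intro x hx
  have h1 : cl (R o) M ≤ cl V (centralizer ({z} : Set G)) := by
    refine cl_le ((b.R_le o).trans (le_cl _ _)) (hM.trans (le_normalizer_cl _ _))
  have h3 := b.cl_V_le (b.isLoc_cen hz.1 hz1) (b.X_le_cen hz) (h1 hx)
  rw [← pow_two]
  exact (mem_zc.1 h3).2.2

section Y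

variable {ι₂ : Type*} {P₂ V₂ : Subgroup G} {R₂ : ι₂ → Subgroup G} {o₂ : ι₂} (b₂ : HTT S P₂ V₂ R₂ o₂)
include b₂

/-- the core for `⟨(R o)^M⟩ ⟨(R₂ o₂)^M⟩`, `M ≥ S, X₂` -/
theorem core_Y (hcard : ∀ Q : Subgroup G, IsPGroup 2 Q → Nat.card Q ≤ 2 * Nat.card S) {M : Subgroup G}
    (hSM : S ≤ M) (hXM : XX V₂ R₂ ≤ M) (sq₂ : ∀ x ∈ cl (R₂ o₂) M, x * x = 1)
    (B : Subgroup G) (hB : B ≤ M) (hn : ∀ m ∈ M, ∀ b ∈ B, m * b * m⁻¹ ∈ B)
    (h2 : ∀ b ∈ B, ∀ u ∈ cl (R o) M ⊔ cl (R₂ o₂) M, b * b * u = u * (b * b)) :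
    ∀ b ∈ B, ∀ u ∈ cl (R o) M ⊔ cl (R₂ o₂) M, b * u = u * b := by
  have h3 : ∀ b ∈ B, ∀ u ∈ cl (R₂ o₂) M, b * u = u * b :=
    core_X b₂ hcard hSM hXM sq₂ B hB hn (fun b hb u hu => h2 b hb u (mem_sup_right hu))
  -- `B ≤ N(R₂ o₂)`
  have hBN : B ≤ normalizer (R₂ o₂ : Set G) := by
    intro x hx
    refine centralizer_le_normalizer _ (mem_centralizer_iff.2 fun y hy => ?_)
    exact (h3 x hx y (le_cl _ _ hy)).symm
  have hSo : ¬ 2 ∣ S.relIndex (M ⊓ normalizer (R₂ o₂ : Set G)) := by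
    intro h
    apply b₂.S_odd
    rw [← relIndex_mul_relIndex _ _ _ (le_inf hSM b₂.S_R) inf_le_right]
    exact Dvd.dvd.mul_right h _
  have hSA : S ≤ centralizer (R o : Set G) := b.S_R.trans (normalizer_le_cen_of_card (b.card_R o))
  have hle : cl (R o) (M ⊓ normalizer (R₂ o₂ : Set G)) ≤ cl (R o) M :=
    cl_le (le_cl _ _) (inf_le_left.trans (le_normalizer_cl _ _))
  have h4 := core_of_T (T := S) (C := M ⊓ normalizer (R₂ o₂ : Set G)) (A := R o) (le_inf hSM b₂.S_R) b.S_p hSo hSA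
    B (le_inf hB hBN) (fun c hc x hx => hn c hc.1 x hx)
    (fun x hx n hn' => h2 x hx n (mem_sup_left (hle hn')))
  have h5 : ∀ x ∈ B, ∀ u ∈ cl (R o) M, x * u = u * x := by
    intro x hx u hu
    have h6 : cl (R o) M ≤ centralizer (B : Set G) := by
      refine cl_le ?_ ?_
      · intro y hy
        rw [mem_centralizer_iff]
        intro c hc
        exact h4 c hc y (le_cl _ _ hy)
      · intro m hm
        refine normalizer_le_normalizer_centralizer _ ?_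
        exact HOne.TvHSide.le_normalizer_of (A := M) (fun m hm x hx => hn m hm x hx) hm
    exact mem_centralizer_iff.1 (h6 hu) x hx
  intro x hx u hu
  have h6 : cl (R o) M ⊔ cl (R₂ o₂) M ≤ centralizer ({x} : Set G) := by
    refine sup_le ?_ ?_
    · intro y hy
      exact mem_C.2 (h5 x hx y hy).symm
    · intro y hy
      exact mem_C.2 (h3 x hx y hy).symm
  exact (mem_C.1 (h6 hu)).symm

/-- the module `Y = ⟨(R o)^C⟩ ⟨(R₂ o₂)^C⟩` for `C = C(y)`, `y` an involution centralised by `S` and `X₂` -/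
theorem exists_Y (hcard : ∀ Q : Subgroup G, IsPGroup 2 Q → Nat.card Q ≤ 2 * Nat.card S) {r : G} (hr1 : r ≠ 1)
    (hr : r ∈ R o) {y : G} (hyy : y * y = 1) (hy1 : y ≠ 1) (hSy : ∀ s ∈ S, s * y = y * s)
    (hXy : XX V₂ R₂ ≤ centralizer ({y} : Set G)) :
    ∃ Y ≤ centralizer ({y} : Set G), GSysW (centralizer ({y} : Set G)) Y r := by
  obtain ⟨C, hC⟩ : ∃ C, C = centralizer ({y} : Set G) := ⟨_, rfl⟩
  have hSC : S ≤ C := by rw [hC]; exact fun s hs => mem_C.2 (hSy s hs)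
  have hloc : TLoc S C := by rw [hC]; exact TLoc.centralizer (by rw [pow_two]; exact hyy) hy1 (hC ▸ hSC)
  rw [← hC] at hXy ⊢
  have hCO : C ≤ normalizer (o2 C : Set G) := le_normalizer_o2 _
  -- `O₂(C) ≤ S`
  have hoS : o2 C ≤ S := by
    refine le_of_odd b.S_p b₂.S_R b₂.S_odd (MinSimple.VModule.o2_isPGroup _) ?_ (hSC.trans hCO)
    exact (b₂.o2_le_cen hloc hXy).trans ((centralizer_le (b₂.R_le o₂)).trans (centralizer_le_normalizer _))
  have hSA : S ≤ centralizer (R o : Set G) := b.S_R.trans (normalizer_le_cen_of_card (b.card_R o))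
  have h1 : cl (R o) C ≤ zc (o2 C) := by
    refine cl_le ?_ (hCO.trans (normalizer_le_normalizer_zc _))
    intro x hx
    have hxc : ∀ s ∈ S, s * x = x * s := fun s hs => (mem_centralizer_iff.1 (hSA hs) x hx).symm
    have h2 : x ∈ centralizer (o2 C : Set G) := mem_centralizer_iff.2 fun s hs => hxc s (hoS hs)
    have h3 : x ∈ o2 C := hloc.char2 b.char2 ⟨hSC (b.V_le_S (b.R_le o hx)), h2⟩
    exact mem_zc.2 ⟨h3, fun c hc => hxc c (hoS hc), by rw [pow_two]; exact b.V_sq x (b.R_le o hx)⟩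
  have h2 : cl (R₂ o₂) C ≤ zc (o2 C) :=
    (cl_le ((b₂.R_le o₂).trans (le_cl _ _)) (le_normalizer_cl _ _)).trans (b₂.cl_V_le hloc hXy)
  have hN : cl (R o) C ⊔ cl (R₂ o₂) C ≤ zc (o2 C) := sup_le h1 h2
  have sq : ∀ x ∈ cl (R o) C ⊔ cl (R₂ o₂) C, x * x = 1 := fun x hx => by
    rw [← pow_two]; exact (mem_zc.1 (hN hx)).2.2
  have nor : ∀ c ∈ C, ∀ n ∈ cl (R o) C ⊔ cl (R₂ o₂) C, c * n * c⁻¹ ∈ cl (R o) C ⊔ cl (R₂ o₂) C := by
    intro c hc n hn
    refine conj_mem_of_normalizer ?_ hn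
    have e1 := cj_eq_self_iff.2 (le_normalizer_cl (R o) C hc)
    have e2 := cj_eq_self_iff.2 (le_normalizer_cl (R₂ o₂) C hc)
    rw [← cj_eq_self_iff, cj_sup, e1, e2]
  refine ⟨cl (R o) C ⊔ cl (R₂ o₂) C, hN.trans ((zc_le _).trans (o2_le _)), sq, nor,
    mem_sup_left (le_cl _ _ hr), hr1, ?_⟩
  intro U hU hCU c hc h3 h4
  exact chain_of_core sq nor (core_Y b b₂ hcard hSC hXy (fun x hx => sq x (mem_sup_right hx))) hU hCU hc h3 h4

end Y

end Cfsg.Agent.Omega.HT.Core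

end

section


/-!
# II.0h1, `q = 2`, JUNCTION (A), (B) (#17185)

`Z = Ω₁(Z(S)) = zc S`, `Z₀ = zc S ⊓ C(P)`, `Z(Q o) = ZQ R o`, `M₀ = ⟨C(Z), X⟩`.

* `exists_avg` (A) : `c ∈ Z(Q o)` with `r₂ c R o` fixed by the stabiliser of `V Z(Q o)` in `N(R o)`;
* `mem_of_alpha` (B) : if `⟨V^{M₀}⟩ ≤ Q o` then `c ∈ R o × C_X`;
* `exists_z` : if `⟨V^{M₀}⟩ ≤ Q o` then there is `z ∈ Z₀`, `z ≠ 1`, such that `a ∈ N(R o) ∩ C(z)`,
  `V^a ≤ V Z(Q o)` implies `V^a = V`;
* `noPar` : the field `noPar` of `TvH`.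
-/

set_option autoImplicit false
set_option linter.unusedSectionVars false

namespace Cfsg.Agent.Omega.HOne.JunAB

open Subgroup Cfsg Cfsg.Agent.MinSimple.VModule Cfsg.Agent.Omega.BTwo
open Cfsg.Agent.Omega.HOneTwo Cfsg.Agent.Omega.HTwo Cfsg.Agent.Omega.HTwo.ThmA Cfsg.Agent.Omega.HTwo.Par
open Cfsg.Agent.Omega.HTwo.Hat Cfsg.Agent.Omega.HTwo.TComp Cfsg.Agent.Omega.MinPar
open Cfsg.Agent.ZN (zc o2 le_normalizer_o2)
open Cfsg.Agent.Omega.HTwo.AlphaFive (mem_C r_ne r_mem r_sq mem_N_iff cj_V_le exists_h exists_mv cl_le_zc)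
open Cfsg.Agent.Omega.HTwo.AlphaOne (comm_mem_R)
open Cfsg.Agent.Omega.HTwo.AlphaP (le_Q_of_comm exists_conj_X)
open Cfsg.Agent.Omega.HOne.JunIrr

universe u

variable {G : Type u} [Group G] [Finite G] {ι : Type*} {S : Sylow 2 G} {P V : Subgroup G}
  {R : ι → Subgroup G} {o : ι} (b : HT S P V R o) {r : G} (hr : ∀ x, x ∈ R o ↔ x = 1 ∨ x = r)
include b hr

section basic

variable {j : ι} (hj : j ≠ o) {r₂ : G} (h2 : r₂ ∈ R j) (h21 : r₂ ≠ 1)
include hj h2 h21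

/-- `V = R o ∪ r₂ R o` -/
theorem mem_V {v : G} (hv : v ∈ V) : v ∈ R o ∨ r₂⁻¹ * v ∈ R o := by
  have _ := hr
  obtain ⟨a, ha, c, hc, rfl⟩ := b.exists_mul (Ne.symm hj) hv
  by_cases hc1 : c = 1
  · left
    rw [hc1, mul_one]; exact ha
  · right
    rw [eq_of_card_two (b.card_R j) h2 h21 hc hc1, b.V_comm a (b.R_le o ha) r₂ (b.R_le j h2),
      inv_mul_cancel_left]
    exact ha

/-- `V Z(Q o) = Z(Q o) ∪ r₂ Z(Q o)` -/
theorem mem_VZ {x : G} (hx : x ∈ V ⊔ ZQ R o) : x ∈ ZQ R o ∨ r₂⁻¹ * x ∈ ZQ R o := by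
  have hle : ZQ R o ≤ normalizer (V : Set G) := (ZQ_le o).trans (b.Q_le_NV o)
  rw [← SetLike.mem_coe, coe_mul_of_right_le_normalizer_left _ _ hle] at hx
  obtain ⟨v, hv, n, hn, rfl⟩ := hx
  change v * n ∈ ZQ R o ∨ r₂⁻¹ * (v * n) ∈ ZQ R o
  rcases mem_V b hr hj h2 h21 hv with h | h
  · exact Or.inl (mul_mem (R_le_ZQ b.toBT o h) hn)
  · right
    rw [← mul_assoc]
    exact mul_mem (R_le_ZQ b.toBT o h) hn

theorem not_mem_ZQ : r₂ ∉ ZQ R o := by
  intro h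
  obtain ⟨t, ht, v, hv, hne⟩ := exists_mv b hr
  apply hne
  have hvZ : v ∈ ZQ R o := by
    rcases mem_V b hr hj h2 h21 hv with h3 | h3
    · exact R_le_ZQ b.toBT o h3
    · have : v = r₂ * (r₂⁻¹ * v) := by group
      rw [this]
      exact mul_mem h (R_le_ZQ b.toBT o h3)
  exact ZQ_comm hvZ ht

/-- the averaging lemma -/
theorem avg {A D : Subgroup G} (hSA : (S : Subgroup G) ≤ A) (hA : A ≤ normalizer (R o : Set G))
    (hRD : R o ≤ D) (hDZ : D ≤ ZQ R o) (hAD : ∀ a ∈ A, ∀ d ∈ D, a * d * a⁻¹ ∈ D)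
    (h : ∀ a ∈ A, r₂⁻¹ * a * r₂ * a⁻¹ ∈ D) :
    ∃ d ∈ D, ∀ a ∈ A, (r₂ * d)⁻¹ * a * (r₂ * d) * a⁻¹ ∈ R o := by
  have hLE := Alpha.HT.le_all b
  have h2V := b.R_le j h2
  refine Avg.avg (X := A) (P := (S : Subgroup G)) (Y := D) (D := R o) (c := r₂) hSA
    (ThmD.odd_relIndex S hSA) hRD hAD (fun a ha x hx => conj_mem_of_normalizer (hA ha) hx)
    (fun x hx y hy => conj_mem_of_normalizer (b.Q_le o (ZQ_le o (hDZ hx))) hy)
    (fun x hx => Q_sq b.toBTS (hLE o) (ZQ_le o (hDZ hx))) h (fun s hs => ?_)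
  have h3 := comm_mem_R b (b.S_V hs) (b.S_R hs) h2V
  have h4 : r₂ ∈ normalizer (R o : Set G) := b.Q_le o (b.V_Q o h2V)
  have h5 := conj_inv_mem_of_normalizer h4 h3
  have e : r₂⁻¹ * (s * r₂ * s⁻¹ * r₂⁻¹) * r₂ = r₂⁻¹ * s * r₂ * s⁻¹ := by group
  rwa [e] at h5

/-- **(A)** -/
theorem exists_avg : ∃ c ∈ ZQ R o, ∀ a ∈ normalizer (R o : Set G), (∀ v ∈ V, a * v * a⁻¹ ∈ V ⊔ ZQ R o) →
    (r₂ * c)⁻¹ * a * (r₂ * c) * a⁻¹ ∈ R o := by
  have hnZ : normalizer (R o : Set G) ≤ normalizer (ZQ R o : Set G) := N_le_NZQ o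
  obtain ⟨c, hc, H⟩ := avg b hr hj h2 h21 (A := normalizer (R o : Set G) ⊓ normalizer ((V ⊔ ZQ R o : Subgroup G) : Set G))
    (D := ZQ R o) (by
      refine le_inf b.S_R fun s hs => ?_
      rw [← cj_eq_self_iff, cj_sup, cj_eq_self_iff.2 (b.S_V hs), cj_eq_self_iff.2 (hnZ (b.S_R hs))])
    inf_le_left (R_le_ZQ b.toBT o) le_rfl (fun a ha d hd => conj_mem_of_normalizer (hnZ ha.1) hd) (by
      intro a ha
      have h3 : a * r₂ * a⁻¹ ∈ V ⊔ ZQ R o :=
        conj_mem_of_normalizer ha.2 (mem_sup_left (b.R_le j h2))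
      rcases mem_VZ b hr hj h2 h21 h3 with h4 | h4
      · exfalso
        have h5 := conj_inv_mem_of_normalizer (hnZ ha.1) h4
        have e : a⁻¹ * (a * r₂ * a⁻¹) * a = r₂ := by group
        rw [e] at h5
        exact not_mem_ZQ b hr hj h2 h21 h5
      · have e : r₂⁻¹ * (a * r₂ * a⁻¹) = r₂⁻¹ * a * r₂ * a⁻¹ := by group
        rwa [e] at h4)
  refine ⟨c, hc, fun a ha hav => H a ⟨ha, mem_normalizer_of_conj fun x hx => ?_⟩⟩
  have hle : ZQ R o ≤ normalizer (V : Set G) := (ZQ_le o).trans (b.Q_le_NV o)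
  rw [← SetLike.mem_coe, coe_mul_of_right_le_normalizer_left _ _ hle] at hx
  obtain ⟨v, hv, n, hn, rfl⟩ := hx
  change a * (v * n) * a⁻¹ ∈ V ⊔ ZQ R o
  have e : a * (v * n) * a⁻¹ = (a * v * a⁻¹) * (a * n * a⁻¹) := by group
  rw [e]
  exact mul_mem (hav v hv) (mem_sup_right (conj_mem_of_normalizer (hnZ ha) hn))

/-- `N(V) ∩ N(R o)` fixes `c R o` -/
theorem fix_c {c a : G} (hc : c ∈ ZQ R o) (haV : a ∈ normalizer (V : Set G))
    (haR : a ∈ normalizer (R o : Set G)) (H : (r₂ * c)⁻¹ * a * (r₂ * c) * a⁻¹ ∈ R o) :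
    a * c * a⁻¹ * c⁻¹ ∈ R o := by
  have h2V := b.R_le j h2
  have h3 := comm_mem_R b haV haR h2V
  have h4 : r₂ ∈ normalizer (R o : Set G) := b.Q_le o (b.V_Q o h2V)
  have h5 := conj_inv_mem_of_normalizer h4 h3
  have e : r₂⁻¹ * (a * r₂ * a⁻¹ * r₂⁻¹) * r₂ = r₂⁻¹ * a * r₂ * a⁻¹ := by group
  rw [e] at h5
  have hcN : c ∈ normalizer (R o : Set G) := b.Q_le o (ZQ_le o hc)
  have h6 := conj_mem_of_normalizer hcN H
  have e2 : c * ((r₂ * c)⁻¹ * a * (r₂ * c) * a⁻¹) * c⁻¹ =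
      (r₂⁻¹ * a * r₂ * a⁻¹) * (a * c * a⁻¹ * c⁻¹) := by group
  rw [e2] at h6
  have := mul_mem (inv_mem h5) h6
  rwa [inv_mul_cancel_left] at this

end basic

/-! ### (B) -/

/-- a product in `Z(Q i) ∩ Q j` -/
theorem of_conj {c x : G} {i j : ι} (hx : x ∈ XX V R) (e : cj x (R o) = R i) (hij : i ≠ j)
    (hc : c ∈ ZQ R o) (h : x * c * x⁻¹ ∈ QQ (R j)) : ∃ a ∈ R o, a * c ∈ CenX V R := by
  have _ := hr
  have h1 : x * c * x⁻¹ ∈ ZQ R i := by
    rw [← cj_ZQ b.toBT e]; exact conj_mem_cj hc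
  obtain ⟨a, ha, h2⟩ := ZQ_Q b.toBTS hij h1 h
  refine ⟨x⁻¹ * a * x, ?_, ?_⟩
  · rw [← e, mem_cj] at ha
    exact ha
  · have h3 := conj_inv_mem_of_normalizer (b.NV_le_NCenX (b.X_le_NV hx)) h2
    have e2 : x⁻¹ * (a * (x * c * x⁻¹)) * x = x⁻¹ * a * x * c := by group
    rwa [e2] at h3

/-- (i): if the normal closure of `n` normalises `V`, then `n ∈ Q o` -/
theorem mem_Q_of_norm {n : G} (hn : n ∈ normalizer (R o : Set G))
    (h : cl (zpowers n) (normalizer (R o : Set G)) ≤ normalizer (V : Set G)) : n ∈ QQ (R o) := by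
  have _ := hr
  rw [← b.toBTS.K_eq o]
  refine ⟨hn, ?_⟩
  let T : Subgroup G :=
    { carrier := {d | d ∈ normalizer (R o : Set G) ∧ n * d * n⁻¹ * d⁻¹ ∈ R o}
      one_mem' := ⟨one_mem _, by
        have : n * 1 * n⁻¹ * 1⁻¹ = 1 := by group
        rw [this]; exact one_mem _⟩
      mul_mem' := by
        rintro x y ⟨hx, hx'⟩ ⟨hy, hy'⟩
        refine ⟨mul_mem hx hy, ?_⟩
        have e : n * (x * y) * n⁻¹ * (x * y)⁻¹ = (n * x * n⁻¹ * x⁻¹) * (x * (n * y * n⁻¹ * y⁻¹) * x⁻¹) := by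
          group
        rw [e]
        exact mul_mem hx' (conj_mem_of_normalizer hx hy')
      inv_mem' := by
        rintro x ⟨hx, hx'⟩
        refine ⟨inv_mem hx, ?_⟩
        have e : n * x⁻¹ * n⁻¹ * x⁻¹⁻¹ = x⁻¹ * (n * x * n⁻¹ * x⁻¹)⁻¹ * x := by group
        rw [e]
        exact conj_inv_mem_of_normalizer hx (inv_mem hx') }
  have hT : WW V (R o) ≤ T := by
    refine iSup_le fun h' => ?_
    rintro _ ⟨v, hv, rfl⟩
    change (h' : G) * v * (h' : G)⁻¹ ∈ T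
    refine ⟨b.W_le_N o (cj_le_WW h'.2 (conj_mem_cj hv)), ?_⟩
    have h1 : (h' : G)⁻¹ * n * (h' : G)⁻¹⁻¹ ∈ cl (zpowers n) (normalizer (R o : Set G)) :=
      cj_le_cl (inv_mem h'.2) (conj_mem_cj (mem_zpowers n))
    rw [inv_inv] at h1
    have h3 : (h' : G)⁻¹ * n * (h' : G) ∈ normalizer (R o : Set G) := mul_mem (mul_mem (inv_mem h'.2) hn) h'.2
    have h4 := conj_mem_of_normalizer h'.2 (comm_mem_R b (h h1) h3 hv)
    have e : (h' : G) * ((h' : G)⁻¹ * n * h' * v * ((h' : G)⁻¹ * n * h')⁻¹ * v⁻¹) * (h' : G)⁻¹ =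
        n * (h' * v * (h' : G)⁻¹) * n⁻¹ * (h' * v * (h' : G)⁻¹)⁻¹ := by group
    rwa [e] at h4
  exact fun d hd => (hT hd).2

/-- `Z ≤ Z(Q o)` -/
theorem zc_le_ZQ : zc (S : Subgroup G) ≤ ZQ R o := by
  have _ := hr
  intro z hz
  have h1 := b.zc_le_zc_Q hz
  refine ⟨zc_le _ h1, mem_centralizer_iff.2 fun q hq => ?_⟩
  exact (mem_zc.1 h1).2.1 q hq

/-- an element of `C_X` fixed by `S` modulo `R o` is in `Z` -/
theorem mem_zc_of {c : G} (hc : c ∈ CenX V R) (h : ∀ s ∈ (S : Subgroup G), s * c * s⁻¹ * c⁻¹ ∈ R o) :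
    c ∈ zc (S : Subgroup G) ⊓ centralizer (P : Set G) := by
  have _ := hr
  have hLE := Alpha.HT.le_all b
  rw [b.cz_eq]
  refine ⟨mem_zc.2 ⟨b.Q_le_S (mem_iInf.1 (b.toBTS.CenX_le_C hc) o), fun s hs => ?_, ?_⟩, hc⟩
  · have h1 : s * c * s⁻¹ * c⁻¹ ∈ CenX V R :=
      mul_mem (conj_mem_of_normalizer (b.NV_le_NCenX (b.S_V hs)) hc) (inv_mem hc)
    have h2 := b.toBTS.cen_VX (b.R_le o (h s hs)) h1
    exact mul_inv_eq_iff_eq_mul.1 (mul_inv_eq_one.1 h2)
  · rw [pow_two]; exact cenX_sq b.toBTS (hLE o) hc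

/-- `M₀ = ⟨C(Z), X⟩` -/
def MZ (S : Sylow 2 G) (V : Subgroup G) (R : ι → Subgroup G) : Subgroup G :=
  centralizer (zc (S : Subgroup G) : Set G) ⊔ XX V R

omit hr in
theorem MZ_le {z : G} (hz : z ∈ zc (S : Subgroup G) ⊓ centralizer (P : Set G)) :
    MZ S V R ≤ centralizer ({z} : Set G) := by
  refine sup_le (centralizer_le ?_) (b.X_le_cen hz)
  rintro _ rfl
  exact hz.1

/-- **(B)** -/
theorem mem_of_alpha {z₀ : G} (hz₀ : z₀ ∈ zc (S : Subgroup G) ⊓ centralizer (P : Set G)) (hz₀1 : z₀ ≠ 1)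
    (hα : UM V (MZ S V R) ≤ QQ (R o)) {c : G} (hc : c ∈ ZQ R o)
    (hcN : ∀ a ∈ normalizer (V : Set G), a ∈ normalizer (R o : Set G) → a * c * a⁻¹ * c⁻¹ ∈ R o) :
    ∃ a ∈ R o, a * c ∈ CenX V R := by
  classical
  have hLE := Alpha.HT.le_all b
  have bs := b.toBTS
  have hr1 := r_ne b hr
  have hr2 := r_sq b hr
  have hrR := r_mem b hr
  have hNr := fun g => @mem_N_iff G _ ι _ S P V R o b r hr g
  have hnZ : normalizer (R o : Set G) ≤ normalizer (ZQ R o : Set G) := N_le_NZQ o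
  by_contra hcon
  obtain ⟨j, k, hj, hk, hjk⟩ := b.one_lt
  obtain ⟨r₂, h21, h22, h2⟩ := b.exists_gen j
  have h2j : r₂ ∈ R j := (h2 _).2 (Or.inr rfl)
  have h2V := b.R_le j h2j
  -- `x` interchanges `o` and `j`
  obtain ⟨x, hx, ex, ex'⟩ := b.trans_X (Ne.symm hj) hj
  have hxV := b.X_le_NV hx
  -- (1) `c` commutes with `Z(Q j)`
  have h1 : ∀ m ∈ ZQ R j, m * c = c * m := by
    intro m hm
    have hmV := ZQ_le_cen b.toBT j hm
    have h3 := hcN m (cen_le_NV V hmV) (b.cen_le_N o hmV)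
    have h4 : m * c * m⁻¹ * c⁻¹ ∈ CenX V R := by
      rw [← ZQ_inf bs hLE (Ne.symm hj)]
      refine ⟨(ZQ R o).mul_mem (conj_mem_of_normalizer (hnZ (b.cen_le_N o hmV)) hc) ((ZQ R o).inv_mem hc), ?_⟩
      exact comm_mem_of' hm (N_le_NZQ j (b.cen_le_N j (ZQ_le_cen b.toBT o hc)))
    have h5 := bs.cen_VX (b.R_le o h3) h4
    exact mul_inv_eq_iff_eq_mul.1 (mul_inv_eq_one.1 h5)
  -- (2) `n₂` commutes with `Z(Q o)`
  obtain ⟨n, hn⟩ : ∃ n, n = x * c * x⁻¹ := ⟨_, rfl⟩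
  have hnj : n ∈ ZQ R j := by
    rw [hn, ← cj_ZQ b.toBT ex]; exact conj_mem_cj hc
  have hnV := ZQ_le_cen b.toBT j hnj
  have hnN : n ∈ normalizer (R o : Set G) := b.cen_le_N o hnV
  have hno : ∀ m ∈ ZQ R o, n * m = m * n := by
    intro m hm
    rw [← cj_ZQ b.toBT ex', mem_cj] at hm
    have h3 := h1 _ hm
    rw [hn]
    calc x * c * x⁻¹ * m = x * (c * (x⁻¹ * m * x)) * x⁻¹ := by group
      _ = x * ((x⁻¹ * m * x) * c) * x⁻¹ := by rw [h3]
      _ = m * (x * c * x⁻¹) := by group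
  have hnot : ∀ i, i ≠ j → n ∉ QQ (R i) := by
    intro i hi h
    apply hcon
    rw [hn] at h
    exact of_conj b hr hx ex (Ne.symm hi) hc h
  -- (3) the normal closure
  set K := cl (zpowers n) (normalizer (R o : Set G)) with hK
  have hKN : K ≤ normalizer (R o : Set G) := cl_le (by rw [zpowers_le]; exact hnN) le_normalizer
  have hKc : K ≤ centralizer (ZQ R o : Set G) := by
    refine cl_le ?_ (hnZ.trans (normalizer_le_normalizer_centralizer _))
    rw [zpowers_le, mem_centralizer_iff]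
    exact fun m hm => (hno m hm).symm
  have hKZ : K ≤ centralizer (zc (S : Subgroup G) : Set G) := hKc.trans (centralizer_le (zc_le_ZQ b hr))
  have hnK : n ∈ K := le_cl _ _ (mem_zpowers n)
  have hKn : normalizer (R o : Set G) ≤ normalizer (K : Set G) := le_normalizer_cl _ _
  have hKV : ¬ K ≤ normalizer (V : Set G) := fun h => hnot o (Ne.symm hj) (mem_Q_of_norm b hr hnN h)
  -- `M₀`, `U`
  obtain ⟨M, hM⟩ : ∃ M, M = MZ S V R := ⟨_, rfl⟩
  rw [← hM] at hα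
  have hZM : centralizer (zc (S : Subgroup G) : Set G) ≤ M := by rw [hM]; exact le_sup_left
  have hXM : XX V R ≤ M := by rw [hM]; exact le_sup_right
  have hMz₀ : M ≤ centralizer ({z₀} : Set G) := by rw [hM]; exact MZ_le b hz₀
  have hKM : K ≤ M := hKZ.trans hZM
  have hSM : (S : Subgroup G) ≤ M := fun s hs => hZM (mem_centralizer_iff.2 fun z hz => ((mem_zc.1 hz).2.1 s hs).symm)
  have hSr : ∀ s ∈ (S : Subgroup G), s * r = r * s := fun s hs => (hNr s).1 (b.S_R hs)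
  have hz2 : z₀ * z₀ = 1 := by rw [← pow_two]; exact (mem_zc.1 hz₀.1).2.2
  have hSz : ∀ s ∈ (S : Subgroup G), s * z₀ = z₀ * s := (mem_zc.1 hz₀.1).2.1
  have hUeq : cl (R o) M = UM V M := b.cl_R_eq (b.trans_of_X hXM)
  rw [← hUeq] at hα
  set U := cl (R o) M with hU
  have hUz := cl_le_zc b hr hz₀1 hz2 hSz
  have hUle : U ≤ cl (R o) (centralizer ({z₀} : Set G)) := iSup_le fun m => cj_le_cl (hMz₀ m.2)
  have hUcm : ∀ x ∈ U, ∀ y ∈ U, x * y = y * x := fun x hx y hy =>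
    (mem_zc.1 (hUz (hUle hy))).2.1 x (zc_le _ (hUz (hUle hx)))
  have hUsq : ∀ x ∈ U, x * x = 1 := fun x hx => by
    rw [← pow_two]; exact (mem_zc.1 (hUz (hUle hx))).2.2
  have hMU : M ≤ normalizer (U : Set G) := le_normalizer_cl _ _
  have hVU : V ≤ U := by rw [hUeq]; exact le_cl _ _
  -- `U ≤ Q i` for all `i`
  have hUQ : ∀ i, U ≤ QQ (R i) := by
    intro i
    obtain ⟨y, hy, e⟩ := b.trans_X_one o i
    have h3 := cj_mono (g := y) hα
    rwa [b.cj_QQ e, cj_eq_self_iff.2 (hMU (hXM hy))] at h3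
  have hZU : ∀ i, ∀ m ∈ ZQ R i, ∀ u ∈ U, m * u = u * m := fun i m hm u hu => (ZQ_comm hm (hUQ i hu)).symm
  -- `Q o` acts on `U` as transvections
  have hQU : ∀ q ∈ QQ (R o), ∀ n ∈ U, q * n * q⁻¹ = n ∨ q * n * q⁻¹ = n * r := by
    intro q hq n hn
    have h5 := Q_comm bs (hLE o) hq (hα hn)
    rcases (hr _).1 h5 with h6 | h6
    · left; exact mul_inv_eq_one.1 h6
    · right
      rw [mul_inv_eq_iff_eq_mul] at h6
      rw [h6]
      exact (b.QR o n (hα hn) r hrR).symm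
  have hmv : ∀ q : G, q ∉ centralizer (U : Set G) → ∃ n ∈ U, q * n * q⁻¹ ≠ n := by
    intro q hq
    by_contra hcon
    push Not at hcon
    exact hq (mem_centralizer_iff.2 fun n hn => (mul_inv_eq_iff_eq_mul.1 (hcon n hn)).symm)
  have hCZN : centralizer (zc (S : Subgroup G) : Set G) ≤ normalizer (R o : Set G) := by
    intro g hg
    rw [hNr]
    exact (mem_centralizer_iff.1 hg r (b.R_le_zc hrR)).symm
  by_cases hcase : ∃ a ∈ QQ (R o), ∃ c ∈ QQ (R o), a ∉ centralizer (U : Set G) ∧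
      c ∉ centralizer (U : Set G) ∧ a * c ∉ centralizer (U : Set G)
  · -- the component
    obtain ⟨a, ha, c', hc', hna, hnc, hnac⟩ := hcase
    have hQM : ∀ q ∈ QQ (R o), q ∈ M := fun q hq => hSM (b.Q_le_S hq)
    obtain ⟨W, hW, hF⟩ := natC_full_of_sylow S hSM hSr hr hr1 hUsq (hQM a ha)
      (hQM c' hc') (hQU a ha) (hQU c' hc') (hmv a hna) (hmv c' hnc) (hmv _ hnac)
    rw [← hU] at hW
    have hWU : W ≤ U := hW.W_le
    -- `V ≤ W`
    have hVW : V ≤ W := by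
      obtain ⟨t, ht, v, hv, hne⟩ := exists_mv b hr
      have hv1 : v ≠ 1 := by
        rintro rfl
        exact hne (by rw [mul_one, one_mul])
      obtain ⟨c, hc, e⟩ := exists_conj_X b hr hv hv1
      have h1 := hW.adj r hW.mem hr1 t (hQM t ht) (hQU t ht) c (hXM hc) (by
        rw [e]
        intro h
        exact hne (mul_inv_eq_iff_eq_mul.1 h))
      rw [e] at h1
      have h2 := cj_V_le b hr (k := 1) (one_mem _) hW.mem (v := v) (by rw [cj_one]; exact hv) (by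
        intro hvo
        apply hne
        have h3 := ((hr v).1 hvo).resolve_left hv1
        rw [h3]
        exact b.QR o t ht r hrR) h1
      rwa [cj_one] at h2
    have hKr : ∀ k ∈ K, k * r = r * k := fun k hk => (hNr k).1 (hKN hk)
    have hKW : ∀ k ∈ K, ∀ w ∈ W, k * w * k⁻¹ ∈ W := by
      intro k hk
      refine hW.blk k (hKM hk) r hW.mem hr1 ?_
      rw [hKr k hk, mul_inv_cancel_right]
      exact hW.mem
    have hKn' : ∀ t ∈ M, t * r = r * t → ∀ k ∈ K, t * k * t⁻¹ ∈ K := fun t _ htr k hk =>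
      conj_mem_of_normalizer (hKn ((hNr t).2 htr)) hk
    -- `h`
    obtain ⟨h, hh, v₀, hv₀, w, hw, hne⟩ := exists_h b hr
    have hhr : h * r = r * h := (hNr h).1 hh
    have hhi : h⁻¹ ∈ normalizer (R o : Set G) := inv_mem hh
    have hcjK : ∀ k ∈ K, ∀ y ∈ cj h W, k * y * k⁻¹ ∈ cj h W := by
      rintro k hk _ ⟨y, hy, rfl⟩
      change k * (h * y * h⁻¹) * k⁻¹ ∈ cj h W
      have h3 := hKW _ (conj_inv_mem_of_normalizer (hKn hh) hk) y hy
      have e : k * (h * y * h⁻¹) * k⁻¹ = h * (h⁻¹ * k * h * y * (h⁻¹ * k * h)⁻¹) * h⁻¹ := by group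
      rw [e]
      exact conj_mem_cj h3
    -- `C_W(W^{h⁻¹}) ≤ R o`
    have hcen : ∀ y ∈ cj h W, (∀ u ∈ W, y * u = u * y) → y ∈ R o := by
      rcases irr_of_full hW hF hKn' hKr (B := W ⊓ centralizer (cj h⁻¹ W : Set G)) inf_le_left
        ⟨hW.mem, mem_centralizer_iff.2 (by
          rintro _ ⟨y, hy, rfl⟩
          change h⁻¹ * y * h⁻¹⁻¹ * r = r * (h⁻¹ * y * h⁻¹⁻¹)
          have h3 := hUcm y (hWU hy) r (hWU hW.mem)
          rw [inv_inv]
          calc h⁻¹ * y * h * r = h⁻¹ * y * (h * r) := by group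
            _ = h⁻¹ * (y * r) * h := by rw [hhr]; group
            _ = (h⁻¹ * r * h) * (h⁻¹ * y * h) := by rw [h3]; group
            _ = (h⁻¹ * (r * h)) * (h⁻¹ * y * h) := by group
            _ = r * (h⁻¹ * y * h) := by rw [← hhr]; group)⟩ (by
          rintro k hk y ⟨hy, hy'⟩
          refine ⟨hKW k hk y hy, mem_centralizer_iff.2 ?_⟩
          rintro _ ⟨u, hu, rfl⟩
          change h⁻¹ * u * h⁻¹⁻¹ * (k * y * k⁻¹) = k * y * k⁻¹ * (h⁻¹ * u * h⁻¹⁻¹)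
          rw [inv_inv]
          have h3 : h * k⁻¹ * h⁻¹ ∈ K := conj_mem_of_normalizer (hKn hh) (K.inv_mem hk)
          have h4 := hKW _ h3 u hu
          have h5 := mem_centralizer_iff.1 hy' _ (conj_mem_cj (g := h⁻¹) h4)
          have e1 : h⁻¹ * (h * k⁻¹ * h⁻¹ * u * (h * k⁻¹ * h⁻¹)⁻¹) * h⁻¹⁻¹ = k⁻¹ * (h⁻¹ * u * h) * k := by
            group
          rw [e1] at h5
          calc h⁻¹ * u * h * (k * y * k⁻¹) = k * (k⁻¹ * (h⁻¹ * u * h) * k * y) * k⁻¹ := by group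
            _ = k * (y * (k⁻¹ * (h⁻¹ * u * h) * k)) * k⁻¹ := by rw [h5]
            _ = k * y * k⁻¹ * (h⁻¹ * u * h) := by group) with h3 | h3 | h3
      · exfalso
        apply hKV
        intro k hk
        refine mem_normalizer_of_conj fun v hv => ?_
        rcases h3 k hk v (hVW hv) with h4 | h4
        · rw [h4]; exact hv
        · rw [h4]; exact mul_mem hv (b.R_le o hrR)
      · intro y hy hy'
        have h4 : h⁻¹ * y * h ∈ W := mem_cj.1 hy
        have h5 : h⁻¹ * y * h ∈ centralizer (cj h⁻¹ W : Set G) := by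
          rw [mem_centralizer_iff]
          rintro _ ⟨u, hu, rfl⟩
          change h⁻¹ * u * h⁻¹⁻¹ * (h⁻¹ * y * h) = h⁻¹ * y * h * (h⁻¹ * u * h⁻¹⁻¹)
          have h6 := hy' u hu
          calc h⁻¹ * u * h⁻¹⁻¹ * (h⁻¹ * y * h) = h⁻¹ * (u * y) * h := by group
            _ = h⁻¹ * (y * u) * h := by rw [h6]
            _ = _ := by group
        have h6 := (hr _).2 (h3 _ ⟨h4, h5⟩)
        have h7 := conj_mem_of_normalizer hh h6
        have e : h * (h⁻¹ * y * h) * h⁻¹ = y := by group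
        rwa [e] at h7
      · exfalso
        obtain ⟨w', hw', rfl⟩ := hw
        change v₀ * (h * w' * h⁻¹) ≠ h * w' * h⁻¹ * v₀ at hne
        apply hne
        have h4 := (h3 (hVW hw')).2
        have h5 := mem_centralizer_iff.1 h4 _ (conj_mem_cj (g := h⁻¹) (hVW hv₀))
        rw [inv_inv] at h5
        calc v₀ * (h * w' * h⁻¹) = h * (h⁻¹ * v₀ * h * w') * h⁻¹ := by group
          _ = h * (w' * (h⁻¹ * v₀ * h)) * h⁻¹ := by rw [h5]
          _ = h * w' * h⁻¹ * v₀ := by group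
    -- `w` moves the point `j` to another point
    have hwW : w ∈ cj h W := cj_mono hVW hw
    have hwQ : w ∈ QQ (R o) := b.W_le_Q o (cj_le_WW hh hw)
    have hwV : w ∉ centralizer (V : Set G) := fun h3 => hne (mem_centralizer_iff.1 h3 v₀ hv₀)
    obtain ⟨l, hlj, hlo, hl⟩ := movesQ b.toBT hj hwQ hwV
    have hwn : w * n * w⁻¹ ∈ ZQ R l := by
      rw [← cj_ZQ b.toBT hl]; exact conj_mem_cj hnj
    have h3 : w * n * w⁻¹ * n⁻¹ ∈ R o := by
      refine hcen _ ?_ ?_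
      · have h4 := hcjK n hnK _ (inv_mem hwW)
        have e : w * n * w⁻¹ * n⁻¹ = w * (n * w⁻¹ * n⁻¹) := by group
        rw [e]
        exact mul_mem hwW h4
      · intro u hu
        have h4 := hZU l _ hwn u (hWU hu)
        have h5 := hZU j n hnj u (hWU hu)
        have h6 : n⁻¹ * u = u * n⁻¹ := by
          rw [inv_mul_eq_iff_eq_mul, ← mul_assoc, h5, mul_inv_cancel_right]
        rw [mul_assoc, h6, ← mul_assoc, h4, mul_assoc]
    apply hnot l hlj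
    have e : n = (w * n * w⁻¹ * n⁻¹)⁻¹ * (w * n * w⁻¹) := by group
    rw [e]
    exact mul_mem (inv_mem (b.V_Q l (b.R_le o h3))) (ZQ_le l hwn)
  · -- `|Q o : C(U)| = 2`
    push Not at hcase
    obtain ⟨t, ht, v, hv, hne⟩ := exists_mv b hr
    have htU : t ∉ centralizer (U : Set G) := fun h3 => hne (mem_centralizer_iff.1 h3 v (hVU hv)).symm
    have htr : t * r = r * t := b.QR o t ht r hrR
    have htr₂ : t * r₂ * t⁻¹ = r₂ * r := by
      refine (hQU t ht r₂ (hVU h2V)).resolve_left fun h3 => hne ?_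
      have h3' : t * r₂ = r₂ * t := mul_inv_eq_iff_eq_mul.1 h3
      rcases mem_V b hr hj h2j h21 hv with h4 | h4
      · exact b.QR o t ht v h4
      · have h5 := b.QR o t ht _ h4
        calc t * v = t * r₂ * (r₂⁻¹ * v) := by group
          _ = r₂ * (t * (r₂⁻¹ * v)) := by rw [h3']; group
          _ = v * t := by rw [h5]; group
    have key : ∀ u ∈ U, t * u * t⁻¹ = u → u ∈ ZQ R o := by
      intro u hu h3
      refine ⟨hα hu, mem_centralizer_iff.2 fun q hq => ?_⟩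
      by_cases hqU : q ∈ centralizer (U : Set G)
      · exact (mem_centralizer_iff.1 hqU u hu).symm
      · have h4 := hcase t ht q hq htU hqU
        have h5 := mem_centralizer_iff.1 h4 u hu
        have h6 : t * u = u * t := mul_inv_eq_iff_eq_mul.1 h3
        apply mul_left_cancel (a := t)
        rw [← mul_assoc, ← h5, ← mul_assoc, ← h6, mul_assoc]
    have hdec : ∀ u ∈ U, u ∈ ZQ R o ∨ r₂⁻¹ * u ∈ ZQ R o := by
      intro u hu
      rcases hQU t ht u hu with h3 | h3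
      · exact Or.inl (key u hu h3)
      · right
        have h4 : r₂⁻¹ * u ∈ U := mul_mem (inv_mem (hVU h2V)) hu
        refine key _ h4 ?_
        have h5 := hUcm r (hVU (b.R_le o hrR)) _ h4
        calc t * (r₂⁻¹ * u) * t⁻¹ = (t * r₂ * t⁻¹)⁻¹ * (t * u * t⁻¹) := by group
          _ = r⁻¹ * ((r₂⁻¹ * u) * r) := by rw [htr₂, h3]; group
          _ = r₂⁻¹ * u := by rw [← h5]; group
    have hCZM : ∀ a ∈ centralizer (zc (S : Subgroup G) : Set G), ∀ u ∈ U, a * u * a⁻¹ ∈ U := fun a ha u hu =>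
      conj_mem_of_normalizer (hMU (hZM ha)) hu
    obtain ⟨d, hd, H⟩ := avg b hr hj h2j h21 (A := centralizer (zc (S : Subgroup G) : Set G))
      (D := U ⊓ ZQ R o)
      (fun s hs => mem_centralizer_iff.2 fun z hz => ((mem_zc.1 hz).2.1 s hs).symm) hCZN
      (le_inf ((b.R_le o).trans hVU) (R_le_ZQ b.toBT o)) inf_le_right
      (fun a ha d hd => ⟨hCZM a ha d hd.1, conj_mem_of_normalizer (hnZ (hCZN ha)) hd.2⟩)
      (by
        intro a ha
        have h3 := hCZM a ha r₂ (hVU h2V)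
        have e : r₂⁻¹ * a * r₂ * a⁻¹ = r₂⁻¹ * (a * r₂ * a⁻¹) := by group
        rw [e]
        refine ⟨U.mul_mem (U.inv_mem (hVU h2V)) h3, ?_⟩
        refine (hdec _ h3).resolve_left fun h4 => ?_
        have h5 := conj_inv_mem_of_normalizer (hnZ (hCZN ha)) h4
        have e : a⁻¹ * (a * r₂ * a⁻¹) * a = r₂ := by group
        rw [e] at h5
        exact not_mem_ZQ b hr hj h2j h21 h5)
    obtain ⟨a, ha, had⟩ := ZQ_Q bs (Ne.symm hj) hd.2 (hUQ j hd.1)
    have hadZ := mem_zc_of b hr had (by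
      intro s hs
      have h3 := fix_c b hr hj h2j h21 hd.2 (b.S_V hs) (b.S_R hs)
        (H s (mem_centralizer_iff.2 fun z hz => ((mem_zc.1 hz).2.1 s hs).symm))
      have e : s * (a * d) * s⁻¹ * (a * d)⁻¹ = (s * a * s⁻¹) * (s * d * s⁻¹ * d⁻¹) * a⁻¹ := by group
      rw [e]
      exact mul_mem (mul_mem (conj_mem_of_normalizer (b.S_R hs) ha) h3) (inv_mem ha))
    apply hKV
    refine hKZ.trans fun m hm => mem_normalizer_of_conj fun v hv => ?_
    have hmN := hCZN hm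
    have h3 : a * d * m = m * (a * d) := mem_centralizer_iff.1 hm _ hadZ.1
    have h4 : a * m = m * a := by
      rcases (hr a).1 ha with rfl | rfl
      · rw [one_mul, mul_one]
      · exact ((hNr m).1 hmN).symm
    have h5 : d * m = m * d := by
      apply mul_left_cancel (a := a)
      rw [← mul_assoc, h3, ← mul_assoc, ← h4, mul_assoc]
    have h6 := H m hm
    have e1 : (r₂ * d)⁻¹ * m * (r₂ * d) * m⁻¹ = d⁻¹ * (r₂⁻¹ * m * r₂ * m⁻¹) * d := by
      have e2 : d * m⁻¹ = m⁻¹ * d := by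
        rw [eq_inv_mul_iff_mul_eq, ← mul_assoc, ← h5, mul_inv_cancel_right]
      calc (r₂ * d)⁻¹ * m * (r₂ * d) * m⁻¹ = d⁻¹ * r₂⁻¹ * m * r₂ * (d * m⁻¹) := by group
        _ = _ := by rw [e2]; group
    rw [e1] at h6
    have hdN : d ∈ normalizer (R o : Set G) := b.Q_le o (ZQ_le o hd.2)
    have h7 := conj_mem_of_normalizer hdN h6
    have e2 : d * (d⁻¹ * (r₂⁻¹ * m * r₂ * m⁻¹) * d) * d⁻¹ = r₂⁻¹ * m * r₂ * m⁻¹ := by group
    rw [e2] at h7
    have h8 : m * r₂ * m⁻¹ ∈ V := by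
      have e : m * r₂ * m⁻¹ = r₂ * (r₂⁻¹ * m * r₂ * m⁻¹) := by group
      rw [e]
      exact mul_mem h2V (b.R_le o h7)
    rcases mem_V b hr hj h2j h21 hv with h9 | h9
    · exact b.R_le o (conj_mem_of_normalizer hmN h9)
    · have e : m * v * m⁻¹ = (m * r₂ * m⁻¹) * (m * (r₂⁻¹ * v) * m⁻¹) := by group
      rw [e]
      exact mul_mem h8 (b.R_le o (conj_mem_of_normalizer hmN h9))

/-- **(A), (B)** : the choice of `z` -/
theorem exists_z_aux {z₀ : G} (hz₀ : z₀ ∈ zc (S : Subgroup G) ⊓ centralizer (P : Set G)) (hz₀1 : z₀ ≠ 1)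
    (hα : UM V (MZ S V R) ≤ QQ (R o)) :
    ∃ z ∈ zc (S : Subgroup G) ⊓ centralizer (P : Set G), z ≠ 1 ∧
      ∀ a ∈ normalizer (R o : Set G), a * z = z * a → (∀ v ∈ V, a * v * a⁻¹ ∈ V ⊔ ZQ R o) →
        a ∈ normalizer (V : Set G) := by
  have hNr := fun g => @mem_N_iff G _ ι _ S P V R o b r hr g
  obtain ⟨j, k, hj, hk, hjk⟩ := b.one_lt
  obtain ⟨r₂, h21, h22, h2⟩ := b.exists_gen j
  have h2j : r₂ ∈ R j := (h2 _).2 (Or.inr rfl)
  have h2V := b.R_le j h2j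
  obtain ⟨c, hc, H⟩ := exists_avg b hr hj h2j h21
  have hVn : ∀ a ∈ normalizer (V : Set G), ∀ v ∈ V, a * v * a⁻¹ ∈ V ⊔ ZQ R o := fun a ha v hv =>
    mem_sup_left (conj_mem_of_normalizer ha hv)
  obtain ⟨a, ha, hac⟩ := mem_of_alpha b hr hz₀ hz₀1 hα hc fun g hgV hgR =>
    fix_c b hr hj h2j h21 hc hgV hgR (H g hgR (hVn g hgV))
  have hZ := mem_zc_of b hr hac (by
    intro s hs
    have h3 := fix_c b hr hj h2j h21 hc (b.S_V hs) (b.S_R hs) (H s (b.S_R hs) (hVn s (b.S_V hs)))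
    have e : s * (a * c) * s⁻¹ * (a * c)⁻¹ = (s * a * s⁻¹) * (s * c * s⁻¹ * c⁻¹) * a⁻¹ := by group
    rw [e]
    exact mul_mem (mul_mem (conj_mem_of_normalizer (b.S_R hs) ha) h3) (inv_mem ha))
  have main : ∀ g ∈ normalizer (R o : Set G), g * (a * c) = a * c * g →
      (∀ v ∈ V, g * v * g⁻¹ ∈ V ⊔ ZQ R o) → g ∈ normalizer (V : Set G) := by
    intro g hg hgc hgV
    refine mem_normalizer_of_conj fun v hv => ?_
    have h4 : g * a = a * g := by
      rcases (hr a).1 ha with rfl | rfl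
      · rw [one_mul, mul_one]
      · exact (hNr g).1 hg
    have h5 : g * c = c * g := by
      apply mul_left_cancel (a := a)
      rw [← mul_assoc, ← h4, mul_assoc, hgc, mul_assoc]
    have h6 := H g hg hgV
    have e1 : (r₂ * c)⁻¹ * g * (r₂ * c) * g⁻¹ = c⁻¹ * (r₂⁻¹ * g * r₂ * g⁻¹) * c := by
      have e2 : c * g⁻¹ = g⁻¹ * c := by
        rw [eq_inv_mul_iff_mul_eq, ← mul_assoc, h5, mul_inv_cancel_right]
      calc (r₂ * c)⁻¹ * g * (r₂ * c) * g⁻¹ = c⁻¹ * r₂⁻¹ * g * r₂ * (c * g⁻¹) := by group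
        _ = _ := by rw [e2]; group
    rw [e1] at h6
    have hdN : c ∈ normalizer (R o : Set G) := b.Q_le o (ZQ_le o hc)
    have h7 := conj_mem_of_normalizer hdN h6
    have e2 : c * (c⁻¹ * (r₂⁻¹ * g * r₂ * g⁻¹) * c) * c⁻¹ = r₂⁻¹ * g * r₂ * g⁻¹ := by group
    rw [e2] at h7
    have h8 : g * r₂ * g⁻¹ ∈ V := by
      have e : g * r₂ * g⁻¹ = r₂ * (r₂⁻¹ * g * r₂ * g⁻¹) := by group
      rw [e]
      exact mul_mem h2V (b.R_le o h7)
    rcases mem_V b hr hj h2j h21 hv with h9 | h9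
    · exact b.R_le o (conj_mem_of_normalizer hg h9)
    · have e : g * v * g⁻¹ = (g * r₂ * g⁻¹) * (g * (r₂⁻¹ * v) * g⁻¹) := by group
      rw [e]
      exact mul_mem h8 (b.R_le o (conj_mem_of_normalizer hg h9))
  by_cases hz1 : a * c = 1
  · refine ⟨z₀, hz₀, hz₀1, fun g hg _ hgV => main g hg ?_ hgV⟩
    rw [hz1, mul_one, one_mul]
  · exact ⟨a * c, hZ, hz1, fun g hg hgz hgV => main g hg hgz hgV⟩

omit hr in
/-- **(A), (B)** : the choice of `z` -/
theorem exists_z {z₀ : G} (hz₀ : z₀ ∈ zc (S : Subgroup G) ⊓ centralizer (P : Set G)) (hz₀1 : z₀ ≠ 1)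
    (hα : UM V (MZ S V R) ≤ QQ (R o)) :
    ∃ z ∈ zc (S : Subgroup G) ⊓ centralizer (P : Set G), z ≠ 1 ∧
      ∀ a ∈ normalizer (R o : Set G), a * z = z * a → (∀ v ∈ V, a * v * a⁻¹ ∈ V ⊔ ZQ R o) →
        a ∈ normalizer (V : Set G) := by
  obtain ⟨r, -, -, hr⟩ := b.exists_gen o
  exact exists_z_aux b hr hz₀ hz₀1 hα

/-- the field `noPar` of `TvH`, general form -/
theorem noPar' {M : Subgroup G}
    (H : ∀ a ∈ M, a ∈ normalizer (R o : Set G) → (∀ v ∈ V, a * v * a⁻¹ ∈ V ⊔ ZQ R o) →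
      a ∈ normalizer (V : Set G)) {j : ι} (hj : j ≠ o) {t : G} (ht : t ∈ R j) (ht1 : t ≠ 1)
    {Q : G → Subgroup G} (hQ : Q r = QQ (R o)) :
    ∀ a a', TvDef.Adj M r t r a → TvDef.Adj M r t r a' → a * a' ∈ TvDef.ZC Q r → a' = a ∨ a' = r * a := by
  rintro _ _ ⟨m, hm, hmr, rfl⟩ ⟨m', hm', hmr', rfl⟩ hZ
  have hNr := fun g => @mem_N_iff G _ ι _ S P V R o b r hr g
  have hnZ : normalizer (R o : Set G) ≤ normalizer (ZQ R o : Set G) := N_le_NZQ o
  have htV := b.R_le j ht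
  have hmN : m ∈ normalizer (R o : Set G) := (hNr m).2 (mul_inv_eq_iff_eq_mul.1 hmr)
  have hmN' : m' ∈ normalizer (R o : Set G) := (hNr m').2 (mul_inv_eq_iff_eq_mul.1 hmr')
  have hQN : normalizer (R o : Set G) ≤ normalizer (QQ (R o) : Set G) := le_normalizer_O2 _
  have htQ : t ∈ QQ (R o) := b.V_Q o htV
  have h1 : m * t * m⁻¹ * (m' * t * m'⁻¹) ∈ ZQ R o := by
    refine ⟨(QQ (R o)).mul_mem (conj_mem_of_normalizer (hQN hmN) htQ)
      (conj_mem_of_normalizer (hQN hmN') htQ), ?_⟩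
    have h3 := hZ
    unfold TvDef.ZC at h3
    rwa [hQ] at h3
  obtain ⟨g, hg⟩ : ∃ g, g = m⁻¹ * m' := ⟨_, rfl⟩
  have hgN : g ∈ normalizer (R o : Set G) := by rw [hg]; exact mul_mem (inv_mem hmN) hmN'
  have hgM : g ∈ M := by rw [hg]; exact mul_mem (inv_mem hm) hm'
  have h2 : t * (g * t * g⁻¹) ∈ ZQ R o := by
    have h3 := conj_inv_mem_of_normalizer (hnZ hmN) h1
    have e : m⁻¹ * (m * t * m⁻¹ * (m' * t * m'⁻¹)) * m = t * (g * t * g⁻¹) := by rw [hg]; group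
    rwa [e] at h3
  have h3 : g * t * g⁻¹ ∈ V ⊔ ZQ R o := by
    have e : g * t * g⁻¹ = t⁻¹ * (t * (g * t * g⁻¹)) := by group
    rw [e]
    exact mul_mem (mem_sup_left (inv_mem htV)) (mem_sup_right h2)
  have h4 : g ∈ normalizer (V : Set G) := by
    refine H g hgM hgN fun v hv => ?_
    rcases mem_V b hr hj ht ht1 hv with h9 | h9
    · exact mem_sup_left (b.R_le o (conj_mem_of_normalizer hgN h9))
    · have e : g * v * g⁻¹ = (g * t * g⁻¹) * (g * (t⁻¹ * v) * g⁻¹) := by group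
      rw [e]
      exact mul_mem h3 (mem_sup_left (b.R_le o (conj_mem_of_normalizer hgN h9)))
  have h5 := comm_mem_R b h4 hgN htV
  have e : m' * t * m'⁻¹ = m * (g * t * g⁻¹ * t⁻¹) * m⁻¹ * (m * t * m⁻¹) := by rw [hg]; group
  rcases (hr _).1 h5 with h6 | h6
  · left
    rw [e, h6, mul_one, mul_inv_cancel, one_mul]
  · right
    rw [e, h6, hmr]

/-- the field `noPar` of `TvH` -/
theorem noPar {z : G} {M : Subgroup G} (hMz : M ≤ centralizer ({z} : Set G))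
    (H : ∀ a ∈ normalizer (R o : Set G), a * z = z * a → (∀ v ∈ V, a * v * a⁻¹ ∈ V ⊔ ZQ R o) →
      a ∈ normalizer (V : Set G)) {j : ι} (hj : j ≠ o) {t : G} (ht : t ∈ R j) (ht1 : t ≠ 1)
    {Q : G → Subgroup G} (hQ : Q r = QQ (R o)) :
    ∀ a a', TvDef.Adj M r t r a → TvDef.Adj M r t r a' → a * a' ∈ TvDef.ZC Q r → a' = a ∨ a' = r * a :=
  noPar' b hr (fun a ha haN haV => H a haN (mem_C.1 (hMz ha)) haV) hj ht ht1 hQ

/-- **(3) of #15959** for `M ≥ S, X, Z(Q o)` centralising `Z₀` : no parallels -/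
theorem norm_of_par {z₀ : G} (hz₀ : z₀ ∈ zc (S : Subgroup G) ⊓ centralizer (P : Set G)) (hz₀1 : z₀ ≠ 1)
    {M : Subgroup G} (hSM : (S : Subgroup G) ≤ M) (hXM : XX V R ≤ M) (hZM : ZQ R o ≤ M)
    (hMz : ∀ y ∈ zc (S : Subgroup G) ⊓ centralizer (P : Set G), M ≤ centralizer ({y} : Set G)) :
    ∀ g ∈ M, g ∈ normalizer (R o : Set G) → (∀ v ∈ V, g * v * g⁻¹ ∈ V ⊔ ZQ R o) →
      g ∈ normalizer (V : Set G) := by
  have hLE := Alpha.HT.le_all b
  have bs := b.toBTS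
  have hrR := r_mem b hr
  have hNr := fun g => @mem_N_iff G _ ι _ S P V R o b r hr g
  have hnZ : normalizer (R o : Set G) ≤ normalizer (ZQ R o : Set G) := N_le_NZQ o
  obtain ⟨j, k, hj, hk, hjk⟩ := b.one_lt
  obtain ⟨r₂, h21, h22, h2⟩ := b.exists_gen j
  have h2j : r₂ ∈ R j := (h2 _).2 (Or.inr rfl)
  have h2V := b.R_le j h2j
  obtain ⟨x, hx, ex, ex'⟩ := b.trans_X (Ne.symm hj) hj
  have hxM := hXM hx
  -- `U`
  set U := UM V M with hU
  have hMU : M ≤ normalizer (U : Set G) := le_normalizer_cl _ _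
  have hVU : V ≤ U := le_cl _ _
  have d := b.dt hz₀ hz₀1
  have hUle : U ≤ UM V (centralizer ({z₀} : Set G)) := iSup_le fun m => cj_le_cl (hMz z₀ hz₀ m.2)
  have hZjM : ZQ R j ≤ M := by
    rw [← cj_ZQ b.toBT ex, cj_le_iff]
    exact fun y hy => mul_mem (mul_mem hxM (hZM hy)) (inv_mem hxM)
  have hDn : ∀ g ∈ M, g ∈ normalizer (R o : Set G) → ∀ y ∈ U ⊓ ZQ R o, g * y * g⁻¹ ∈ U ⊓ ZQ R o :=
    fun g hg hgN y hy => ⟨conj_mem_of_normalizer (hMU hg) hy.1, conj_mem_of_normalizer (hnZ hgN) hy.2⟩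
  have hD : ∀ g ∈ M, g ∈ normalizer (R o : Set G) → g * r₂ * g⁻¹ ∈ V ⊔ ZQ R o →
      r₂⁻¹ * (g * r₂ * g⁻¹) ∈ U ⊓ ZQ R o := by
    intro g hg hgN h3
    refine ⟨U.mul_mem (U.inv_mem (hVU h2V)) (conj_mem_of_normalizer (hMU hg) (hVU h2V)), ?_⟩
    refine (mem_VZ b hr hj h2j h21 h3).resolve_left fun h4 => ?_
    have h5 := conj_inv_mem_of_normalizer (hnZ hgN) h4
    have e : g⁻¹ * (g * r₂ * g⁻¹) * g = r₂ := by group
    rw [e] at h5
    exact not_mem_ZQ b hr hj h2j h21 h5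
  obtain ⟨c, hc, H⟩ := avg b hr hj h2j h21
    (A := (M ⊓ normalizer (R o : Set G)) ⊓ normalizer ((V ⊔ ZQ R o : Subgroup G) : Set G))
    (D := U ⊓ ZQ R o) (by
      refine le_inf (le_inf hSM b.S_R) fun s hs => ?_
      rw [← cj_eq_self_iff, cj_sup, cj_eq_self_iff.2 (b.S_V hs), cj_eq_self_iff.2 (hnZ (b.S_R hs))])
    (inf_le_left.trans inf_le_right) (le_inf ((b.R_le o).trans hVU) (R_le_ZQ b.toBT o)) inf_le_right
    (fun a ha d hd => hDn a ha.1.1 ha.1.2 d hd) (by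
      intro a ha
      have h3 : a * r₂ * a⁻¹ ∈ V ⊔ ZQ R o :=
        conj_mem_of_normalizer ha.2 (mem_sup_left (b.R_le j h2j))
      have h4 := hD a ha.1.1 ha.1.2 h3
      have e : r₂⁻¹ * (a * r₂ * a⁻¹) = r₂⁻¹ * a * r₂ * a⁻¹ := by group
      rwa [e] at h4)
  have hA : ∀ a ∈ M, a ∈ normalizer (R o : Set G) → (∀ v ∈ V, a * v * a⁻¹ ∈ V ⊔ ZQ R o) →
      a ∈ (M ⊓ normalizer (R o : Set G)) ⊓ normalizer ((V ⊔ ZQ R o : Subgroup G) : Set G) := by
    intro a haM haN haV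
    refine ⟨⟨haM, haN⟩, mem_normalizer_of_conj fun y hy => ?_⟩
    have hle : ZQ R o ≤ normalizer (V : Set G) := (ZQ_le o).trans (b.Q_le_NV o)
    rw [← SetLike.mem_coe, coe_mul_of_right_le_normalizer_left _ _ hle] at hy
    obtain ⟨v, hv, n, hn, rfl⟩ := hy
    change a * (v * n) * a⁻¹ ∈ V ⊔ ZQ R o
    have e : a * (v * n) * a⁻¹ = (a * v * a⁻¹) * (a * n * a⁻¹) := by group
    rw [e]
    exact mul_mem (haV v hv) (mem_sup_right (conj_mem_of_normalizer (hnZ haN) hn))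
  have hVn : ∀ a ∈ normalizer (V : Set G), ∀ v ∈ V, a * v * a⁻¹ ∈ V ⊔ ZQ R o := fun a ha v hv =>
    mem_sup_left (conj_mem_of_normalizer ha hv)
  have hfix : ∀ a ∈ M, a ∈ normalizer (V : Set G) → a ∈ normalizer (R o : Set G) → a * c * a⁻¹ * c⁻¹ ∈ R o :=
    fun a haM haV haR => fix_c b hr hj h2j h21 hc.2 haV haR (H a (hA a haM haR (hVn a haV)))
  -- `c` commutes with `Z(Q j)`
  have h1 : ∀ m ∈ ZQ R j, m * c = c * m := by
    intro m hm
    have hmV := ZQ_le_cen b.toBT j hm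
    have h3 := hfix m (hZjM hm) (cen_le_NV V hmV) (b.cen_le_N o hmV)
    have h4 : m * c * m⁻¹ * c⁻¹ ∈ CenX V R := by
      rw [← ZQ_inf bs hLE (Ne.symm hj)]
      refine ⟨(ZQ R o).mul_mem (conj_mem_of_normalizer (hnZ (b.cen_le_N o hmV)) hc.2)
        ((ZQ R o).inv_mem hc.2), ?_⟩
      exact comm_mem_of' hm (N_le_NZQ j (b.cen_le_N j (ZQ_le_cen b.toBT o hc.2)))
    have h5 := bs.cen_VX (b.R_le o h3) h4
    exact mul_inv_eq_iff_eq_mul.1 (mul_inv_eq_one.1 h5)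
  have h3 : x * c * x⁻¹ ∈ QQ (R o) := by
    have h4 : x * c * x⁻¹ ∈ UM V (centralizer ({z₀} : Set G)) ⊓ QQ (R o) := by
      rw [← d.U_cen_N b.toBT o]
      refine ⟨hUle (conj_mem_of_normalizer (hMU hxM) hc.1), mem_centralizer_iff.2 fun m hm => ?_⟩
      have h6 := d.N_le o hm
      have hm' : m ∈ ZQ R o :=
        ⟨MinSimple.VModule.zc_le _ h6, mem_centralizer_iff.2 fun q hq => (mem_zc.1 h6).2.1 q hq⟩
      rw [← cj_ZQ b.toBT ex', mem_cj] at hm'
      have h7 := h1 _ hm'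
      calc m * (x * c * x⁻¹) = x * ((x⁻¹ * m * x) * c) * x⁻¹ := by group
        _ = x * (c * (x⁻¹ * m * x)) * x⁻¹ := by rw [h7]
        _ = x * c * x⁻¹ * m := by group
    exact h4.2
  obtain ⟨a, ha, hac⟩ := of_conj b hr hx ex hj hc.2 h3
  have hZ := mem_zc_of b hr hac (by
    intro s hs
    have h3 := hfix s (hSM hs) (b.S_V hs) (b.S_R hs)
    have e : s * (a * c) * s⁻¹ * (a * c)⁻¹ = (s * a * s⁻¹) * (s * c * s⁻¹ * c⁻¹) * a⁻¹ := by group
    rw [e]
    exact mul_mem (mul_mem (conj_mem_of_normalizer (b.S_R hs) ha) h3) (inv_mem ha))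
  intro g hgM hg hgV
  refine mem_normalizer_of_conj fun v hv => ?_
  have hgc : g * (a * c) = a * c * g := mem_C.1 (hMz _ hZ hgM)
  have h4 : g * a = a * g := by
    rcases (hr a).1 ha with rfl | rfl
    · rw [one_mul, mul_one]
    · exact (hNr g).1 hg
  have h5 : g * c = c * g := by
    apply mul_left_cancel (a := a)
    rw [← mul_assoc, ← h4, mul_assoc, hgc, mul_assoc]
  have h6 := H g (hA g hgM hg hgV)
  have e1 : (r₂ * c)⁻¹ * g * (r₂ * c) * g⁻¹ = c⁻¹ * (r₂⁻¹ * g * r₂ * g⁻¹) * c := by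
    have e2 : c * g⁻¹ = g⁻¹ * c := by
      rw [eq_inv_mul_iff_mul_eq, ← mul_assoc, h5, mul_inv_cancel_right]
    calc (r₂ * c)⁻¹ * g * (r₂ * c) * g⁻¹ = c⁻¹ * r₂⁻¹ * g * r₂ * (c * g⁻¹) := by group
      _ = _ := by rw [e2]; group
  rw [e1] at h6
  have hdN : c ∈ normalizer (R o : Set G) := b.Q_le o (ZQ_le o hc.2)
  have h7 := conj_mem_of_normalizer hdN h6
  have e2 : c * (c⁻¹ * (r₂⁻¹ * g * r₂ * g⁻¹) * c) * c⁻¹ = r₂⁻¹ * g * r₂ * g⁻¹ := by group
  rw [e2] at h7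
  have h8 : g * r₂ * g⁻¹ ∈ V := by
    have e : g * r₂ * g⁻¹ = r₂ * (r₂⁻¹ * g * r₂ * g⁻¹) := by group
    rw [e]
    exact mul_mem h2V (b.R_le o h7)
  rcases mem_V b hr hj h2j h21 hv with h9 | h9
  · exact b.R_le o (conj_mem_of_normalizer hg h9)
  · have e : g * v * g⁻¹ = (g * r₂ * g⁻¹) * (g * (r₂⁻¹ * v) * g⁻¹) := by group
    rw [e]
    exact mul_mem h8 (b.R_le o (conj_mem_of_normalizer hg h9))

/-- **(3) of #15959** for `M₀ = ⟨C(Z), X⟩` -/
theorem norm_of_par_MZ {z₀ : G} (hz₀ : z₀ ∈ zc (S : Subgroup G) ⊓ centralizer (P : Set G)) (hz₀1 : z₀ ≠ 1) :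
    ∀ g ∈ MZ S V R, g ∈ normalizer (R o : Set G) → (∀ v ∈ V, g * v * g⁻¹ ∈ V ⊔ ZQ R o) →
      g ∈ normalizer (V : Set G) := by
  have hCM : centralizer (zc (S : Subgroup G) : Set G) ≤ MZ S V R := le_sup_left
  refine norm_of_par b hr hz₀ hz₀1 (fun s hs => hCM ?_) le_sup_right (fun y hy => hCM ?_)
    (fun y hy => MZ_le b hy)
  · exact mem_centralizer_iff.2 fun z hz => ((mem_zc.1 hz).2.1 s hs).symm
  · refine mem_centralizer_iff.2 fun z hz => ?_
    have h3 := zc_le_ZQ b hr hz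
    exact ZQ_comm hy h3.1

end Cfsg.Agent.Omega.HOne.JunAB

end

section


/-!
# II.0h1, `q = 2`, JUNCTION (A), (B) (#17185) over a 2-group `S` of odd index in `N(R o)`

The statements of `HOne/JunAB` for `b : HTT S P V R o` and `hLE : ∀ i, LE V R i`.  Where a Sylow subgroup of
`M₀ = ⟨C(Ω₁Z(S)), X⟩` was used: the hypothesis `hch : GSys (MZ S V R) (cl (R o) (MZ S V R)) r`.

* `exists_avg` (A); `mem_of_alpha` (B); `exists_z`; `noPar'`, `noPar`; `norm_of_par`, `norm_of_par_MZ`.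
-/

set_option autoImplicit false
set_option linter.unusedSectionVars false

namespace Cfsg.Agent.Omega.HT.JunAB

open Subgroup Cfsg Cfsg.Agent.MinSimple.VModule Cfsg.Agent.Omega.BTwo
open Cfsg.Agent.Omega.HOneTwo Cfsg.Agent.Omega.HTwo Cfsg.Agent.Omega.HTwo.ThmA Cfsg.Agent.Omega.HTwo.Par
open Cfsg.Agent.Omega.HTwo.Hat Cfsg.Agent.Omega.HTwo.TComp Cfsg.Agent.Omega.MinPar
open Cfsg.Agent.ZN (zc o2 le_normalizer_o2)
open Cfsg.Agent.Omega.HTwo.AlphaFive (mem_C)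
open Cfsg.Agent.Omega.TV (GSys)
open Cfsg.Agent.Omega.HOne
open Cfsg.Agent.Omega.HOne.JunIrr Cfsg.Agent.Omega.HT Cfsg.Agent.Omega.HT.Two Cfsg.Agent.Omega.HT.JunIrr

universe u

variable {G : Type u} [Group G] [Finite G] {ι : Type*} {S P V : Subgroup G}
  {R : ι → Subgroup G} {o : ι} (b : HTT S P V R o) {r : G} (hr : ∀ x, x ∈ R o ↔ x = 1 ∨ x = r)
include b hr

section basic

variable {j : ι} (hj : j ≠ o) {r₂ : G} (h2 : r₂ ∈ R j) (h21 : r₂ ≠ 1)
include hj h2 h21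

/-- `V = R o ∪ r₂ R o` -/
theorem mem_V {v : G} (hv : v ∈ V) : v ∈ R o ∨ r₂⁻¹ * v ∈ R o := by
  have _ := hr
  obtain ⟨a, ha, c, hc, rfl⟩ := b.exists_mul (Ne.symm hj) hv
  by_cases hc1 : c = 1
  · left
    rw [hc1, mul_one]; exact ha
  · right
    rw [eq_of_card_two (b.card_R j) h2 h21 hc hc1, b.V_comm a (b.R_le o ha) r₂ (b.R_le j h2),
      inv_mul_cancel_left]
    exact ha

/-- `V Z(Q o) = Z(Q o) ∪ r₂ Z(Q o)` -/
theorem mem_VZ {x : G} (hx : x ∈ V ⊔ ZQ R o) : x ∈ ZQ R o ∨ r₂⁻¹ * x ∈ ZQ R o := by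
  have hle : ZQ R o ≤ normalizer (V : Set G) := (ZQ_le o).trans (b.Q_le_NV o)
  rw [← SetLike.mem_coe, coe_mul_of_right_le_normalizer_left _ _ hle] at hx
  obtain ⟨v, hv, n, hn, rfl⟩ := hx
  change v * n ∈ ZQ R o ∨ r₂⁻¹ * (v * n) ∈ ZQ R o
  rcases mem_V b hr hj h2 h21 hv with h | h
  · exact Or.inl (mul_mem (R_le_ZQ b.toBT o h) hn)
  · right
    rw [← mul_assoc]
    exact mul_mem (R_le_ZQ b.toBT o h) hn

theorem not_mem_ZQ : r₂ ∉ ZQ R o := by
  intro h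
  obtain ⟨t, ht, v, hv, hne⟩ := exists_mv b hr
  apply hne
  have hvZ : v ∈ ZQ R o := by
    rcases mem_V b hr hj h2 h21 hv with h3 | h3
    · exact R_le_ZQ b.toBT o h3
    · have : v = r₂ * (r₂⁻¹ * v) := by group
      rw [this]
      exact mul_mem h (R_le_ZQ b.toBT o h3)
  exact ZQ_comm hvZ ht

/-- the averaging lemma -/
theorem avg (hLE : ∀ i, ThmA.LE V R i) {A D : Subgroup G} (hSA : S ≤ A) (hA : A ≤ normalizer (R o : Set G))
    (hRD : R o ≤ D) (hDZ : D ≤ ZQ R o) (hAD : ∀ a ∈ A, ∀ d ∈ D, a * d * a⁻¹ ∈ D)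
    (h : ∀ a ∈ A, r₂⁻¹ * a * r₂ * a⁻¹ ∈ D) :
    ∃ d ∈ D, ∀ a ∈ A, (r₂ * d)⁻¹ * a * (r₂ * d) * a⁻¹ ∈ R o := by
  have h2V := b.R_le j h2
  refine Avg.avg (X := A) (P := S) (Y := D) (D := R o) (c := r₂) hSA
    (HT.ThmD.odd_relIndex b.S_odd hSA hA) hRD hAD (fun a ha x hx => conj_mem_of_normalizer (hA ha) hx)
    (fun x hx y hy => conj_mem_of_normalizer (b.Q_le o (ZQ_le o (hDZ hx))) hy)
    (fun x hx => Q_sq b.toBTS (hLE o) (ZQ_le o (hDZ hx))) h (fun s hs => ?_)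
  have h3 := comm_mem_R b (b.S_V hs) (b.S_R hs) h2V
  have h4 : r₂ ∈ normalizer (R o : Set G) := b.Q_le o (b.V_Q o h2V)
  have h5 := conj_inv_mem_of_normalizer h4 h3
  have e : r₂⁻¹ * (s * r₂ * s⁻¹ * r₂⁻¹) * r₂ = r₂⁻¹ * s * r₂ * s⁻¹ := by group
  rwa [e] at h5

/-- **(A)** -/
theorem exists_avg (hLE : ∀ i, ThmA.LE V R i) : ∃ c ∈ ZQ R o, ∀ a ∈ normalizer (R o : Set G), (∀ v ∈ V, a * v * a⁻¹ ∈ V ⊔ ZQ R o) →
    (r₂ * c)⁻¹ * a * (r₂ * c) * a⁻¹ ∈ R o := by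
  have hnZ : normalizer (R o : Set G) ≤ normalizer (ZQ R o : Set G) := N_le_NZQ o
  obtain ⟨c, hc, H⟩ := avg b hr hj h2 h21 hLE (A := normalizer (R o : Set G) ⊓ normalizer ((V ⊔ ZQ R o : Subgroup G) : Set G))
    (D := ZQ R o) (by
      refine le_inf b.S_R fun s hs => ?_
      rw [← cj_eq_self_iff, cj_sup, cj_eq_self_iff.2 (b.S_V hs), cj_eq_self_iff.2 (hnZ (b.S_R hs))])
    inf_le_left (R_le_ZQ b.toBT o) le_rfl (fun a ha d hd => conj_mem_of_normalizer (hnZ ha.1) hd) (by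
      intro a ha
      have h3 : a * r₂ * a⁻¹ ∈ V ⊔ ZQ R o :=
        conj_mem_of_normalizer ha.2 (mem_sup_left (b.R_le j h2))
      rcases mem_VZ b hr hj h2 h21 h3 with h4 | h4
      · exfalso
        have h5 := conj_inv_mem_of_normalizer (hnZ ha.1) h4
        have e : a⁻¹ * (a * r₂ * a⁻¹) * a = r₂ := by group
        rw [e] at h5
        exact not_mem_ZQ b hr hj h2 h21 h5
      · have e : r₂⁻¹ * (a * r₂ * a⁻¹) = r₂⁻¹ * a * r₂ * a⁻¹ := by group
        rwa [e] at h4)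
  refine ⟨c, hc, fun a ha hav => H a ⟨ha, mem_normalizer_of_conj fun x hx => ?_⟩⟩
  have hle : ZQ R o ≤ normalizer (V : Set G) := (ZQ_le o).trans (b.Q_le_NV o)
  rw [← SetLike.mem_coe, coe_mul_of_right_le_normalizer_left _ _ hle] at hx
  obtain ⟨v, hv, n, hn, rfl⟩ := hx
  change a * (v * n) * a⁻¹ ∈ V ⊔ ZQ R o
  have e : a * (v * n) * a⁻¹ = (a * v * a⁻¹) * (a * n * a⁻¹) := by group
  rw [e]
  exact mul_mem (hav v hv) (mem_sup_right (conj_mem_of_normalizer (hnZ ha) hn))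

/-- `N(V) ∩ N(R o)` fixes `c R o` -/
theorem fix_c {c a : G} (hc : c ∈ ZQ R o) (haV : a ∈ normalizer (V : Set G))
    (haR : a ∈ normalizer (R o : Set G)) (H : (r₂ * c)⁻¹ * a * (r₂ * c) * a⁻¹ ∈ R o) :
    a * c * a⁻¹ * c⁻¹ ∈ R o := by
  have h2V := b.R_le j h2
  have h3 := comm_mem_R b haV haR h2V
  have h4 : r₂ ∈ normalizer (R o : Set G) := b.Q_le o (b.V_Q o h2V)
  have h5 := conj_inv_mem_of_normalizer h4 h3
  have e : r₂⁻¹ * (a * r₂ * a⁻¹ * r₂⁻¹) * r₂ = r₂⁻¹ * a * r₂ * a⁻¹ := by group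
  rw [e] at h5
  have hcN : c ∈ normalizer (R o : Set G) := b.Q_le o (ZQ_le o hc)
  have h6 := conj_mem_of_normalizer hcN H
  have e2 : c * ((r₂ * c)⁻¹ * a * (r₂ * c) * a⁻¹) * c⁻¹ =
      (r₂⁻¹ * a * r₂ * a⁻¹) * (a * c * a⁻¹ * c⁻¹) := by group
  rw [e2] at h6
  have := mul_mem (inv_mem h5) h6
  rwa [inv_mul_cancel_left] at this

end basic

/-! ### (B) -/

/-- a product in `Z(Q i) ∩ Q j` -/
theorem of_conj {c x : G} {i j : ι} (hx : x ∈ XX V R) (e : cj x (R o) = R i) (hij : i ≠ j)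
    (hc : c ∈ ZQ R o) (h : x * c * x⁻¹ ∈ QQ (R j)) : ∃ a ∈ R o, a * c ∈ CenX V R := by
  have _ := hr
  have h1 : x * c * x⁻¹ ∈ ZQ R i := by
    rw [← cj_ZQ b.toBT e]; exact conj_mem_cj hc
  obtain ⟨a, ha, h2⟩ := ZQ_Q b.toBTS hij h1 h
  refine ⟨x⁻¹ * a * x, ?_, ?_⟩
  · rw [← e, mem_cj] at ha
    exact ha
  · have h3 := conj_inv_mem_of_normalizer (b.NV_le_NCenX (b.X_le_NV hx)) h2
    have e2 : x⁻¹ * (a * (x * c * x⁻¹)) * x = x⁻¹ * a * x * c := by group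
    rwa [e2] at h3

/-- (i): if the normal closure of `n` normalises `V`, then `n ∈ Q o` -/
theorem mem_Q_of_norm {n : G} (hn : n ∈ normalizer (R o : Set G))
    (h : cl (zpowers n) (normalizer (R o : Set G)) ≤ normalizer (V : Set G)) : n ∈ QQ (R o) := by
  have _ := hr
  rw [← b.toBTS.K_eq o]
  refine ⟨hn, ?_⟩
  let T : Subgroup G :=
    { carrier := {d | d ∈ normalizer (R o : Set G) ∧ n * d * n⁻¹ * d⁻¹ ∈ R o}
      one_mem' := ⟨one_mem _, by
        have : n * 1 * n⁻¹ * 1⁻¹ = 1 := by group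
        rw [this]; exact one_mem _⟩
      mul_mem' := by
        rintro x y ⟨hx, hx'⟩ ⟨hy, hy'⟩
        refine ⟨mul_mem hx hy, ?_⟩
        have e : n * (x * y) * n⁻¹ * (x * y)⁻¹ = (n * x * n⁻¹ * x⁻¹) * (x * (n * y * n⁻¹ * y⁻¹) * x⁻¹) := by
          group
        rw [e]
        exact mul_mem hx' (conj_mem_of_normalizer hx hy')
      inv_mem' := by
        rintro x ⟨hx, hx'⟩
        refine ⟨inv_mem hx, ?_⟩
        have e : n * x⁻¹ * n⁻¹ * x⁻¹⁻¹ = x⁻¹ * (n * x * n⁻¹ * x⁻¹)⁻¹ * x := by group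
        rw [e]
        exact conj_inv_mem_of_normalizer hx (inv_mem hx') }
  have hT : WW V (R o) ≤ T := by
    refine iSup_le fun h' => ?_
    rintro _ ⟨v, hv, rfl⟩
    change (h' : G) * v * (h' : G)⁻¹ ∈ T
    refine ⟨b.W_le_N o (cj_le_WW h'.2 (conj_mem_cj hv)), ?_⟩
    have h1 : (h' : G)⁻¹ * n * (h' : G)⁻¹⁻¹ ∈ cl (zpowers n) (normalizer (R o : Set G)) :=
      cj_le_cl (inv_mem h'.2) (conj_mem_cj (mem_zpowers n))
    rw [inv_inv] at h1
    have h3 : (h' : G)⁻¹ * n * (h' : G) ∈ normalizer (R o : Set G) := mul_mem (mul_mem (inv_mem h'.2) hn) h'.2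
    have h4 := conj_mem_of_normalizer h'.2 (comm_mem_R b (h h1) h3 hv)
    have e : (h' : G) * ((h' : G)⁻¹ * n * h' * v * ((h' : G)⁻¹ * n * h')⁻¹ * v⁻¹) * (h' : G)⁻¹ =
        n * (h' * v * (h' : G)⁻¹) * n⁻¹ * (h' * v * (h' : G)⁻¹)⁻¹ := by group
    rwa [e] at h4
  exact fun d hd => (hT hd).2

/-- `Z ≤ Z(Q o)` -/
theorem zc_le_ZQ : zc S ≤ ZQ R o := by
  have _ := hr
  intro z hz
  have h1 := b.zc_le_zc_Q hz
  refine ⟨zc_le _ h1, mem_centralizer_iff.2 fun q hq => ?_⟩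
  exact (mem_zc.1 h1).2.1 q hq

/-- an element of `C_X` fixed by `S` modulo `R o` is in `Z` -/
theorem mem_zc_of (hLE : ∀ i, ThmA.LE V R i) {c : G} (hc : c ∈ CenX V R) (h : ∀ s ∈ S, s * c * s⁻¹ * c⁻¹ ∈ R o) :
    c ∈ zc S ⊓ centralizer (P : Set G) := by
  have _ := hr
  rw [b.cz_eq]
  refine ⟨mem_zc.2 ⟨b.Q_le_S (mem_iInf.1 (b.toBTS.CenX_le_C hc) o), fun s hs => ?_, ?_⟩, hc⟩
  · have h1 : s * c * s⁻¹ * c⁻¹ ∈ CenX V R :=
      mul_mem (conj_mem_of_normalizer (b.NV_le_NCenX (b.S_V hs)) hc) (inv_mem hc)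
    have h2 := b.toBTS.cen_VX (b.R_le o (h s hs)) h1
    exact mul_inv_eq_iff_eq_mul.1 (mul_inv_eq_one.1 h2)
  · rw [pow_two]; exact cenX_sq b.toBTS (hLE o) hc

/-- `M₀ = ⟨C(Z), X⟩` -/
def MZ (S V : Subgroup G) (R : ι → Subgroup G) : Subgroup G :=
  centralizer (zc S : Set G) ⊔ XX V R

omit hr in
theorem MZ_le {z : G} (hz : z ∈ zc S ⊓ centralizer (P : Set G)) :
    MZ S V R ≤ centralizer ({z} : Set G) := by
  refine sup_le (centralizer_le ?_) (b.X_le_cen hz)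
  rintro _ rfl
  exact hz.1

/-- `GSys` for `M₀` from `2 ∤ |M₀ : S|` -/
theorem gsys_MZ {z₀ : G} (hz₀ : z₀ ∈ zc S ⊓ centralizer (P : Set G)) (hz₀1 : z₀ ≠ 1)
    (hodd : ¬ 2 ∣ S.relIndex (MZ S V R)) : GSys (MZ S V R) (cl (R o) (MZ S V R)) r := by
  have hNr := fun g => mem_N_iff b hr (g := g)
  have hUz : cl (R o) (centralizer ({z₀} : Set G)) ≤ zc (o2 (centralizer ({z₀} : Set G))) :=
    (b.cl_R_eq (b.trans_of_X (b.X_le_cen hz₀))).trans_le (b.cl_V_le (b.isLoc_cen hz₀.1 hz₀1) (b.X_le_cen hz₀))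
  have hMz₀ : MZ S V R ≤ centralizer ({z₀} : Set G) := MZ_le b hz₀
  have hUle : cl (R o) (MZ S V R) ≤ cl (R o) (centralizer ({z₀} : Set G)) :=
    iSup_le fun m => cj_le_cl (hMz₀ m.2)
  refine gsys_of_sylow b.S_p hodd ?_ (fun s hs => (hNr s).1 (b.S_R hs)) hr (r_ne b hr) fun x hx => ?_
  · exact fun s hs => (le_sup_left : centralizer (zc S : Set G) ≤ MZ S V R)
      (mem_centralizer_iff.2 fun z hz => ((mem_zc.1 hz).2.1 s hs).symm)
  · rw [← pow_two]; exact (mem_zc.1 (hUz (hUle hx))).2.2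

/-- **(B)** -/
theorem mem_of_alpha (hLE : ∀ i, ThmA.LE V R i) (hch : GSys (MZ S V R) (cl (R o) (MZ S V R)) r)
    {z₀ : G} (hz₀ : z₀ ∈ zc S ⊓ centralizer (P : Set G)) (hz₀1 : z₀ ≠ 1)
    (hα : UM V (MZ S V R) ≤ QQ (R o)) {c : G} (hc : c ∈ ZQ R o)
    (hcN : ∀ a ∈ normalizer (V : Set G), a ∈ normalizer (R o : Set G) → a * c * a⁻¹ * c⁻¹ ∈ R o) :
    ∃ a ∈ R o, a * c ∈ CenX V R := by
  classical
  have bs := b.toBTS
  have hr1 := r_ne b hr
  have hr2 := r_sq b hr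
  have hrR := r_mem b hr
  have hNr := fun g => mem_N_iff b hr (g := g)
  have hnZ : normalizer (R o : Set G) ≤ normalizer (ZQ R o : Set G) := N_le_NZQ o
  by_contra hcon
  obtain ⟨j, k, hj, hk, hjk⟩ := b.one_lt
  obtain ⟨r₂, h21, h22, h2⟩ := b.exists_gen j
  have h2j : r₂ ∈ R j := (h2 _).2 (Or.inr rfl)
  have h2V := b.R_le j h2j
  -- `x` interchanges `o` and `j`
  obtain ⟨x, hx, ex, ex'⟩ := b.trans_X (Ne.symm hj) hj
  have hxV := b.X_le_NV hx
  -- (1) `c` commutes with `Z(Q j)`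
  have h1 : ∀ m ∈ ZQ R j, m * c = c * m := by
    intro m hm
    have hmV := ZQ_le_cen b.toBT j hm
    have h3 := hcN m (cen_le_NV V hmV) (b.cen_le_N o hmV)
    have h4 : m * c * m⁻¹ * c⁻¹ ∈ CenX V R := by
      rw [← ZQ_inf bs hLE (Ne.symm hj)]
      refine ⟨(ZQ R o).mul_mem (conj_mem_of_normalizer (hnZ (b.cen_le_N o hmV)) hc) ((ZQ R o).inv_mem hc), ?_⟩
      exact comm_mem_of' hm (N_le_NZQ j (b.cen_le_N j (ZQ_le_cen b.toBT o hc)))
    have h5 := bs.cen_VX (b.R_le o h3) h4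
    exact mul_inv_eq_iff_eq_mul.1 (mul_inv_eq_one.1 h5)
  -- (2) `n₂` commutes with `Z(Q o)`
  obtain ⟨n, hn⟩ : ∃ n, n = x * c * x⁻¹ := ⟨_, rfl⟩
  have hnj : n ∈ ZQ R j := by
    rw [hn, ← cj_ZQ b.toBT ex]; exact conj_mem_cj hc
  have hnV := ZQ_le_cen b.toBT j hnj
  have hnN : n ∈ normalizer (R o : Set G) := b.cen_le_N o hnV
  have hno : ∀ m ∈ ZQ R o, n * m = m * n := by
    intro m hm
    rw [← cj_ZQ b.toBT ex', mem_cj] at hm
    have h3 := h1 _ hm
    rw [hn]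
    calc x * c * x⁻¹ * m = x * (c * (x⁻¹ * m * x)) * x⁻¹ := by group
      _ = x * ((x⁻¹ * m * x) * c) * x⁻¹ := by rw [h3]
      _ = m * (x * c * x⁻¹) := by group
  have hnot : ∀ i, i ≠ j → n ∉ QQ (R i) := by
    intro i hi h
    apply hcon
    rw [hn] at h
    exact of_conj b hr hx ex (Ne.symm hi) hc h
  -- (3) the normal closure
  set K := cl (zpowers n) (normalizer (R o : Set G)) with hK
  have hKN : K ≤ normalizer (R o : Set G) := cl_le (by rw [zpowers_le]; exact hnN) le_normalizer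
  have hKc : K ≤ centralizer (ZQ R o : Set G) := by
    refine cl_le ?_ (hnZ.trans (normalizer_le_normalizer_centralizer _))
    rw [zpowers_le, mem_centralizer_iff]
    exact fun m hm => (hno m hm).symm
  have hKZ : K ≤ centralizer (zc S : Set G) := hKc.trans (centralizer_le (zc_le_ZQ b hr))
  have hnK : n ∈ K := le_cl _ _ (mem_zpowers n)
  have hKn : normalizer (R o : Set G) ≤ normalizer (K : Set G) := le_normalizer_cl _ _
  have hKV : ¬ K ≤ normalizer (V : Set G) := fun h => hnot o (Ne.symm hj) (mem_Q_of_norm b hr hnN h)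
  -- `M₀`, `U`
  obtain ⟨M, hM⟩ : ∃ M, M = MZ S V R := ⟨_, rfl⟩
  rw [← hM] at hα hch
  have hZM : centralizer (zc S : Set G) ≤ M := by rw [hM]; exact le_sup_left
  have hXM : XX V R ≤ M := by rw [hM]; exact le_sup_right
  have hMz₀ : M ≤ centralizer ({z₀} : Set G) := by rw [hM]; exact MZ_le b hz₀
  have hKM : K ≤ M := hKZ.trans hZM
  have hSM : S ≤ M := fun s hs => hZM (mem_centralizer_iff.2 fun z hz => ((mem_zc.1 hz).2.1 s hs).symm)
  have hSr : ∀ s ∈ S, s * r = r * s := fun s hs => (hNr s).1 (b.S_R hs)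
  have hz2 : z₀ * z₀ = 1 := by rw [← pow_two]; exact (mem_zc.1 hz₀.1).2.2
  have hSz : ∀ s ∈ S, s * z₀ = z₀ * s := (mem_zc.1 hz₀.1).2.1
  have hUeq : cl (R o) M = UM V M := b.cl_R_eq (b.trans_of_X hXM)
  rw [← hUeq] at hα
  set U := cl (R o) M with hU
  have hUz : cl (R o) (centralizer ({z₀} : Set G)) ≤ zc (o2 (centralizer ({z₀} : Set G))) :=
    (b.cl_R_eq (b.trans_of_X (b.X_le_cen hz₀))).trans_le (b.cl_V_le (b.isLoc_cen hz₀.1 hz₀1) (b.X_le_cen hz₀))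
  have hUle : U ≤ cl (R o) (centralizer ({z₀} : Set G)) := iSup_le fun m => cj_le_cl (hMz₀ m.2)
  have hUcm : ∀ x ∈ U, ∀ y ∈ U, x * y = y * x := fun x hx y hy =>
    (mem_zc.1 (hUz (hUle hy))).2.1 x (zc_le _ (hUz (hUle hx)))
  have hUsq : ∀ x ∈ U, x * x = 1 := fun x hx => by
    rw [← pow_two]; exact (mem_zc.1 (hUz (hUle hx))).2.2
  have hMU : M ≤ normalizer (U : Set G) := le_normalizer_cl _ _
  have hVU : V ≤ U := by rw [hUeq]; exact le_cl _ _
  -- `U ≤ Q i` for all `i`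
  have hUQ : ∀ i, U ≤ QQ (R i) := by
    intro i
    obtain ⟨y, hy, e⟩ := b.trans_X_one o i
    have h3 := cj_mono (g := y) hα
    rwa [b.cj_QQ e, cj_eq_self_iff.2 (hMU (hXM hy))] at h3
  have hZU : ∀ i, ∀ m ∈ ZQ R i, ∀ u ∈ U, m * u = u * m := fun i m hm u hu => (ZQ_comm hm (hUQ i hu)).symm
  -- `Q o` acts on `U` as transvections
  have hQU : ∀ q ∈ QQ (R o), ∀ n ∈ U, q * n * q⁻¹ = n ∨ q * n * q⁻¹ = n * r := by
    intro q hq n hn
    have h5 := Q_comm bs (hLE o) hq (hα hn)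
    rcases (hr _).1 h5 with h6 | h6
    · left; exact mul_inv_eq_one.1 h6
    · right
      rw [mul_inv_eq_iff_eq_mul] at h6
      rw [h6]
      exact (b.QR o n (hα hn) r hrR).symm
  have hmv : ∀ q : G, q ∉ centralizer (U : Set G) → ∃ n ∈ U, q * n * q⁻¹ ≠ n := by
    intro q hq
    by_contra hcon
    push Not at hcon
    exact hq (mem_centralizer_iff.2 fun n hn => (mul_inv_eq_iff_eq_mul.1 (hcon n hn)).symm)
  have hCZN : centralizer (zc S : Set G) ≤ normalizer (R o : Set G) := by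
    intro g hg
    rw [hNr]
    exact (mem_centralizer_iff.1 hg r (b.R_le_zc hrR)).symm
  by_cases hcase : ∃ a ∈ QQ (R o), ∃ c ∈ QQ (R o), a ∉ centralizer (U : Set G) ∧
      c ∉ centralizer (U : Set G) ∧ a * c ∉ centralizer (U : Set G)
  · -- the component
    obtain ⟨a, ha, c', hc', hna, hnc, hnac⟩ := hcase
    have hQM : ∀ q ∈ QQ (R o), q ∈ M := fun q hq => hSM (b.Q_le_S hq)
    obtain ⟨W, hW, hF⟩ := natC_full_of_gsys hch (hQM a ha)
      (hQM c' hc') (hQU a ha) (hQU c' hc') (hmv a hna) (hmv c' hnc) (hmv _ hnac)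
    have _ := hU
    have hWU : W ≤ U := hW.W_le
    -- `V ≤ W`
    have hVW : V ≤ W := by
      obtain ⟨t, ht, v, hv, hne⟩ := exists_mv b hr
      have hv1 : v ≠ 1 := by
        rintro rfl
        exact hne (by rw [mul_one, one_mul])
      obtain ⟨c, hc, e⟩ := exists_conj_X b hr hv hv1
      have h1 := hW.adj r hW.mem hr1 t (hQM t ht) (hQU t ht) c (hXM hc) (by
        rw [e]
        intro h
        exact hne (mul_inv_eq_iff_eq_mul.1 h))
      rw [e] at h1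
      have h2 := cj_V_le b hr (k := 1) (one_mem _) hW.mem (v := v) (by rw [cj_one]; exact hv) (by
        intro hvo
        apply hne
        have h3 := ((hr v).1 hvo).resolve_left hv1
        rw [h3]
        exact b.QR o t ht r hrR) h1
      rwa [cj_one] at h2
    have hKr : ∀ k ∈ K, k * r = r * k := fun k hk => (hNr k).1 (hKN hk)
    have hKW : ∀ k ∈ K, ∀ w ∈ W, k * w * k⁻¹ ∈ W := by
      intro k hk
      refine hW.blk k (hKM hk) r hW.mem hr1 ?_
      rw [hKr k hk, mul_inv_cancel_right]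
      exact hW.mem
    have hKn' : ∀ t ∈ M, t * r = r * t → ∀ k ∈ K, t * k * t⁻¹ ∈ K := fun t _ htr k hk =>
      conj_mem_of_normalizer (hKn ((hNr t).2 htr)) hk
    -- `h`
    obtain ⟨h, hh, v₀, hv₀, w, hw, hne⟩ := exists_h b hr
    have hhr : h * r = r * h := (hNr h).1 hh
    have hhi : h⁻¹ ∈ normalizer (R o : Set G) := inv_mem hh
    have hcjK : ∀ k ∈ K, ∀ y ∈ cj h W, k * y * k⁻¹ ∈ cj h W := by
      rintro k hk _ ⟨y, hy, rfl⟩
      change k * (h * y * h⁻¹) * k⁻¹ ∈ cj h W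
      have h3 := hKW _ (conj_inv_mem_of_normalizer (hKn hh) hk) y hy
      have e : k * (h * y * h⁻¹) * k⁻¹ = h * (h⁻¹ * k * h * y * (h⁻¹ * k * h)⁻¹) * h⁻¹ := by group
      rw [e]
      exact conj_mem_cj h3
    -- `C_W(W^{h⁻¹}) ≤ R o`
    have hcen : ∀ y ∈ cj h W, (∀ u ∈ W, y * u = u * y) → y ∈ R o := by
      rcases irr_of_full hW hF hKn' hKr (B := W ⊓ centralizer (cj h⁻¹ W : Set G)) inf_le_left
        ⟨hW.mem, mem_centralizer_iff.2 (by
          rintro _ ⟨y, hy, rfl⟩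
          change h⁻¹ * y * h⁻¹⁻¹ * r = r * (h⁻¹ * y * h⁻¹⁻¹)
          have h3 := hUcm y (hWU hy) r (hWU hW.mem)
          rw [inv_inv]
          calc h⁻¹ * y * h * r = h⁻¹ * y * (h * r) := by group
            _ = h⁻¹ * (y * r) * h := by rw [hhr]; group
            _ = (h⁻¹ * r * h) * (h⁻¹ * y * h) := by rw [h3]; group
            _ = (h⁻¹ * (r * h)) * (h⁻¹ * y * h) := by group
            _ = r * (h⁻¹ * y * h) := by rw [← hhr]; group)⟩ (by
          rintro k hk y ⟨hy, hy'⟩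
          refine ⟨hKW k hk y hy, mem_centralizer_iff.2 ?_⟩
          rintro _ ⟨u, hu, rfl⟩
          change h⁻¹ * u * h⁻¹⁻¹ * (k * y * k⁻¹) = k * y * k⁻¹ * (h⁻¹ * u * h⁻¹⁻¹)
          rw [inv_inv]
          have h3 : h * k⁻¹ * h⁻¹ ∈ K := conj_mem_of_normalizer (hKn hh) (K.inv_mem hk)
          have h4 := hKW _ h3 u hu
          have h5 := mem_centralizer_iff.1 hy' _ (conj_mem_cj (g := h⁻¹) h4)
          have e1 : h⁻¹ * (h * k⁻¹ * h⁻¹ * u * (h * k⁻¹ * h⁻¹)⁻¹) * h⁻¹⁻¹ = k⁻¹ * (h⁻¹ * u * h) * k := by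
            group
          rw [e1] at h5
          calc h⁻¹ * u * h * (k * y * k⁻¹) = k * (k⁻¹ * (h⁻¹ * u * h) * k * y) * k⁻¹ := by group
            _ = k * (y * (k⁻¹ * (h⁻¹ * u * h) * k)) * k⁻¹ := by rw [h5]
            _ = k * y * k⁻¹ * (h⁻¹ * u * h) := by group) with h3 | h3 | h3
      · exfalso
        apply hKV
        intro k hk
        refine mem_normalizer_of_conj fun v hv => ?_
        rcases h3 k hk v (hVW hv) with h4 | h4
        · rw [h4]; exact hv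
        · rw [h4]; exact mul_mem hv (b.R_le o hrR)
      · intro y hy hy'
        have h4 : h⁻¹ * y * h ∈ W := mem_cj.1 hy
        have h5 : h⁻¹ * y * h ∈ centralizer (cj h⁻¹ W : Set G) := by
          rw [mem_centralizer_iff]
          rintro _ ⟨u, hu, rfl⟩
          change h⁻¹ * u * h⁻¹⁻¹ * (h⁻¹ * y * h) = h⁻¹ * y * h * (h⁻¹ * u * h⁻¹⁻¹)
          have h6 := hy' u hu
          calc h⁻¹ * u * h⁻¹⁻¹ * (h⁻¹ * y * h) = h⁻¹ * (u * y) * h := by group
            _ = h⁻¹ * (y * u) * h := by rw [h6]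
            _ = _ := by group
        have h6 := (hr _).2 (h3 _ ⟨h4, h5⟩)
        have h7 := conj_mem_of_normalizer hh h6
        have e : h * (h⁻¹ * y * h) * h⁻¹ = y := by group
        rwa [e] at h7
      · exfalso
        obtain ⟨w', hw', rfl⟩ := hw
        change v₀ * (h * w' * h⁻¹) ≠ h * w' * h⁻¹ * v₀ at hne
        apply hne
        have h4 := (h3 (hVW hw')).2
        have h5 := mem_centralizer_iff.1 h4 _ (conj_mem_cj (g := h⁻¹) (hVW hv₀))
        rw [inv_inv] at h5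
        calc v₀ * (h * w' * h⁻¹) = h * (h⁻¹ * v₀ * h * w') * h⁻¹ := by group
          _ = h * (w' * (h⁻¹ * v₀ * h)) * h⁻¹ := by rw [h5]
          _ = h * w' * h⁻¹ * v₀ := by group
    -- `w` moves the point `j` to another point
    have hwW : w ∈ cj h W := cj_mono hVW hw
    have hwQ : w ∈ QQ (R o) := b.W_le_Q o (cj_le_WW hh hw)
    have hwV : w ∉ centralizer (V : Set G) := fun h3 => hne (mem_centralizer_iff.1 h3 v₀ hv₀)
    obtain ⟨l, hlj, hlo, hl⟩ := movesQ b.toBT hj hwQ hwV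
    have hwn : w * n * w⁻¹ ∈ ZQ R l := by
      rw [← cj_ZQ b.toBT hl]; exact conj_mem_cj hnj
    have h3 : w * n * w⁻¹ * n⁻¹ ∈ R o := by
      refine hcen _ ?_ ?_
      · have h4 := hcjK n hnK _ (inv_mem hwW)
        have e : w * n * w⁻¹ * n⁻¹ = w * (n * w⁻¹ * n⁻¹) := by group
        rw [e]
        exact mul_mem hwW h4
      · intro u hu
        have h4 := hZU l _ hwn u (hWU hu)
        have h5 := hZU j n hnj u (hWU hu)
        have h6 : n⁻¹ * u = u * n⁻¹ := by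
          rw [inv_mul_eq_iff_eq_mul, ← mul_assoc, h5, mul_inv_cancel_right]
        rw [mul_assoc, h6, ← mul_assoc, h4, mul_assoc]
    apply hnot l hlj
    have e : n = (w * n * w⁻¹ * n⁻¹)⁻¹ * (w * n * w⁻¹) := by group
    rw [e]
    exact mul_mem (inv_mem (b.V_Q l (b.R_le o h3))) (ZQ_le l hwn)
  · -- `|Q o : C(U)| = 2`
    push Not at hcase
    obtain ⟨t, ht, v, hv, hne⟩ := exists_mv b hr
    have htU : t ∉ centralizer (U : Set G) := fun h3 => hne (mem_centralizer_iff.1 h3 v (hVU hv)).symm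
    have htr : t * r = r * t := b.QR o t ht r hrR
    have htr₂ : t * r₂ * t⁻¹ = r₂ * r := by
      refine (hQU t ht r₂ (hVU h2V)).resolve_left fun h3 => hne ?_
      have h3' : t * r₂ = r₂ * t := mul_inv_eq_iff_eq_mul.1 h3
      rcases mem_V b hr hj h2j h21 hv with h4 | h4
      · exact b.QR o t ht v h4
      · have h5 := b.QR o t ht _ h4
        calc t * v = t * r₂ * (r₂⁻¹ * v) := by group
          _ = r₂ * (t * (r₂⁻¹ * v)) := by rw [h3']; group
          _ = v * t := by rw [h5]; group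
    have key : ∀ u ∈ U, t * u * t⁻¹ = u → u ∈ ZQ R o := by
      intro u hu h3
      refine ⟨hα hu, mem_centralizer_iff.2 fun q hq => ?_⟩
      by_cases hqU : q ∈ centralizer (U : Set G)
      · exact (mem_centralizer_iff.1 hqU u hu).symm
      · have h4 := hcase t ht q hq htU hqU
        have h5 := mem_centralizer_iff.1 h4 u hu
        have h6 : t * u = u * t := mul_inv_eq_iff_eq_mul.1 h3
        apply mul_left_cancel (a := t)
        rw [← mul_assoc, ← h5, ← mul_assoc, ← h6, mul_assoc]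
    have hdec : ∀ u ∈ U, u ∈ ZQ R o ∨ r₂⁻¹ * u ∈ ZQ R o := by
      intro u hu
      rcases hQU t ht u hu with h3 | h3
      · exact Or.inl (key u hu h3)
      · right
        have h4 : r₂⁻¹ * u ∈ U := mul_mem (inv_mem (hVU h2V)) hu
        refine key _ h4 ?_
        have h5 := hUcm r (hVU (b.R_le o hrR)) _ h4
        calc t * (r₂⁻¹ * u) * t⁻¹ = (t * r₂ * t⁻¹)⁻¹ * (t * u * t⁻¹) := by group
          _ = r⁻¹ * ((r₂⁻¹ * u) * r) := by rw [htr₂, h3]; group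
          _ = r₂⁻¹ * u := by rw [← h5]; group
    have hCZM : ∀ a ∈ centralizer (zc S : Set G), ∀ u ∈ U, a * u * a⁻¹ ∈ U := fun a ha u hu =>
      conj_mem_of_normalizer (hMU (hZM ha)) hu
    obtain ⟨d, hd, H⟩ := avg b hr hj h2j h21 hLE (A := centralizer (zc S : Set G))
      (D := U ⊓ ZQ R o)
      (fun s hs => mem_centralizer_iff.2 fun z hz => ((mem_zc.1 hz).2.1 s hs).symm) hCZN
      (le_inf ((b.R_le o).trans hVU) (R_le_ZQ b.toBT o)) inf_le_right
      (fun a ha d hd => ⟨hCZM a ha d hd.1, conj_mem_of_normalizer (hnZ (hCZN ha)) hd.2⟩)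
      (by
        intro a ha
        have h3 := hCZM a ha r₂ (hVU h2V)
        have e : r₂⁻¹ * a * r₂ * a⁻¹ = r₂⁻¹ * (a * r₂ * a⁻¹) := by group
        rw [e]
        refine ⟨U.mul_mem (U.inv_mem (hVU h2V)) h3, ?_⟩
        refine (hdec _ h3).resolve_left fun h4 => ?_
        have h5 := conj_inv_mem_of_normalizer (hnZ (hCZN ha)) h4
        have e : a⁻¹ * (a * r₂ * a⁻¹) * a = r₂ := by group
        rw [e] at h5
        exact not_mem_ZQ b hr hj h2j h21 h5)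
    obtain ⟨a, ha, had⟩ := ZQ_Q bs (Ne.symm hj) hd.2 (hUQ j hd.1)
    have hadZ := mem_zc_of b hr hLE had (by
      intro s hs
      have h3 := fix_c b hr hj h2j h21 hd.2 (b.S_V hs) (b.S_R hs)
        (H s (mem_centralizer_iff.2 fun z hz => ((mem_zc.1 hz).2.1 s hs).symm))
      have e : s * (a * d) * s⁻¹ * (a * d)⁻¹ = (s * a * s⁻¹) * (s * d * s⁻¹ * d⁻¹) * a⁻¹ := by group
      rw [e]
      exact mul_mem (mul_mem (conj_mem_of_normalizer (b.S_R hs) ha) h3) (inv_mem ha))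
    apply hKV
    refine hKZ.trans fun m hm => mem_normalizer_of_conj fun v hv => ?_
    have hmN := hCZN hm
    have h3 : a * d * m = m * (a * d) := mem_centralizer_iff.1 hm _ hadZ.1
    have h4 : a * m = m * a := by
      rcases (hr a).1 ha with rfl | rfl
      · rw [one_mul, mul_one]
      · exact ((hNr m).1 hmN).symm
    have h5 : d * m = m * d := by
      apply mul_left_cancel (a := a)
      rw [← mul_assoc, h3, ← mul_assoc, ← h4, mul_assoc]
    have h6 := H m hm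
    have e1 : (r₂ * d)⁻¹ * m * (r₂ * d) * m⁻¹ = d⁻¹ * (r₂⁻¹ * m * r₂ * m⁻¹) * d := by
      have e2 : d * m⁻¹ = m⁻¹ * d := by
        rw [eq_inv_mul_iff_mul_eq, ← mul_assoc, ← h5, mul_inv_cancel_right]
      calc (r₂ * d)⁻¹ * m * (r₂ * d) * m⁻¹ = d⁻¹ * r₂⁻¹ * m * r₂ * (d * m⁻¹) := by group
        _ = _ := by rw [e2]; group
    rw [e1] at h6
    have hdN : d ∈ normalizer (R o : Set G) := b.Q_le o (ZQ_le o hd.2)
    have h7 := conj_mem_of_normalizer hdN h6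
    have e2 : d * (d⁻¹ * (r₂⁻¹ * m * r₂ * m⁻¹) * d) * d⁻¹ = r₂⁻¹ * m * r₂ * m⁻¹ := by group
    rw [e2] at h7
    have h8 : m * r₂ * m⁻¹ ∈ V := by
      have e : m * r₂ * m⁻¹ = r₂ * (r₂⁻¹ * m * r₂ * m⁻¹) := by group
      rw [e]
      exact mul_mem h2V (b.R_le o h7)
    rcases mem_V b hr hj h2j h21 hv with h9 | h9
    · exact b.R_le o (conj_mem_of_normalizer hmN h9)
    · have e : m * v * m⁻¹ = (m * r₂ * m⁻¹) * (m * (r₂⁻¹ * v) * m⁻¹) := by group
      rw [e]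
      exact mul_mem h8 (b.R_le o (conj_mem_of_normalizer hmN h9))

/-- **(A), (B)** : the choice of `z` -/
theorem exists_z_aux (hLE : ∀ i, ThmA.LE V R i) (hch : GSys (MZ S V R) (cl (R o) (MZ S V R)) r) {z₀ : G} (hz₀ : z₀ ∈ zc S ⊓ centralizer (P : Set G)) (hz₀1 : z₀ ≠ 1)
    (hα : UM V (MZ S V R) ≤ QQ (R o)) :
    ∃ z ∈ zc S ⊓ centralizer (P : Set G), z ≠ 1 ∧
      ∀ a ∈ normalizer (R o : Set G), a * z = z * a → (∀ v ∈ V, a * v * a⁻¹ ∈ V ⊔ ZQ R o) →
        a ∈ normalizer (V : Set G) := by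
  have hNr := fun g => mem_N_iff b hr (g := g)
  obtain ⟨j, k, hj, hk, hjk⟩ := b.one_lt
  obtain ⟨r₂, h21, h22, h2⟩ := b.exists_gen j
  have h2j : r₂ ∈ R j := (h2 _).2 (Or.inr rfl)
  have h2V := b.R_le j h2j
  obtain ⟨c, hc, H⟩ := exists_avg b hr hj h2j h21 hLE
  have hVn : ∀ a ∈ normalizer (V : Set G), ∀ v ∈ V, a * v * a⁻¹ ∈ V ⊔ ZQ R o := fun a ha v hv =>
    mem_sup_left (conj_mem_of_normalizer ha hv)
  obtain ⟨a, ha, hac⟩ := mem_of_alpha b hr hLE hch hz₀ hz₀1 hα hc fun g hgV hgR =>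
    fix_c b hr hj h2j h21 hc hgV hgR (H g hgR (hVn g hgV))
  have hZ := mem_zc_of b hr hLE hac (by
    intro s hs
    have h3 := fix_c b hr hj h2j h21 hc (b.S_V hs) (b.S_R hs) (H s (b.S_R hs) (hVn s (b.S_V hs)))
    have e : s * (a * c) * s⁻¹ * (a * c)⁻¹ = (s * a * s⁻¹) * (s * c * s⁻¹ * c⁻¹) * a⁻¹ := by group
    rw [e]
    exact mul_mem (mul_mem (conj_mem_of_normalizer (b.S_R hs) ha) h3) (inv_mem ha))
  have main : ∀ g ∈ normalizer (R o : Set G), g * (a * c) = a * c * g →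
      (∀ v ∈ V, g * v * g⁻¹ ∈ V ⊔ ZQ R o) → g ∈ normalizer (V : Set G) := by
    intro g hg hgc hgV
    refine mem_normalizer_of_conj fun v hv => ?_
    have h4 : g * a = a * g := by
      rcases (hr a).1 ha with rfl | rfl
      · rw [one_mul, mul_one]
      · exact (hNr g).1 hg
    have h5 : g * c = c * g := by
      apply mul_left_cancel (a := a)
      rw [← mul_assoc, ← h4, mul_assoc, hgc, mul_assoc]
    have h6 := H g hg hgV
    have e1 : (r₂ * c)⁻¹ * g * (r₂ * c) * g⁻¹ = c⁻¹ * (r₂⁻¹ * g * r₂ * g⁻¹) * c := by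
      have e2 : c * g⁻¹ = g⁻¹ * c := by
        rw [eq_inv_mul_iff_mul_eq, ← mul_assoc, h5, mul_inv_cancel_right]
      calc (r₂ * c)⁻¹ * g * (r₂ * c) * g⁻¹ = c⁻¹ * r₂⁻¹ * g * r₂ * (c * g⁻¹) := by group
        _ = _ := by rw [e2]; group
    rw [e1] at h6
    have hdN : c ∈ normalizer (R o : Set G) := b.Q_le o (ZQ_le o hc)
    have h7 := conj_mem_of_normalizer hdN h6
    have e2 : c * (c⁻¹ * (r₂⁻¹ * g * r₂ * g⁻¹) * c) * c⁻¹ = r₂⁻¹ * g * r₂ * g⁻¹ := by group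
    rw [e2] at h7
    have h8 : g * r₂ * g⁻¹ ∈ V := by
      have e : g * r₂ * g⁻¹ = r₂ * (r₂⁻¹ * g * r₂ * g⁻¹) := by group
      rw [e]
      exact mul_mem h2V (b.R_le o h7)
    rcases mem_V b hr hj h2j h21 hv with h9 | h9
    · exact b.R_le o (conj_mem_of_normalizer hg h9)
    · have e : g * v * g⁻¹ = (g * r₂ * g⁻¹) * (g * (r₂⁻¹ * v) * g⁻¹) := by group
      rw [e]
      exact mul_mem h8 (b.R_le o (conj_mem_of_normalizer hg h9))
  by_cases hz1 : a * c = 1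
  · refine ⟨z₀, hz₀, hz₀1, fun g hg _ hgV => main g hg ?_ hgV⟩
    rw [hz1, mul_one, one_mul]
  · exact ⟨a * c, hZ, hz1, fun g hg hgz hgV => main g hg hgz hgV⟩

omit hr in
/-- **(A), (B)** : the choice of `z` -/
theorem exists_z (hLE : ∀ i, ThmA.LE V R i) (hodd : ¬ 2 ∣ S.relIndex (MZ S V R)) {z₀ : G} (hz₀ : z₀ ∈ zc S ⊓ centralizer (P : Set G)) (hz₀1 : z₀ ≠ 1)
    (hα : UM V (MZ S V R) ≤ QQ (R o)) :
    ∃ z ∈ zc S ⊓ centralizer (P : Set G), z ≠ 1 ∧
      ∀ a ∈ normalizer (R o : Set G), a * z = z * a → (∀ v ∈ V, a * v * a⁻¹ ∈ V ⊔ ZQ R o) →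
        a ∈ normalizer (V : Set G) := by
  obtain ⟨r, -, -, hr⟩ := b.exists_gen o
  exact exists_z_aux b hr hLE (gsys_MZ b hr hz₀ hz₀1 hodd) hz₀ hz₀1 hα

/-- the field `noPar` of `TvH`, general form -/
theorem noPar' {M : Subgroup G}
    (H : ∀ a ∈ M, a ∈ normalizer (R o : Set G) → (∀ v ∈ V, a * v * a⁻¹ ∈ V ⊔ ZQ R o) →
      a ∈ normalizer (V : Set G)) {j : ι} (hj : j ≠ o) {t : G} (ht : t ∈ R j) (ht1 : t ≠ 1)
    {Q : G → Subgroup G} (hQ : Q r = QQ (R o)) :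
    ∀ a a', TvDef.Adj M r t r a → TvDef.Adj M r t r a' → a * a' ∈ TvDef.ZC Q r → a' = a ∨ a' = r * a := by
  rintro _ _ ⟨m, hm, hmr, rfl⟩ ⟨m', hm', hmr', rfl⟩ hZ
  have hNr := fun g => mem_N_iff b hr (g := g)
  have hnZ : normalizer (R o : Set G) ≤ normalizer (ZQ R o : Set G) := N_le_NZQ o
  have htV := b.R_le j ht
  have hmN : m ∈ normalizer (R o : Set G) := (hNr m).2 (mul_inv_eq_iff_eq_mul.1 hmr)
  have hmN' : m' ∈ normalizer (R o : Set G) := (hNr m').2 (mul_inv_eq_iff_eq_mul.1 hmr')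
  have hQN : normalizer (R o : Set G) ≤ normalizer (QQ (R o) : Set G) := le_normalizer_O2 _
  have htQ : t ∈ QQ (R o) := b.V_Q o htV
  have h1 : m * t * m⁻¹ * (m' * t * m'⁻¹) ∈ ZQ R o := by
    refine ⟨(QQ (R o)).mul_mem (conj_mem_of_normalizer (hQN hmN) htQ)
      (conj_mem_of_normalizer (hQN hmN') htQ), ?_⟩
    have h3 := hZ
    unfold TvDef.ZC at h3
    rwa [hQ] at h3
  obtain ⟨g, hg⟩ : ∃ g, g = m⁻¹ * m' := ⟨_, rfl⟩
  have hgN : g ∈ normalizer (R o : Set G) := by rw [hg]; exact mul_mem (inv_mem hmN) hmN'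
  have hgM : g ∈ M := by rw [hg]; exact mul_mem (inv_mem hm) hm'
  have h2 : t * (g * t * g⁻¹) ∈ ZQ R o := by
    have h3 := conj_inv_mem_of_normalizer (hnZ hmN) h1
    have e : m⁻¹ * (m * t * m⁻¹ * (m' * t * m'⁻¹)) * m = t * (g * t * g⁻¹) := by rw [hg]; group
    rwa [e] at h3
  have h3 : g * t * g⁻¹ ∈ V ⊔ ZQ R o := by
    have e : g * t * g⁻¹ = t⁻¹ * (t * (g * t * g⁻¹)) := by group
    rw [e]
    exact mul_mem (mem_sup_left (inv_mem htV)) (mem_sup_right h2)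
  have h4 : g ∈ normalizer (V : Set G) := by
    refine H g hgM hgN fun v hv => ?_
    rcases mem_V b hr hj ht ht1 hv with h9 | h9
    · exact mem_sup_left (b.R_le o (conj_mem_of_normalizer hgN h9))
    · have e : g * v * g⁻¹ = (g * t * g⁻¹) * (g * (t⁻¹ * v) * g⁻¹) := by group
      rw [e]
      exact mul_mem h3 (mem_sup_left (b.R_le o (conj_mem_of_normalizer hgN h9)))
  have h5 := comm_mem_R b h4 hgN htV
  have e : m' * t * m'⁻¹ = m * (g * t * g⁻¹ * t⁻¹) * m⁻¹ * (m * t * m⁻¹) := by rw [hg]; group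
  rcases (hr _).1 h5 with h6 | h6
  · left
    rw [e, h6, mul_one, mul_inv_cancel, one_mul]
  · right
    rw [e, h6, hmr]

/-- the field `noPar` of `TvH` -/
theorem noPar {z : G} {M : Subgroup G} (hMz : M ≤ centralizer ({z} : Set G))
    (H : ∀ a ∈ normalizer (R o : Set G), a * z = z * a → (∀ v ∈ V, a * v * a⁻¹ ∈ V ⊔ ZQ R o) →
      a ∈ normalizer (V : Set G)) {j : ι} (hj : j ≠ o) {t : G} (ht : t ∈ R j) (ht1 : t ≠ 1)
    {Q : G → Subgroup G} (hQ : Q r = QQ (R o)) :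
    ∀ a a', TvDef.Adj M r t r a → TvDef.Adj M r t r a' → a * a' ∈ TvDef.ZC Q r → a' = a ∨ a' = r * a :=
  noPar' b hr (fun a ha haN haV => H a haN (mem_C.1 (hMz ha)) haV) hj ht ht1 hQ

end Cfsg.Agent.Omega.HT.JunAB

end

section


/-!
# II.0h1, `q = 2`, case (α) over `T` for the small group `M' = ⟨C_{H₁}(z), X⟩`, if `V` commutes with `⟨r^{C(z r)}⟩`

The end of #15368 is trivial if `V` centralises `U_y = ⟨r^{C(y)}⟩`, `y = z r` (LeafF4 (O1), #18723, #18759, #18818):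
`U_y` is normalised by `K = C(r) ∩ C(z)` and does not centralise the component `W` of `r` in `⟨r^{M'}⟩`, `K` is
irreducible on `W / ⟨r⟩`, but `V ≤ W`.

* `not_alpha` : `⟨V^{M'}⟩` is not contained in `Q o`.
-/

set_option autoImplicit false
set_option linter.unusedSectionVars false

namespace Cfsg.Agent.Omega.HT.AlphaY

open Subgroup Cfsg Cfsg.Agent.MinSimple.VModule Cfsg.Agent.Omega.BTwo
open Cfsg.Agent.Omega.HOneTwo Cfsg.Agent.Omega.HTwo Cfsg.Agent.Omega.HTwo.ThmA Cfsg.Agent.Omega.HTwo.Par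
open Cfsg.Agent.Omega.HTwo.Hat Cfsg.Agent.Omega.HTwo.TComp Cfsg.Agent.Omega.HT.TComp Cfsg.Agent.Omega.MinPar
open Cfsg.Agent.ZN (zc o2 le_normalizer_o2)
open Cfsg.Agent.Omega.HTwo.AlphaFive (mem_C natC_two natC_cj)
open Cfsg.Agent.Omega.HTwo.AlphaOne (ZQ_swap ZQ_not_RC)
open Cfsg.Agent.Omega.HTwo.AlphaP (lemX_false four' MP)
open Cfsg.Agent.Omega.HT.AlphaP

universe u

section two

variable {G : Type u} [Group G] [Finite G] {ι : Type*} {S P V : Subgroup G} {R : ι → Subgroup G} {o : ι}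

variable (b : HTT S P V R o) {r : G} (hr : ∀ x, x ∈ R o ↔ x = 1 ∨ x = r)
include b hr

/-- the end of the proof: `K = C(r) ∩ C(z)` is irreducible on `W / ⟨r⟩` and normalises `⟨r^{C(z r)}⟩` -/
theorem end_y {z : G} {M W U : Subgroup G} (hW : NatC M U W r) (hVW : V ≤ W)
    (hMz : ∀ c ∈ M, c * z = z * c)
    (hy : ∀ g : G, g * (z * r) = z * r * g → ∀ v ∈ V, v * (g * r * g⁻¹) = g * r * g⁻¹ * v)
    {w₂ c₂ : G} (hw₂ : w₂ ∈ W) (hc₂ : c₂ * (z * r) = z * r * c₂)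
    (hne : c₂ * r * c₂⁻¹ * w₂ ≠ w₂ * (c₂ * r * c₂⁻¹)) : False := by
  have hr1 := r_ne b hr
  have hrR := r_mem b hr
  set Z : Set G := {x | ∃ g : G, g * (z * r) = z * r * g ∧ g * r * g⁻¹ = x} with hZ
  have hVZ : V ≤ centralizer Z := by
    intro v hv
    rw [mem_centralizer_iff]
    rintro _ ⟨g, hg, rfl⟩
    exact (hy g hg v hv).symm
  have hrZ : r ∈ centralizer Z := hVZ (b.R_le o hrR)
  rcases hW.irr r hW.mem hr1 (W ⊓ centralizer Z) inf_le_left ⟨hW.mem, hrZ⟩ (by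
    rintro c hc hcr a ⟨ha, ha'⟩
    have hcz := hMz c hc
    refine ⟨hW.blk c hc r hW.mem hr1 (by rw [hcr, mul_inv_cancel_right]; exact hW.mem) a ha, ?_⟩
    refine mem_centralizer_iff.2 ?_
    rintro _ ⟨g, hg, rfl⟩
    have hcy : c * (z * r) = z * r * c := by
      rw [← mul_assoc, hcz, mul_assoc, hcr, ← mul_assoc]
    have h1 := mem_centralizer_iff.1 ha' (c⁻¹ * g * r * (c⁻¹ * g)⁻¹) ⟨c⁻¹ * g, by
      calc c⁻¹ * g * (z * r) = c⁻¹ * (g * (z * r)) := by group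
        _ = c⁻¹ * (z * r * c * (c⁻¹ * g)) := by rw [hg]; group
        _ = c⁻¹ * (c * (z * r) * (c⁻¹ * g)) := by rw [hcy]
        _ = z * r * (c⁻¹ * g) := by group, rfl⟩
    calc g * r * g⁻¹ * (c * a * c⁻¹) = c * (c⁻¹ * g * r * (c⁻¹ * g)⁻¹ * a) * c⁻¹ := by group
      _ = c * (a * (c⁻¹ * g * r * (c⁻¹ * g)⁻¹)) * c⁻¹ := by rw [h1]
      _ = c * a * c⁻¹ * (g * r * g⁻¹) := by group) with h5 | h5
  · -- `V ≤ {1, r}`
    obtain ⟨j, -, hj, -, -⟩ := b.one_lt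
    obtain ⟨e, he, he1⟩ := b.exists_ne j
    have heV := b.R_le j he
    rcases h5 e ⟨hVW heV, hVZ heV⟩ with h7 | h7
    · exact he1 h7
    · apply he1
      refine b.eq_one (Ne.symm hj) ?_ he
      rw [h7]; exact hrR
  · exact hne (mem_centralizer_iff.1 (h5 hw₂).2 _ ⟨c₂, hc₂, rfl⟩)

/-- (α) is dead for `z` if `V` commutes with `⟨r^{C(z r)}⟩` -/
theorem not_alpha (hLE : ∀ i, LE V R i) {z : G} (hz : z ∈ zc S ⊓ centralizer (P : Set G)) (hz1 : z ≠ 1)
    (hsysM : GSysW (MP V R o z) (cl (R o) (MP V R o z)) r)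
    (hyV : ∀ g : G, g * (z * r) = z * r * g → ∀ v ∈ V, v * (g * r * g⁻¹) = g * r * g⁻¹ * v) :
    ¬ UM V (MP V R o z) ≤ QQ (R o) := by
  intro hα
  have bs := b.toBTS
  have d := b.dt hz hz1
  have hr1 := r_ne b hr
  have hr2 := r_sq b hr
  have hrR := r_mem b hr
  have hNr := fun g => mem_N_iff b hr (g := g)
  obtain ⟨M, hM⟩ : ∃ M, M = MP V R o z := ⟨_, rfl⟩
  have hMz : M ≤ centralizer ({z} : Set G) := by rw [hM]; exact MP_le b hr hz hz1
  have hKM : normalizer (R o : Set G) ⊓ centralizer ({z} : Set G) ≤ M := by rw [hM]; exact le_sup_left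
  have hXM : XX V R ≤ M := by rw [hM]; exact le_sup_right
  have hz2 : z * z = 1 := by rw [← pow_two]; exact (mem_zc.1 hz.1).2.2
  have hSz : ∀ s ∈ S, s * z = z * s := (mem_zc.1 hz.1).2.1
  have hSr : ∀ s ∈ S, s * r = r * s := fun s hs => (hNr s).1 (b.S_R hs)
  have hzX : z ∈ CenX V R := b.cz_le hz
  have hzQ : z ∈ ZQ R o := cenX_le_ZQ bs hLE o hzX
  have hrQ : r ∈ ZQ R o := R_le_ZQ b.toBT o hrR
  have hQz : ∀ q ∈ QQ (R o), q ∈ centralizer ({z} : Set G) := fun q hq => mem_C.2 (ZQ_comm hzQ hq)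
  have hQM : ∀ q ∈ QQ (R o), q ∈ M := fun q hq => hKM ⟨b.Q_le o hq, hQz q hq⟩
  have hSM : S ≤ M := fun s hs => hKM ⟨b.S_R hs, mem_C.2 (hSz s hs)⟩
  rw [← hM] at hα hsysM
  obtain ⟨a, ha, c, hc, hna, hnc, hnac⟩ := alpha_two b hLE hz hz1 hKM hα
  have hUeq : cl (R o) M = UM V M := b.cl_R_eq (b.trans_of_X hXM)
  rw [← hUeq] at hα hna hnc hnac
  have hUz := cl_le_zc b hr hz hz1
  have hUle : cl (R o) M ≤ cl (R o) (centralizer ({z} : Set G)) := iSup_le fun m => cj_le_cl (hMz m.2)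
  set Uf := cl (R o) (centralizer ({z} : Set G)) with hUf
  have hUfcm : ∀ x ∈ Uf, ∀ y ∈ Uf, x * y = y * x := fun x hx y hy =>
    (mem_zc.1 (hUz hy)).2.1 x (zc_le _ (hUz hx))
  set U := cl (R o) M with hU
  have hUsq : ∀ x ∈ U, x * x = 1 := fun x hx => by
    rw [← pow_two]; exact (mem_zc.1 (hUz (hUle hx))).2.2
  -- `Q o` acts on `U` as transvections
  have hQU : ∀ q ∈ QQ (R o), ∀ n ∈ U, q * n * q⁻¹ = n ∨ q * n * q⁻¹ = n * r := by
    intro q hq n hn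
    have h5 := Q_comm bs (hLE o) hq (hα hn)
    rcases (hr _).1 h5 with h6 | h6
    · left; exact mul_inv_eq_one.1 h6
    · right
      rw [mul_inv_eq_iff_eq_mul] at h6
      rw [h6]
      exact (b.QR o n (hα hn) r hrR).symm
  have hmv : ∀ q : G, q ∉ centralizer (U : Set G) → ∃ n ∈ U, q * n * q⁻¹ ≠ n := by
    intro q hq
    by_contra hcon
    push Not at hcon
    exact hq (mem_centralizer_iff.2 fun n hn => (mul_inv_eq_iff_eq_mul.1 (hcon n hn)).symm)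
  obtain ⟨W, hW, -⟩ := natC_of' hsysM (hQM a ha)
    (hQM c hc) (hQU a ha) (hQU c hc) (hmv a hna) (hmv c hnc) (hmv _ hnac)
  have hWU : W ≤ U := hW.W_le
  have hWQ : W ≤ QQ (R o) := hWU.trans hα
  -- `V ≤ W`
  have hVW : V ≤ W := by
    obtain ⟨t, ht, v, hv, hne⟩ := exists_mv b hr
    have hv1 : v ≠ 1 := by
      rintro rfl
      exact hne (by rw [mul_one, one_mul])
    obtain ⟨c, hc, e⟩ := exists_conj_X b hr hv hv1
    have h1 := hW.adj r hW.mem hr1 t (hQM t ht) (hQU t ht) c (hXM hc) (by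
      rw [e]
      intro h
      exact hne (mul_inv_eq_iff_eq_mul.1 h))
    rw [e] at h1
    have h2 := cj_V_le b hr (k := 1) (one_mem _) hW.mem (v := v) (by rw [cj_one]; exact hv) (by
      intro hvo
      apply hne
      have h3 := ((hr v).1 hvo).resolve_left hv1
      rw [h3]
      exact b.QR o t ht r hrR) h1
    rwa [cj_one] at h2
  have hKW : ∀ c : G, c * r = r * c → c * z = z * c → ∀ x ∈ W, c * x * c⁻¹ ∈ W := by
    intro c hcr hc
    refine hW.blk c (hKM ⟨(hNr c).2 hcr, mem_C.2 hc⟩) r hW.mem hr1 ?_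
    rw [hcr, mul_inv_cancel_right]
    exact hW.mem
  -- `V^h`
  obtain ⟨h, hh, a₀, ha₀, c₀, hc₀, hne₀⟩ := exists_h b hr
  have hhr : h * r = r * h := (hNr h).1 hh
  have hhr' : h⁻¹ * r = r * h⁻¹ := (hNr h⁻¹).1 (inv_mem hh)
  obtain ⟨y, hy⟩ : ∃ y, y = h * z * h⁻¹ := ⟨_, rfl⟩
  have hzy : z = h⁻¹ * y * h := by rw [hy]; group
  have hyQ : y ∈ ZQ R o := by rw [hy]; exact conj_mem_of_normalizer (N_le_NZQ o hh) hzQ
  have hyy : y * y = 1 := by
    rw [hy]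
    calc h * z * h⁻¹ * (h * z * h⁻¹) = h * (z * z) * h⁻¹ := by group
      _ = 1 := by rw [hz2, mul_one, mul_inv_cancel]
  have hcV : c₀ ∉ centralizer (V : Set G) := fun hc => hne₀ (mem_centralizer_iff.1 hc a₀ ha₀)
  have hW'n : ∀ c : G, c * y = y * c → c * r = r * c → ∀ x ∈ cj h W, c * x * c⁻¹ ∈ cj h W := by
    rintro c hcy hcr _ ⟨x, hx, rfl⟩
    change c * (h * x * h⁻¹) * c⁻¹ ∈ cj h W
    have h1 : (h⁻¹ * c * h) * z = z * (h⁻¹ * c * h) := by
      rw [hzy]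
      calc h⁻¹ * c * h * (h⁻¹ * y * h) = h⁻¹ * (c * y) * h := by group
        _ = h⁻¹ * (y * c) * h := by rw [hcy]
        _ = _ := by group
    have h2 : (h⁻¹ * c * h) * r = r * (h⁻¹ * c * h) := by
      calc h⁻¹ * c * h * r = h⁻¹ * c * (h * r) := by group
        _ = h⁻¹ * (c * r) * h := by rw [hhr]; group
        _ = (h⁻¹ * r) * c * h := by rw [hcr]; group
        _ = r * (h⁻¹ * c * h) := by rw [hhr']; group
    have h3 := hKW _ h2 h1 x hx
    have e : c * (h * x * h⁻¹) * c⁻¹ = h * (h⁻¹ * c * h * x * (h⁻¹ * c * h)⁻¹) * h⁻¹ := by group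
    rw [e]
    exact conj_mem_cj h3
  have hW'Q : cj h W ≤ QQ (R o) := by
    have h1 := cj_mono (g := h) hWQ
    rwa [cj_eq_self_iff.2 (le_normalizer_O2 _ hh)] at h1
  have hW'sq : ∀ x ∈ cj h W, x * x = 1 := by
    rintro _ ⟨x, hx, rfl⟩
    change h * x * h⁻¹ * (h * x * h⁻¹) = 1
    calc h * x * h⁻¹ * (h * x * h⁻¹) = h * (x * x) * h⁻¹ := by group
      _ = 1 := by rw [hW.sq x hx, mul_one, mul_inv_cancel]
  obtain ⟨j, -, hj, -, -⟩ := b.one_lt
  rcases four' bs hj hr hyy hyQ hW'Q hW'sq hW'n (by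
    rintro _ ⟨w, hw, rfl⟩ hw1
    change h * w * h⁻¹ ≠ 1 at hw1
    have hw1' : w ≠ 1 := fun e => hw1 (by rw [e, mul_one, mul_inv_cancel])
    obtain ⟨k, hk, e⟩ := hW.pt w hw hw1'
    have hkz := mem_C.1 (hMz hk)
    refine ⟨h * k * h⁻¹, ?_, ?_, ?_⟩
    · rw [hy]
      calc h * k * h⁻¹ * (h * z * h⁻¹) = h * (k * z) * h⁻¹ := by group
        _ = h * (z * k) * h⁻¹ := by rw [hkz]
        _ = _ := by group
    · change _ = h * w * h⁻¹
      calc h * k * h⁻¹ * r * (h * k * h⁻¹)⁻¹ = h * k * (h⁻¹ * r) * h * k⁻¹ * h⁻¹ := by group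
        _ = h * (k * r * k⁻¹) * h⁻¹ := by rw [hhr']; group
        _ = h * w * h⁻¹ := by rw [e]
    · rintro _ ⟨x, hx, rfl⟩
      change (h * k * h⁻¹)⁻¹ * (h * x * h⁻¹) * (h * k * h⁻¹) ∈ cj h W
      have h1 := hW.blk k⁻¹ (inv_mem hk) w hw hw1' (by
        rw [← e]
        have e2 : k⁻¹ * (k * r * k⁻¹) * k⁻¹⁻¹ = r := by group
        rw [e2]; exact hW.mem) x hx
      have e2 : (h * k * h⁻¹)⁻¹ * (h * x * h⁻¹) * (h * k * h⁻¹) = h * (k⁻¹ * x * k⁻¹⁻¹) * h⁻¹ := by group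
      rw [e2]
      exact conj_mem_cj h1) (cj_mono hVW hc₀) hcV with ⟨a, ha, hX⟩ | ⟨w₁, hw₁, c₁, hc₁, hne₁⟩
  · rcases (hr a).1 ha with rfl | rfl
    · -- `y ∈ C_X`
      rw [one_mul] at hX
      have e1 : cl (R o) (centralizer ({y} : Set G)) = cj h Uf := by
        rw [hUf, AlphaFive.cj_cl, AlphaFive.cj_C, ← hy, cj_eq_self_iff.2 hh]
      have h1 : V ≤ cj h Uf := by
        rw [← e1]
        have := cj_le_cl_of b hr (k := 1) (y := y) (one_mem _) (by rw [cj_one]; exact hX)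
        rwa [cj_one] at this
      have h2 : cj h V ≤ cj h Uf := by
        apply cj_mono
        have := cj_le_cl_of b hr (k := 1) (y := z) (one_mem _) (by rw [cj_one]; exact hzX)
        rwa [cj_one] at this
      apply hne₀
      obtain ⟨x, hx, e3⟩ := h1 ha₀
      obtain ⟨x', hx', e4⟩ := h2 hc₀
      rw [← e3, ← e4]
      change h * x * h⁻¹ * (h * x' * h⁻¹) = h * x' * h⁻¹ * (h * x * h⁻¹)
      calc h * x * h⁻¹ * (h * x' * h⁻¹) = h * (x * x') * h⁻¹ := by group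
        _ = h * (x' * x) * h⁻¹ := by rw [hUfcm x hx x' hx']
        _ = _ := by group
    · -- `r y ∈ C_X`
      refine lemX_false bs hLE (Ne.symm hj) (fun x hx => (hr x).1 hx) hW'Q
        (fun a ha c hc => Omega.TV.EA.comm_of hW'sq ha hc) (j := j) ?_ (cj_mono hVW hc₀) hcV ?_ hzX hz1
      · intro e he
        have her : e * a = a * e := (mem_centralizer_iff.1 (EE_le_cen j he) a (b.R_le o hrR)).symm
        refine hW'n e ?_ her
        have h1 : a * y * e = e * (a * y) := cenX_Q bs (hLE j) hX (EE_le_Q j he)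
        have h2 : a * (y * e) = a * (e * y) := by
          rw [← mul_assoc, h1, ← mul_assoc, her, mul_assoc]
        exact (mul_left_cancel h2).symm
      · have h0 : ∀ x ∈ W, x ∈ ZQ R o → x = 1 ∨ x = a := by
          rcases hW.irr a hW.mem hr1 (W ⊓ ZQ R o) inf_le_left ⟨hW.mem, hrQ⟩ (by
            rintro c hc hcr x ⟨hx, hx'⟩
            exact ⟨hKW c hcr (mem_C.1 (hMz hc)) x hx,
              conj_mem_of_normalizer (N_le_NZQ o ((hNr c).2 hcr)) hx'⟩) with h5 | h5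
          · exact fun x hx hx' => h5 x ⟨hx, hx'⟩
          · exfalso
            obtain ⟨t, ht, v, hv, hne⟩ := exists_mv b hr
            exact hne (ZQ_comm (h5 (hVW hv)).2 ht)
        rintro _ ⟨x, hx, rfl⟩ hxZ
        change h * x * h⁻¹ ∈ ZQ R o at hxZ
        change h * x * h⁻¹ ∈ R o
        have h1 : x ∈ ZQ R o := by
          have h2 := conj_inv_mem_of_normalizer (N_le_NZQ o hh) hxZ
          have e : h⁻¹ * (h * x * h⁻¹) * h = x := by group
          rwa [e] at h2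
        exact conj_mem_of_normalizer hh ((hr x).2 (h0 x hx h1))
  · -- conjugate back
    obtain ⟨w₂, hw₂, rfl⟩ := hw₁
    change c₁ * r * c₁⁻¹ * (h * w₂ * h⁻¹) ≠ h * w₂ * h⁻¹ * (c₁ * r * c₁⁻¹) at hne₁
    refine end_y b hr hW hVW (fun c hc => mem_C.1 (hMz hc)) hyV (w₂ := w₂) (c₂ := h⁻¹ * c₁ * h) hw₂ ?_ ?_
    · have e : z * r = h⁻¹ * (y * r) * h := by
        rw [hzy]
        calc h⁻¹ * y * h * r = h⁻¹ * y * (h * r) := by group
          _ = h⁻¹ * (y * r) * h := by rw [hhr]; group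
      rw [e]
      calc h⁻¹ * c₁ * h * (h⁻¹ * (y * r) * h) = h⁻¹ * (c₁ * (y * r)) * h := by group
        _ = h⁻¹ * (y * r * c₁) * h := by rw [hc₁]
        _ = _ := by group
    · intro e
      apply hne₁
      have e1 : h⁻¹ * c₁ * h * r * (h⁻¹ * c₁ * h)⁻¹ = h⁻¹ * (c₁ * r * c₁⁻¹) * h := by
        calc h⁻¹ * c₁ * h * r * (h⁻¹ * c₁ * h)⁻¹ = h⁻¹ * c₁ * (h * r) * h⁻¹ * c₁⁻¹ * h := by group
          _ = _ := by rw [hhr]; group
      rw [e1] at e
      calc c₁ * r * c₁⁻¹ * (h * w₂ * h⁻¹) = h * (h⁻¹ * (c₁ * r * c₁⁻¹) * h * w₂) * h⁻¹ := by group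
        _ = h * (w₂ * (h⁻¹ * (c₁ * r * c₁⁻¹) * h)) * h⁻¹ := by rw [e]
        _ = _ := by group

end two

end Cfsg.Agent.Omega.HT.AlphaY

end
end
end
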